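import Mathlib

set_option autoImplicit false

/-!
# Elements of prime order `p` with `ord_p(q) = 6` on a 7-dimensional space over `F_q`

Pure linear algebra and group theory used for the small Ree groups:
* a finite abelian `p`-group with at most `p` solutions of `y ^ p = 1` is cyclic;
* two subgroups of the same order of a cyclic subgroup coincide;
* if `x ^ p = 1`, `x ≠ 1` on a 7-dimensional space over a field with `q` elements, where `p ∣ q ^ i - 1` only
  for `6 ∣ i`, then the endomorphisms commuting with `x` commute pairwise, and two commuting elements of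
  order `p` generate a cyclic group.
-/

namespace Cfsg.Agent.Lib.helper44

open Polynomial

section AbelianP

/-- A finite abelian `p`-group with at most `p` solutions of `y ^ p = 1` is cyclic. -/
theorem isCyclic_of_card_pow_prime_le.{u} (p : ℕ) [hp : Fact p.Prime] :
    ∀ (n : ℕ) (P : Type u) [CommGroup P] [Finite P], Nat.card P = n → IsPGroup p P →
      (∀ S : Finset P, (∀ y ∈ S, y ^ p = 1) → S.card ≤ p) → IsCyclic P := by
  intro n
  induction n using Nat.strong_induction_on with
  | _ n ih =>
    intro P _ _ hn hP hΩ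
    classical
    have hfinP : Fintype P := Fintype.ofFinite P
    obtain ⟨f, hf⟩ : ∃ f : P →* P, f = powMonoidHom p := ⟨_, rfl⟩
    have hfa : ∀ y : P, f y = y ^ p := by
      intro y
      rw [hf]
      rfl
    have hci := Subgroup.card_mul_index f.ker
    rw [Subgroup.index_ker] at hci
    have hker : Nat.card ↥f.ker ≤ p := by
      have hfinK : Fintype ↥f.ker := Fintype.ofFinite _
      have h1 := hΩ ((Finset.univ : Finset ↥f.ker).map ⟨Subtype.val, Subtype.val_injective⟩) (by
        intro y hy
        rw [Finset.mem_map] at hy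
        obtain ⟨z, -, rfl⟩ := hy
        have := z.2
        rw [MonoidHom.mem_ker, hfa] at this
        exact this)
      rw [Finset.card_map, Finset.card_univ, ← Nat.card_eq_fintype_card] at h1
      exact h1
    have hpos : 0 < Nat.card ↥f.range := Nat.card_pos
    by_cases hQ1 : Nat.card ↥f.range = 1
    · -- every element has `y ^ p = 1`
      have hall : ∀ y : P, y ^ p = 1 := by
        intro y
        have h1 : (⟨f y, ⟨y, rfl⟩⟩ : ↥f.range) = 1 := by
          have := Nat.card_eq_one_iff_unique.mp hQ1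
          exact this.1.elim _ _
        have h2 := congrArg Subtype.val h1
        rw [← hfa]
        exact h2
      have hle : Nat.card P ≤ p := by
        have h1 := hΩ Finset.univ (fun y _ => hall y)
        rw [Finset.card_univ, ← Nat.card_eq_fintype_card] at h1
        exact h1
      obtain ⟨k, hk⟩ := IsPGroup.iff_card.mp hP
      rcases Nat.eq_zero_or_pos k with rfl | hkpos
      · rw [pow_zero] at hk
        have : Subsingleton P := (Nat.card_eq_one_iff_unique.mp hk).1
        exact isCyclic_of_subsingleton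
      · have h2 : p ^ 1 ≤ p ^ k := Nat.pow_le_pow_right hp.out.pos hkpos
        rw [pow_one] at h2
        have h3 : Nat.card P = p := by omega
        exact isCyclic_of_prime_card h3
    · have hlt : Nat.card ↥f.range < n := by
        rw [← hn, ← hci]
        have hk2 : 2 ≤ Nat.card ↥f.ker := by
          by_contra hlt2
          have hk1 : Nat.card ↥f.ker = 1 := by
            have : 0 < Nat.card ↥f.ker := Nat.card_pos
            omega
          rw [hk1, one_mul] at hci
          -- `P` is a nontrivial `p`-group, so it has an element of order `p`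
          have hP1 : Nat.card P ≠ 1 := by
            rw [← hci]
            exact hQ1
          obtain ⟨k, hk⟩ := IsPGroup.iff_card.mp hP
          have hkpos : k ≠ 0 := by
            rintro rfl
            rw [pow_zero] at hk
            exact hP1 hk
          have hdvd : p ∣ Nat.card P := by
            rw [hk]
            exact dvd_pow_self p hkpos
          obtain ⟨y, hy⟩ := exists_prime_orderOf_dvd_card' p hdvd
          have hyk : y ∈ f.ker := by
            rw [MonoidHom.mem_ker, hfa, ← hy]
            exact pow_orderOf_eq_one y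
          have hy1 : (⟨y, hyk⟩ : ↥f.ker) = 1 := (Nat.card_eq_one_iff_unique.mp hk1).1.elim _ _
          have hy1' : y = 1 := congrArg Subtype.val hy1
          rw [hy1', orderOf_one] at hy
          exact hp.out.one_lt.ne hy
        nlinarith
      have hcycQ : IsCyclic ↥f.range := by
        apply ih _ hlt ↥f.range rfl (hP.to_subgroup f.range)
        intro S hS
        have h1 := hΩ (S.map ⟨Subtype.val, Subtype.val_injective⟩) (by
          intro y hy
          rw [Finset.mem_map] at hy
          obtain ⟨z, hz, rfl⟩ := hy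
          have := hS z hz
          exact congrArg Subtype.val this)
        rw [Finset.card_map] at h1
        exact h1
      obtain ⟨g, hg⟩ := hcycQ.exists_generator
      obtain ⟨h, hh⟩ := g.2
      have hgo : orderOf g = Nat.card ↥f.range := orderOf_eq_card_of_forall_mem_zpowers hg
      have hgo' : orderOf (h ^ p) = Nat.card ↥f.range := by
        rw [← hgo, ← hfa, hh]
        exact (Subgroup.orderOf_coe g)
      have hhp1 : h ^ p ≠ 1 := by
        intro h1
        rw [h1, orderOf_one] at hgo'
        exact hQ1 hgo'.symm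
      have hh1 : h ≠ 1 := by
        rintro rfl
        exact hhp1 (one_pow p)
      obtain ⟨k, hk⟩ := (IsPGroup.iff_orderOf.mp hP) h
      have hkpos : k ≠ 0 := by
        rintro rfl
        rw [pow_zero] at hk
        exact hh1 (orderOf_eq_one_iff.mp hk)
      have hdvd : p ∣ orderOf h := by
        rw [hk]
        exact dvd_pow_self p hkpos
      have ho := orderOf_pow (n := p) h
      rw [Nat.gcd_eq_right hdvd] at ho
      have ho2 : orderOf h = p * Nat.card ↥f.range := by
        rw [← hgo', ho]
        exact (Nat.mul_div_cancel' hdvd).symm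
      have hle : orderOf h ≤ Nat.card P := orderOf_le_card
      have hcard : orderOf h = Nat.card P := by
        have h1 : Nat.card P ≤ p * Nat.card ↥f.range := by
          rw [← hci]
          exact Nat.mul_le_mul_right _ hker
        omega
      exact isCyclic_of_orderOf_eq_card h hcard

/-- A commutative finite `p`-subgroup whose elements of order dividing `p` lie in a cyclic group of order `p` is
cyclic. -/
theorem isCyclic_of_comm_of_pow_le {G : Type*} [Group G] (p : ℕ) [hp : Fact p.Prime] (P : Subgroup G)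
    [Finite P] (hP : IsPGroup p P) (hcomm : ∀ x ∈ P, ∀ y ∈ P, x * y = y * x) (x₀ : G) (hx₀ : x₀ ^ p = 1)
    (hΩ : ∀ y ∈ P, y ^ p = 1 → y ∈ Subgroup.zpowers x₀) : IsCyclic P := by
  classical
  let inst : CommGroup ↥P :=
    { (inferInstance : Group ↥P) with
      mul_comm := fun a b => Subtype.ext (hcomm a.1 a.2 b.1 b.2) }
  have hZ : Nat.card ↥(Subgroup.zpowers x₀) ≤ p := by
    rw [Nat.card_zpowers]
    exact Nat.le_of_dvd hp.out.pos (orderOf_dvd_of_pow_eq_one hx₀)
  have hfo : IsOfFinOrder x₀ := isOfFinOrder_iff_pow_eq_one.mpr ⟨p, hp.out.pos, hx₀⟩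
  have hfinZ' : Finite ↥(Subgroup.zpowers x₀) :=
    Nat.finite_of_card_ne_zero (by rw [Nat.card_zpowers]; exact (orderOf_pos_iff.mpr hfo).ne')
  have hfinZ : Fintype ↥(Subgroup.zpowers x₀) := Fintype.ofFinite _
  have key := @isCyclic_of_card_pow_prime_le p hp (Nat.card ↥P) ↥P inst inferInstance rfl hP (by
    intro S hS
    have hinj : Function.Injective (fun y : {y : ↥P // y ∈ S} =>
        (⟨y.1.1, hΩ y.1.1 y.1.2 (congrArg Subtype.val (hS y.1 y.2))⟩ : ↥(Subgroup.zpowers x₀))) := by
      intro a b hab
      have h1 : a.1.1 = b.1.1 := congrArg (fun z : ↥(Subgroup.zpowers x₀) => z.1) hab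
      exact Subtype.ext (Subtype.ext h1)
    have h2 := Fintype.card_le_of_injective _ hinj
    rw [Fintype.card_coe, ← Nat.card_eq_fintype_card] at h2
    exact h2.trans hZ)
  exact key

/-- Two subgroups of the same order of a finite cyclic subgroup coincide. -/
theorem le_of_card_eq_of_le_cyclic {G : Type*} [Group G] (Z : Subgroup G) [Finite Z] (hZ : IsCyclic Z)
    (H₁ H₂ : Subgroup G) (h₁ : H₁ ≤ Z) (h₂ : H₂ ≤ Z) (hc : Nat.card H₁ = Nat.card H₂) : H₁ ≤ H₂ := by
  classical
  have hfinZ : Fintype ↥Z := Fintype.ofFinite _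
  have hfin2 : Finite ↥H₂ := Finite.of_injective (Subgroup.inclusion h₂) (Subgroup.inclusion_injective h₂)
  have hfin1 : Finite ↥H₁ := Finite.of_injective (Subgroup.inclusion h₁) (Subgroup.inclusion_injective h₁)
  have hd0 : 0 < Nat.card ↥H₂ := Nat.card_pos
  have hT := IsCyclic.card_pow_eq_one_le (α := ↥Z) hd0
  have hF : (Finset.univ.filter fun c : ↥Z => (c : G) ∈ H₂).card = Nat.card ↥H₂ := by
    rw [← Fintype.card_subtype, ← Nat.card_eq_fintype_card]
    apply Nat.card_congr
    exact { toFun := fun c => ⟨c.1.1, c.2⟩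
            invFun := fun y => ⟨⟨y.1, h₂ y.2⟩, y.2⟩
            left_inv := fun c => rfl
            right_inv := fun y => rfl }
  have hsub : (Finset.univ.filter fun c : ↥Z => (c : G) ∈ H₂) ⊆
      (Finset.univ.filter fun c : ↥Z => c ^ Nat.card ↥H₂ = 1) := by
    intro c hc'
    rw [Finset.mem_filter] at hc' ⊢
    refine ⟨Finset.mem_univ _, ?_⟩
    apply Subtype.ext
    have h3 : (⟨c.1, hc'.2⟩ : ↥H₂) ^ Nat.card ↥H₂ = 1 := pow_card_eq_one'
    have h4 := congrArg Subtype.val h3
    rw [Subgroup.coe_pow] at h4 ⊢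
    exact h4
  have heq := Finset.eq_of_subset_of_card_le hsub (by rw [hF]; exact hT)
  intro x hx
  have hxT : (⟨x, h₁ hx⟩ : ↥Z) ∈ (Finset.univ.filter fun c : ↥Z => c ^ Nat.card ↥H₂ = 1) := by
    rw [Finset.mem_filter]
    refine ⟨Finset.mem_univ _, ?_⟩
    apply Subtype.ext
    have h3 : (⟨x, hx⟩ : ↥H₁) ^ Nat.card ↥H₁ = 1 := pow_card_eq_one'
    rw [hc] at h3
    have h4 := congrArg Subtype.val h3
    rw [Subgroup.coe_pow] at h4 ⊢
    exact h4
  rw [← heq, Finset.mem_filter] at hxT
  exact hxT.2

theorem eq_of_card_eq_of_le_cyclic {G : Type*} [Group G] (Z : Subgroup G) [Finite Z] (hZ : IsCyclic Z)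
    (H₁ H₂ : Subgroup G) (h₁ : H₁ ≤ Z) (h₂ : H₂ ≤ Z) (hc : Nat.card H₁ = Nat.card H₂) : H₁ = H₂ :=
  le_antisymm (le_of_card_eq_of_le_cyclic Z hZ H₁ H₂ h₁ h₂ hc)
    (le_of_card_eq_of_le_cyclic Z hZ H₂ H₁ h₂ h₁ hc.symm)

end AbelianP

section LinSeven

variable {K : Type*} [Field K] [Fintype K] {V : Type*} [AddCommGroup V] [Module K V] [Module.Finite K V]

/-- The cyclic subspace generated by `v` under `x`. -/
noncomputable def cycSub (x : Module.End K V) (v : V) : Submodule K V :=
  LinearMap.range ((LinearMap.applyₗ v).comp (Polynomial.aeval (R := K) x).toLinearMap)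

omit [Fintype K] [Module.Finite K V] in
theorem mem_cycSub {x : Module.End K V} {v w : V} :
    w ∈ cycSub x v ↔ ∃ g : K[X], (Polynomial.aeval x g) v = w := by
  unfold cycSub
  rw [LinearMap.mem_range]
  rfl

omit [Fintype K] [Module.Finite K V] in
theorem self_mem_cycSub (x : Module.End K V) (v : V) : v ∈ cycSub x v :=
  mem_cycSub.mpr ⟨1, by rw [map_one]; rfl⟩

omit [Fintype K] [Module.Finite K V] in
theorem map_mem_cycSub {x : Module.End K V} {v w : V} (hw : w ∈ cycSub x v) : x w ∈ cycSub x v := by
  obtain ⟨g, rfl⟩ := mem_cycSub.mp hw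
  exact mem_cycSub.mpr ⟨X * g, by rw [map_mul, aeval_X]; rfl⟩

omit [Fintype K] [Module.Finite K V] in
theorem commute_aeval {c x : Module.End K V} (h : Commute c x) (g : K[X]) :
    Commute c (Polynomial.aeval x g) := by
  induction g using Polynomial.induction_on' with
  | add f g hf hg =>
    rw [map_add]
    exact hf.add_right hg
  | monomial n a =>
    rw [aeval_monomial]
    exact (Algebra.commute_algebraMap_right a c).mul_right (h.pow_right n)

/-- The number of points of an invariant subspace and of its fixed points are congruent modulo `p`. -/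
theorem lin_fix_modEq {p : ℕ} [hp : Fact p.Prime] {x : Module.End K V} (hx : x ^ p = 1)
    (M : Submodule K V) (hM : ∀ v ∈ M, x v ∈ M) :
    Fintype.card K ^ Module.finrank K ↥M ≡
      Fintype.card K ^ Module.finrank K ↥(M ⊓ LinearMap.ker (x - 1)) [MOD p] := by
  classical
  have hfinV : Finite V := Module.finite_of_finite K
  have hfinM : Fintype ↥M := Fintype.ofFinite _
  let f : Function.End ↥M := fun m => ⟨x m.1, hM m.1 m.2⟩
  have hfn : ∀ n : ℕ, ∀ m : ↥M, ((f ^ n) m : V) = (x ^ n) m.1 := by
    intro n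
    induction n with
    | zero =>
      intro m
      rw [pow_zero, pow_zero]
      rfl
    | succ n ih =>
      intro m
      rw [pow_succ, pow_succ]
      show ((f ^ n) (f m) : V) = (x ^ n) (x m.1)
      rw [ih]
  have hf : f ^ p ^ 1 = 1 := by
    rw [pow_one]
    funext m
    apply Subtype.ext
    rw [hfn, hx]
    rfl
  have h1 := Equiv.Perm.card_fixedPoints_modEq (p := p) (n := 1) hf
  have e1 : Fintype.card ↥M = Fintype.card K ^ Module.finrank K ↥M := Module.card_eq_pow_finrank
  have hfinN : Fintype ↥(M ⊓ LinearMap.ker (x - 1)) := Fintype.ofFinite _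
  have e2 : Fintype.card ↥(Function.fixedPoints f) =
      Fintype.card K ^ Module.finrank K ↥(M ⊓ LinearMap.ker (x - 1)) := by
    rw [← Module.card_eq_pow_finrank (K := K) (V := ↥(M ⊓ LinearMap.ker (x - 1)))]
    apply Fintype.card_congr
    exact
      { toFun := fun m => ⟨m.1.1, Submodule.mem_inf.mpr ⟨m.1.2, LinearMap.mem_ker.mpr (by
          have h2 : f m.1 = m.1 := m.2
          have h3 : x m.1.1 = m.1.1 := congrArg Subtype.val h2
          rw [LinearMap.sub_apply, h3]
          exact sub_self _)⟩⟩
        invFun := fun w => ⟨⟨w.1, (Submodule.mem_inf.mp w.2).1⟩, by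
          have h2 := LinearMap.mem_ker.mp (Submodule.mem_inf.mp w.2).2
          rw [LinearMap.sub_apply] at h2
          show f ⟨w.1, (Submodule.mem_inf.mp w.2).1⟩ = ⟨w.1, (Submodule.mem_inf.mp w.2).1⟩
          apply Subtype.ext
          show x w.1 = w.1
          exact sub_eq_zero.mp h2⟩
        left_inv := fun m => rfl
        right_inv := fun w => rfl }
  rw [e1, e2] at h1
  exact h1

theorem six_dvd_of_modEq {p q k j : ℕ} (hp : p.Prime) (hq : ¬ p ∣ q)
    (hord : ∀ i : ℕ, p ∣ q ^ i - 1 → 6 ∣ i) (hjk : j ≤ k) (h : q ^ k ≡ q ^ j [MOD p]) : 6 ∣ k - j := by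
  apply hord
  have e : q ^ k = q ^ j * q ^ (k - j) := by
    rw [← pow_add]
    congr 1
    omega
  rw [e] at h
  have hc : Nat.Coprime p (q ^ j) := Nat.Coprime.pow_right j ((Nat.Prime.coprime_iff_not_dvd hp).mpr hq)
  have h2 : q ^ (k - j) ≡ 1 [MOD p] :=
    Nat.ModEq.cancel_left_of_coprime hc (by rw [mul_one]; exact h)
  have hq0 : 0 < q := by
    rcases Nat.eq_zero_or_pos q with rfl | h0
    · exact absurd (dvd_zero p) hq
    · exact h0
  exact (Nat.modEq_iff_dvd' (Nat.one_le_pow _ _ hq0)).mp h2.symm

variable {p : ℕ} [hp : Fact p.Prime] (hq : ¬ p ∣ Fintype.card K)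
  (hord : ∀ i : ℕ, p ∣ Fintype.card K ^ i - 1 → 6 ∣ i) (h7 : Module.finrank K V = 7)

include hq hord h7

/-- The fixed space of an element of order `p` is a line. -/
theorem lin_fix_rank {x : Module.End K V} (hx : x ^ p = 1) (hx1 : x ≠ 1) :
    Module.finrank K ↥(LinearMap.ker (x - 1)) = 1 := by
  have h := lin_fix_modEq hx ⊤ (fun v _ => Submodule.mem_top)
  rw [finrank_top, h7, top_inf_eq] at h
  have hle : Module.finrank K ↥(LinearMap.ker (x - 1)) ≤ 7 := by
    rw [← h7]
    exact Submodule.finrank_le _
  obtain ⟨c, hc⟩ := six_dvd_of_modEq hp.out hq hord hle h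
  have h17 : Module.finrank K ↥(LinearMap.ker (x - 1)) = 1 ∨
      Module.finrank K ↥(LinearMap.ker (x - 1)) = 7 := by omega
  rcases h17 with h1 | h1
  · exact h1
  · exfalso
    apply hx1
    have htop : LinearMap.ker (x - 1) = ⊤ := Submodule.eq_top_of_finrank_eq (by rw [h1, h7])
    have h0 : x - 1 = 0 := LinearMap.ker_eq_top.mp htop
    exact sub_eq_zero.mp h0

/-- Invariant subspaces. -/
theorem lin_inv_cases {x : Module.End K V} (hx : x ^ p = 1) (hx1 : x ≠ 1)
    (M : Submodule K V) (hM : ∀ v ∈ M, x v ∈ M) :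
    M = ⊥ ∨ M = ⊤ ∨ M ≤ LinearMap.ker (x - 1) ∨
      (Module.finrank K ↥M = 6 ∧ M ⊓ LinearMap.ker (x - 1) = ⊥) := by
  have h := lin_fix_modEq hx M hM
  have hl := lin_fix_rank hq hord h7 hx hx1
  have hk7 : Module.finrank K ↥M ≤ 7 := by
    rw [← h7]
    exact Submodule.finrank_le _
  have hj1 : Module.finrank K ↥(M ⊓ LinearMap.ker (x - 1)) ≤ 1 := by
    rw [← hl]
    exact Submodule.finrank_mono inf_le_right
  have hjk : Module.finrank K ↥(M ⊓ LinearMap.ker (x - 1)) ≤ Module.finrank K ↥M :=
    Submodule.finrank_mono inf_le_left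
  obtain ⟨c, hc⟩ := six_dvd_of_modEq hp.out hq hord hjk h
  rcases Nat.eq_zero_or_pos (Module.finrank K ↥(M ⊓ LinearMap.ker (x - 1))) with hj0 | hjpos
  · have hk : Module.finrank K ↥M = 0 ∨ Module.finrank K ↥M = 6 := by omega
    rcases hk with hk | hk
    · left
      exact Submodule.finrank_eq_zero.mp hk
    · right; right; right
      exact ⟨hk, Submodule.finrank_eq_zero.mp hj0⟩
  · have hk : Module.finrank K ↥M = 1 ∨ Module.finrank K ↥M = 7 := by omega
    rcases hk with hk | hk
    · right; right; left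
      have heq : M ⊓ LinearMap.ker (x - 1) = M :=
        Submodule.eq_of_le_of_finrank_eq inf_le_left (by omega)
      rw [← heq]
      exact inf_le_right
    · right; left
      exact Submodule.eq_top_of_finrank_eq (by rw [hk, h7])

/-- There is a cyclic vector. -/
theorem lin_exists_cyc {x : Module.End K V} (hx : x ^ p = 1) (hx1 : x ≠ 1) :
    ∃ v₀ : V, cycSub x v₀ = ⊤ := by
  have hl := lin_fix_rank hq hord h7 hx hx1
  have hcases := fun v => lin_inv_cases hq hord h7 hx hx1 (cycSub x v) (fun w hw => map_mem_cycSub hw)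
  obtain ⟨v, hv⟩ : ∃ v : V, v ∉ LinearMap.ker (x - 1) := by
    by_contra hall
    have htop : LinearMap.ker (x - 1) = ⊤ := by
      rw [eq_top_iff]
      intro v _
      by_contra hv
      exact hall ⟨v, hv⟩
    rw [htop, finrank_top, h7] at hl
    omega
  obtain ⟨v₁, hv₁, hv₁0⟩ : ∃ v₁ : V, v₁ ∈ LinearMap.ker (x - 1) ∧ v₁ ≠ 0 := by
    have hne : LinearMap.ker (x - 1) ≠ ⊥ := by
      intro hbot
      rw [hbot, finrank_bot] at hl
      omega
    exact Submodule.exists_mem_ne_zero_of_ne_bot hne
  have hxv₁ : x v₁ = v₁ := by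
    rw [LinearMap.mem_ker, LinearMap.sub_apply] at hv₁
    exact sub_eq_zero.mp hv₁
  rcases hcases v with h | h | h | ⟨h6, hint⟩
  · exfalso
    have := self_mem_cycSub x v
    rw [h, Submodule.mem_bot] at this
    apply hv
    rw [this]
    exact zero_mem _
  · exact ⟨v, h⟩
  · exact absurd (h (self_mem_cycSub x v)) hv
  · rcases hcases (v + v₁) with h' | h' | h' | ⟨h6', hint'⟩
    · exfalso
      have := self_mem_cycSub x (v + v₁)
      rw [h', Submodule.mem_bot] at this
      apply hv
      have e : v = -v₁ := eq_neg_of_add_eq_zero_left this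
      rw [e]
      exact neg_mem hv₁
    · exact ⟨v + v₁, h'⟩
    · exfalso
      apply hv
      have := h' (self_mem_cycSub x (v + v₁))
      have e : v = (v + v₁) - v₁ := by abel
      rw [e]
      exact sub_mem this hv₁
    · exfalso
      have hw1 : x v - v ∈ cycSub x v := sub_mem (map_mem_cycSub (self_mem_cycSub x v)) (self_mem_cycSub x v)
      have hw2 : x v - v ∈ cycSub x (v + v₁) := by
        have := sub_mem (map_mem_cycSub (self_mem_cycSub x (v + v₁))) (self_mem_cycSub x (v + v₁))
        rw [map_add, hxv₁] at this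
        have e : x v - v = x v + v₁ - (v + v₁) := by abel
        rw [e]
        exact this
      have hw0 : x v - v ≠ 0 := by
        intro h0
        apply hv
        rw [LinearMap.mem_ker, LinearMap.sub_apply]
        exact h0
      have hinv : ∀ w ∈ cycSub x v ⊓ cycSub x (v + v₁), x w ∈ cycSub x v ⊓ cycSub x (v + v₁) :=
        fun w hw => ⟨map_mem_cycSub hw.1, map_mem_cycSub hw.2⟩
      rcases lin_inv_cases hq hord h7 hx hx1 _ hinv with h'' | h'' | h'' | ⟨h6'', -⟩
      · have : x v - v ∈ cycSub x v ⊓ cycSub x (v + v₁) := ⟨hw1, hw2⟩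
        rw [h'', Submodule.mem_bot] at this
        exact hw0 this
      · have htop : cycSub x v = ⊤ := by
          rw [eq_top_iff, ← h'']
          exact inf_le_left
        rw [htop, finrank_top, h7] at h6
        omega
      · have : x v - v ∈ cycSub x v ⊓ LinearMap.ker (x - 1) := ⟨hw1, h'' ⟨hw1, hw2⟩⟩
        rw [hint, Submodule.mem_bot] at this
        exact hw0 this
      · have e1 : cycSub x v ⊓ cycSub x (v + v₁) = cycSub x v :=
          Submodule.eq_of_le_of_finrank_eq inf_le_left (by rw [h6'', h6])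
        have e2 : cycSub x v ⊓ cycSub x (v + v₁) = cycSub x (v + v₁) :=
          Submodule.eq_of_le_of_finrank_eq inf_le_right (by rw [h6'', h6'])
        have hmem : v + v₁ ∈ cycSub x v := by
          rw [← e1, e2]
          exact self_mem_cycSub x (v + v₁)
        have hv₁M : v₁ ∈ cycSub x v := by
          have e : v₁ = (v + v₁) - v := by abel
          rw [e]
          exact sub_mem hmem (self_mem_cycSub x v)
        have : v₁ ∈ cycSub x v ⊓ LinearMap.ker (x - 1) := ⟨hv₁M, hv₁⟩
        rw [hint, Submodule.mem_bot] at this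
        exact hv₁0 this

/-- The endomorphisms commuting with an element of order `p` commute pairwise. -/
theorem lin_commute {x : Module.End K V} (hx : x ^ p = 1) (hx1 : x ≠ 1) {c₁ c₂ : Module.End K V}
    (h₁ : Commute c₁ x) (h₂ : Commute c₂ x) : Commute c₁ c₂ := by
  obtain ⟨v₀, hv₀⟩ := lin_exists_cyc hq hord h7 hx hx1
  have key : ∀ c : Module.End K V, Commute c x → ∃ g : K[X], c = Polynomial.aeval x g := by
    intro c hc
    have hmem : c v₀ ∈ cycSub x v₀ := by
      rw [hv₀]
      exact Submodule.mem_top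
    obtain ⟨g, hg⟩ := mem_cycSub.mp hmem
    refine ⟨g, LinearMap.ext fun w => ?_⟩
    have hw : w ∈ cycSub x v₀ := by
      rw [hv₀]
      exact Submodule.mem_top
    obtain ⟨h, rfl⟩ := mem_cycSub.mp hw
    have e1 : c ((Polynomial.aeval x h) v₀) = (Polynomial.aeval x h) (c v₀) :=
      congrArg (fun φ : Module.End K V => φ v₀) (commute_aeval hc h).eq
    rw [e1, ← hg]
    have e2 : (Polynomial.aeval x h) * (Polynomial.aeval x g) = (Polynomial.aeval x g) * (Polynomial.aeval x h) := by
      rw [← map_mul, ← map_mul, mul_comm]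
    exact congrArg (fun φ : Module.End K V => φ v₀) e2
  obtain ⟨g₁, rfl⟩ := key c₁ h₁
  obtain ⟨g₂, rfl⟩ := key c₂ h₂
  exact (Commute.all g₁ g₂).map (Polynomial.aeval x)

/-- Two commuting elements of order `p` generate a cyclic group. -/
theorem lin_pow_of_commute {y z : Module.End K V} (hy : y ^ p = 1) (hz : z ^ p = 1) (hy1 : y ≠ 1)
    (hyz : Commute y z) : ∃ a : ℕ, y ^ a * z = 1 := by
  by_contra hne
  have hne' : ∀ a : ℕ, y ^ a * z ≠ 1 := fun a h => hne ⟨a, h⟩
  have hl := lin_fix_rank hq hord h7 hy hy1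
  obtain ⟨v₁, hv₁, hv₁0⟩ : ∃ v₁ : V, v₁ ∈ LinearMap.ker (y - 1) ∧ v₁ ≠ 0 := by
    have hne : LinearMap.ker (y - 1) ≠ ⊥ := by
      intro hbot
      rw [hbot, finrank_bot] at hl
      omega
    exact Submodule.exists_mem_ne_zero_of_ne_bot hne
  have hpK : ¬ p ∣ Fintype.card K - 1 := by
    intro h
    have := hord 1 (by rw [pow_one]; exact h)
    omega
  have hspan : ∀ (d : Module.End K V), d ^ p = 1 → d ≠ 1 → v₁ ∈ LinearMap.ker (d - 1) →
      LinearMap.ker (d - 1) = Submodule.span K {v₁} := by
    intro d hd hd1 hmem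
    have h1 := lin_fix_rank hq hord h7 hd hd1
    symm
    apply Submodule.eq_of_le_of_finrank_eq
    · rw [Submodule.span_singleton_le_iff_mem]
      exact hmem
    · rw [finrank_span_singleton hv₁0, h1]
  have hd : ∀ d : Module.End K V, d ^ p = 1 → d ≠ 1 → Commute d y →
      LinearMap.ker (d - 1) = LinearMap.ker (y - 1) := by
    intro d hdp hd1 hdy
    have hyv : y v₁ = v₁ := by
      rw [LinearMap.mem_ker, LinearMap.sub_apply] at hv₁
      exact sub_eq_zero.mp hv₁
    have hdv : d v₁ ∈ LinearMap.ker (y - 1) := by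
      rw [LinearMap.mem_ker, LinearMap.sub_apply]
      have e : y (d v₁) = d (y v₁) := congrArg (fun φ : Module.End K V => φ v₁) hdy.eq.symm
      rw [e, hyv]
      exact sub_self _
    rw [hspan y hy hy1 hv₁, Submodule.mem_span_singleton] at hdv
    obtain ⟨lam, hlam⟩ := hdv
    have hpow : ∀ n : ℕ, (d ^ n) v₁ = lam ^ n • v₁ := by
      intro n
      induction n with
      | zero =>
        rw [pow_zero, pow_zero, one_smul]
        rfl
      | succ n ih =>
        rw [pow_succ, pow_succ]
        show (d ^ n) (d v₁) = _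
        rw [← hlam, map_smul, ih, smul_smul, mul_comm]
    have hlamp : lam ^ p = 1 := by
      have h1 := hpow p
      rw [hdp] at h1
      have h2 : (lam ^ p - 1) • v₁ = 0 := by
        rw [sub_smul, one_smul, ← h1]
        exact sub_self _
      rcases smul_eq_zero.mp h2 with h3 | h3
      · exact sub_eq_zero.mp h3
      · exact absurd h3 hv₁0
    have hlam0 : lam ≠ 0 := by
      rintro rfl
      rw [zero_pow hp.out.ne_zero] at hlamp
      exact zero_ne_one hlamp
    have hlamq : lam ^ (Fintype.card K - 1) = 1 := FiniteField.pow_card_sub_one_eq_one lam hlam0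
    have hgcd : Nat.gcd p (Fintype.card K - 1) = 1 := (Nat.Prime.coprime_iff_not_dvd hp.out).mpr hpK
    have hlam1 : lam = 1 := by
      have := pow_gcd_eq_one.mpr ⟨hlamp, hlamq⟩
      rw [hgcd, pow_one] at this
      exact this
    rw [hlam1, one_smul] at hlam
    have hmem : v₁ ∈ LinearMap.ker (d - 1) := by
      rw [LinearMap.mem_ker, LinearMap.sub_apply, ← hlam]
      exact sub_self _
    rw [hspan d hdp hd1 hmem, hspan y hy hy1 hv₁]
  -- the norm elements
  have hN : ∀ d : Module.End K V, d ^ p = 1 → ∀ v : V,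
      (∑ i ∈ Finset.range p, d ^ i) v ∈ LinearMap.ker (d - 1) := by
    intro d hdp v
    rw [LinearMap.mem_ker]
    have e : (d - 1) * ∑ i ∈ Finset.range p, d ^ i = 0 := by
      rw [mul_geom_sum, hdp, sub_self]
    exact congrArg (fun φ : Module.End K V => φ v) e
  have hsum : ∑ a ∈ Finset.range p, ∑ j ∈ Finset.range p, (y ^ a * z) ^ j =
      ∑ j ∈ Finset.range p, (∑ a ∈ Finset.range p, (y ^ j) ^ a) * z ^ j := by
    rw [Finset.sum_comm]
    apply Finset.sum_congr rfl
    intro j _
    rw [Finset.sum_mul]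
    apply Finset.sum_congr rfl
    intro a _
    rw [(hyz.pow_left a).mul_pow, ← pow_mul, ← pow_mul, mul_comm a j]
  obtain ⟨p', hp'⟩ : ∃ p' : ℕ, p = p' + 1 := ⟨p - 1, by have := hp.out.pos; omega⟩
  have hpK0 : (p : K) ≠ 0 := by
    intro h0
    have hcop : Nat.Coprime p (Fintype.card K) := (Nat.Prime.coprime_iff_not_dvd hp.out).mpr hq
    obtain ⟨a, b, hab⟩ := (Nat.isCoprime_iff_coprime.mpr hcop)
    have h1 := congrArg (Int.cast : ℤ → K) hab
    rw [Int.cast_add, Int.cast_mul, Int.cast_mul, Int.cast_natCast, Int.cast_natCast, h0,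
      FiniteField.cast_card_eq_zero, mul_zero, mul_zero, add_zero, Int.cast_one] at h1
    exact zero_ne_one h1
  have hall : ∀ v : V, v ∈ LinearMap.ker (y - 1) := by
    intro v
    have h1 : (∑ a ∈ Finset.range p, ∑ j ∈ Finset.range p, (y ^ a * z) ^ j) v ∈ LinearMap.ker (y - 1) := by
      rw [LinearMap.sum_apply]
      apply Submodule.sum_mem
      intro a _
      have hdp : (y ^ a * z) ^ p = 1 := by
        rw [(hyz.pow_left a).mul_pow, ← pow_mul, mul_comm a p, pow_mul, hy, one_pow, hz, one_mul]
      rw [← hd (y ^ a * z) hdp (hne' a) ((Commute.pow_left (Commute.refl y) a).mul_left hyz.symm)]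
      exact hN _ hdp v
    rw [hsum, hp', Finset.sum_range_succ', ← hp', LinearMap.add_apply, LinearMap.sum_apply] at h1
    have h2 : (∑ j ∈ Finset.range p', ((∑ a ∈ Finset.range p, (y ^ (j + 1)) ^ a) * z ^ (j + 1)) v) ∈
        LinearMap.ker (y - 1) := by
      apply Submodule.sum_mem
      intro j hj
      have hjp : j + 1 < p := by
        have := Finset.mem_range.mp hj
        omega
      have hdp : (y ^ (j + 1)) ^ p = 1 := by
        rw [← pow_mul, mul_comm, pow_mul, hy, one_pow]
      have hd1 : y ^ (j + 1) ≠ 1 := by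
        intro h1
        have hg : Nat.gcd (j + 1) p = 1 :=
          Nat.Coprime.symm ((Nat.Prime.coprime_iff_not_dvd hp.out).mpr
            (Nat.not_dvd_of_pos_of_lt (Nat.succ_pos j) hjp))
        have := pow_gcd_eq_one.mpr ⟨h1, hy⟩
        rw [hg, pow_one] at this
        exact hy1 this
      rw [← hd (y ^ (j + 1)) hdp hd1 (Commute.pow_left (Commute.refl y) (j + 1))]
      exact hN _ hdp _
    have h3 := sub_mem h1 h2
    rw [add_sub_cancel_left] at h3
    have e : ((∑ a ∈ Finset.range p, (y ^ 0) ^ a) * z ^ 0) v = (p : K) • v := by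
      rw [pow_zero, pow_zero, mul_one]
      simp only [one_pow, Finset.sum_const, Finset.card_range]
      rw [LinearMap.smul_apply, Nat.cast_smul_eq_nsmul]
      rfl
    rw [e] at h3
    have h4 := Submodule.smul_mem _ ((p : K)⁻¹) h3
    rw [smul_smul, inv_mul_cancel₀ hpK0, one_smul] at h4
    exact h4
  have htop : LinearMap.ker (y - 1) = ⊤ := by
    rw [eq_top_iff]
    intro v _
    exact hall v
  rw [htop, finrank_top, h7] at hl
  omega

end LinSeven

end Cfsg.Agent.Lib.helper44
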