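import Mathlib

set_option autoImplicit false

namespace Cfsg.Agent.Lib.helper44.LO

/-- `n` is below `p ^ (3k)` and `n ^ 3` is below `p ^ (8k)`, `k` the exponent of `p` in `n`. -/
def LOGood (p n : ℕ) : Prop :=
  n < p ^ (3 * n.factorization p) ∧ n ^ 3 < p ^ (8 * n.factorization p)

end Cfsg.Agent.Lib.helper44.LO
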