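import Mathlib

/-!
# Bounded presentations of `SL₂(q)` / `PSL₂(q)` on three generators: definitions

`polyWord g v f` is the word `∏_{n ≤ deg f} (gⁿ v g⁻ⁿ)^{f_n}`; `BP` is the rank-one Bruhat
relation; `IsBConf` packages a parametrised root subgroup `x : F → G` with a torus element `h`
and a Weyl element `t`; `mU`, `mT`, `mH` are the three generators inside `SL₂(F)`; `gu`, `gt`,
`gh` are the three free generators.
-/

set_option autoImplicit false

namespace Cfsg.Agent.Lib.helper44.Pres

open Polynomial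

/-- `polyWord g v f = ∏_{n ≤ deg f} (gⁿ v g⁻ⁿ)^{f_n}` (in increasing order of `n`). -/
def polyWord {G : Type*} [Group G] {p : ℕ} (g v : G) (f : (ZMod p)[X]) : G :=
  ((List.range (f.natDegree + 1)).map fun n => (g ^ n * v * (g ^ n)⁻¹) ^ (f.coeff n).val).prod

/-- The rank-one Bruhat relation for the parameter `a`. -/
def BP {F : Type*} {G : Type*} [Group G] (x : F → G) (t h : G) (a : F) : Prop :=
  ∃ b c : F, ∃ k : ℕ, t * x a * t = x b * h ^ k * t * x c

/-- A parametrised root subgroup `x`, a torus element `h` (acting by `lam`, of order dividing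
`n`) and a Weyl element `t` (with `t² = h^s`) satisfying all rank-one Bruhat relations. -/
structure IsBConf {F : Type*} [Field F] {G : Type*} [Group G] (x : F → G) (u t h : G) (lam : F)
    (n s : ℕ) : Prop where
  x_one : x 1 = u
  x_add : ∀ a b, x (a + b) = x a * x b
  h_x : ∀ a, h * x a * h⁻¹ = x (lam * a)
  t_h : t * h * t⁻¹ = h⁻¹
  t_sq : t * t = h ^ s
  h_pow : h ^ n = 1
  n_pos : 0 < n
  bp : ∀ a, a ≠ 0 → BP x t h a

/-- The upper unipotent matrix. -/
def mU (F : Type*) [Field F] (a : F) : Matrix.SpecialLinearGroup (Fin 2) F :=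
  ⟨!![1, a; 0, 1], by simp [Matrix.det_fin_two]⟩

/-- The Weyl element. -/
def mT (F : Type*) [Field F] : Matrix.SpecialLinearGroup (Fin 2) F :=
  ⟨!![0, 1; -1, 0], by simp [Matrix.det_fin_two]⟩

/-- The torus element `diag(z, z⁻¹)`. -/
def mH {F : Type*} [Field F] (z : Fˣ) : Matrix.SpecialLinearGroup (Fin 2) F :=
  ⟨!![(z : F), 0; 0, ((z⁻¹ : Fˣ) : F)], by simp [Matrix.det_fin_two]⟩

/-- The three free generators. -/
def gu : FreeGroup (Fin 3) := FreeGroup.of 0
/-- The three free generators. -/
def gt : FreeGroup (Fin 3) := FreeGroup.of 1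
/-- The three free generators. -/
def gh : FreeGroup (Fin 3) := FreeGroup.of 2

end Cfsg.Agent.Lib.helper44.Pres
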