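import Mathlib
import Cfsg.Agent.Lib.helper45.SLGen

/-!
# The rank-one Steinberg presentation of `SL₂` over a finite field

Abstract Steinberg data `St2 K G` (two families `x`, `y` of elements of a group `G` indexed by a
field `K`, subject to the additivity relations and the two rank-one Weyl relations, and
generating `G`), the derived identities for `w(t) = x(t) y(-t⁻¹) x(t)` and `h(t) = w(t) w(1)⁻¹`,
multiplicativity of `h` over a finite field, the Bruhat-type normal form, and the resulting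
injectivity of any homomorphism to `SL₂(K)` that sends `x`, `y` to the elementary matrices.
-/

set_option autoImplicit false
set_option linter.unusedSectionVars false
set_option linter.unnecessarySeqFocus false

namespace Cfsg.Agent.Lib.helper44

/-- Abstract rank-one Steinberg data in a group `G` over a field `K`. -/
structure St2 (K : Type*) [Field K] (G : Type*) [Group G] where
  /-- the upper root elements -/
  x : K → G
  /-- the lower root elements -/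
  y : K → G
  x_add : ∀ t u, x t * x u = x (t + u)
  y_add : ∀ t u, y t * y u = y (t + u)
  rel1 : ∀ t u, t ≠ 0 →
    x t * y (-t⁻¹) * x t * x u * (x t * y (-t⁻¹) * x t)⁻¹ = y (-(t⁻¹ ^ 2 * u))
  rel2 : ∀ t u, t ≠ 0 →
    y t * x (-t⁻¹) * y t * y u * (y t * x (-t⁻¹) * y t)⁻¹ = x (-(t⁻¹ ^ 2 * u))
  gen : Subgroup.closure (Set.range x ∪ Set.range y) = ⊤

namespace St2

variable {K : Type*} [Field K] {G : Type*} [Group G] (S : St2 K G)

theorem x_zero : S.x 0 = 1 := by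
  have h := S.x_add 0 0
  rw [add_zero] at h
  exact mul_eq_left.mp h

theorem y_zero : S.y 0 = 1 := by
  have h := S.y_add 0 0
  rw [add_zero] at h
  exact mul_eq_left.mp h

theorem x_neg (t : K) : S.x (-t) = (S.x t)⁻¹ := by
  rw [eq_inv_iff_mul_eq_one, S.x_add, neg_add_cancel, S.x_zero]

theorem y_neg (t : K) : S.y (-t) = (S.y t)⁻¹ := by
  rw [eq_inv_iff_mul_eq_one, S.y_add, neg_add_cancel, S.y_zero]

/-- The Weyl-type element `w(t) = x(t) y(-t⁻¹) x(t)`. -/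
def w (t : K) : G := S.x t * S.y (-t⁻¹) * S.x t

theorem w_inv (t : K) : (S.w t)⁻¹ = S.w (-t) := by
  unfold w
  rw [mul_inv_rev, mul_inv_rev, ← S.x_neg, ← S.y_neg, inv_neg, neg_neg, mul_assoc]

theorem w_conj_x (t u : K) (ht : t ≠ 0) :
    S.w t * S.x u * (S.w t)⁻¹ = S.y (-(t⁻¹ ^ 2 * u)) := S.rel1 t u ht

theorem w_eq (t : K) (ht : t ≠ 0) : S.w t = S.y (-t⁻¹) * S.x t * S.y (-t⁻¹) := by
  have h := S.w_conj_x t t ht
  have e : -(t⁻¹ ^ 2 * t) = -t⁻¹ := by field_simp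
  rw [e] at h
  have h2 : S.w t * S.x t = S.y (-t⁻¹) * S.w t := by rw [← h]; group
  have h3 : S.x t * S.y (-t⁻¹) * S.x t * S.x t = S.y (-t⁻¹) * S.x t * S.y (-t⁻¹) * S.x t := by
    simpa only [w, mul_assoc] using h2
  exact mul_right_cancel h3

theorem w_conj_y (t u : K) (ht : t ≠ 0) :
    S.w t * S.y u * (S.w t)⁻¹ = S.x (-(t ^ 2 * u)) := by
  have h := S.rel2 (-t⁻¹) u (neg_ne_zero.mpr (inv_ne_zero ht))
  have e1 : -(-t⁻¹)⁻¹ = t := by rw [inv_neg, inv_inv, neg_neg]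
  have e2 : (-t⁻¹)⁻¹ ^ 2 = t ^ 2 := by rw [inv_neg, inv_inv, neg_sq]
  rw [e1, e2, ← S.w_eq t ht] at h
  exact h

theorem w_conj_w (t u : K) (ht : t ≠ 0) (hu : u ≠ 0) :
    S.w t * S.w u * (S.w t)⁻¹ = S.w (t ^ 2 * u⁻¹) := by
  have h1 : S.w t * S.w u * (S.w t)⁻¹ = (S.w t * S.x u * (S.w t)⁻¹) *
      (S.w t * S.y (-u⁻¹) * (S.w t)⁻¹) * (S.w t * S.x u * (S.w t)⁻¹) := by
    rw [show S.w u = S.x u * S.y (-u⁻¹) * S.x u from rfl]; group
  rw [h1, S.w_conj_x t u ht, S.w_conj_y t _ ht,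
    S.w_eq (t ^ 2 * u⁻¹) (mul_ne_zero (pow_ne_zero 2 ht) (inv_ne_zero hu))]
  have e1 : -(t ^ 2 * u⁻¹)⁻¹ = -(t⁻¹ ^ 2 * u) := by field_simp
  have e2 : -(t ^ 2 * -u⁻¹) = t ^ 2 * u⁻¹ := by ring
  rw [e1, e2]

theorem w_sq_comm_x (t u : K) (ht : t ≠ 0) :
    S.w t * S.w t * S.x u = S.x u * (S.w t * S.w t) := by
  have h1 := S.w_conj_x t u ht
  have h2 := S.w_conj_y t (-(t⁻¹ ^ 2 * u)) ht
  have e : -(t ^ 2 * -(t⁻¹ ^ 2 * u)) = u := by field_simp
  rw [e, ← h1] at h2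
  calc S.w t * S.w t * S.x u
      = (S.w t * (S.w t * S.x u * (S.w t)⁻¹) * (S.w t)⁻¹) * (S.w t * S.w t) := by group
    _ = S.x u * (S.w t * S.w t) := by rw [h2]

theorem w_sq_comm_y (t u : K) (ht : t ≠ 0) :
    S.w t * S.w t * S.y u = S.y u * (S.w t * S.w t) := by
  have h1 := S.w_conj_y t u ht
  have h2 := S.w_conj_x t (-(t ^ 2 * u)) ht
  have e : -(t⁻¹ ^ 2 * -(t ^ 2 * u)) = u := by field_simp
  rw [e, ← h1] at h2
  calc S.w t * S.w t * S.y u
      = (S.w t * (S.w t * S.y u * (S.w t)⁻¹) * (S.w t)⁻¹) * (S.w t * S.w t) := by group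
    _ = S.y u * (S.w t * S.w t) := by rw [h2]

theorem w_sq_central (t : K) (ht : t ≠ 0) (g : G) :
    S.w t * S.w t * g = g * (S.w t * S.w t) := by
  have h : Subgroup.closure (Set.range S.x ∪ Set.range S.y) ≤
      Subgroup.centralizer {S.w t * S.w t} := by
    rw [Subgroup.closure_le]
    rintro g (⟨u, rfl⟩ | ⟨u, rfl⟩)
    · rw [SetLike.mem_coe, Subgroup.mem_centralizer_iff]
      intro z hz
      rw [Set.mem_singleton_iff] at hz
      rw [hz]
      exact S.w_sq_comm_x t u ht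
    · rw [SetLike.mem_coe, Subgroup.mem_centralizer_iff]
      intro z hz
      rw [Set.mem_singleton_iff] at hz
      rw [hz]
      exact S.w_sq_comm_y t u ht
  have hg : g ∈ Subgroup.centralizer {S.w t * S.w t} := h (by rw [S.gen]; exact Subgroup.mem_top g)
  exact Subgroup.mem_centralizer_iff.mp hg _ rfl

/-- The torus-type element `h(t) = w(t) w(1)⁻¹`. -/
def h (t : K) : G := S.w t * (S.w 1)⁻¹

theorem h_one : S.h 1 = 1 := mul_inv_cancel _

theorem h_mul_w (t : K) : S.h t * S.w 1 = S.w t := by unfold h; group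

theorem h_conj_x (t u : K) (ht : t ≠ 0) : S.h t * S.x u * (S.h t)⁻¹ = S.x (t ^ 2 * u) := by
  have h1 : S.h t * S.x u * (S.h t)⁻¹ =
      S.w t * ((S.w 1)⁻¹ * S.x u * ((S.w 1)⁻¹)⁻¹) * (S.w t)⁻¹ := by
    unfold h; group
  have h2 : (S.w 1)⁻¹ * S.x u * ((S.w 1)⁻¹)⁻¹ = S.y (-u) := by
    rw [S.w_inv 1, S.w_conj_x (-1) u (neg_ne_zero.mpr one_ne_zero)]
    congr 1
    rw [inv_neg_one]; ring
  rw [h1, h2, S.w_conj_y t _ ht]
  congr 1; ring

theorem h_conj_w (t u : K) (ht : t ≠ 0) (hu : u ≠ 0) :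
    S.h t * S.w u * (S.h t)⁻¹ = S.w (t ^ 2 * u) := by
  have h1 : S.h t * S.w u * (S.h t)⁻¹ =
      S.w t * ((S.w 1)⁻¹ * S.w u * ((S.w 1)⁻¹)⁻¹) * (S.w t)⁻¹ := by
    unfold h; group
  have h2 : (S.w 1)⁻¹ * S.w u * ((S.w 1)⁻¹)⁻¹ = S.w (u⁻¹) := by
    rw [S.w_inv 1, S.w_conj_w (-1) u (neg_ne_zero.mpr one_ne_zero) hu]
    congr 1; ring
  rw [h1, h2, S.w_conj_w t _ ht (inv_ne_zero hu), inv_inv]

theorem w_conj_h (u : K) (hu : u ≠ 0) : S.w 1 * S.h u * (S.w 1)⁻¹ = S.h (u⁻¹) := by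
  have h1 : S.w 1 * S.h u * (S.w 1)⁻¹ = (S.w 1 * S.w u * (S.w 1)⁻¹) * (S.w 1)⁻¹ := by
    unfold h; group
  rw [h1, S.w_conj_w 1 u one_ne_zero hu, one_pow, one_mul]
  rfl

theorem h_mul_h (t v : K) (ht : t ≠ 0) (hv : v ≠ 0) :
    S.h t * S.h v = S.h (t ^ 2 * v) * S.h (t⁻¹) := by
  have h1 := S.h_conj_w t v ht hv
  have h2 := S.w_conj_h t ht
  calc S.h t * S.h v
      = (S.h t * S.w v * (S.h t)⁻¹) * (S.w 1)⁻¹ * (S.w 1 * S.h t * (S.w 1)⁻¹) := by
        rw [show S.h v = S.w v * (S.w 1)⁻¹ from rfl]; group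
    _ = S.h (t ^ 2 * v) * S.h (t⁻¹) := by rw [h1, h2]; rfl

theorem zeta_eq (t : K) (ht : t ≠ 0) :
    S.h t * S.h (t⁻¹) = S.w t * S.w t * (S.w 1 * S.w 1)⁻¹ := by
  have h1 : (S.w 1)⁻¹ * S.w (t⁻¹) * ((S.w 1)⁻¹)⁻¹ = S.w t := by
    rw [S.w_inv 1, S.w_conj_w (-1) t⁻¹ (neg_ne_zero.mpr one_ne_zero) (inv_ne_zero ht), inv_inv]
    congr 1; ring
  calc S.h t * S.h (t⁻¹)
      = S.w t * ((S.w 1)⁻¹ * S.w (t⁻¹) * ((S.w 1)⁻¹)⁻¹) * (S.w 1 * S.w 1)⁻¹ := by
        unfold h; group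
    _ = _ := by rw [h1]

theorem zeta_central (t : K) (ht : t ≠ 0) (g : G) : Commute (S.h t * S.h (t⁻¹)) g := by
  rw [S.zeta_eq t ht]
  have h1 : Commute (S.w t * S.w t) g := S.w_sq_central t ht g
  have h2 : Commute (S.w 1 * S.w 1) g := S.w_sq_central 1 one_ne_zero g
  exact h1.mul_left h2.inv_left

theorem h_sq_mul (t v : K) (ht : t ≠ 0) (hv : v ≠ 0) :
    S.h (t ^ 2 * v) = (S.h t * S.h (t⁻¹))⁻¹ * S.h t * S.h v * S.h t := by
  have h1 := S.h_mul_h t v ht hv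
  have h2 := (S.zeta_central t ht (S.h t * S.h v)).inv_left
  calc S.h (t ^ 2 * v)
      = (S.h (t ^ 2 * v) * S.h (t⁻¹)) * (S.h t * S.h (t⁻¹))⁻¹ * S.h t := by group
    _ = (S.h t * S.h v) * (S.h t * S.h (t⁻¹))⁻¹ * S.h t := by rw [h1]
    _ = (S.h t * S.h (t⁻¹))⁻¹ * (S.h t * S.h v) * S.h t := by rw [h2.eq]
    _ = _ := by group

theorem y_eq_xwx (s : K) : S.y (-s⁻¹) = S.x (-s) * S.w s * S.x (-s) := by
  rw [S.x_neg]; unfold w; group

theorem x_eq_ywy (u : K) (hu : u ≠ 0) : S.x u = S.y (u⁻¹) * S.w u * S.y (u⁻¹) := by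
  have h := S.y_neg (u⁻¹)
  rw [S.w_eq u hu, h]; group

theorem w_three (p r : K) (hp : p ≠ 0) (hr : r ≠ 0) (hpr : p + r ≠ 0) :
    S.w p * S.w (-(p + r)) * S.w r = S.w (p * r / (p + r)) := by
  have e1 : S.y (-p⁻¹) * S.y (-r⁻¹) = S.y (-(p * r / (p + r))⁻¹) := by
    rw [S.y_add]; congr 1; field_simp; ring
  rw [S.y_eq_xwx p, S.y_eq_xwx r, S.y_eq_xwx (p * r / (p + r))] at e1
  have e2 : S.x (-p) * S.x (-r) =
      S.y (-(p + r)⁻¹) * S.w (-(p + r)) * S.y (-(p + r)⁻¹) := by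
    rw [S.x_add, S.x_eq_ywy (-p + -r) (by rw [← neg_add]; exact neg_ne_zero.mpr hpr)]
    rw [← neg_add, inv_neg]
  have e3 : S.w p * S.y (-(p + r)⁻¹) = S.x (-(p ^ 2 * -(p + r)⁻¹)) * S.w p := by
    rw [← S.w_conj_y p _ hp]; group
  have e4 : S.y (-(p + r)⁻¹) * S.w r = S.w r * S.x (-((-r) ^ 2 * -(p + r)⁻¹)) := by
    rw [← S.w_conj_y (-r) _ (neg_ne_zero.mpr hr), ← S.w_inv r]; group
  have e5 : S.x (-p) * S.x (-(p ^ 2 * -(p + r)⁻¹)) = S.x (-(p * r / (p + r))) := by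
    rw [S.x_add]; congr 1; field_simp; ring
  have e6 : S.x (-((-r) ^ 2 * -(p + r)⁻¹)) * S.x (-r) = S.x (-(p * r / (p + r))) := by
    rw [S.x_add]; congr 1; field_simp; ring
  have e7 : S.x (-p) * S.w p * S.x (-p) * (S.x (-r) * S.w r * S.x (-r)) =
      (S.x (-p) * S.x (-(p ^ 2 * -(p + r)⁻¹))) * (S.w p * S.w (-(p + r)) * S.w r) *
        (S.x (-((-r) ^ 2 * -(p + r)⁻¹)) * S.x (-r)) := by
    calc S.x (-p) * S.w p * S.x (-p) * (S.x (-r) * S.w r * S.x (-r))
        = S.x (-p) * S.w p * (S.x (-p) * S.x (-r)) * S.w r * S.x (-r) := by group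
      _ = S.x (-p) * (S.w p * S.y (-(p + r)⁻¹)) * S.w (-(p + r)) *
            (S.y (-(p + r)⁻¹) * S.w r) * S.x (-r) := by
          rw [e2]; group
      _ = _ := by rw [e3, e4]; group
  rw [e7, e5, e6] at e1
  exact mul_left_cancel (mul_right_cancel e1)

theorem h_neg_one : S.h (-1) = (S.w 1 * S.w 1)⁻¹ := by
  unfold h; rw [← S.w_inv 1]; group

theorem h_three (p r : K) (hp : p ≠ 0) (hr : r ≠ 0) (hpr : p + r ≠ 0) :
    S.h p * S.h (-(p + r)⁻¹) * S.h r = S.h (p * r / (p + r)) * S.h (-1) := by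
  have h1 := S.w_three p r hp hr hpr
  have h2 := S.w_conj_h (-(p + r)) (neg_ne_zero.mpr hpr)
  rw [inv_neg] at h2
  have h3 := S.w_sq_central 1 one_ne_zero (S.h r)
  rw [← S.h_mul_w p, ← S.h_mul_w (-(p + r)), ← S.h_mul_w r, ← S.h_mul_w (p * r / (p + r))] at h1
  rw [S.h_neg_one]
  have h4 : S.h p * S.w 1 * (S.h (-(p + r)) * S.w 1) * (S.h r * S.w 1) =
      S.h p * (S.w 1 * S.h (-(p + r)) * (S.w 1)⁻¹) * (S.w 1 * S.w 1 * S.h r) * S.w 1 := by group
  rw [h4, h2, h3] at h1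
  have h5 := mul_right_cancel h1
  rw [← h5]; group

theorem aux_pow_step {G : Type*} [Group G] (c a : G) (hc : ∀ z : G, Commute c z) (k m : ℕ) :
    c * a * (c ^ k * a ^ m) * a = c ^ (k + 1) * a ^ (m + 2) := by
  have hd : ∀ z : G, Commute (c ^ k) z := fun z => (hc z).pow_left _
  calc c * a * (c ^ k * a ^ m) * a = c * (a * c ^ k) * a ^ m * a := by simp only [mul_assoc]
    _ = c * (c ^ k * a) * a ^ m * a := by rw [(hd a).eq]
    _ = (c * c ^ k) * (a * a ^ m * a) := by simp only [mul_assoc]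
    _ = c ^ (k + 1) * a ^ (m + 2) := by rw [pow_succ' c k, pow_succ a (m + 1), pow_succ' a m]

theorem aux_cancel {G : Type*} [Group G] (c a : G) (hc : ∀ z : G, Commute c z) (i k m n : ℕ)
    (h : c ^ (i + k + 1) * a ^ (m + n) = c ^ i * a ^ m * (c ^ k * a ^ n)) : c = 1 := by
  have h1 : c ^ i * a ^ m * (c ^ k * a ^ n) = c ^ (i + k) * a ^ (m + n) := by
    rw [pow_add, pow_add]
    have h0 := ((hc (a ^ m)).pow_left k).eq
    calc c ^ i * a ^ m * (c ^ k * a ^ n) = c ^ i * (a ^ m * c ^ k) * a ^ n := by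
          simp only [mul_assoc]
      _ = c ^ i * (c ^ k * a ^ m) * a ^ n := by rw [h0]
      _ = _ := by simp only [mul_assoc]
  rw [h1, pow_succ] at h
  have h2 : c ^ (i + k) * c * a ^ (m + n) = c ^ (i + k) * 1 * a ^ (m + n) := by
    rw [mul_one]; exact h
  exact mul_left_cancel (mul_right_cancel h2)

theorem h_pow_formula (g : K) (hg : g ≠ 0) (m : ℕ) :
    S.h (g ^ m) = ((S.h g * S.h (g⁻¹))⁻¹) ^ (m / 2) * (S.h g) ^ m := by
  induction m using Nat.twoStepInduction with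
  | zero => simp [S.h_one]
  | one => simp
  | more m ih _ =>
    have hc : ∀ z : G, Commute ((S.h g * S.h (g⁻¹))⁻¹) z :=
      fun z => (S.zeta_central g hg z).inv_left
    have e : g ^ (m + 2) = g ^ 2 * g ^ m := by ring
    rw [e, S.h_sq_mul g (g ^ m) hg (pow_ne_zero _ hg), ih,
      Nat.add_div_right m (by norm_num : 0 < 2)]
    exact aux_pow_step _ _ hc _ _

theorem h_comm_of_gen (g : K) (hg : g ≠ 0) (hgen : ∀ t : K, t ≠ 0 → ∃ m : ℕ, g ^ m = t)
    (t u : K) (ht : t ≠ 0) (hu : u ≠ 0) : Commute (S.h t) (S.h u) := by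
  obtain ⟨m, rfl⟩ := hgen t ht
  obtain ⟨n, rfl⟩ := hgen u hu
  rw [S.h_pow_formula g hg m, S.h_pow_formula g hg n]
  have hc : ∀ z : G, Commute ((S.h g * S.h (g⁻¹))⁻¹) z :=
    fun z => (S.zeta_central g hg z).inv_left
  exact Commute.mul_left ((hc _).pow_left _)
    (Commute.mul_right ((hc _).pow_left _).symm (Commute.pow_pow (Commute.refl _) m n))

theorem exists_gen (K : Type*) [Field K] [Finite K] :
    ∃ g : K, g ≠ 0 ∧ ∀ t : K, t ≠ 0 → ∃ m : ℕ, g ^ m = t := by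
  obtain ⟨g, hg⟩ := IsCyclic.exists_monoid_generator (α := Kˣ)
  refine ⟨g, g.ne_zero, fun t ht => ?_⟩
  obtain ⟨m, hm⟩ := (Submonoid.mem_powers_iff _ _).mp (hg (Units.mk0 t ht))
  refine ⟨m, ?_⟩
  have := congrArg Units.val hm
  simpa using this

theorem zeta_eq_one [Finite K] (g : K) (hg : g ≠ 0)
    (hgen : ∀ t : K, t ≠ 0 → ∃ m : ℕ, g ^ m = t) : S.h g * S.h (g⁻¹) = 1 := by
  classical
  by_cases h2 : (2 : K) = 0
  · have hneg : ∀ t : K, -t = t := fun t => by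
      have h0 : t + t = 0 := by rw [← two_mul, h2, zero_mul]
      exact neg_eq_of_add_eq_zero_left h0
    have hz : ∀ t : K, S.w t * S.w t = 1 := fun t => by
      have h0 := S.w_inv t
      rw [hneg] at h0
      calc S.w t * S.w t = S.w t * (S.w t)⁻¹ := by rw [h0]
        _ = 1 := mul_inv_cancel _
    rw [S.zeta_eq g hg, hz, hz]; simp
  · have hcomm := S.h_comm_of_gen g hg hgen
    have hc : ∀ z : G, Commute ((S.h g * S.h (g⁻¹))⁻¹) z :=
      fun z => (S.zeta_central g hg z).inv_left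
    have hm1 : (-1 : K) ≠ 0 := neg_ne_zero.mpr one_ne_zero
    have hsq : ∀ s v : K, s ≠ 0 → v ≠ 0 → S.h (s ^ 2 * v) = S.h (s ^ 2) * S.h v := by
      intro s v hs hv
      have e1 := S.h_sq_mul s v hs hv
      have e2 := S.h_sq_mul s 1 hs one_ne_zero
      rw [S.h_one, mul_one, mul_one] at e2
      rw [e1, e2, mul_assoc _ (S.h v) (S.h s), (hcomm v s hv hs).eq]
      simp only [mul_assoc]
    by_cases hi : ∃ i : K, i ^ 2 = -1
    · obtain ⟨i, hi⟩ := hi
      have hi0 : i ≠ 0 := by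
        rintro rfl
        rw [zero_pow (by norm_num)] at hi
        exact hm1 hi.symm
      have hneg : ∀ v : K, v ≠ 0 → S.h (-v) = S.h (-1) * S.h v := by
        intro v hv
        have e1 := hsq i v hi0 hv
        rw [hi, neg_one_mul] at e1
        exact e1
      have h2g : g + g ≠ 0 := by rw [← two_mul]; exact mul_ne_zero h2 hg
      have hv0 : g * g / (g + g) ≠ 0 := div_ne_zero (mul_ne_zero hg hg) h2g
      have e3 := S.h_three g g hg hg h2g
      have e4 := S.h_sq_mul g (-(g + g)⁻¹) hg (neg_ne_zero.mpr (inv_ne_zero h2g))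
      have e5 : g ^ 2 * -(g + g)⁻¹ = -(g * g / (g + g)) := by rw [div_eq_mul_inv]; ring
      have e8 : S.h (-1) * S.h (g * g / (g + g)) =
          (S.h g * S.h g⁻¹)⁻¹ * (S.h (g * g / (g + g)) * S.h (-1)) := by
        rw [← hneg _ hv0, ← e5, e4, ← e3]; simp only [mul_assoc]
      rw [(hcomm (-1) (g * g / (g + g)) hm1 hv0).eq] at e8
      have e9 : (S.h g * S.h g⁻¹)⁻¹ * (S.h (g * g / (g + g)) * S.h (-1)) =
          1 * (S.h (g * g / (g + g)) * S.h (-1)) := by rw [one_mul]; exact e8.symm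
      exact inv_eq_one.mp (mul_right_cancel e9)
    · have hF := Fintype.ofFinite K
      have hodd : Fintype.card K % 2 = 1 := by
        apply FiniteField.odd_card_of_char_ne_two
        intro hch
        apply h2
        have h0 := ringChar.Nat.cast_ringChar (R := K)
        rw [hch] at h0
        exact_mod_cast h0
      obtain ⟨a, b, hab⟩ := FiniteField.exists_root_sum_quadratic
        (f := (Polynomial.X : Polynomial K) ^ 2)
        (g := Polynomial.X ^ 2 + Polynomial.C 1) (Polynomial.degree_X_pow 2)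
        (Polynomial.degree_X_pow_add_C (by norm_num) 1) hodd
      simp only [Polynomial.eval_pow, Polynomial.eval_X, Polynomial.eval_add,
        Polynomial.eval_C] at hab
      have hab' : a ^ 2 + b ^ 2 = -1 := by linear_combination hab
      have ha : a ≠ 0 := by
        rintro rfl
        exact hi ⟨b, by linear_combination hab'⟩
      have hb : b ≠ 0 := by
        rintro rfl
        exact hi ⟨a, by linear_combination hab'⟩
      have hρ : (a / b) ^ 2 ≠ 0 := pow_ne_zero 2 (div_ne_zero ha hb)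
      have q1 : (1 : K) + (a / b) ^ 2 = -(b ^ 2)⁻¹ := by
        field_simp
        linear_combination hab'
      have hne : (1 : K) + (a / b) ^ 2 ≠ 0 := by
        rw [q1]; exact neg_ne_zero.mpr (inv_ne_zero (pow_ne_zero 2 hb))
      have e3 := S.h_three 1 ((a / b) ^ 2) one_ne_zero hρ hne
      have q2 : -(1 + (a / b) ^ 2)⁻¹ = b ^ 2 := by rw [q1, inv_neg, inv_inv, neg_neg]
      have q3 : 1 * (a / b) ^ 2 / (1 + (a / b) ^ 2) = -a ^ 2 := by
        rw [q1]; field_simp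
      rw [q2, q3, S.h_one, one_mul, ← hsq b _ hb hρ] at e3
      have q4 : b ^ 2 * (a / b) ^ 2 = a ^ 2 := by field_simp
      rw [q4] at e3
      -- e3 : S.h (a ^ 2) = S.h (-a ^ 2) * S.h (-1)
      have hna : -a ^ 2 ≠ 0 := neg_ne_zero.mpr (pow_ne_zero 2 ha)
      obtain ⟨i, hi'⟩ := hgen (-a ^ 2) hna
      obtain ⟨k, hk⟩ := hgen (-1) hm1
      obtain ⟨i', rfl | rfl⟩ := Nat.even_or_odd' i
      · exfalso
        apply hi
        refine ⟨g ^ i' / a, ?_⟩
        rw [div_pow, ← pow_mul, mul_comm i' 2, hi', neg_div, div_self (pow_ne_zero 2 ha)]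
      obtain ⟨k', rfl | rfl⟩ := Nat.even_or_odd' k
      · exfalso
        apply hi
        exact ⟨g ^ k', by rw [← pow_mul, mul_comm k' 2, hk]⟩
      have f1 := S.h_pow_formula g hg (2 * i' + 1)
      have f2 := S.h_pow_formula g hg (2 * k' + 1)
      have f3 := S.h_pow_formula g hg (2 * i' + 1 + (2 * k' + 1))
      rw [hi'] at f1
      rw [hk] at f2
      rw [pow_add, hi', hk, show (-a ^ 2) * (-1 : K) = a ^ 2 by ring] at f3
      have d1 : (2 * i' + 1) / 2 = i' := by omega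
      have d2 : (2 * k' + 1) / 2 = k' := by omega
      have d3 : (2 * i' + 1 + (2 * k' + 1)) / 2 = i' + k' + 1 := by omega
      rw [d1] at f1
      rw [d2] at f2
      rw [d3] at f3
      rw [f1, f2, f3] at e3
      exact inv_eq_one.mp (aux_cancel _ _ hc _ _ _ _ e3)

theorem h_mul [Finite K] (t u : K) (ht : t ≠ 0) (hu : u ≠ 0) :
    S.h (t * u) = S.h t * S.h u := by
  obtain ⟨g, hg, hgen⟩ := exists_gen K
  have hz := S.zeta_eq_one g hg hgen
  have hf : ∀ m : ℕ, S.h (g ^ m) = S.h g ^ m := fun m => by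
    rw [S.h_pow_formula g hg m, hz]; simp
  obtain ⟨m, rfl⟩ := hgen t ht
  obtain ⟨n, rfl⟩ := hgen u hu
  rw [← pow_add, hf, hf, hf, pow_add]

section NormalForm

variable [Finite K]

theorem h_x (t u : K) (ht : t ≠ 0) : S.h t * S.x u = S.x (t ^ 2 * u) * S.h t := by
  rw [← S.h_conj_x t u ht]; group

theorem x_h (t v : K) (ht : t ≠ 0) : S.x v * S.h t = S.h t * S.x (t⁻¹ ^ 2 * v) := by
  have e : t ^ 2 * (t⁻¹ ^ 2 * v) = v := by field_simp
  rw [S.h_x t _ ht, e]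

theorem w_h (t : K) (ht : t ≠ 0) : S.w 1 * S.h t = S.h (t⁻¹) * S.w 1 := by
  rw [← S.w_conj_h t ht]; group

theorem h_neg_one_sq : S.h (-1) * S.h (-1) = 1 := by
  have hm1 : (-1 : K) ≠ 0 := neg_ne_zero.mpr one_ne_zero
  rw [← S.h_mul (-1) (-1) hm1 hm1, neg_mul_neg, one_mul, S.h_one]

theorem w_w : S.w 1 * S.w 1 = S.h (-1) := by
  have h1 := S.h_neg_one
  have h3 : S.h (-1) = (S.h (-1))⁻¹ := eq_inv_of_mul_eq_one_left S.h_neg_one_sq
  rw [h3, h1, inv_inv]

theorem w_inv_eq : (S.w 1)⁻¹ = S.w 1 * S.h (-1) := by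
  rw [S.h_neg_one]; group

theorem y_eq (v : K) : S.y v = S.w 1 * S.x (-v) * (S.w 1)⁻¹ := by
  rw [S.w_conj_x 1 (-v) one_ne_zero]
  congr 1
  rw [inv_one, one_pow, one_mul, neg_neg]

theorem w_x_w (v : K) (hv : v ≠ 0) :
    S.w 1 * S.x v * S.w 1 = S.x (-v⁻¹) * S.h (-v⁻¹) * S.w 1 * S.x (-v⁻¹) := by
  have hm1 : (-1 : K) ≠ 0 := neg_ne_zero.mpr one_ne_zero
  have h1 : S.w (v⁻¹) = S.x (v⁻¹) * (S.w 1 * S.x v * (S.w 1)⁻¹) * S.x (v⁻¹) := by
    show S.x v⁻¹ * S.y (-(v⁻¹)⁻¹) * S.x v⁻¹ = _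
    rw [inv_inv, S.y_eq (-v), neg_neg]
  have h2 : S.w 1 * S.x v * (S.w 1)⁻¹ = S.x (-v⁻¹) * (S.h (v⁻¹) * S.w 1) * S.x (-v⁻¹) := by
    rw [S.h_mul_w, h1, S.x_neg]; group
  have h3 : S.x (-v⁻¹) * S.h (-1) = S.h (-1) * S.x (-v⁻¹) := by
    rw [S.x_h (-1) _ hm1, inv_neg_one, neg_one_sq, one_mul]
  have h4 : S.w 1 * S.h (-1) = S.h (-1) * S.w 1 := by
    rw [S.w_h (-1) hm1, inv_neg_one]
  have h5 : S.h (v⁻¹) * S.h (-1) = S.h (-v⁻¹) := by
    rw [← S.h_mul _ _ (inv_ne_zero hv) hm1, mul_neg_one]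
  calc S.w 1 * S.x v * S.w 1 = (S.w 1 * S.x v * (S.w 1)⁻¹) * (S.w 1 * S.w 1) := by group
    _ = S.x (-v⁻¹) * (S.h (v⁻¹) * S.w 1) * (S.x (-v⁻¹) * S.h (-1)) := by
        rw [h2, S.w_w]; simp only [mul_assoc]
    _ = S.x (-v⁻¹) * S.h (v⁻¹) * (S.w 1 * S.h (-1)) * S.x (-v⁻¹) := by
        rw [h3]; simp only [mul_assoc]
    _ = S.x (-v⁻¹) * (S.h (v⁻¹) * S.h (-1)) * S.w 1 * S.x (-v⁻¹) := by
        rw [h4]; simp only [mul_assoc]
    _ = _ := by rw [h5]

/-- The Bruhat-type normal form in the abstract group. -/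
def NF (g : G) : Prop :=
  (∃ u t : K, t ≠ 0 ∧ g = S.x u * S.h t) ∨
  (∃ u t v : K, t ≠ 0 ∧ g = S.x u * S.h t * S.w 1 * S.x v)

theorem nf_one : S.NF 1 := Or.inl ⟨0, 1, one_ne_zero, by rw [S.x_zero, S.h_one, one_mul]⟩

theorem nf_mul_x (g : G) (hg : S.NF g) (v : K) : S.NF (g * S.x v) := by
  rcases hg with ⟨u, t, ht, rfl⟩ | ⟨u, t, v', ht, rfl⟩
  · exact Or.inl ⟨u + t ^ 2 * v, t, ht, by rw [mul_assoc, S.h_x t v ht, ← mul_assoc, S.x_add]⟩
  · exact Or.inr ⟨u, t, v' + v, ht, by rw [mul_assoc, S.x_add]⟩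

theorem nf_mul_h (g : G) (hg : S.NF g) (s : K) (hs : s ≠ 0) : S.NF (g * S.h s) := by
  rcases hg with ⟨u, t, ht, rfl⟩ | ⟨u, t, v, ht, rfl⟩
  · exact Or.inl ⟨u, t * s, mul_ne_zero ht hs, by rw [mul_assoc, ← S.h_mul t s ht hs]⟩
  · refine Or.inr ⟨u, t * s⁻¹, s⁻¹ ^ 2 * v, mul_ne_zero ht (inv_ne_zero hs), ?_⟩
    rw [S.h_mul t s⁻¹ ht (inv_ne_zero hs)]
    calc S.x u * S.h t * S.w 1 * S.x v * S.h s
        = S.x u * S.h t * S.w 1 * (S.x v * S.h s) := by simp only [mul_assoc]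
      _ = S.x u * S.h t * (S.w 1 * S.h s) * S.x (s⁻¹ ^ 2 * v) := by
          rw [S.x_h s v hs]; simp only [mul_assoc]
      _ = _ := by rw [S.w_h s hs]; simp only [mul_assoc]

theorem nf_mul_w (g : G) (hg : S.NF g) : S.NF (g * S.w 1) := by
  have hm1 : (-1 : K) ≠ 0 := neg_ne_zero.mpr one_ne_zero
  rcases hg with ⟨u, t, ht, rfl⟩ | ⟨u, t, v, ht, rfl⟩
  · exact Or.inr ⟨u, t, 0, ht, by rw [S.x_zero, mul_one]⟩
  · by_cases hv : v = 0
    · subst hv
      refine Or.inl ⟨u, t * -1, mul_ne_zero ht hm1, ?_⟩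
      rw [S.x_zero, mul_one, mul_assoc, S.w_w, S.h_mul t (-1) ht hm1, mul_assoc]
    · have hv' : -v⁻¹ ≠ 0 := neg_ne_zero.mpr (inv_ne_zero hv)
      refine Or.inr ⟨u + t ^ 2 * -v⁻¹, t * -v⁻¹, -v⁻¹, mul_ne_zero ht hv', ?_⟩
      rw [S.h_mul t (-v⁻¹) ht hv', ← S.x_add]
      calc S.x u * S.h t * S.w 1 * S.x v * S.w 1
          = S.x u * S.h t * (S.w 1 * S.x v * S.w 1) := by simp only [mul_assoc]
        _ = S.x u * (S.h t * S.x (-v⁻¹)) * S.h (-v⁻¹) * S.w 1 * S.x (-v⁻¹) := by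
            rw [S.w_x_w v hv]; simp only [mul_assoc]
        _ = _ := by rw [S.h_x t _ ht]; simp only [mul_assoc]

theorem nf_mul_w_inv (g : G) (hg : S.NF g) : S.NF (g * (S.w 1)⁻¹) := by
  rw [S.w_inv_eq, ← mul_assoc]
  exact S.nf_mul_h _ (S.nf_mul_w g hg) (-1) (neg_ne_zero.mpr one_ne_zero)

theorem nf_mul_y (g : G) (hg : S.NF g) (v : K) : S.NF (g * S.y v) := by
  rw [S.y_eq v, ← mul_assoc, ← mul_assoc]
  exact S.nf_mul_w_inv _ (S.nf_mul_x _ (S.nf_mul_w g hg) (-v))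

theorem nf_all (g : G) : S.NF g := by
  have hg : g ∈ Subgroup.closure (Set.range S.x ∪ Set.range S.y) := by
    rw [S.gen]; exact Subgroup.mem_top g
  induction hg using Subgroup.closure_induction_right with
  | one => exact S.nf_one
  | mul_right a ha b hb ih =>
    rcases hb with ⟨v, rfl⟩ | ⟨v, rfl⟩
    · exact S.nf_mul_x a ih v
    · exact S.nf_mul_y a ih v
  | mul_inv_cancel a ha b hb ih =>
    rcases hb with ⟨v, rfl⟩ | ⟨v, rfl⟩
    · rw [← S.x_neg]; exact S.nf_mul_x a ih (-v)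
    · rw [← S.y_neg]; exact S.nf_mul_y a ih (-v)

/-- A homomorphism to `SL₂(K)` sending `x`, `y` to the elementary matrices is injective. -/
theorem injective_of_hom (φ : G →* Matrix.SpecialLinearGroup (Fin 2) K)
    (hx : ∀ t, (φ (S.x t) : Matrix (Fin 2) (Fin 2) K) = !![1, t; 0, 1])
    (hy : ∀ t, (φ (S.y t) : Matrix (Fin 2) (Fin 2) K) = !![1, 0; t, 1]) :
    Function.Injective φ := by
  rw [injective_iff_map_eq_one]
  intro g hg
  have hw : ∀ t : K, t ≠ 0 →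
      (φ (S.w t) : Matrix (Fin 2) (Fin 2) K) = !![0, t; -t⁻¹, 0] := by
    intro t ht
    unfold w
    rw [map_mul, map_mul, Matrix.SpecialLinearGroup.coe_mul, Matrix.SpecialLinearGroup.coe_mul,
      hx, hy]
    ext i j
    fin_cases i <;> fin_cases j <;> simp [Matrix.mul_apply, Fin.sum_univ_two, ht]
  rcases S.nf_all g with ⟨u, t, ht, rfl⟩ | ⟨u, t, v, ht, rfl⟩
  · have h1 : φ (S.x u) * φ (S.w t) = φ (S.w 1) := by
      have h0 : S.x u * S.w t = (S.x u * S.h t) * S.w 1 := by rw [mul_assoc, S.h_mul_w]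
      rw [← map_mul, h0, map_mul, hg, one_mul]
    have h2 := congrArg
      (fun m : Matrix.SpecialLinearGroup (Fin 2) K => (m : Matrix (Fin 2) (Fin 2) K)) h1
    simp only [Matrix.SpecialLinearGroup.coe_mul] at h2
    rw [hx, hw t ht, hw 1 one_ne_zero] at h2
    have h00 := congrFun (congrFun h2 0) 0
    have h01 := congrFun (congrFun h2 0) 1
    simp [Matrix.mul_apply, Fin.sum_univ_two, ht] at h00 h01
    subst h00
    subst h01
    rw [S.x_zero, S.h_one, one_mul]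
  · exfalso
    have h1 : φ (S.x u) * φ (S.w t) * φ (S.x v) = 1 := by
      have h0 : S.x u * S.w t * S.x v = S.x u * S.h t * S.w 1 * S.x v := by
        rw [← S.h_mul_w t]; simp only [mul_assoc]
      rw [← map_mul, ← map_mul, h0, hg]
    have h2 := congrArg
      (fun m : Matrix.SpecialLinearGroup (Fin 2) K => (m : Matrix (Fin 2) (Fin 2) K)) h1
    simp only [Matrix.SpecialLinearGroup.coe_mul, Matrix.SpecialLinearGroup.coe_one] at h2
    rw [hx, hx, hw t ht] at h2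
    have h10 := congrFun (congrFun h2 1) 0
    simp [Matrix.mul_apply, Fin.sum_univ_two] at h10
    exact ht h10

end NormalForm

end St2

section Pres

open Matrix

/-- The upper elementary matrix in `SL₂`. -/
def st2X (K : Type*) [Field K] (t : K) : Matrix.SpecialLinearGroup (Fin 2) K :=
  ⟨!![1, t; 0, 1], by simp [Matrix.det_fin_two]⟩

/-- The lower elementary matrix in `SL₂`. -/
def st2Y (K : Type*) [Field K] (t : K) : Matrix.SpecialLinearGroup (Fin 2) K :=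
  ⟨!![1, 0; t, 1], by simp [Matrix.det_fin_two]⟩

theorem st2X_add {K : Type*} [Field K] (t u : K) : st2X K t * st2X K u = st2X K (t + u) := by
  apply Subtype.ext
  rw [Matrix.SpecialLinearGroup.coe_mul]
  ext i j
  fin_cases i <;> fin_cases j <;> simp [st2X, Matrix.mul_apply, Fin.sum_univ_two, add_comm]

theorem st2Y_add {K : Type*} [Field K] (t u : K) : st2Y K t * st2Y K u = st2Y K (t + u) := by
  apply Subtype.ext
  rw [Matrix.SpecialLinearGroup.coe_mul]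
  ext i j
  fin_cases i <;> fin_cases j <;> simp [st2Y, Matrix.mul_apply, Fin.sum_univ_two, add_comm]

theorem st2X_rel {K : Type*} [Field K] (t u : K) (ht : t ≠ 0) :
    st2X K t * st2Y K (-t⁻¹) * st2X K t * st2X K u =
      st2Y K (-(t⁻¹ ^ 2 * u)) * (st2X K t * st2Y K (-t⁻¹) * st2X K t) := by
  apply Subtype.ext
  simp only [Matrix.SpecialLinearGroup.coe_mul]
  ext i j
  fin_cases i <;> fin_cases j <;>
    simp [st2X, st2Y, Matrix.mul_apply, Fin.sum_univ_two, ht] <;> field_simp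

theorem st2Y_rel {K : Type*} [Field K] (t u : K) (ht : t ≠ 0) :
    st2Y K t * st2X K (-t⁻¹) * st2Y K t * st2Y K u =
      st2X K (-(t⁻¹ ^ 2 * u)) * (st2Y K t * st2X K (-t⁻¹) * st2Y K t) := by
  apply Subtype.ext
  simp only [Matrix.SpecialLinearGroup.coe_mul]
  ext i j
  fin_cases i <;> fin_cases j <;>
    simp [st2X, st2Y, Matrix.mul_apply, Fin.sum_univ_two, ht] <;> field_simp

/-- The Steinberg relations of rank one. -/
def st2Rels (K : Type*) [Field K] : Set (FreeGroup (Bool × K)) :=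
  {g : FreeGroup (Bool × K) | ∃ (b : Bool) (t u : K), g = FreeGroup.of (b, t) * FreeGroup.of (b, u) * (FreeGroup.of (b, t + u))⁻¹} ∪
          {g | ∃ (b : Bool) (t u : K), t ≠ 0 ∧
            g = (FreeGroup.of (b, t) * FreeGroup.of (!b, -t⁻¹) * FreeGroup.of (b, t)) * FreeGroup.of (b, u) *
                  (FreeGroup.of (b, t) * FreeGroup.of (!b, -t⁻¹) * FreeGroup.of (b, t))⁻¹ * (FreeGroup.of (!b, -(t⁻¹ ^ 2 * u)))⁻¹}

/-- The images of the generators in `SL₂`. -/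
def st2Fun (K : Type*) [Field K] (p : Bool × K) : Matrix.SpecialLinearGroup (Fin 2) K :=
  match p with
  | (true, t) => st2X K t
  | (false, t) => st2Y K t

theorem st2Fun_rels (K : Type*) [Field K] :
    ∀ r ∈ st2Rels K, FreeGroup.lift (st2Fun K) r = 1 := by
  rintro r (⟨b, t, u, rfl⟩ | ⟨b, t, u, ht, rfl⟩)
  · simp only [map_mul, map_inv, FreeGroup.lift_apply_of]
    rw [mul_inv_eq_one]
    cases b
    · exact st2Y_add t u
    · exact st2X_add t u
  · simp only [map_mul, map_inv, FreeGroup.lift_apply_of]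
    rw [mul_inv_eq_one, mul_inv_eq_iff_eq_mul]
    cases b
    · exact st2Y_rel t u ht
    · exact st2X_rel t u ht

/-- The presented group carries abstract Steinberg data. -/
def presSt2 (K : Type*) [Field K] : St2 K (PresentedGroup (st2Rels K)) where
  x t := PresentedGroup.of (true, t)
  y t := PresentedGroup.of (false, t)
  x_add t u := by
    have h := PresentedGroup.one_of_mem (rels := st2Rels K) (Or.inl ⟨true, t, u, rfl⟩)
    rw [map_mul, map_mul, map_inv, mul_inv_eq_one] at h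
    exact h
  y_add t u := by
    have h := PresentedGroup.one_of_mem (rels := st2Rels K) (Or.inl ⟨false, t, u, rfl⟩)
    rw [map_mul, map_mul, map_inv, mul_inv_eq_one] at h
    exact h
  rel1 t u ht := by
    have h := PresentedGroup.one_of_mem (rels := st2Rels K) (Or.inr ⟨true, t, u, ht, rfl⟩)
    simp only [map_mul, map_inv] at h
    exact mul_inv_eq_one.mp h
  rel2 t u ht := by
    have h := PresentedGroup.one_of_mem (rels := st2Rels K) (Or.inr ⟨false, t, u, ht, rfl⟩)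
    simp only [map_mul, map_inv] at h
    exact mul_inv_eq_one.mp h
  gen := by
    rw [eq_top_iff, ← PresentedGroup.closure_range_of (st2Rels K)]
    apply Subgroup.closure_mono
    rintro _ ⟨⟨b, t⟩, rfl⟩
    cases b
    · exact Or.inr ⟨t, rfl⟩
    · exact Or.inl ⟨t, rfl⟩

/-- The rank-one Steinberg presentation of `SL₂` over a finite field. -/
theorem st2_presentation {K : Type*} [Field K] [Finite K] :
    ∃ e : PresentedGroup
        ({g : FreeGroup (Bool × K) | ∃ (b : Bool) (t u : K), g = FreeGroup.of (b, t) * FreeGroup.of (b, u) * (FreeGroup.of (b, t + u))⁻¹} ∪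
          {g | ∃ (b : Bool) (t u : K), t ≠ 0 ∧
            g = (FreeGroup.of (b, t) * FreeGroup.of (!b, -t⁻¹) * FreeGroup.of (b, t)) * FreeGroup.of (b, u) *
                  (FreeGroup.of (b, t) * FreeGroup.of (!b, -t⁻¹) * FreeGroup.of (b, t))⁻¹ * (FreeGroup.of (!b, -(t⁻¹ ^ 2 * u)))⁻¹})
        ≃* Matrix.SpecialLinearGroup (Fin 2) K,
      (∀ t : K, ((e (PresentedGroup.of (true, t)) : Matrix (Fin 2) (Fin 2) K)) = !![1, t; 0, 1]) ∧
      (∀ t : K, ((e (PresentedGroup.of (false, t)) : Matrix (Fin 2) (Fin 2) K)) = !![1, 0; t, 1]) := by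
  classical
  let φ : PresentedGroup (st2Rels K) →* Matrix.SpecialLinearGroup (Fin 2) K :=
    PresentedGroup.toGroup (st2Fun_rels K)
  have hx : ∀ t : K, φ (PresentedGroup.of (true, t)) = st2X K t :=
    fun t => PresentedGroup.toGroup.of (st2Fun_rels K)
  have hy : ∀ t : K, φ (PresentedGroup.of (false, t)) = st2Y K t :=
    fun t => PresentedGroup.toGroup.of (st2Fun_rels K)
  have hinj : Function.Injective φ := by
    refine (presSt2 K).injective_of_hom φ (fun t => ?_) (fun t => ?_)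
    · show ((φ (PresentedGroup.of (true, t)) : Matrix (Fin 2) (Fin 2) K)) = _
      rw [hx]; rfl
    · show ((φ (PresentedGroup.of (false, t)) : Matrix (Fin 2) (Fin 2) K)) = _
      rw [hy]; rfl
  have hsurj : Function.Surjective φ := by
    rw [← MonoidHom.range_eq_top]
    apply Cfsg.Agent.Lib.helper45.eq_top_of_transvection_mem
    intro i j hij a
    fin_cases i <;> fin_cases j
    · exact absurd rfl hij
    · refine ⟨PresentedGroup.of (true, a), ?_⟩
      rw [hx]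
      apply Subtype.ext
      rw [Matrix.SpecialLinearGroup.transvection_coe]
      ext i j
      fin_cases i <;> fin_cases j <;> simp [st2X]
    · refine ⟨PresentedGroup.of (false, a), ?_⟩
      rw [hy]
      apply Subtype.ext
      rw [Matrix.SpecialLinearGroup.transvection_coe]
      ext i j
      fin_cases i <;> fin_cases j <;> simp [st2Y]
    · exact absurd rfl hij
  refine ⟨MulEquiv.ofBijective φ ⟨hinj, hsurj⟩, fun t => ?_, fun t => ?_⟩
  · show ((φ (PresentedGroup.of (true, t)) : Matrix (Fin 2) (Fin 2) K)) = _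
    rw [hx]; rfl
  · show ((φ (PresentedGroup.of (false, t)) : Matrix (Fin 2) (Fin 2) K)) = _
    rw [hy]; rfl

end Pres

end Cfsg.Agent.Lib.helper44
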