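import Mathlib
import Cfsg.Agent.Lib.helper44.St2

/-!
# Abstract Steinberg data of type `A` (rank at least two): global identities

`StData I K G` packages root elements `X i j t` of a group `G` subject to the Steinberg relations of
`SL_n`.  From the relations we derive the conjugation formulas for the Weyl-type elements
`wt i j t = X i j t * X j i (-t⁻¹) * X i j t`, the rank-one relations, and hence (over a finite
field, via the rank-one presentation of `SL₂`) homomorphisms `psi i j : SL₂(K) →* G`.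
-/

set_option autoImplicit false
set_option linter.unusedSectionVars false
set_option linter.unusedVariables false

namespace Cfsg.Agent.Lib.helper44

/-- Abstract Steinberg data of type `A` over an index type `I` with at least three indices. -/
structure StData (I : Type*) (K : Type*) [Field K] (G : Type*) [Group G] where
  /-- the root elements -/
  X : I → I → K → G
  add : ∀ i j, i ≠ j → ∀ t u, X i j t * X i j u = X i j (t + u)
  comm : ∀ i j k l, i ≠ j → k ≠ l → i ≠ l → j ≠ k → ∀ t u,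
    X i j t * X k l u = X k l u * X i j t
  rel : ∀ i j l, i ≠ j → j ≠ l → i ≠ l → ∀ t u,
    X i j t * X j l u * (X i j t)⁻¹ * (X j l u)⁻¹ = X i l (t * u)
  third : ∀ i j : I, ∃ c, c ≠ i ∧ c ≠ j

namespace StData

variable {I K G : Type*} [Field K] [Group G] (D : StData I K G)

theorem X_zero {i j : I} (h : i ≠ j) : D.X i j 0 = 1 := by
  have h1 := D.add i j h 0 0
  rw [add_zero] at h1
  exact mul_eq_left.mp h1

theorem X_neg {i j : I} (h : i ≠ j) (t : K) : D.X i j (-t) = (D.X i j t)⁻¹ := by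
  rw [eq_inv_iff_mul_eq_one, D.add i j h, neg_add_cancel, D.X_zero h]

theorem cj_comm {i j k l : I} (hij : i ≠ j) (hkl : k ≠ l) (hil : i ≠ l) (hjk : j ≠ k) (t u : K) :
    MulAut.conj (D.X i j t) (D.X k l u) = D.X k l u := by
  rw [MulAut.conj_apply, D.comm i j k l hij hkl hil hjk, mul_inv_cancel_right]

theorem cj_right {i j l : I} (hij : i ≠ j) (hjl : j ≠ l) (hil : i ≠ l) (t u : K) :
    MulAut.conj (D.X i j t) (D.X j l u) = D.X i l (t * u) * D.X j l u := by
  rw [MulAut.conj_apply, ← D.rel i j l hij hjl hil t u]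
  group

theorem cj_left {i j l : I} (hij : i ≠ j) (hjl : j ≠ l) (hil : i ≠ l) (t u : K) :
    MulAut.conj (D.X j l u) (D.X i j t) = D.X i l (-(t * u)) * D.X i j t := by
  rw [MulAut.conj_apply, D.X_neg hil, ← D.rel i j l hij hjl hil t u]
  group

/-- The Weyl-type element `w_ij(t)`. -/
def wt (i j : I) (t : K) : G := D.X i j t * D.X j i (-t⁻¹) * D.X i j t

theorem cj_wt (i j : I) (t : K) (g : G) :
    MulAut.conj (D.wt i j t) g =
      MulAut.conj (D.X i j t) (MulAut.conj (D.X j i (-t⁻¹)) (MulAut.conj (D.X i j t) g)) := by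
  unfold wt
  rw [map_mul, map_mul]
  rfl

theorem wt_a {i j c : I} (hij : i ≠ j) (hic : i ≠ c) (hjc : j ≠ c) (t u : K) (ht : t ≠ 0) :
    MulAut.conj (D.wt i j t) (D.X i c u) = D.X j c (-(t⁻¹ * u)) := by
  have e1 : t * (-t⁻¹ * u) = -u := by field_simp
  rw [D.cj_wt, D.cj_comm hij hic hic hij.symm, D.cj_right hij.symm hic hjc, map_mul,
    D.cj_right hij hjc hic, D.cj_comm hij hic hic hij.symm, e1,
    D.comm i c j c hic hjc hic hjc.symm, mul_assoc, D.add i c hic, neg_add_cancel, D.X_zero hic,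
    mul_one, neg_mul]

theorem wt_b {i j c : I} (hij : i ≠ j) (hic : i ≠ c) (hjc : j ≠ c) (t u : K) (ht : t ≠ 0) :
    MulAut.conj (D.wt i j t) (D.X j c u) = D.X i c (t * u) := by
  have e1 : -t⁻¹ * (t * u) = -u := by field_simp
  rw [D.cj_wt, D.cj_right hij hjc hic, map_mul, D.cj_right hij.symm hic hjc,
    D.cj_comm hij.symm hjc hjc hij, e1,
    D.comm j c i c hjc hic hjc hic.symm, mul_assoc, D.add j c hjc, neg_add_cancel, D.X_zero hjc,
    mul_one, D.cj_comm hij hic hic hij.symm]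

theorem wt_c {i j c : I} (hij : i ≠ j) (hic : i ≠ c) (hjc : j ≠ c) (t u : K) (ht : t ≠ 0) :
    MulAut.conj (D.wt i j t) (D.X c i u) = D.X c j (-(t * u)) := by
  have e1 : -(-(u * t) * -t⁻¹) = -u := by field_simp
  rw [D.cj_wt, D.cj_left hic.symm hij hjc.symm, map_mul, D.cj_left hjc.symm hij.symm hic.symm,
    D.cj_comm hij.symm hic.symm hij.symm hic, e1,
    D.comm c i c j hic.symm hjc.symm hjc.symm hic, mul_assoc, D.add c i hic.symm, neg_add_cancel,
    D.X_zero hic.symm, mul_one, D.cj_comm hij hjc.symm hij hjc, mul_comm u t]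

theorem wt_d {i j c : I} (hij : i ≠ j) (hic : i ≠ c) (hjc : j ≠ c) (t u : K) (ht : t ≠ 0) :
    MulAut.conj (D.wt i j t) (D.X c j u) = D.X c i (t⁻¹ * u) := by
  have e1 : -(u * -t⁻¹) = t⁻¹ * u := by ring
  have e2 : -(t⁻¹ * u * t) = -u := by field_simp
  rw [D.cj_wt, D.cj_comm hij hjc.symm hij hjc, D.cj_left hjc.symm hij.symm hic.symm, map_mul,
    D.cj_left hic.symm hij hjc.symm, D.cj_comm hij hjc.symm hij hjc, e1, e2,
    D.comm c j c i hjc.symm hic.symm hic.symm hjc, mul_assoc, D.add c j hjc.symm, neg_add_cancel,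
    D.X_zero hjc.symm, mul_one]

theorem wt_rel {i j : I} (hij : i ≠ j) (t u : K) (ht : t ≠ 0) :
    MulAut.conj (D.wt i j t) (D.X i j u) = D.X j i (-(t⁻¹ ^ 2 * u)) := by
  obtain ⟨c, hci, hcj⟩ := D.third i j
  have h1 : D.X i j u = D.X i c u * D.X c j 1 * (D.X i c u)⁻¹ * (D.X c j 1)⁻¹ := by
    rw [D.rel i c j hci.symm hcj hij, mul_one]
  have e1 : -(t⁻¹ * u) * (t⁻¹ * 1) = -(t⁻¹ ^ 2 * u) := by ring
  rw [h1, map_mul, map_mul, map_mul, map_inv, map_inv, D.wt_a hij hci.symm hcj.symm t u ht,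
    D.wt_d hij hci.symm hcj.symm t 1 ht, D.rel j c i hcj.symm hci hij.symm, e1]

theorem wt_comm {i j a b : I} (hij : i ≠ j) (hab : a ≠ b) (hai : a ≠ i) (haj : a ≠ j)
    (hbi : b ≠ i) (hbj : b ≠ j) (t u : K) :
    MulAut.conj (D.wt i j t) (D.X a b u) = D.X a b u := by
  rw [D.cj_wt, D.cj_comm hij hab hbi.symm haj.symm, D.cj_comm hij.symm hab hbj.symm hai.symm,
    D.cj_comm hij hab hbi.symm haj.symm]

end StData

section Lift

/-- Rank-one Steinberg relations in any group give a homomorphism from `SL₂` of a finite field. -/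
theorem st2_lift {K : Type*} [Field K] [Finite K] {G : Type*} [Group G] (x y : K → G)
    (x_add : ∀ t u, x t * x u = x (t + u)) (y_add : ∀ t u, y t * y u = y (t + u))
    (rel1 : ∀ t u, t ≠ 0 →
      x t * y (-t⁻¹) * x t * x u * (x t * y (-t⁻¹) * x t)⁻¹ = y (-(t⁻¹ ^ 2 * u)))
    (rel2 : ∀ t u, t ≠ 0 →
      y t * x (-t⁻¹) * y t * y u * (y t * x (-t⁻¹) * y t)⁻¹ = x (-(t⁻¹ ^ 2 * u))) :
    ∃ ψ : Matrix.SpecialLinearGroup (Fin 2) K →* G,
      (∀ t, ψ (st2X K t) = x t) ∧ (∀ t, ψ (st2Y K t) = y t) := by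
  obtain ⟨e, hex, hey⟩ : ∃ e : PresentedGroup (st2Rels K) ≃* Matrix.SpecialLinearGroup (Fin 2) K,
      (∀ t : K, ((e (PresentedGroup.of (true, t)) : Matrix (Fin 2) (Fin 2) K)) = !![1, t; 0, 1]) ∧
      (∀ t : K, ((e (PresentedGroup.of (false, t)) : Matrix (Fin 2) (Fin 2) K)) = !![1, 0; t, 1]) :=
    st2_presentation
  let f : Bool × K → G := fun p => match p with
    | (true, t) => x t
    | (false, t) => y t
  have hf : ∀ r ∈ st2Rels K, FreeGroup.lift f r = 1 := by
    rintro r (⟨b, t, u, rfl⟩ | ⟨b, t, u, ht, rfl⟩)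
    · simp only [map_mul, map_inv, FreeGroup.lift_apply_of]
      rw [mul_inv_eq_one]
      cases b
      · exact y_add t u
      · exact x_add t u
    · simp only [map_mul, map_inv, FreeGroup.lift_apply_of]
      rw [mul_inv_eq_one]
      cases b
      · exact rel2 t u ht
      · exact rel1 t u ht
  let ψ0 : PresentedGroup (st2Rels K) →* G := PresentedGroup.toGroup hf
  refine ⟨ψ0.comp e.symm.toMonoidHom, fun t => ?_, fun t => ?_⟩
  · have h1 : e.symm (st2X K t) = PresentedGroup.of (true, t) := by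
      rw [MulEquiv.symm_apply_eq]
      exact Subtype.ext (hex t).symm
    show ψ0 (e.symm (st2X K t)) = x t
    rw [h1]
    exact PresentedGroup.toGroup.of hf
  · have h1 : e.symm (st2Y K t) = PresentedGroup.of (false, t) := by
      rw [MulEquiv.symm_apply_eq]
      exact Subtype.ext (hey t).symm
    show ψ0 (e.symm (st2Y K t)) = y t
    rw [h1]
    exact PresentedGroup.toGroup.of hf

/-- The Weyl element of `SL₂`. -/
def st2W (K : Type*) [Field K] : Matrix.SpecialLinearGroup (Fin 2) K :=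
  ⟨!![0, 1; -1, 0], by simp [Matrix.det_fin_two]⟩

/-- The diagonal elements of `SL₂`. -/
def st2D (K : Type*) [Field K] (c : Kˣ) : Matrix.SpecialLinearGroup (Fin 2) K :=
  ⟨!![(c : K), 0; 0, ((c⁻¹ : Kˣ) : K)], by simp [Matrix.det_fin_two]⟩

variable {K : Type*} [Field K]

theorem st2W_eq : st2W K = st2X K 1 * st2Y K (-(1 : K)⁻¹) * st2X K 1 := by
  apply Subtype.ext
  simp only [Matrix.SpecialLinearGroup.coe_mul]
  ext i j
  fin_cases i <;> fin_cases j <;>
    simp [st2X, st2Y, st2W, Matrix.mul_apply, Fin.sum_univ_two]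

theorem st2D_mul_w (c : Kˣ) :
    st2D K c * (st2X K 1 * st2Y K (-(1 : K)⁻¹) * st2X K 1) =
      st2X K c * st2Y K (-(c : K)⁻¹) * st2X K c := by
  apply Subtype.ext
  simp only [Matrix.SpecialLinearGroup.coe_mul]
  ext i j
  fin_cases i <;> fin_cases j <;>
    simp [st2X, st2Y, st2D, Matrix.mul_apply, Fin.sum_univ_two]

theorem st2D_mul (c d : Kˣ) : st2D K c * st2D K d = st2D K (c * d) := by
  apply Subtype.ext
  simp only [Matrix.SpecialLinearGroup.coe_mul]
  ext i j
  fin_cases i <;> fin_cases j <;>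
    simp [st2D, Matrix.mul_apply, Fin.sum_univ_two, mul_comm]

theorem st2D_one : st2D K 1 = 1 := by
  apply Subtype.ext
  ext i j
  fin_cases i <;> fin_cases j <;> simp [st2D]

theorem st2W_mul_x (t : K) : st2W K * st2X K t = st2Y K (-t) * st2W K := by
  apply Subtype.ext
  simp only [Matrix.SpecialLinearGroup.coe_mul]
  ext i j
  fin_cases i <;> fin_cases j <;>
    simp [st2X, st2Y, st2W, Matrix.mul_apply, Fin.sum_univ_two]

theorem st2W_mul_y (t : K) : st2W K * st2Y K t = st2X K (-t) * st2W K := by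
  apply Subtype.ext
  simp only [Matrix.SpecialLinearGroup.coe_mul]
  ext i j
  fin_cases i <;> fin_cases j <;>
    simp [st2X, st2Y, st2W, Matrix.mul_apply, Fin.sum_univ_two]

theorem st2Wt_mul_y (t u : K) (ht : t ≠ 0) :
    st2X K t * st2Y K (-t⁻¹) * st2X K t * st2Y K u =
      st2X K (-(t ^ 2 * u)) * (st2X K t * st2Y K (-t⁻¹) * st2X K t) := by
  apply Subtype.ext
  simp only [Matrix.SpecialLinearGroup.coe_mul]
  ext i j
  fin_cases i <;> fin_cases j <;>
    simp [st2X, st2Y, Matrix.mul_apply, Fin.sum_univ_two, ht] <;> field_simp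

/-- The Bruhat-type decomposition of `SL₂` relative to the lower triangular subgroup. -/
theorem st2_decomp (A : Matrix.SpecialLinearGroup (Fin 2) K) :
    (∃ (u s : K) (c : Kˣ), A = st2X K u * (st2Y K s * st2D K c)) ∨
    (∃ (s : K) (c : Kˣ), A = st2W K * (st2Y K s * st2D K c)) := by
  have hdet : A.1 0 0 * A.1 1 1 - A.1 0 1 * A.1 1 0 = 1 := by
    have := A.2
    rwa [Matrix.det_fin_two] at this
  by_cases hd : A.1 1 1 = 0
  · right
    have hbc : A.1 0 1 * A.1 1 0 = -1 := by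
      rw [hd, mul_zero, zero_sub] at hdet
      exact neg_eq_iff_eq_neg.mp hdet
    have hc : A.1 1 0 ≠ 0 := by
      intro h
      rw [h, mul_zero] at hbc
      exact one_ne_zero (neg_eq_zero.mp hbc.symm)
    have hb : A.1 0 1 = -(A.1 1 0)⁻¹ := by
      field_simp
      exact hbc
    refine ⟨A.1 0 0 * A.1 0 1, Units.mk0 (-(A.1 1 0)) (neg_ne_zero.mpr hc), ?_⟩
    apply Subtype.ext
    simp only [Matrix.SpecialLinearGroup.coe_mul]
    ext i j
    fin_cases i <;> fin_cases j
    · simp [st2Y, st2W, st2D, Matrix.mul_apply, Fin.sum_univ_two]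
      rw [mul_assoc, ← mul_neg, hbc, neg_neg, mul_one]
    · simp [st2Y, st2W, st2D, Matrix.mul_apply, Fin.sum_univ_two]
      rw [hb]
    · simp [st2Y, st2W, st2D, Matrix.mul_apply, Fin.sum_univ_two]
    · simp [st2Y, st2W, st2D, Matrix.mul_apply, Fin.sum_univ_two]
      exact hd
  · left
    refine ⟨A.1 0 1 * (A.1 1 1)⁻¹, A.1 1 0 * A.1 1 1, Units.mk0 ((A.1 1 1)⁻¹) (inv_ne_zero hd), ?_⟩
    have ha : A.1 0 0 = (1 + A.1 0 1 * A.1 1 0) * (A.1 1 1)⁻¹ := by
      field_simp
      linear_combination hdet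
    apply Subtype.ext
    simp only [Matrix.SpecialLinearGroup.coe_mul]
    ext i j
    fin_cases i <;> fin_cases j
    · simp [st2X, st2Y, st2D, Matrix.mul_apply, Fin.sum_univ_two]
      rw [ha]
      field_simp
    · simp [st2X, st2Y, st2D, Matrix.mul_apply, Fin.sum_univ_two]
      field_simp
    · simp [st2X, st2Y, st2D, Matrix.mul_apply, Fin.sum_univ_two]
      field_simp
    · simp [st2X, st2Y, st2D, Matrix.mul_apply, Fin.sum_univ_two]

end Lift

namespace StData

variable {I K G : Type*} [Field K] [Finite K] [Group G] (D : StData I K G)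

theorem exists_psi {i j : I} (hij : i ≠ j) :
    ∃ ψ : Matrix.SpecialLinearGroup (Fin 2) K →* G,
      (∀ t, ψ (st2X K t) = D.X i j t) ∧ (∀ t, ψ (st2Y K t) = D.X j i t) := by
  refine st2_lift (D.X i j) (D.X j i) (D.add i j hij) (D.add j i hij.symm) ?_ ?_
  · intro t u ht
    have h := D.wt_rel hij t u ht
    rw [MulAut.conj_apply] at h
    exact h
  · intro t u ht
    have h := D.wt_rel hij.symm t u ht
    rw [MulAut.conj_apply] at h
    exact h

/-- The rank-one homomorphism attached to the pair `(i, j)`. -/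
noncomputable def psi (i j : I) : Matrix.SpecialLinearGroup (Fin 2) K →* G :=
  @dite _ (i ≠ j) (Classical.propDecidable _) (fun h => Classical.choose (D.exists_psi h))
    (fun _ => 1)

theorem psi_x {i j : I} (h : i ≠ j) (t : K) : D.psi i j (st2X K t) = D.X i j t := by
  unfold psi
  rw [dif_pos h]
  exact (Classical.choose_spec (D.exists_psi h)).1 t

theorem psi_y {i j : I} (h : i ≠ j) (t : K) : D.psi i j (st2Y K t) = D.X j i t := by
  unfold psi
  rw [dif_pos h]
  exact (Classical.choose_spec (D.exists_psi h)).2 t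

theorem psi_wt {i j : I} (h : i ≠ j) (t : K) :
    D.psi i j (st2X K t * st2Y K (-t⁻¹) * st2X K t) = D.wt i j t := by
  rw [map_mul, map_mul, D.psi_x h, D.psi_y h]
  rfl

theorem psi_w {i j : I} (h : i ≠ j) : D.psi i j (st2W K) = D.wt i j 1 := by
  rw [st2W_eq, D.psi_wt h]

/-- The torus elements `h_ij(c)`. -/
noncomputable def hh (i j : I) (c : Kˣ) : G := D.psi i j (st2D K c)

theorem hh_eq {i j : I} (h : i ≠ j) (c : Kˣ) :
    D.hh i j c = D.wt i j c * (D.wt i j 1)⁻¹ := by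
  rw [eq_mul_inv_iff_mul_eq]
  have h1 := congrArg (D.psi i j) (st2D_mul_w c)
  rw [map_mul, D.psi_wt h, D.psi_wt h] at h1
  exact h1

theorem hh_mul (i j : I) (c d : Kˣ) : D.hh i j c * D.hh i j d = D.hh i j (c * d) := by
  unfold hh
  rw [← map_mul, st2D_mul]

theorem hh_one (i j : I) : D.hh i j 1 = 1 := by
  unfold hh
  rw [st2D_one, map_one]

theorem hh_inv (i j : I) (c : Kˣ) : (D.hh i j c)⁻¹ = D.hh i j c⁻¹ := by
  rw [inv_eq_iff_mul_eq_one, D.hh_mul, mul_inv_cancel, D.hh_one]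

theorem psi_decomp {i j : I} (h : i ≠ j) (A : Matrix.SpecialLinearGroup (Fin 2) K) :
    (∃ (u s : K) (c : Kˣ), D.psi i j A = D.X i j u * (D.X j i s * D.hh i j c)) ∨
    (∃ (s : K) (c : Kˣ), D.psi i j A = D.wt i j 1 * (D.X j i s * D.hh i j c)) := by
  rcases st2_decomp A with ⟨u, s, c, rfl⟩ | ⟨s, c, rfl⟩
  · exact Or.inl ⟨u, s, c, by rw [map_mul, map_mul, D.psi_x h, D.psi_y h]; rfl⟩
  · exact Or.inr ⟨s, c, by rw [map_mul, map_mul, D.psi_w h, D.psi_y h]; rfl⟩

theorem wt_conj [DecidableEq I] {i j : I} (hij : i ≠ j) (t : K) (ht : t ≠ 0) {a b : I}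
    (hab : a ≠ b) :
    ∃ ε : K, ε ≠ 0 ∧ ∀ u, MulAut.conj (D.wt i j t) (D.X a b u) =
      D.X (Equiv.swap i j a) (Equiv.swap i j b) (ε * u) := by
  have hti : t⁻¹ ≠ 0 := inv_ne_zero ht
  by_cases hai : a = i
  · by_cases hbj : b = j
    · refine ⟨-(t⁻¹ ^ 2), neg_ne_zero.mpr (pow_ne_zero 2 hti), fun u => ?_⟩
      rw [hai, hbj, Equiv.swap_apply_left, Equiv.swap_apply_right, D.wt_rel hij t u ht, neg_mul]
    · have hbi : b ≠ i := fun h => hab (hai.trans h.symm)
      refine ⟨-t⁻¹, neg_ne_zero.mpr hti, fun u => ?_⟩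
      rw [hai, Equiv.swap_apply_left, Equiv.swap_apply_of_ne_of_ne hbi hbj,
        D.wt_a hij hbi.symm (Ne.symm hbj) t u ht, neg_mul]
  · by_cases haj : a = j
    · by_cases hbi : b = i
      · refine ⟨-(t ^ 2), neg_ne_zero.mpr (pow_ne_zero 2 ht), fun u => ?_⟩
        rw [haj, hbi, Equiv.swap_apply_left, Equiv.swap_apply_right, MulAut.conj_apply,
          ← D.psi_wt hij t, ← D.psi_y hij u, ← map_mul, st2Wt_mul_y t u ht, map_mul,
          D.psi_x hij, mul_inv_cancel_right, neg_mul]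
      · have hbj : b ≠ j := fun h => hab (haj.trans h.symm)
        refine ⟨t, ht, fun u => ?_⟩
        rw [haj, Equiv.swap_apply_right, Equiv.swap_apply_of_ne_of_ne hbi hbj,
          D.wt_b hij (Ne.symm hbi) (Ne.symm hbj) t u ht]
    · by_cases hbi : b = i
      · refine ⟨-t, neg_ne_zero.mpr ht, fun u => ?_⟩
        rw [hbi, Equiv.swap_apply_of_ne_of_ne hai haj, Equiv.swap_apply_left,
          D.wt_c hij (Ne.symm hai) (Ne.symm haj) t u ht, neg_mul]
      · by_cases hbj : b = j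
        · refine ⟨t⁻¹, hti, fun u => ?_⟩
          rw [hbj, Equiv.swap_apply_of_ne_of_ne hai haj, Equiv.swap_apply_right,
            D.wt_d hij (Ne.symm hai) (Ne.symm haj) t u ht]
        · refine ⟨1, one_ne_zero, fun u => ?_⟩
          rw [Equiv.swap_apply_of_ne_of_ne hai haj, Equiv.swap_apply_of_ne_of_ne hbi hbj,
            one_mul, D.wt_comm hij hab hai haj hbi hbj]

theorem wt_conj_inv [DecidableEq I] {i j : I} (hij : i ≠ j) (t : K) (ht : t ≠ 0) {a b : I}
    (hab : a ≠ b) :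
    ∃ ε : K, ε ≠ 0 ∧ ∀ u, MulAut.conj (D.wt i j t)⁻¹ (D.X a b u) =
      D.X (Equiv.swap i j a) (Equiv.swap i j b) (ε * u) := by
  have hab' : Equiv.swap i j a ≠ Equiv.swap i j b := (Equiv.swap i j).injective.ne hab
  obtain ⟨ε, hε, h⟩ := D.wt_conj hij t ht hab'
  refine ⟨ε⁻¹, inv_ne_zero hε, fun u => ?_⟩
  have h1 := h (ε⁻¹ * u)
  rw [Equiv.swap_apply_self, Equiv.swap_apply_self, mul_inv_cancel_left₀ hε] at h1
  rw [← h1, map_inv, MulAut.inv_apply_self]

theorem hh_conj [DecidableEq I] {i j : I} (hij : i ≠ j) (c : Kˣ) {a b : I} (hab : a ≠ b) :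
    ∃ ε : K, ε ≠ 0 ∧ ∀ u, MulAut.conj (D.hh i j c) (D.X a b u) = D.X a b (ε * u) := by
  have hab' : Equiv.swap i j a ≠ Equiv.swap i j b := (Equiv.swap i j).injective.ne hab
  obtain ⟨ε₁, hε₁, h1⟩ := D.wt_conj_inv hij 1 one_ne_zero hab
  obtain ⟨ε₂, hε₂, h2⟩ := D.wt_conj hij (c : K) c.ne_zero hab'
  refine ⟨ε₂ * ε₁, mul_ne_zero hε₂ hε₁, fun u => ?_⟩
  rw [D.hh_eq hij, map_mul, MulAut.mul_apply, h1, h2, Equiv.swap_apply_self,
    Equiv.swap_apply_self, mul_assoc]

end StData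

end Cfsg.Agent.Lib.helper44
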