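import Mathlib
import Cfsg.Agent.Lib.helper44.PresDefs
import Cfsg.Agent.Lib.helper44.StNA

/-!
# A presentation of `SL₃(q)` on four generators with fourteen relations: definitions

Generators `u = x₁₂(1)`, `h = diag(ω, 1, ω⁻¹)`, `c` = the permutation matrix of a 3-cycle, and a
dummy generator `g`.  `relsGen`, `relsFour`, `relsPrime` are the relator lists (as words in an
arbitrary group); `IsA2Conf` packages the Steinberg relations of type `A₂` at the orbit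
representatives of `c`; `rootX` are the six root maps.
-/

set_option autoImplicit false

namespace Cfsg.Agent.Lib.helper44.SL3

open Polynomial

/-- The commutator `a b a⁻¹ b⁻¹`. -/
def cm {G : Type*} [Group G] (a b : G) : G := a * b * a⁻¹ * b⁻¹

section Abstract

variable {G : Type*} [Group G] {F : Type*} [Field F]

/-- `y(b) = c x(b) c⁻¹` (the root group `X₂₃`). -/
def yy (x : F → G) (c : G) (b : F) : G := c * x b * c⁻¹

/-- The commutator pairing `cm (x a) (y b)`. -/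
def zz (x : F → G) (c : G) (a b : F) : G := cm (x a) (yy x c b)

/-- `Z(a) = [x(a), y(1)]` (the root group `X₁₃`). -/
def ZZ (x : F → G) (c : G) (a : F) : G := zz x c a 1

/-- `W(a) = c² Z(a) c⁻²` (the root group `X₃₂`). -/
def WW (x : F → G) (c : G) (a : F) : G := c * c * ZZ x c a * (c * c)⁻¹

/-- The six root maps (indices in `Fin 3`; `X i (i+1) = cⁱ x c⁻ⁱ`, `X i (i+2) = cⁱ Z c⁻ⁱ`). -/
def rootX (x : F → G) (c : G) (i j : Fin 3) (a : F) : G :=
  if j = i + 1 then c ^ (i : ℕ) * x a * (c ^ (i : ℕ))⁻¹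
  else if j = i + 2 then c ^ (i : ℕ) * ZZ x c a * (c ^ (i : ℕ))⁻¹
  else 1

/-- The subgroup generated by the root elements. -/
def rootE (x : F → G) (c : G) : Subgroup G :=
  Subgroup.closure {g : G | ∃ (a b : Fin 3) (t : F), a ≠ b ∧ g = rootX x c a b t}

/-- The Steinberg relations of type `A₂` at the orbit representatives of `c`. -/
structure IsA2Conf (x : F → G) (c : G) : Prop where
  x_add : ∀ a b, x (a + b) = x a * x b
  c3 : c * c * c = 1
  row : ∀ a b, Commute (x a) (ZZ x c b)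
  col : ∀ a b, Commute (yy x c a) (ZZ x c b)
  bp : ∀ a b, zz x c a b = ZZ x c (a * b)
  bm : ∀ a b, cm (ZZ x c a) (WW x c b) = x (a * b)

/-- The base configuration: a parametrised root group `x`, the torus element `h` and the
3-cycle `c`. -/
structure IsBase (x : F → G) (h c : G) (ω : F) : Prop where
  x_add : ∀ a b, x (a + b) = x a * x b
  c3 : c * c * c = 1
  h_x : ∀ a, h * x a * h⁻¹ = x (ω * a)
  k'_x : ∀ a, (c * c * h * (c * c)⁻¹) * x a * (c * c * h * (c * c)⁻¹)⁻¹ = x (ω * a)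
  hk : Commute h (c * h * c⁻¹)
  hkk : h * (c * h * c⁻¹) * (c * c * h * (c * c)⁻¹) = 1
  ω0 : ω ≠ 0

/-- Abstract torus configuration for a pair of root maps `x`, `y`. -/
structure IsTor1 (x y : F → G) (h g d : G) (ω κ : F) : Prop where
  x_add : ∀ a b, x (a + b) = x a * x b
  y_add : ∀ a b, y (a + b) = y a * y b
  h_x : ∀ a, h * x a * h⁻¹ = x (ω * a)
  h_y : ∀ a, h * y a * h⁻¹ = y (ω * a)
  g_x : ∀ a, g * x a * g⁻¹ = x (κ * a)
  g_y : ∀ a, g * y a * g⁻¹ = y a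
  d_x : ∀ a, d * x a * d⁻¹ = x (κ * a)
  d_y : ∀ a, d⁻¹ * y a * d = y (κ * a)
  hd : Commute h d
  gd : Commute g d
  z_x : Commute (x 1) (cm (x 1) (y 1))
  z_y : Commute (y 1) (cm (x 1) (y 1))
  z_d : Commute d (cm (x 1) (y 1))

end Abstract

section Words

variable {G : Type*} [Group G]

/-- `c u c⁻¹`. -/
def wy (u c : G) : G := c * u * c⁻¹
/-- `[u, c u c⁻¹]`. -/
def wz (u c : G) : G := cm (u) (c * u * c⁻¹)
/-- `c h c⁻¹`. -/
def wk (h c : G) : G := c * h * c⁻¹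
/-- `c² h c⁻²`. -/
def wk' (h c : G) : G := c * c * h * (c * c)⁻¹
/-- The Weyl word `w₂₁`. -/
def w21 (u c : G) : G := (c * wz u c * c⁻¹) * u⁻¹ * (c * wz u c * c⁻¹)
/-- `[h u h⁻¹, c u c⁻¹]`. -/
def wZω (u h c : G) : G := cm (h * u * h⁻¹) (c * u * c⁻¹)
/-- The torus word `h₁₃(ω)`. -/
def w12 (u h c : G) : G :=
  wZω u h c * (c * c * (h⁻¹ * u⁻¹ * h) * (c * c)⁻¹) * wZω u h c * (wz u c)⁻¹ *
    (c * c * u * (c * c)⁻¹) * (wz u c)⁻¹

/-- The fourteen relators, generic case (`q ≥ 5`). -/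
def relsGen (p j : ℕ) (m : (ZMod p)[X]) (u h c g : G) : List G :=
  [cm (u) (h * u * h⁻¹),
   h ^ j * u * (h ^ j)⁻¹ * (u * (h * u * h⁻¹))⁻¹,
   Pres.polyWord h u m,
   u ^ p * (h * wk h c * wk' h c)⁻¹,
   c * c * c,
   cm (h) (wk h c),
   cm (h⁻¹ * wk' h c) (u),
   cm (u) (wz u c),
   cm (wy u c) (wz u c),
   cm (wz u c) (c * c * wz u c * (c * c)⁻¹) * u⁻¹,
   cm (wk' h c * (wk h c)⁻¹) (wz u c),
   h * (w12 u h c)⁻¹,
   c * (w21 u c * (c * w21 u c * c⁻¹))⁻¹,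
   g]

/-- The eight relators, prime field case. -/
def relsPrime (p : ℕ) (u h c g : G) : List G :=
  [u ^ p, h, g, c * c * c, cm (u) (wz u c), cm (wy u c) (wz u c),
   cm (wz u c) (c * c * wz u c * (c * c)⁻¹) * u⁻¹,
   c * (w21 u c * (c * w21 u c * c⁻¹))⁻¹]

/-- The fourteen relators, `q = 4`. -/
def relsFour (u h c g : G) : List G :=
  [cm (u) (h * u * h⁻¹),
   h ^ 2 * u * (h ^ 2)⁻¹ * (u * (h * u * h⁻¹))⁻¹,
   u ^ 2 * (h * wk h c * wk' h c)⁻¹,
   c * c * c,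
   cm (h) (wk h c),
   cm (h⁻¹ * wk' h c) (u),
   wZω u h c * (cm (u) (c * (h * u * h⁻¹) * c⁻¹))⁻¹,
   wZω u h c * wZω u h c,
   h * wz u c * h⁻¹ * (wz u c * wZω u h c)⁻¹,
   cm (wz u c) (c * c * wz u c * (c * c)⁻¹) * u⁻¹,
   cm (wz u c) (c * c * wZω u h c * (c * c)⁻¹) * (h * u * h⁻¹)⁻¹,
   h * (w12 u h c)⁻¹,
   c * (w21 u c * (c * w21 u c * c⁻¹))⁻¹,
   g]

end Words

section Mat

/-- `x₁₂(a)` in `SL₃(F)`. -/
def mX01 (F : Type*) [Field F] (a : F) : Matrix.SpecialLinearGroup (Fin 3) F :=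
  Matrix.SpecialLinearGroup.transvection (show (0 : Fin 3) ≠ 1 by decide) a

/-- The permutation matrix of the 3-cycle `e₀ ↦ e₁ ↦ e₂ ↦ e₀`. -/
def mC (F : Type*) [Field F] : Matrix.SpecialLinearGroup (Fin 3) F :=
  ⟨!![0, 0, 1; 1, 0, 0; 0, 1, 0], by simp [Matrix.det_fin_three]⟩

/-- The torus element `diag(ω, 1, ω⁻¹)`. -/
def mH3 {F : Type*} [Field F] (ω : Fˣ) : Matrix.SpecialLinearGroup (Fin 3) F :=
  ⟨!![(ω : F), 0, 0; 0, 1, 0; 0, 0, ((ω⁻¹ : Fˣ) : F)], by simp [Matrix.det_fin_three]⟩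

end Mat

end Cfsg.Agent.Lib.helper44.SL3
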