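import Mathlib
import Cfsg.Agent.Lib.helper44.StNA

/-!
# Abstract Steinberg data of type `A`: the parabolic decomposition

For a finite set `J` of indices, a further index `k ∉ J` and `i0 ∈ J` we show that the subgroup
`LL (insert k J)` generated by the root elements with indices in `insert k J` is covered by the
"big cell" `RR J k * PP J k i0` and the translates `LL J * w * PP J k i0`.
-/

set_option autoImplicit false
set_option linter.unusedSectionVars false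
set_option linter.unusedVariables false

namespace Cfsg.Agent.Lib.helper44

section General

variable {G : Type*} [Group G]

theorem conj_closure_le (g : G) (t : Set G) (H : Subgroup G) (h : ∀ x ∈ t, g * x * g⁻¹ ∈ H) :
    ∀ x ∈ Subgroup.closure t, g * x * g⁻¹ ∈ H := by
  have h1 : Subgroup.closure t ≤ H.comap (MulAut.conj g).toMonoidHom := by
    rw [Subgroup.closure_le]
    intro x hx
    exact h x hx
  intro x hx
  exact h1 hx

theorem conj_closure_closure (s t : Set G) (hs : ∀ g ∈ s, g⁻¹ ∈ s)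
    (h : ∀ g ∈ s, ∀ x ∈ t, g * x * g⁻¹ ∈ Subgroup.closure t) :
    ∀ g ∈ Subgroup.closure s, ∀ x ∈ Subgroup.closure t, g * x * g⁻¹ ∈ Subgroup.closure t := by
  intro g hg
  induction hg using Subgroup.closure_induction'' with
  | mem g hg => exact conj_closure_le g t _ (h g hg)
  | inv_mem g hg => exact conj_closure_le g⁻¹ t _ (h g⁻¹ (hs g hg))
  | one =>
    intro x hx
    simpa using hx
  | mul a b ha hb iha ihb =>
    intro x hx
    have h2 := iha _ (ihb x hx)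
    have e : a * b * x * (a * b)⁻¹ = a * (b * x * b⁻¹) * a⁻¹ := by group
    rw [e]
    exact h2

end General

namespace StData

variable {I K G : Type*} [Field K] [Group G] (D : StData I K G) [DecidableEq I]

/-- Generators of the Levi-type subgroup on the index set `J`. -/
def Lg (J : Finset I) : Set G := {g | ∃ a b t, a ∈ J ∧ b ∈ J ∧ a ≠ b ∧ g = D.X a b t}

/-- Generators of the "column" root subgroups into `k`. -/
def Rg (J : Finset I) (k : I) : Set G := {g | ∃ l t, l ∈ J ∧ g = D.X l k t}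

/-- Generators of the "row" root subgroups out of `k`. -/
def Yg (J : Finset I) (k : I) : Set G := {g | ∃ l t, l ∈ J ∧ g = D.X k l t}

/-- The subgroup generated by the root elements with indices in `J`. -/
def LL (J : Finset I) : Subgroup G := Subgroup.closure (D.Lg J)

/-- The subgroup generated by the `X l k t`, `l ∈ J`. -/
def RR (J : Finset I) (k : I) : Subgroup G := Subgroup.closure (D.Rg J k)

/-- The subgroup generated by the `X k l t`, `l ∈ J`. -/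
def YY (J : Finset I) (k : I) : Subgroup G := Subgroup.closure (D.Yg J k)

variable {J : Finset I} {k : I}

theorem Lg_inv {g : G} (hg : g ∈ D.Lg J) : g⁻¹ ∈ D.Lg J := by
  obtain ⟨a, b, t, ha, hb, hab, rfl⟩ := hg
  exact ⟨a, b, -t, ha, hb, hab, (D.X_neg hab t).symm⟩

theorem Rg_inv (hk : k ∉ J) {g : G} (hg : g ∈ D.Rg J k) : g⁻¹ ∈ D.Rg J k := by
  obtain ⟨l, t, hl, rfl⟩ := hg
  exact ⟨l, -t, hl, (D.X_neg (ne_of_mem_of_not_mem hl hk) t).symm⟩

theorem Yg_inv (hk : k ∉ J) {g : G} (hg : g ∈ D.Yg J k) : g⁻¹ ∈ D.Yg J k := by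
  obtain ⟨l, t, hl, rfl⟩ := hg
  exact ⟨l, -t, hl, (D.X_neg (ne_of_mem_of_not_mem hl hk).symm t).symm⟩

theorem L_norm_R (hk : k ∉ J) :
    ∀ a ∈ D.LL J, ∀ r ∈ D.RR J k, a * r * a⁻¹ ∈ D.RR J k := by
  apply conj_closure_closure (D.Lg J) (D.Rg J k) (fun g hg => D.Lg_inv hg)
  rintro _ ⟨a, b, t, ha, hb, hab, rfl⟩ _ ⟨l, u, hl, rfl⟩
  have hak : a ≠ k := ne_of_mem_of_not_mem ha hk
  have hbk : b ≠ k := ne_of_mem_of_not_mem hb hk
  have hlk : l ≠ k := ne_of_mem_of_not_mem hl hk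
  by_cases hbl : b = l
  · have h1 := D.cj_right hab hbk hak t u
    rw [MulAut.conj_apply] at h1
    rw [← hbl, h1]
    exact mul_mem (Subgroup.subset_closure ⟨a, _, ha, rfl⟩)
      (Subgroup.subset_closure ⟨b, _, hb, rfl⟩)
  · have h1 := D.cj_comm hab hlk hak hbl t u
    rw [MulAut.conj_apply] at h1
    rw [h1]
    exact Subgroup.subset_closure ⟨l, u, hl, rfl⟩

theorem L_norm_Y (hk : k ∉ J) :
    ∀ a ∈ D.LL J, ∀ y ∈ D.YY J k, a * y * a⁻¹ ∈ D.YY J k := by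
  apply conj_closure_closure (D.Lg J) (D.Yg J k) (fun g hg => D.Lg_inv hg)
  rintro _ ⟨a, b, t, ha, hb, hab, rfl⟩ _ ⟨l, u, hl, rfl⟩
  have hak : a ≠ k := ne_of_mem_of_not_mem ha hk
  have hbk : b ≠ k := ne_of_mem_of_not_mem hb hk
  have hlk : l ≠ k := ne_of_mem_of_not_mem hl hk
  by_cases hal : a = l
  · have h1 := D.cj_left hlk.symm (hal ▸ hab) hbk.symm u t
    rw [MulAut.conj_apply] at h1
    rw [hal, h1]
    exact mul_mem (Subgroup.subset_closure ⟨b, _, hb, rfl⟩)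
      (Subgroup.subset_closure ⟨l, _, hl, rfl⟩)
  · have h1 := D.cj_comm hab hlk.symm hal hbk t u
    rw [MulAut.conj_apply] at h1
    rw [h1]
    exact Subgroup.subset_closure ⟨l, u, hl, rfl⟩

theorem R_split (hk : k ∉ J) {l0 : I} (hl0 : l0 ∈ J) :
    ∀ r ∈ D.RR J k, ∃ r' ∈ D.RR (J.erase l0) k, ∃ t, r = r' * D.X l0 k t := by
  have hl0k : l0 ≠ k := ne_of_mem_of_not_mem hl0 hk
  have key : ∀ r' ∈ D.RR (J.erase l0) k, ∀ t, ∀ x ∈ D.Rg J k,
      ∃ r'' ∈ D.RR (J.erase l0) k, ∃ t', r' * D.X l0 k t * x = r'' * D.X l0 k t' := by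
    rintro r' hr' t _ ⟨l, u, hl, rfl⟩
    have hlk : l ≠ k := ne_of_mem_of_not_mem hl hk
    by_cases hll : l = l0
    · rw [hll]
      exact ⟨r', hr', t + u, by rw [mul_assoc, D.add l0 k hl0k]⟩
    · refine ⟨r' * D.X l k u, mul_mem hr' (Subgroup.subset_closure
        ⟨l, u, Finset.mem_erase.mpr ⟨hll, hl⟩, rfl⟩), t, ?_⟩
      rw [mul_assoc, D.comm l0 k l k hl0k hlk hl0k hlk.symm t u, ← mul_assoc]
  intro r hr
  induction hr using Subgroup.closure_induction_right with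
  | one => exact ⟨1, one_mem _, 0, by rw [D.X_zero hl0k, mul_one]⟩
  | mul_right a ha b hb ih =>
    obtain ⟨r', hr', t, rfl⟩ := ih
    exact key r' hr' t b hb
  | mul_inv_cancel a ha b hb ih =>
    obtain ⟨r', hr', t, rfl⟩ := ih
    exact key r' hr' t b⁻¹ (D.Rg_inv hk hb)

theorem Y_split (hk : k ∉ J) {l0 : I} (hl0 : l0 ∈ J) :
    ∀ y ∈ D.YY J k, ∃ y' ∈ D.YY (J.erase l0) k, ∃ t, y = y' * D.X k l0 t := by
  have hl0k : l0 ≠ k := ne_of_mem_of_not_mem hl0 hk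
  have key : ∀ y' ∈ D.YY (J.erase l0) k, ∀ t, ∀ x ∈ D.Yg J k,
      ∃ y'' ∈ D.YY (J.erase l0) k, ∃ t', y' * D.X k l0 t * x = y'' * D.X k l0 t' := by
    rintro y' hy' t _ ⟨l, u, hl, rfl⟩
    have hlk : l ≠ k := ne_of_mem_of_not_mem hl hk
    by_cases hll : l = l0
    · rw [hll]
      exact ⟨y', hy', t + u, by rw [mul_assoc, D.add k l0 hl0k.symm]⟩
    · refine ⟨y' * D.X k l u, mul_mem hy' (Subgroup.subset_closure
        ⟨l, u, Finset.mem_erase.mpr ⟨hll, hl⟩, rfl⟩), t, ?_⟩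
      rw [mul_assoc, D.comm k l0 k l hl0k.symm hlk.symm hlk.symm hl0k t u, ← mul_assoc]
  intro y hy
  induction hy using Subgroup.closure_induction_right with
  | one => exact ⟨1, one_mem _, 0, by rw [D.X_zero hl0k.symm, mul_one]⟩
  | mul_right a ha b hb ih =>
    obtain ⟨y', hy', t, rfl⟩ := ih
    exact key y' hy' t b hb
  | mul_inv_cancel a ha b hb ih =>
    obtain ⟨y', hy', t, rfl⟩ := ih
    exact key y' hy' t b⁻¹ (D.Yg_inv hk hb)

end StData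

namespace StData

variable {I K G : Type*} [Field K] [Finite K] [Group G] (D : StData I K G) [DecidableEq I]
  (J : Finset I) (k i0 : I)

/-- The parabolic-type subgroup. -/
noncomputable def PP : Subgroup G :=
  Subgroup.closure (D.Lg J ∪ D.Yg J k ∪ Set.range (D.hh i0 k))

theorem LL_le_PP : D.LL J ≤ D.PP J k i0 :=
  Subgroup.closure_mono (fun g hg => Or.inl (Or.inl hg))

theorem YY_le_PP : D.YY J k ≤ D.PP J k i0 :=
  Subgroup.closure_mono (fun g hg => Or.inl (Or.inr hg))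

theorem hh_mem_PP (c : Kˣ) : D.hh i0 k c ∈ D.PP J k i0 :=
  Subgroup.subset_closure (Or.inr ⟨c, rfl⟩)

theorem PP_nf (hk : k ∉ J) (hi0 : i0 ∈ J) :
    ∀ p ∈ D.PP J k i0, ∃ y ∈ D.YY J k, ∃ a ∈ D.LL J, ∃ c : Kˣ, p = y * a * D.hh i0 k c := by
  have hik : i0 ≠ k := ne_of_mem_of_not_mem hi0 hk
  have key : ∀ y ∈ D.YY J k, ∀ a ∈ D.LL J, ∀ c : Kˣ,
      ∀ x ∈ D.Lg J ∪ D.Yg J k ∪ Set.range (D.hh i0 k),
      ∃ y' ∈ D.YY J k, ∃ a' ∈ D.LL J, ∃ c' : Kˣ,
        y * a * D.hh i0 k c * x = y' * a' * D.hh i0 k c' := by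
    rintro y hy a ha c x ((⟨a1, b1, t, ha1, hb1, hab1, rfl⟩ | ⟨l, t, hl, rfl⟩) | ⟨c1, rfl⟩)
    · obtain ⟨ε, hε, h⟩ := D.hh_conj hik c hab1
      have h1 := h t
      rw [MulAut.conj_apply] at h1
      refine ⟨y, hy, a * D.X a1 b1 (ε * t),
        mul_mem ha (Subgroup.subset_closure ⟨a1, b1, _, ha1, hb1, hab1, rfl⟩), c, ?_⟩
      rw [← h1]
      group
    · have hlk : l ≠ k := ne_of_mem_of_not_mem hl hk
      obtain ⟨ε, hε, h⟩ := D.hh_conj hik c hlk.symm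
      have h1 := h t
      rw [MulAut.conj_apply] at h1
      have h2 : a * D.X k l (ε * t) * a⁻¹ ∈ D.YY J k :=
        D.L_norm_Y hk a ha _ (Subgroup.subset_closure ⟨l, _, hl, rfl⟩)
      refine ⟨y * (a * D.X k l (ε * t) * a⁻¹), mul_mem hy h2, a, ha, c, ?_⟩
      rw [← h1]
      group
    · exact ⟨y, hy, a, ha, c * c1, by rw [mul_assoc, D.hh_mul]⟩
  have hinv : ∀ x ∈ D.Lg J ∪ D.Yg J k ∪ Set.range (D.hh i0 k),
      x⁻¹ ∈ D.Lg J ∪ D.Yg J k ∪ Set.range (D.hh i0 k) := by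
    rintro x ((hx | hx) | ⟨c1, rfl⟩)
    · exact Or.inl (Or.inl (D.Lg_inv hx))
    · exact Or.inl (Or.inr (D.Yg_inv hk hx))
    · exact Or.inr ⟨c1⁻¹, (D.hh_inv i0 k c1).symm⟩
  intro p hp
  induction hp using Subgroup.closure_induction_right with
  | one => exact ⟨1, one_mem _, 1, one_mem _, 1, by rw [D.hh_one, mul_one, mul_one]⟩
  | mul_right x hx b hb ih =>
    obtain ⟨y, hy, a, ha, c, rfl⟩ := ih
    exact key y hy a ha c b hb
  | mul_inv_cancel x hx b hb ih =>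
    obtain ⟨y, hy, a, ha, c, rfl⟩ := ih
    exact key y hy a ha c b⁻¹ (hinv b hb)

/-- The covering set: the big cell and the translates by the Weyl element. -/
def SS (g : G) : Prop :=
  (∃ r ∈ D.RR J k, ∃ p ∈ D.PP J k i0, g = r * p) ∨
  (∃ a ∈ D.LL J, ∃ p ∈ D.PP J k i0, g = a * D.wt i0 k 1 * p)

theorem SS_L (hk : k ∉ J) {a g : G} (ha : a ∈ D.LL J) (hg : D.SS J k i0 g) :
    D.SS J k i0 (a * g) := by
  rcases hg with ⟨r, hr, p, hp, rfl⟩ | ⟨a', ha', p, hp, rfl⟩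
  · exact Or.inl ⟨a * r * a⁻¹, D.L_norm_R hk a ha r hr, a * p,
      mul_mem (D.LL_le_PP J k i0 ha) hp, by group⟩
  · exact Or.inr ⟨a * a', mul_mem ha ha', p, hp, by simp only [mul_assoc]⟩

theorem w_conj_R (hk : k ∉ J) (hi0 : i0 ∈ J) :
    ∀ r ∈ D.RR J k, (D.wt i0 k 1)⁻¹ * r * D.wt i0 k 1 ∈ D.PP J k i0 := by
  have hik : i0 ≠ k := ne_of_mem_of_not_mem hi0 hk
  have hgen : ∀ x ∈ D.Rg J k,
      (D.wt i0 k 1)⁻¹ * x * ((D.wt i0 k 1)⁻¹)⁻¹ ∈ D.PP J k i0 := by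
    rintro _ ⟨l, u, hl, rfl⟩
    have hlk : l ≠ k := ne_of_mem_of_not_mem hl hk
    obtain ⟨ε, hε, h⟩ := D.wt_conj_inv hik 1 one_ne_zero hlk
    have h1 := h u
    rw [MulAut.conj_apply, Equiv.swap_apply_right] at h1
    rw [h1]
    by_cases hli : l = i0
    · rw [hli, Equiv.swap_apply_left]
      exact D.YY_le_PP J k i0 (Subgroup.subset_closure ⟨i0, _, hi0, rfl⟩)
    · rw [Equiv.swap_apply_of_ne_of_ne hli hlk]
      exact D.LL_le_PP J k i0 (Subgroup.subset_closure ⟨l, i0, _, hl, hi0, hli, rfl⟩)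
  intro r hr
  have h2 := conj_closure_le _ _ _ hgen r hr
  rwa [inv_inv] at h2

theorem SS_R (hk : k ∉ J) (hi0 : i0 ∈ J) {r g : G} (hr : r ∈ D.RR J k)
    (hg : D.SS J k i0 g) : D.SS J k i0 (r * g) := by
  rcases hg with ⟨r', hr', p, hp, rfl⟩ | ⟨a, ha, p, hp, rfl⟩
  · exact Or.inl ⟨r * r', mul_mem hr hr', p, hp, by rw [mul_assoc]⟩
  · have h1 : a⁻¹ * r * a ∈ D.RR J k := by
      have h0 := D.L_norm_R hk a⁻¹ (inv_mem ha) r hr
      rwa [inv_inv] at h0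
    have h2 := D.w_conj_R J k i0 hk hi0 _ h1
    exact Or.inr ⟨a, ha, (D.wt i0 k 1)⁻¹ * (a⁻¹ * r * a) * D.wt i0 k 1 * p, mul_mem h2 hp,
      by group⟩

theorem w_conj_R' (hk : k ∉ J) (hi0 : i0 ∈ J) :
    ∀ r ∈ D.RR (J.erase i0) k, D.wt i0 k 1 * r * (D.wt i0 k 1)⁻¹ ∈ D.LL J := by
  have hik : i0 ≠ k := ne_of_mem_of_not_mem hi0 hk
  apply conj_closure_le
  rintro _ ⟨l, u, hl, rfl⟩
  have hl' := Finset.mem_erase.mp hl
  have hlk : l ≠ k := ne_of_mem_of_not_mem hl'.2 hk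
  obtain ⟨ε, hε, h⟩ := D.wt_conj hik 1 one_ne_zero hlk
  have h1 := h u
  rw [MulAut.conj_apply, Equiv.swap_apply_right, Equiv.swap_apply_of_ne_of_ne hl'.1 hlk] at h1
  rw [h1]
  exact Subgroup.subset_closure ⟨l, i0, _, hl'.2, hi0, hl'.1, rfl⟩

theorem w_conj_Y (hk : k ∉ J) (hi0 : i0 ∈ J) :
    ∀ y ∈ D.YY (J.erase i0) k, (D.wt i0 k 1)⁻¹ * y * D.wt i0 k 1 ∈ D.LL J := by
  have hik : i0 ≠ k := ne_of_mem_of_not_mem hi0 hk
  have hgen : ∀ x ∈ D.Yg (J.erase i0) k,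
      (D.wt i0 k 1)⁻¹ * x * ((D.wt i0 k 1)⁻¹)⁻¹ ∈ D.LL J := by
    rintro _ ⟨l, u, hl, rfl⟩
    have hl' := Finset.mem_erase.mp hl
    have hlk : l ≠ k := ne_of_mem_of_not_mem hl'.2 hk
    obtain ⟨ε, hε, h⟩ := D.wt_conj_inv hik 1 one_ne_zero hlk.symm
    have h1 := h u
    rw [MulAut.conj_apply, Equiv.swap_apply_right, Equiv.swap_apply_of_ne_of_ne hl'.1 hlk] at h1
    rw [h1]
    exact Subgroup.subset_closure ⟨i0, l, _, hi0, hl'.2, hl'.1.symm, rfl⟩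
  intro y hy
  have h2 := conj_closure_le _ _ _ hgen y hy
  rwa [inv_inv] at h2

theorem SS_wR (hk : k ∉ J) (hi0 : i0 ∈ J) {r p : G} (hr : r ∈ D.RR J k)
    (hp : p ∈ D.PP J k i0) : D.SS J k i0 (D.wt i0 k 1 * r * p) := by
  have hik : i0 ≠ k := ne_of_mem_of_not_mem hi0 hk
  obtain ⟨r', hr', t, rfl⟩ := D.R_split hk hi0 r hr
  have ha2 := D.w_conj_R' J k i0 hk hi0 r' hr'
  have hq : ∀ (s : K) (c : Kˣ), D.X k i0 s * D.hh i0 k c ∈ D.PP J k i0 := fun s c =>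
    mul_mem (D.YY_le_PP J k i0 (Subgroup.subset_closure ⟨i0, s, hi0, rfl⟩))
      (D.hh_mem_PP J k i0 c)
  have e : D.wt i0 k 1 * (r' * D.X i0 k t) * p =
      (D.wt i0 k 1 * r' * (D.wt i0 k 1)⁻¹) * (D.psi i0 k (st2W K * st2X K t) * p) := by
    rw [map_mul, D.psi_w hik, D.psi_x hik]
    group
  rw [e]
  apply D.SS_L J k i0 hk ha2
  rcases D.psi_decomp hik (st2W K * st2X K t) with ⟨u, s, c, h⟩ | ⟨s, c, h⟩
  · rw [h]
    exact Or.inl ⟨D.X i0 k u, Subgroup.subset_closure ⟨i0, u, hi0, rfl⟩, _,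
      mul_mem (hq s c) hp, by rw [mul_assoc]⟩
  · rw [h]
    exact Or.inr ⟨1, one_mem _, _, mul_mem (hq s c) hp, by rw [one_mul, mul_assoc]⟩

theorem SS_Yw (hk : k ∉ J) (hi0 : i0 ∈ J) {y p : G} (hy : y ∈ D.YY J k)
    (hp : p ∈ D.PP J k i0) : D.SS J k i0 (y * D.wt i0 k 1 * p) := by
  have hik : i0 ≠ k := ne_of_mem_of_not_mem hi0 hk
  obtain ⟨y', hy', s, rfl⟩ := D.Y_split hk hi0 y hy
  have ha1 := D.w_conj_Y J k i0 hk hi0 y' hy'
  obtain ⟨ε, hε, h⟩ := D.wt_conj_inv hik 1 one_ne_zero hik.symm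
  have h1 := h s
  rw [MulAut.conj_apply, Equiv.swap_apply_right, Equiv.swap_apply_left, inv_inv] at h1
  have hx1 : ((D.wt i0 k 1)⁻¹ * y' * D.wt i0 k 1) * D.X i0 k (ε * s) *
      ((D.wt i0 k 1)⁻¹ * y' * D.wt i0 k 1)⁻¹ ∈ D.RR J k :=
    D.L_norm_R hk _ ha1 _ (Subgroup.subset_closure ⟨i0, _, hi0, rfl⟩)
  have e : y' * D.X k i0 s * D.wt i0 k 1 * p =
      D.wt i0 k 1 * (((D.wt i0 k 1)⁻¹ * y' * D.wt i0 k 1) * D.X i0 k (ε * s) *
      ((D.wt i0 k 1)⁻¹ * y' * D.wt i0 k 1)⁻¹) * (((D.wt i0 k 1)⁻¹ * y' * D.wt i0 k 1) * p) := by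
    rw [← h1]
    group
  rw [e]
  exact D.SS_wR J k i0 hk hi0 hx1 (mul_mem (D.LL_le_PP J k i0 ha1) hp)

theorem SS_x (hk : k ∉ J) (hi0 : i0 ∈ J) (s : K) {g : G} (hg : D.SS J k i0 g) :
    D.SS J k i0 (D.X k i0 s * g) := by
  have hik : i0 ≠ k := ne_of_mem_of_not_mem hi0 hk
  have hk' : k ∉ J.erase i0 := fun h => hk (Finset.mem_of_mem_erase h)
  have hq : ∀ (s : K) (c : Kˣ), D.X k i0 s * D.hh i0 k c ∈ D.PP J k i0 := fun s c =>
    mul_mem (D.YY_le_PP J k i0 (Subgroup.subset_closure ⟨i0, s, hi0, rfl⟩))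
      (D.hh_mem_PP J k i0 c)
  have hgen : ∀ x ∈ D.Rg (J.erase i0) k, ∀ g, D.SS J k i0 g →
      D.SS J k i0 (D.X k i0 s * x * (D.X k i0 s)⁻¹ * g) := by
    rintro _ ⟨l, u, hl, rfl⟩ g hg
    have hl' := Finset.mem_erase.mp hl
    have hlk : l ≠ k := ne_of_mem_of_not_mem hl'.2 hk
    have h1 := D.cj_left hlk hik.symm hl'.1 u s
    rw [MulAut.conj_apply] at h1
    rw [h1, mul_assoc]
    exact D.SS_L J k i0 hk (Subgroup.subset_closure ⟨l, i0, _, hl'.2, hi0, hl'.1, rfl⟩)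
      (D.SS_R J k i0 hk hi0 (Subgroup.subset_closure ⟨l, u, hl'.2, rfl⟩) hg)
  have hcl : ∀ r' ∈ D.RR (J.erase i0) k, ∀ g, D.SS J k i0 g →
      D.SS J k i0 (D.X k i0 s * r' * (D.X k i0 s)⁻¹ * g) := by
    intro r' hr'
    induction hr' using Subgroup.closure_induction'' with
    | mem x hx => exact hgen x hx
    | inv_mem x hx => exact hgen x⁻¹ (D.Rg_inv hk' hx)
    | one =>
      intro g hg
      simpa using hg
    | mul a b ha hb iha ihb =>
      intro g hg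
      have h3 := iha _ (ihb g hg)
      have e : D.X k i0 s * (a * b) * (D.X k i0 s)⁻¹ * g =
          D.X k i0 s * a * (D.X k i0 s)⁻¹ * (D.X k i0 s * b * (D.X k i0 s)⁻¹ * g) := by group
      rw [e]
      exact h3
  rcases hg with ⟨r, hr, p, hp, rfl⟩ | ⟨a, ha, p, hp, rfl⟩
  · obtain ⟨r', hr', t, rfl⟩ := D.R_split hk hi0 r hr
    have e : D.X k i0 s * (r' * D.X i0 k t * p) =
        D.X k i0 s * r' * (D.X k i0 s)⁻¹ * (D.psi i0 k (st2Y K s * st2X K t) * p) := by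
      rw [map_mul, D.psi_y hik, D.psi_x hik]
      group
    rw [e]
    apply hcl r' hr'
    rcases D.psi_decomp hik (st2Y K s * st2X K t) with ⟨u, s', c, h⟩ | ⟨s', c, h⟩
    · rw [h]
      exact Or.inl ⟨D.X i0 k u, Subgroup.subset_closure ⟨i0, u, hi0, rfl⟩, _,
        mul_mem (hq s' c) hp, by rw [mul_assoc]⟩
    · rw [h]
      exact Or.inr ⟨1, one_mem _, _, mul_mem (hq s' c) hp, by rw [one_mul, mul_assoc]⟩
  · have hy : a⁻¹ * D.X k i0 s * a ∈ D.YY J k := by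
      have h0 := D.L_norm_Y hk a⁻¹ (inv_mem ha) _ (Subgroup.subset_closure ⟨i0, s, hi0, rfl⟩)
      rwa [inv_inv] at h0
    have e : D.X k i0 s * (a * D.wt i0 k 1 * p) =
        a * (a⁻¹ * D.X k i0 s * a * D.wt i0 k 1 * p) := by group
    rw [e]
    exact D.SS_L J k i0 hk ha (D.SS_Yw J k i0 hk hi0 hy hp)

theorem SS_gen (hk : k ∉ J) (hi0 : i0 ∈ J) :
    ∀ x ∈ D.Lg (insert k J), ∀ g, D.SS J k i0 g → D.SS J k i0 (x * g) := by
  have hik : i0 ≠ k := ne_of_mem_of_not_mem hi0 hk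
  rintro _ ⟨a, b, t, ha, hb, hab, rfl⟩ g hg
  rw [Finset.mem_insert] at ha hb
  rcases ha with ha | ha
  · have hbJ : b ∈ J := by
      rcases hb with hb | hb
      · exact absurd (ha.trans hb.symm) hab
      · exact hb
    rw [ha]
    by_cases hbi : b = i0
    · rw [hbi]
      exact D.SS_x J k i0 hk hi0 t hg
    · have hbk : b ≠ k := ne_of_mem_of_not_mem hbJ hk
      have h1 := D.rel k i0 b hik.symm (Ne.symm hbi) hbk.symm t 1
      rw [mul_one] at h1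
      rw [← h1, ← D.X_neg hik.symm, ← D.X_neg (Ne.symm hbi)]
      have hL : ∀ u, D.X i0 b u ∈ D.LL J := fun u =>
        Subgroup.subset_closure ⟨i0, b, u, hi0, hbJ, Ne.symm hbi, rfl⟩
      have h2 := D.SS_x J k i0 hk hi0 t (D.SS_L J k i0 hk (hL 1)
        (D.SS_x J k i0 hk hi0 (-t) (D.SS_L J k i0 hk (hL (-1)) hg)))
      simpa only [mul_assoc] using h2
  · rcases hb with hb | hb
    · rw [hb]
      exact D.SS_R J k i0 hk hi0 (Subgroup.subset_closure ⟨a, t, ha, rfl⟩) hg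
    · exact D.SS_L J k i0 hk (Subgroup.subset_closure ⟨a, b, t, ha, hb, hab, rfl⟩) hg

theorem cover (hk : k ∉ J) (hi0 : i0 ∈ J) : ∀ g ∈ D.LL (insert k J), D.SS J k i0 g := by
  intro g hg
  induction hg using Subgroup.closure_induction_left with
  | one => exact Or.inl ⟨1, one_mem _, 1, one_mem _, (mul_one 1).symm⟩
  | mul_left x hx y hy ih => exact D.SS_gen J k i0 hk hi0 x hx y ih
  | inv_mul_cancel x hx y hy ih => exact D.SS_gen J k i0 hk hi0 x⁻¹ (D.Lg_inv hx) y ih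

end StData

end Cfsg.Agent.Lib.helper44
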