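import Mathlib
import Cfsg.Agent.Lib.helper44.StNB

/-!
# Abstract Steinberg data of type `A`: injectivity of the map to `SL_n`

A homomorphism from a group carrying Steinberg data to `SL(I, K)` (`K` a finite field) which sends
the root elements to the elementary transvections is injective on the subgroup generated by the
root elements.
-/

set_option autoImplicit false
set_option linter.unusedSectionVars false
set_option linter.unusedVariables false

namespace Cfsg.Agent.Lib.helper44

open Matrix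

section Mat

variable {I K : Type*} [Fintype I] [DecidableEq I] [Field K]

theorem tv_mulVec {i j : I} (hij : i ≠ j) (t : K) (v : I → K) :
    (Matrix.SpecialLinearGroup.transvection hij t).1 *ᵥ v = v + (t * v j) • Pi.single i 1 := by
  rw [Matrix.SpecialLinearGroup.transvection_coe, Matrix.add_mulVec, Matrix.one_mulVec]
  congr 1
  ext m
  simp [Matrix.mulVec, dotProduct, Matrix.single_apply, Pi.single_apply]
  split_ifs with h <;> simp_all [eq_comm]

theorem tv_vecMul {i j : I} (hij : i ≠ j) (t : K) (v : I → K) :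
    v ᵥ* (Matrix.SpecialLinearGroup.transvection hij t).1 = v + (t * v i) • Pi.single j 1 := by
  rw [Matrix.SpecialLinearGroup.transvection_coe, Matrix.vecMul_add, Matrix.vecMul_one]
  congr 1
  ext m
  simp [Matrix.vecMul, dotProduct, Matrix.single_apply, Pi.single_apply]
  split_ifs with h <;> simp_all [eq_comm, mul_comm]

theorem single_vecMul_self (M : Matrix I I K) (k : I) :
    ((Pi.single k 1 : I → K) ᵥ* M) k = (M *ᵥ (Pi.single k 1 : I → K)) k := by
  simp [Matrix.vecMul, Matrix.mulVec, dotProduct, Pi.single_apply]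

theorem single_vecMul_mulVec (M : Matrix I I K) (k : I) (v : I → K) :
    (M *ᵥ v) k = ((Pi.single k 1 : I → K) ᵥ* M) ⬝ᵥ v := by
  rw [← Matrix.dotProduct_mulVec]
  simp

end Mat

section Stab

variable {I K G : Type*} [Fintype I] [DecidableEq I] [Field K] [Group G]

/-- Elements whose image fixes the column vector `v`. -/
def colStab (φ : G →* Matrix.SpecialLinearGroup I K) (v : I → K) : Subgroup G where
  carrier := {g | (φ g).1 *ᵥ v = v}
  mul_mem' := by
    intro a b ha hb
    have ha' : (φ a).1 *ᵥ v = v := ha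
    have hb' : (φ b).1 *ᵥ v = v := hb
    show (φ (a * b)).1 *ᵥ v = v
    rw [map_mul, Matrix.SpecialLinearGroup.coe_mul, ← Matrix.mulVec_mulVec, hb', ha']
  one_mem' := by
    show (φ 1).1 *ᵥ v = v
    rw [map_one, Matrix.SpecialLinearGroup.coe_one, Matrix.one_mulVec]
  inv_mem' := by
    intro a ha
    have ha' : (φ a).1 *ᵥ v = v := ha
    show (φ a⁻¹).1 *ᵥ v = v
    have h1 : (φ a⁻¹).1 *ᵥ ((φ a).1 *ᵥ v) = v := by
      rw [Matrix.mulVec_mulVec, ← Matrix.SpecialLinearGroup.coe_mul, ← map_mul, inv_mul_cancel,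
        map_one, Matrix.SpecialLinearGroup.coe_one, Matrix.one_mulVec]
    rw [ha'] at h1
    exact h1

/-- Elements whose image fixes the row vector `v`. -/
def rowStab (φ : G →* Matrix.SpecialLinearGroup I K) (v : I → K) : Subgroup G where
  carrier := {g | v ᵥ* (φ g).1 = v}
  mul_mem' := by
    intro a b ha hb
    have ha' : v ᵥ* (φ a).1 = v := ha
    have hb' : v ᵥ* (φ b).1 = v := hb
    show v ᵥ* (φ (a * b)).1 = v
    rw [map_mul, Matrix.SpecialLinearGroup.coe_mul, ← Matrix.vecMul_vecMul, ha', hb']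
  one_mem' := by
    show v ᵥ* (φ 1).1 = v
    rw [map_one, Matrix.SpecialLinearGroup.coe_one, Matrix.vecMul_one]
  inv_mem' := by
    intro a ha
    have ha' : v ᵥ* (φ a).1 = v := ha
    show v ᵥ* (φ a⁻¹).1 = v
    have h1 : (v ᵥ* (φ a).1) ᵥ* (φ a⁻¹).1 = v := by
      rw [Matrix.vecMul_vecMul, ← Matrix.SpecialLinearGroup.coe_mul, ← map_mul, mul_inv_cancel,
        map_one, Matrix.SpecialLinearGroup.coe_one, Matrix.vecMul_one]
    rw [ha'] at h1
    exact h1

theorem mem_colStab {φ : G →* Matrix.SpecialLinearGroup I K} {v : I → K} {g : G}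
    (h : g ∈ colStab φ v) : (φ g).1 *ᵥ v = v := h

theorem mem_rowStab {φ : G →* Matrix.SpecialLinearGroup I K} {v : I → K} {g : G}
    (h : g ∈ rowStab φ v) : v ᵥ* (φ g).1 = v := h

end Stab

namespace StData

variable {I K G : Type*} [Fintype I] [DecidableEq I] [Field K] [Group G] (D : StData I K G)
  (φ : G →* Matrix.SpecialLinearGroup I K)
  (hφ : ∀ (a b : I) (h : a ≠ b) (t : K), φ (D.X a b t) = Matrix.SpecialLinearGroup.transvection h t)

include hφ

theorem LL_col {J : Finset I} {k : I} (hk : k ∉ J) :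
    D.LL J ≤ colStab φ (Pi.single k 1) := by
  unfold LL
  rw [Subgroup.closure_le]
  rintro _ ⟨a, b, t, ha, hb, hab, rfl⟩
  have hbk : b ≠ k := ne_of_mem_of_not_mem hb hk
  show (φ (D.X a b t)).1 *ᵥ Pi.single k 1 = Pi.single k 1
  rw [hφ a b hab, tv_mulVec, Pi.single_eq_of_ne hbk, mul_zero, zero_smul, add_zero]

theorem LL_row {J : Finset I} {k : I} (hk : k ∉ J) :
    D.LL J ≤ rowStab φ (Pi.single k 1) := by
  unfold LL
  rw [Subgroup.closure_le]
  rintro _ ⟨a, b, t, ha, hb, hab, rfl⟩
  have hak : a ≠ k := ne_of_mem_of_not_mem ha hk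
  show Pi.single k 1 ᵥ* (φ (D.X a b t)).1 = Pi.single k 1
  rw [hφ a b hab, tv_vecMul, Pi.single_eq_of_ne hak, mul_zero, zero_smul, add_zero]

theorem RR_row {J : Finset I} {k : I} (hk : k ∉ J) :
    D.RR J k ≤ rowStab φ (Pi.single k 1) := by
  unfold RR
  rw [Subgroup.closure_le]
  rintro _ ⟨l, t, hl, rfl⟩
  have hlk : l ≠ k := ne_of_mem_of_not_mem hl hk
  show Pi.single k 1 ᵥ* (φ (D.X l k t)).1 = Pi.single k 1
  rw [hφ l k hlk, tv_vecMul, Pi.single_eq_of_ne hlk, mul_zero, zero_smul, add_zero]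

theorem RR_col {J : Finset I} {k : I} (hk : k ∉ J) (j : I) (hj : j ≠ k) :
    D.RR J k ≤ colStab φ (Pi.single j 1) := by
  unfold RR
  rw [Subgroup.closure_le]
  rintro _ ⟨l, t, hl, rfl⟩
  have hlk : l ≠ k := ne_of_mem_of_not_mem hl hk
  show (φ (D.X l k t)).1 *ᵥ Pi.single j 1 = Pi.single j 1
  rw [hφ l k hlk, tv_mulVec, Pi.single_eq_of_ne hj.symm, mul_zero, zero_smul, add_zero]

theorem YY_col {J : Finset I} {k : I} (hk : k ∉ J) :
    D.YY J k ≤ colStab φ (Pi.single k 1) := by
  unfold YY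
  rw [Subgroup.closure_le]
  rintro _ ⟨l, t, hl, rfl⟩
  have hlk : l ≠ k := ne_of_mem_of_not_mem hl hk
  show (φ (D.X k l t)).1 *ᵥ Pi.single k 1 = Pi.single k 1
  rw [hφ k l hlk.symm, tv_mulVec, Pi.single_eq_of_ne hlk, mul_zero, zero_smul, add_zero]

theorem YY_row {J : Finset I} {k : I} (hk : k ∉ J) (j : I) (hj : j ≠ k) :
    D.YY J k ≤ rowStab φ (Pi.single j 1) := by
  unfold YY
  rw [Subgroup.closure_le]
  rintro _ ⟨l, t, hl, rfl⟩
  have hlk : l ≠ k := ne_of_mem_of_not_mem hl hk
  show Pi.single j 1 ᵥ* (φ (D.X k l t)).1 = Pi.single j 1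
  rw [hφ k l hlk.symm, tv_vecMul, Pi.single_eq_of_ne hj.symm, mul_zero, zero_smul, add_zero]

theorem RR_inj : ∀ (J : Finset I) (k : I), k ∉ J → ∀ r ∈ D.RR J k,
    (∀ l, l ∉ J → l ≠ k → ((φ r).1 *ᵥ (Pi.single k 1 : I → K)) l = 0) ∧
    ((φ r).1 *ᵥ (Pi.single k 1 : I → K) = Pi.single k 1 → r = 1) := by
  intro J k
  induction J using Finset.induction_on with
  | empty =>
    intro hk r hr
    have hr1 : r = 1 := by
      have h0 : D.Rg (∅ : Finset I) k = ∅ := by
        apply Set.eq_empty_iff_forall_notMem.mpr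
        rintro _ ⟨l, t, hl, rfl⟩
        exact absurd hl (Finset.notMem_empty l)
      unfold RR at hr
      rw [h0, Subgroup.closure_empty] at hr
      exact Subgroup.mem_bot.mp hr
    subst hr1
    refine ⟨fun l _ hlk => ?_, fun _ => rfl⟩
    rw [map_one, Matrix.SpecialLinearGroup.coe_one, Matrix.one_mulVec, Pi.single_eq_of_ne hlk]
  | insert j J hj ih =>
    intro hk r hr
    have hjk : j ≠ k := fun h => hk (h ▸ Finset.mem_insert_self j J)
    have hkJ : k ∉ J := fun h => hk (Finset.mem_insert_of_mem h)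
    obtain ⟨r', hr', t, rfl⟩ := D.R_split hk (Finset.mem_insert_self j J) r hr
    rw [Finset.erase_insert hj] at hr'
    have hfix : (φ r').1 *ᵥ (Pi.single j 1 : I → K) = Pi.single j 1 :=
      mem_colStab (D.RR_col φ hφ hkJ j hjk hr')
    have hcol : (φ (r' * D.X j k t)).1 *ᵥ (Pi.single k 1 : I → K) =
        (φ r').1 *ᵥ (Pi.single k 1 : I → K) + t • Pi.single j 1 := by
      rw [map_mul, Matrix.SpecialLinearGroup.coe_mul, ← Matrix.mulVec_mulVec, hφ j k hjk,
        tv_mulVec, Pi.single_eq_same, mul_one, Matrix.mulVec_add, Matrix.mulVec_smul, hfix]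
    obtain ⟨ih1, ih2⟩ := ih hkJ r' hr'
    constructor
    · intro l hl hlk
      rw [Finset.mem_insert, not_or] at hl
      rw [hcol, Pi.add_apply, Pi.smul_apply, ih1 l hl.2 hlk, Pi.single_eq_of_ne hl.1, smul_zero,
        add_zero]
    · intro h
      rw [hcol] at h
      have hj0 := congrFun h j
      rw [Pi.add_apply, Pi.smul_apply, ih1 j hj hjk, Pi.single_eq_same, Pi.single_eq_of_ne hjk,
        zero_add, smul_eq_mul, mul_one] at hj0
      rw [hj0, zero_smul, add_zero] at h
      rw [hj0, D.X_zero hjk, mul_one]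
      exact ih2 h

theorem YY_inj : ∀ (J : Finset I) (k : I), k ∉ J → ∀ y ∈ D.YY J k,
    (∀ l, l ∉ J → l ≠ k → ((Pi.single k 1 : I → K) ᵥ* (φ y).1) l = 0) ∧
    ((Pi.single k 1 : I → K) ᵥ* (φ y).1 = Pi.single k 1 → y = 1) := by
  intro J k
  induction J using Finset.induction_on with
  | empty =>
    intro hk y hy
    have hy1 : y = 1 := by
      have h0 : D.Yg (∅ : Finset I) k = ∅ := by
        apply Set.eq_empty_iff_forall_notMem.mpr
        rintro _ ⟨l, t, hl, rfl⟩
        exact absurd hl (Finset.notMem_empty l)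
      unfold YY at hy
      rw [h0, Subgroup.closure_empty] at hy
      exact Subgroup.mem_bot.mp hy
    subst hy1
    refine ⟨fun l _ hlk => ?_, fun _ => rfl⟩
    rw [map_one, Matrix.SpecialLinearGroup.coe_one, Matrix.vecMul_one, Pi.single_eq_of_ne hlk]
  | insert j J hj ih =>
    intro hk y hy
    have hjk : j ≠ k := fun h => hk (h ▸ Finset.mem_insert_self j J)
    have hkJ : k ∉ J := fun h => hk (Finset.mem_insert_of_mem h)
    obtain ⟨y', hy', t, rfl⟩ := D.Y_split hk (Finset.mem_insert_self j J) y hy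
    rw [Finset.erase_insert hj] at hy'
    have hkk : ((Pi.single k 1 : I → K) ᵥ* (φ y').1) k = 1 := by
      rw [single_vecMul_self, mem_colStab (D.YY_col φ hφ hkJ hy'), Pi.single_eq_same]
    have hrow : (Pi.single k 1 : I → K) ᵥ* (φ (y' * D.X k j t)).1 =
        (Pi.single k 1 : I → K) ᵥ* (φ y').1 + t • Pi.single j 1 := by
      rw [map_mul, Matrix.SpecialLinearGroup.coe_mul, ← Matrix.vecMul_vecMul, hφ k j hjk.symm,
        tv_vecMul, hkk, mul_one]
    obtain ⟨ih1, ih2⟩ := ih hkJ y' hy'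
    constructor
    · intro l hl hlk
      rw [Finset.mem_insert, not_or] at hl
      rw [hrow, Pi.add_apply, Pi.smul_apply, ih1 l hl.2 hlk, Pi.single_eq_of_ne hl.1, smul_zero,
        add_zero]
    · intro h
      rw [hrow] at h
      have hj0 := congrFun h j
      rw [Pi.add_apply, Pi.smul_apply, ih1 j hj hjk, Pi.single_eq_same, Pi.single_eq_of_ne hjk,
        zero_add, smul_eq_mul, mul_one] at hj0
      rw [hj0, zero_smul, add_zero] at h
      rw [hj0, D.X_zero hjk.symm, mul_one]
      exact ih2 h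

end StData

namespace StData

variable {I K G : Type*} [Fintype I] [DecidableEq I] [Field K] [Finite K] [Group G]
  (D : StData I K G) (φ : G →* Matrix.SpecialLinearGroup I K)
  (hφ : ∀ (a b : I) (h : a ≠ b) (t : K), φ (D.X a b t) = Matrix.SpecialLinearGroup.transvection h t)

include hφ

theorem phi_hh {i j : I} (hij : i ≠ j) (c : Kˣ) :
    φ (D.hh i j c) = Matrix.SpecialLinearGroup.diag2n hij (c : K) c.ne_zero := by
  rw [D.hh_eq hij, Cfsg.Agent.Lib.helper45.diag2n_eq_prod_transvections]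
  unfold wt
  simp only [map_mul, map_inv, hφ i j hij, hφ j i hij.symm, _root_.mul_inv_rev,
    Matrix.SpecialLinearGroup.transvection_inv, inv_one, neg_neg, mul_assoc]

theorem hh_col {i j : I} (hij : i ≠ j) (c : Kˣ) :
    (φ (D.hh i j c)).1 *ᵥ (Pi.single j 1 : I → K) = ((c : K)⁻¹) • (Pi.single j 1 : I → K) := by
  rw [D.phi_hh φ hφ hij, Matrix.SpecialLinearGroup.diag2n_coe, Matrix.diagonal_mulVec_single]
  ext m
  by_cases hm : m = j
  · subst hm
    simp [hij.symm]
  · simp [Pi.single_eq_of_ne hm]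

theorem wt_col {i j : I} (hij : i ≠ j) :
    ((φ (D.wt i j 1)).1 *ᵥ (Pi.single j 1 : I → K)) j = 0 := by
  unfold wt
  rw [map_mul, map_mul, Matrix.SpecialLinearGroup.coe_mul, Matrix.SpecialLinearGroup.coe_mul,
    ← Matrix.mulVec_mulVec, ← Matrix.mulVec_mulVec, hφ i j hij, hφ j i hij.symm, tv_mulVec,
    tv_mulVec, tv_mulVec]
  simp [hij, hij.symm]

theorem PP_col {J : Finset I} {k i0 : I} (hk : k ∉ J) (hi0 : i0 ∈ J) {y a : G}
    (hy : y ∈ D.YY J k) (ha : a ∈ D.LL J) (c : Kˣ) :
    (φ (y * a * D.hh i0 k c)).1 *ᵥ (Pi.single k 1 : I → K) =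
      ((c : K)⁻¹) • (Pi.single k 1 : I → K) := by
  have hik : i0 ≠ k := ne_of_mem_of_not_mem hi0 hk
  have h1 : (φ a).1 *ᵥ (Pi.single k 1 : I → K) = Pi.single k 1 :=
    mem_colStab (D.LL_col φ hφ hk ha)
  have h2 : (φ y).1 *ᵥ (Pi.single k 1 : I → K) = Pi.single k 1 :=
    mem_colStab (D.YY_col φ hφ hk hy)
  rw [map_mul, map_mul, Matrix.SpecialLinearGroup.coe_mul, Matrix.SpecialLinearGroup.coe_mul,
    ← Matrix.mulVec_mulVec, ← Matrix.mulVec_mulVec, D.hh_col φ hφ hik, Matrix.mulVec_smul,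
    Matrix.mulVec_smul, h1, h2]

theorem step (J : Finset I) (k : I) (hk : k ∉ J)
    (ih : ∀ g ∈ D.LL J, φ g = 1 → g = 1) : ∀ g ∈ D.LL (insert k J), φ g = 1 → g = 1 := by
  intro g hg hφg
  rcases J.eq_empty_or_nonempty with hJ | ⟨i0, hi0⟩
  · subst hJ
    have h0 : D.Lg (insert k (∅ : Finset I)) = ∅ := by
      apply Set.eq_empty_iff_forall_notMem.mpr
      rintro _ ⟨a, b, t, ha, hb, hab, rfl⟩
      rw [Finset.mem_insert] at ha hb
      rcases ha with ha | ha
      · rcases hb with hb | hb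
        · exact hab (ha.trans hb.symm)
        · exact absurd hb (Finset.notMem_empty b)
      · exact absurd ha (Finset.notMem_empty a)
    unfold LL at hg
    rw [h0, Subgroup.closure_empty] at hg
    exact Subgroup.mem_bot.mp hg
  · have hik : i0 ≠ k := ne_of_mem_of_not_mem hi0 hk
    have ek : (φ g).1 *ᵥ (Pi.single k 1 : I → K) = Pi.single k 1 := by
      rw [hφg, Matrix.SpecialLinearGroup.coe_one, Matrix.one_mulVec]
    rcases D.cover J k i0 hk hi0 g hg with ⟨r, hr, p, hp, rfl⟩ | ⟨a, ha, p, hp, rfl⟩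
    · obtain ⟨y, hy, a, ha, c, rfl⟩ := D.PP_nf J k i0 hk hi0 p hp
      have hcol := D.PP_col φ hφ hk hi0 hy ha c
      have h1 : (φ r).1 *ᵥ (((c : K)⁻¹) • (Pi.single k 1 : I → K)) = Pi.single k 1 := by
        rw [← hcol, Matrix.mulVec_mulVec, ← Matrix.SpecialLinearGroup.coe_mul, ← map_mul]
        exact ek
      rw [Matrix.mulVec_smul] at h1
      have hrk : ((φ r).1 *ᵥ (Pi.single k 1 : I → K)) k = 1 := by
        rw [← single_vecMul_self, mem_rowStab (D.RR_row φ hφ hk hr), Pi.single_eq_same]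
      have hc : (c : K)⁻¹ = 1 := by
        have h2 := congrFun h1 k
        rw [Pi.smul_apply, hrk, Pi.single_eq_same, smul_eq_mul, mul_one] at h2
        exact h2
      rw [hc, one_smul] at h1
      have hr1 : r = 1 := (D.RR_inj φ hφ J k hk r hr).2 h1
      have hc1 : c = 1 := by
        apply Units.ext
        rw [Units.val_one]
        exact inv_eq_one.mp hc
      subst hr1
      subst hc1
      rw [one_mul, D.hh_one, mul_one] at hφg ⊢
      have hrow : (Pi.single k 1 : I → K) ᵥ* (φ y).1 = Pi.single k 1 := by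
        have h2 : (Pi.single k 1 : I → K) ᵥ* (φ (y * a)).1 = Pi.single k 1 := by
          rw [hφg, Matrix.SpecialLinearGroup.coe_one, Matrix.vecMul_one]
        have h3 : (φ y).1 = (φ (y * a)).1 * (φ a⁻¹).1 := by
          rw [← Matrix.SpecialLinearGroup.coe_mul, ← map_mul, mul_inv_cancel_right]
        rw [h3, ← Matrix.vecMul_vecMul, h2]
        exact mem_rowStab (D.LL_row φ hφ hk (inv_mem ha))
      have hy1 : y = 1 := (D.YY_inj φ hφ J k hk y hy).2 hrow
      subst hy1
      rw [one_mul] at hφg ⊢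
      exact ih a ha hφg
    · exfalso
      obtain ⟨y, hy, a', ha', c, rfl⟩ := D.PP_nf J k i0 hk hi0 p hp
      have hcol := D.PP_col φ hφ hk hi0 hy ha' c
      have h1 : (φ a).1 *ᵥ ((φ (D.wt i0 k 1)).1 *ᵥ
          (((c : K)⁻¹) • (Pi.single k 1 : I → K))) = Pi.single k 1 := by
        rw [← hcol, Matrix.mulVec_mulVec, Matrix.mulVec_mulVec,
          ← Matrix.SpecialLinearGroup.coe_mul, ← Matrix.SpecialLinearGroup.coe_mul, ← map_mul,
          ← map_mul]
        exact ek
      have h2 := congrFun h1 k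
      rw [single_vecMul_mulVec, mem_rowStab (D.LL_row φ hφ hk ha), Matrix.mulVec_smul,
        single_dotProduct, Pi.smul_apply, D.wt_col φ hφ hik, Pi.single_eq_same, smul_zero,
        mul_zero] at h2
      exact zero_ne_one h2

/-- A homomorphism to `SL(I, K)` sending the root elements to the elementary transvections is
injective (the root elements are assumed to generate). -/
theorem injective_of_hom
    (hgen : Subgroup.closure {g : G | ∃ (a b : I) (t : K), a ≠ b ∧ g = D.X a b t} = ⊤) :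
    Function.Injective φ := by
  have key : ∀ J : Finset I, ∀ g ∈ D.LL J, φ g = 1 → g = 1 := by
    intro J
    induction J using Finset.induction_on with
    | empty =>
      intro g hg _
      have h0 : D.Lg (∅ : Finset I) = ∅ := by
        apply Set.eq_empty_iff_forall_notMem.mpr
        rintro _ ⟨a, b, t, ha, hb, hab, rfl⟩
        exact absurd ha (Finset.notMem_empty a)
      unfold LL at hg
      rw [h0, Subgroup.closure_empty] at hg
      exact Subgroup.mem_bot.mp hg
    | insert k J hk ih => exact D.step φ hφ J k hk ih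
  rw [injective_iff_map_eq_one]
  intro g hg
  refine key Finset.univ g ?_ hg
  have h1 : D.LL Finset.univ = ⊤ := by
    rw [← hgen]
    unfold LL
    congr 1
    ext x
    constructor
    · rintro ⟨a, b, t, _, _, hab, rfl⟩
      exact ⟨a, b, t, hab, rfl⟩
    · rintro ⟨a, b, t, hab, rfl⟩
      exact ⟨a, b, t, Finset.mem_univ _, Finset.mem_univ _, hab, rfl⟩
  rw [h1]
  exact Subgroup.mem_top g

end StData

end Cfsg.Agent.Lib.helper44
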