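import Mathlib
import Cfsg.Prelude.Def_Classical
import Cfsg.Agent.Lib.helper99.UGen1

/-!
Definitions for the S2335 split project (Landazuri–Seitz–Zalesskii bound for `SU_n(q)`, `n` even):
skew-Hermitian matrices, the Hermitian value `v† Y v`, and the matrix of a Siegel element.
-/

set_option autoImplicit false

namespace Cfsg.Agent.Lib.helper44.SUW

open Matrix

variable {K : Type*} [Field K]

/-- Skew-Hermitian `m × m` matrices with respect to the ring endomorphism `σ`:
`σ (C i j) = - C j i`. -/
def skewH (σ : K →+* K) (m : ℕ) : AddSubgroup (Matrix (Fin m) (Fin m) K) where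
  carrier := {C | ∀ i j, σ (C i j) = - C j i}
  add_mem' := by
    intro a b ha hb i j
    rw [Matrix.add_apply, Matrix.add_apply, map_add, ha i j, hb i j]
    ring
  zero_mem' := by
    intro i j
    simp
  neg_mem' := by
    intro a ha i j
    rw [Matrix.neg_apply, Matrix.neg_apply, map_neg, ha i j]

theorem mem_skewH {σ : K →+* K} {m : ℕ} {C : Matrix (Fin m) (Fin m) K} :
    C ∈ skewH σ m ↔ ∀ i j, σ (C i j) = - C j i := Iff.rfl

/-- The value `v† Y v = ∑ i j, σ (v i) * Y i j * v j`. -/
def hval (σ : K →+* K) {m : ℕ} (Y : Matrix (Fin m) (Fin m) K) (v : Fin m → K) : K :=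
  ∑ i, ∑ j, σ (v i) * Y i j * v j

/-- The matrix `1 + F C F†` of the Siegel element attached to `C`, where the columns of `F`
are the vectors `e_j + ε e_{m+j}` (isotropic when `ε * σ ε = -1`). -/
def uMat (σ : K →+* K) (ε : K) {m : ℕ} (C : Matrix (Fin m) (Fin m) K) :
    Matrix (Fin (m + m)) (Fin (m + m)) K :=
  (Matrix.fromBlocks (1 + C) (σ ε • C) (ε • C) (1 - C)).submatrix finSumFinEquiv.symm
    finSumFinEquiv.symm

end Cfsg.Agent.Lib.helper44.SUW
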