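import Mathlib
import Cfsg.Prelude.Def_Classical
import Cfsg.Agent.Lib.helper44.SUWDefs

/-!
Definitions for the S2334 split project (Landazuri–Seitz–Zalesskii bound for `SU_n(q)`, `n` odd):
the matrices of the elements `u(C)` and `x(t)` of the unipotent radical of the stabiliser of a
maximal isotropic subspace of the `(2m+1)`-dimensional unitary space, and joint eigenspaces.
-/

set_option autoImplicit false

namespace Cfsg.Agent.Lib.helper44.SUW

open Matrix

variable {K : Type*} [Field K]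

/-- The reindexing `Fin (m + m + 1) ≃ (Fin m ⊕ Fin m) ⊕ Fin 1`. -/
def e3 (m : ℕ) : Fin (m + m + 1) ≃ (Fin m ⊕ Fin m) ⊕ Fin 1 :=
  finSumFinEquiv.symm.trans (Equiv.sumCongr finSumFinEquiv.symm (Equiv.refl (Fin 1)))

/-- `u(C)` in dimension `2m+1`: block diagonal `(1 + F C F†, 1)`. -/
def uoMat (σ : K →+* K) (ε : K) {m : ℕ} (C : Matrix (Fin m) (Fin m) K) :
    Matrix (Fin (m + m + 1)) (Fin (m + m + 1)) K :=
  (Matrix.fromBlocks (Matrix.fromBlocks (1 + C) (σ ε • C) (ε • C) (1 - C)) 0 0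
    (1 : Matrix (Fin 1) (Fin 1) K)).submatrix (e3 m) (e3 m)

/-- `t t'† - t' t†`. -/
def cmat (σ : K →+* K) {m : ℕ} (t t' : Fin m → K) : Matrix (Fin m) (Fin m) K :=
  Matrix.vecMulVec t (fun j => σ (t' j)) - Matrix.vecMulVec t' (fun j => σ (t j))

/-- `x(t) = 1 + F C F† + (F t) d† - d (F t)†` with `C = -η t t†` (`η + σ η = 1`), `d` the last
basis vector. -/
def xtMat (σ : K →+* K) (ε η : K) {m : ℕ} (t : Fin m → K) :
    Matrix (Fin (m + m + 1)) (Fin (m + m + 1)) K :=
  (Matrix.fromBlocks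
    (Matrix.fromBlocks (1 + (-η) • Matrix.vecMulVec t (fun j => σ (t j)))
      (σ ε • ((-η) • Matrix.vecMulVec t (fun j => σ (t j))))
      (ε • ((-η) • Matrix.vecMulVec t (fun j => σ (t j))))
      (1 - (-η) • Matrix.vecMulVec t (fun j => σ (t j))))
    (fun i _ => Sum.elim t (fun j => ε * t j) i)
    (fun _ j => Sum.elim (fun j => - σ (t j)) (fun j => - (σ ε * σ (t j))) j)
    (1 : Matrix (Fin 1) (Fin 1) K)).submatrix (e3 m) (e3 m)

/-- The joint eigenspace of the operators `ρ (u a)` for the character `e y`. -/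
def eigS {G : Type*} [Group G] {A : Type*} {k : ℕ} (ρ : Representation ℂ G (Fin k → ℂ))
    (u : A → G) (e : A → A → ℂ) (y : A) : Submodule ℂ (Fin k → ℂ) where
  carrier := {w | ∀ a, ρ (u a) w = e y a • w}
  add_mem' := by
    intro v w hv hw a
    rw [map_add, hv a, hw a, smul_add]
  zero_mem' := by
    intro a
    rw [map_zero, smul_zero]
  smul_mem' := by
    intro c w hw a
    rw [map_smul, hw a, smul_comm]

theorem mem_eigS {G : Type*} [Group G] {A : Type*} {k : ℕ}
    (ρ : Representation ℂ G (Fin k → ℂ)) (u : A → G) (e : A → A → ℂ) (y : A)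
    (w : Fin k → ℂ) : w ∈ eigS ρ u e y ↔ ∀ a, ρ (u a) w = e y a • w := Iff.rfl

end Cfsg.Agent.Lib.helper44.SUW
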