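-- helper44: divisibility facts about the order of SL_m(q).
import Mathlib

set_option autoImplicit false

namespace Cfsg.Agent.Lib.helper44

open scoped MatrixGroups

section SLCard

variable {F : Type*} [Field F] [Fintype F]

/-- `|GL_m(F)| = |SL_m(F)| * (q - 1)` for `m ≥ 1`. -/
theorem card_GL_eq_card_SL_mul_pred (m : ℕ) (hm : 0 < m) :
    Nat.card (GL (Fin m) F) =
      Nat.card (Matrix.SpecialLinearGroup (Fin m) F) * (Fintype.card F - 1) := by
  classical
  let det' : GL (Fin m) F →* Fˣ := Matrix.GeneralLinearGroup.det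
  have hker : det'.ker = (Matrix.SpecialLinearGroup.toGL :
      Matrix.SpecialLinearGroup (Fin m) F →* GL (Fin m) F).range := by
    ext g
    rw [MonoidHom.mem_ker, MonoidHom.mem_range]
    constructor
    · intro h
      have h1 : (g : Matrix (Fin m) (Fin m) F).det = 1 := by
        have := congrArg Units.val h
        simpa [det'] using this
      exact ⟨⟨(g : Matrix (Fin m) (Fin m) F), h1⟩, Units.ext rfl⟩
    · rintro ⟨s, rfl⟩
      apply Units.ext
      simp [det']
  have hcardker : Nat.card det'.ker = Nat.card (Matrix.SpecialLinearGroup (Fin m) F) := by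
    rw [hker]
    exact Nat.card_congr
      (MonoidHom.ofInjective Matrix.SpecialLinearGroup.toGL_injective).toEquiv.symm
  have : Nonempty (Fin m) := ⟨⟨0, hm⟩⟩
  have hsurj : Function.Surjective det' := Matrix.GeneralLinearGroup.det_surjective
  have hrange : Nat.card det'.range = Fintype.card F - 1 := by
    rw [MonoidHom.range_eq_top.mpr hsurj, Subgroup.card_top, Nat.card_units,
      Nat.card_eq_fintype_card]
  rw [← hcardker, ← hrange, ← Subgroup.index_ker, Subgroup.card_mul_index]

/-- `q ^ i - 1` divides `|SL_m(F)|` for `2 ≤ i ≤ m`. -/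
theorem pow_sub_one_dvd_card_SL (m i : ℕ) (hi : 2 ≤ i) (him : i ≤ m) :
    Fintype.card F ^ i - 1 ∣ Nat.card (Matrix.SpecialLinearGroup (Fin m) F) := by
  classical
  have hq : 2 ≤ Fintype.card F := Fintype.one_lt_card
  have hGL := Matrix.card_GL_field (𝔽 := F) (n := m)
  have hmul := card_GL_eq_card_SL_mul_pred (F := F) m (by omega)
  have hsub : ({⟨m - i, by omega⟩, ⟨m - 1, by omega⟩} : Finset (Fin m)) ⊆ Finset.univ :=
    Finset.subset_univ _
  have hdvd := Finset.prod_dvd_prod_of_subset _ _
    (fun j : Fin m => Fintype.card F ^ m - Fintype.card F ^ (j : ℕ)) hsub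
  have hne : (⟨m - i, by omega⟩ : Fin m) ≠ ⟨m - 1, by omega⟩ := by
    intro h
    have := congrArg Fin.val h
    simp only at this
    omega
  rw [Finset.prod_pair hne, ← hGL, hmul] at hdvd
  simp only at hdvd
  have e1 : Fintype.card F ^ m - Fintype.card F ^ (m - i) =
      Fintype.card F ^ (m - i) * (Fintype.card F ^ i - 1) := by
    rw [Nat.mul_sub, mul_one, ← pow_add]
    congr 2
    omega
  have e2 : Fintype.card F ^ m - Fintype.card F ^ (m - 1) =
      Fintype.card F ^ (m - 1) * (Fintype.card F - 1) := by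
    rw [Nat.mul_sub, mul_one, ← pow_succ]
    congr 2
    omega
  rw [e1, e2] at hdvd
  have h3 : (Fintype.card F ^ i - 1) * (Fintype.card F - 1) ∣
      Nat.card (Matrix.SpecialLinearGroup (Fin m) F) * (Fintype.card F - 1) := by
    refine Dvd.dvd.trans ?_ hdvd
    exact ⟨Fintype.card F ^ (m - i) * Fintype.card F ^ (m - 1), by ring⟩
  exact Nat.dvd_of_mul_dvd_mul_right (by omega) h3

/-- The characteristic divides `|SL_m(F)|` for `m ≥ 2`. -/
theorem char_dvd_card_SL (p : ℕ) [Fact p.Prime] [CharP F p] (m : ℕ) (hm : 2 ≤ m) :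
    p ∣ Nat.card (Matrix.SpecialLinearGroup (Fin m) F) := by
  classical
  have hp : p.Prime := Fact.out
  have hq : 2 ≤ Fintype.card F := Fintype.one_lt_card
  have hpq : p ∣ Fintype.card F := by
    have := (CharP.cast_eq_zero_iff F p (Fintype.card F)).mp (by simp)
    exact this
  have hGL := Matrix.card_GL_field (𝔽 := F) (n := m)
  have hmul := card_GL_eq_card_SL_mul_pred (F := F) m (by omega)
  have hdvd : Fintype.card F ^ m - Fintype.card F ^ ((⟨1, by omega⟩ : Fin m) : ℕ) ∣
      ∏ j : Fin m, (Fintype.card F ^ m - Fintype.card F ^ (j : ℕ)) :=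
    Finset.dvd_prod_of_mem _ (Finset.mem_univ _)
  rw [← hGL, hmul] at hdvd
  simp only [pow_one] at hdvd
  have e1 : Fintype.card F ^ m - Fintype.card F =
      Fintype.card F * (Fintype.card F ^ (m - 1) - 1) := by
    rw [Nat.mul_sub, mul_one, ← pow_succ']
    congr 2
    omega
  rw [e1] at hdvd
  have h1 : p ∣ Nat.card (Matrix.SpecialLinearGroup (Fin m) F) * (Fintype.card F - 1) :=
    (hpq.mul_right _).trans hdvd
  rcases hp.dvd_mul.mp h1 with h | h
  · exact h
  · exfalso
    have h2 : p ∣ Fintype.card F - (Fintype.card F - 1) := Nat.dvd_sub hpq h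
    have h3 : Fintype.card F - (Fintype.card F - 1) = 1 := by omega
    rw [h3] at h2
    exact hp.one_lt.ne' (Nat.dvd_one.mp h2)

end SLCard

end Cfsg.Agent.Lib.helper44
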