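import Mathlib
import Cfsg.Agent.Lib.helper44.SLCard

set_option autoImplicit false

/-! # The circle subgroup of `SL₂` over a finite field in which `-1` is not a square -/

namespace Cfsg.Agent.Lib.helper44

section Circle

variable {K : Type*} [Field K]

/-- The circle subgroup of `SL₂(K)`: the matrices `[[x, -y], [y, x]]`. -/
def circleSL (K : Type*) [Field K] : Subgroup (Matrix.SpecialLinearGroup (Fin 2) K) where
  carrier := {g | g.val 0 0 = g.val 1 1 ∧ g.val 0 1 = - g.val 1 0}
  one_mem' := by
    constructor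
    · simp
    · simp
  mul_mem' := by
    rintro g h ⟨hg1, hg2⟩ ⟨hh1, hh2⟩
    constructor
    · show (g.val * h.val) 0 0 = (g.val * h.val) 1 1
      rw [Matrix.mul_apply, Matrix.mul_apply, Fin.sum_univ_two, Fin.sum_univ_two, hg1, hg2, hh1, hh2]
      ring
    · show (g.val * h.val) 0 1 = - (g.val * h.val) 1 0
      rw [Matrix.mul_apply, Matrix.mul_apply, Fin.sum_univ_two, Fin.sum_univ_two, hg1, hg2, hh1, hh2]
      ring
  inv_mem' := by
    rintro g ⟨hg1, hg2⟩
    constructor
    · show (g⁻¹).val 0 0 = (g⁻¹).val 1 1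
      rw [Matrix.SpecialLinearGroup.coe_inv, Matrix.adjugate_fin_two]
      simp [hg1]
    · show (g⁻¹).val 0 1 = - (g⁻¹).val 1 0
      rw [Matrix.SpecialLinearGroup.coe_inv, Matrix.adjugate_fin_two]
      simp [hg2]

theorem mem_circleSL {g : Matrix.SpecialLinearGroup (Fin 2) K} :
    g ∈ circleSL K ↔ g.val 0 0 = g.val 1 1 ∧ g.val 0 1 = - g.val 1 0 := Iff.rfl

/-- The circle subgroup is commutative. -/
theorem circleSL_comm {g h : Matrix.SpecialLinearGroup (Fin 2) K} (hg : g ∈ circleSL K)
    (hh : h ∈ circleSL K) : g * h = h * g := by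
  obtain ⟨hg1, hg2⟩ := hg
  obtain ⟨hh1, hh2⟩ := hh
  apply Subtype.ext
  show g.val * h.val = h.val * g.val
  ext i j
  rw [Matrix.mul_apply, Matrix.mul_apply, Fin.sum_univ_two, Fin.sum_univ_two]
  fin_cases i <;> fin_cases j
  · show g.val 0 0 * h.val 0 0 + g.val 0 1 * h.val 1 0 = h.val 0 0 * g.val 0 0 + h.val 0 1 * g.val 1 0
    rw [hg2, hh2]
    ring
  · show g.val 0 0 * h.val 0 1 + g.val 0 1 * h.val 1 1 = h.val 0 0 * g.val 0 1 + h.val 0 1 * g.val 1 1
    rw [hg1, hh1]
    ring
  · show g.val 1 0 * h.val 0 0 + g.val 1 1 * h.val 1 0 = h.val 1 0 * g.val 0 0 + h.val 1 1 * g.val 1 0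
    rw [hg1, hh1]
    ring
  · show g.val 1 0 * h.val 0 1 + g.val 1 1 * h.val 1 1 = h.val 1 0 * g.val 0 1 + h.val 1 1 * g.val 1 1
    rw [hg2, hh2]
    ring

/-- The centralizer in `SL₂(K)` of an element of the circle subgroup with non-zero lower left entry is
contained in the circle subgroup. -/
theorem mem_circleSL_of_commute {s g : Matrix.SpecialLinearGroup (Fin 2) K} (hs : s ∈ circleSL K)
    (hs0 : s.val 1 0 ≠ 0) (hc : g * s = s * g) : g ∈ circleSL K := by
  obtain ⟨hs1, hs2⟩ := hs
  have e : g.val * s.val = s.val * g.val := by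
    rw [← Matrix.SpecialLinearGroup.coe_mul, ← Matrix.SpecialLinearGroup.coe_mul, hc]
  have e00 := congrFun (congrFun e 0) 0
  have e01 := congrFun (congrFun e 0) 1
  rw [Matrix.mul_apply, Matrix.mul_apply, Fin.sum_univ_two, Fin.sum_univ_two] at e00 e01
  constructor
  · apply mul_left_cancel₀ hs0
    linear_combination (-1) * e01 - (g.val 0 1) * hs1 + (g.val 0 0 - g.val 1 1) * hs2
  · apply mul_left_cancel₀ hs0
    linear_combination e00 + (g.val 1 0) * hs2

/-- An element of the circle subgroup with zero lower left entry has square `1`. -/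
theorem circleSL_sq_of_zero {s : Matrix.SpecialLinearGroup (Fin 2) K} (hs : s ∈ circleSL K)
    (hs0 : s.val 1 0 = 0) : s * s = 1 := by
  obtain ⟨hs1, hs2⟩ := hs
  have hdet : s.val 0 0 * s.val 1 1 - s.val 0 1 * s.val 1 0 = 1 := by
    have := s.2
    rw [Matrix.det_fin_two] at this
    exact this
  rw [hs0, neg_zero] at hs2
  rw [hs2, hs0, ← hs1] at hdet
  have e00 : (s.val * s.val) 0 0 = 1 := by
    rw [Matrix.mul_apply, Fin.sum_univ_two, hs0, hs2]
    linear_combination hdet
  have e01 : (s.val * s.val) 0 1 = 0 := by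
    rw [Matrix.mul_apply, Fin.sum_univ_two, hs2]
    ring
  have e10 : (s.val * s.val) 1 0 = 0 := by
    rw [Matrix.mul_apply, Fin.sum_univ_two, hs0]
    ring
  have e11 : (s.val * s.val) 1 1 = 1 := by
    rw [Matrix.mul_apply, Fin.sum_univ_two, hs0, ← hs1]
    linear_combination hdet
  apply Subtype.ext
  show s.val * s.val = 1
  ext i j
  fin_cases i <;> fin_cases j
  · exact e00.trans (Matrix.one_apply_eq 0).symm
  · exact e01.trans (Matrix.one_apply_ne (by decide)).symm
  · exact e10.trans (Matrix.one_apply_ne (by decide)).symm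
  · exact e11.trans (Matrix.one_apply_eq 1).symm

/-- The circle subgroup as the set of points of the circle `x² + y² = 1`. -/
def circleSL_equiv : ↥(circleSL K) ≃ {p : K × K // p.1 * p.1 + p.2 * p.2 = 1} where
  toFun g := ⟨(g.1.val 0 0, g.1.val 1 0), by
    have hdet : g.1.val 0 0 * g.1.val 1 1 - g.1.val 0 1 * g.1.val 1 0 = 1 := by
      have := g.1.2
      rw [Matrix.det_fin_two] at this
      exact this
    obtain ⟨h1, h2⟩ := g.2
    show g.1.val 0 0 * g.1.val 0 0 + g.1.val 1 0 * g.1.val 1 0 = 1
    rw [h2, ← h1] at hdet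
    linear_combination hdet⟩
  invFun p := ⟨⟨!![p.1.1, -p.1.2; p.1.2, p.1.1], by
    rw [Matrix.det_fin_two_of]
    linear_combination p.2⟩, ⟨by simp, by simp⟩⟩
  left_inv g := by
    obtain ⟨h1, h2⟩ := g.2
    apply Subtype.ext
    apply Subtype.ext
    ext i j
    fin_cases i <;> fin_cases j
    · rfl
    · exact h2.symm
    · rfl
    · exact h1
  right_inv p := by
    apply Subtype.ext
    rfl

/-- The circle `x² + y² = 1` has `q + 1` points when `-1` is not a square. -/
theorem card_circlePts [Fintype K] (hsq : ∀ t : K, 1 + t * t ≠ 0) (h2 : (2 : K) ≠ 0) :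
    Nat.card {p : K × K // p.1 * p.1 + p.2 * p.2 = 1} = Fintype.card K + 1 := by
  let f : Option K → {p : K × K // p.1 * p.1 + p.2 * p.2 = 1} := fun o =>
    match o with
    | none => ⟨(-1, 0), by ring⟩
    | some t => ⟨((1 - t * t) / (1 + t * t), 2 * t / (1 + t * t)), by
        have h := hsq t
        show (1 - t * t) / (1 + t * t) * ((1 - t * t) / (1 + t * t)) +
          2 * t / (1 + t * t) * (2 * t / (1 + t * t)) = 1
        rw [div_mul_div_comm, div_mul_div_comm, ← add_div, div_eq_one_iff_eq (mul_ne_zero h h)]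
        ring⟩
  have hnone : (f none).1 = (-1, 0) := rfl
  have hsome : ∀ t : K, (f (some t)).1 = ((1 - t * t) / (1 + t * t), 2 * t / (1 + t * t)) := fun t => rfl
  have hx : ∀ t : K, (1 - t * t) / (1 + t * t) ≠ -1 := by
    intro t h'
    rw [div_eq_iff (hsq t)] at h'
    apply h2
    linear_combination h'
  have hinj : Function.Injective f := by
    intro o o' h
    have h' := congrArg Subtype.val h
    cases o with
    | none =>
      cases o' with
      | none => rfl
      | some t' =>
        exfalso
        rw [hnone, hsome] at h'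
        exact hx t' (congrArg Prod.fst h').symm
    | some t =>
      cases o' with
      | none =>
        exfalso
        rw [hnone, hsome] at h'
        exact hx t (congrArg Prod.fst h')
      | some t' =>
        rw [hsome, hsome] at h'
        have h1 : (1 - t * t) / (1 + t * t) = (1 - t' * t') / (1 + t' * t') := congrArg Prod.fst h'
        have h2' : 2 * t / (1 + t * t) = 2 * t' / (1 + t' * t') := congrArg Prod.snd h'
        have ht := hsq t
        have ht' := hsq t'
        rw [div_eq_div_iff ht ht'] at h1 h2'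
        have hsq' : t * t = t' * t' := by
          apply mul_left_cancel₀ h2
          linear_combination (-1 : K) * h1
        have h3 : (2 * (1 + t * t)) * t = (2 * (1 + t * t)) * t' := by
          linear_combination h2' + (2 * t) * hsq'
        congr 1
        exact mul_left_cancel₀ (mul_ne_zero h2 ht) h3
  have hsurj : Function.Surjective f := by
    rintro ⟨⟨x, y⟩, hp⟩
    have hp' : x * x + y * y = 1 := hp
    by_cases hx1 : x = -1
    · refine ⟨none, ?_⟩
      apply Subtype.ext
      rw [hnone]
      have hy : y = 0 := by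
        have h0 : y * y = 0 := by
          rw [hx1] at hp'
          linear_combination hp'
        exact mul_self_eq_zero.mp h0
      show ((-1 : K), (0 : K)) = (x, y)
      rw [hx1, hy]
    · have h1x : 1 + x ≠ 0 := fun h => hx1 (by linear_combination h)
      refine ⟨some (y / (1 + x)), ?_⟩
      apply Subtype.ext
      rw [hsome]
      obtain ⟨t, ht⟩ : ∃ t : K, t = y / (1 + x) := ⟨_, rfl⟩
      rw [← ht]
      have hty : t * (1 + x) = y := by rw [ht, div_mul_cancel₀ _ h1x]
      have htt : t * y = 1 - x := by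
        apply mul_right_cancel₀ h1x
        linear_combination y * hty + hp'
      have h1t : (1 + t * t) * (1 + x) = 2 := by linear_combination t * hty + htt
      have hne := hsq t
      apply Prod.ext
      · show (1 - t * t) / (1 + t * t) = x
        rw [div_eq_iff hne]
        apply mul_right_cancel₀ h1x
        linear_combination (-t) * hty - htt - x * h1t
      · show 2 * t / (1 + t * t) = y
        rw [div_eq_iff hne]
        apply mul_right_cancel₀ h1x
        linear_combination 2 * hty - y * h1t
  rw [← Nat.card_congr (Equiv.ofBijective f ⟨hinj, hsurj⟩), Nat.card_eq_fintype_card, Fintype.card_option]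

/-- The circle subgroup has order `q + 1` when `-1` is not a square. -/
theorem card_circleSL [Fintype K] (hsq : ∀ t : K, t * t ≠ -1) (h2 : (2 : K) ≠ 0) :
    Nat.card ↥(circleSL K) = Fintype.card K + 1 := by
  rw [Nat.card_congr circleSL_equiv]
  exact card_circlePts (fun t h => hsq t (by linear_combination h)) h2

/-- `|SL₂(K)| = q (q - 1) (q + 1)`. -/
theorem card_SL2 [Fintype K] : Nat.card (Matrix.SpecialLinearGroup (Fin 2) K) =
    Fintype.card K * (Fintype.card K - 1) * (Fintype.card K + 1) := by
  have h1 := card_GL_eq_card_SL_mul_pred (F := K) 2 (by norm_num)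
  have h2 := Matrix.card_GL_field (𝔽 := K) (n := 2)
  rw [h2, Fin.prod_univ_two] at h1
  simp only [Fin.val_zero, Fin.val_one, pow_zero, pow_one] at h1
  have hq : 2 ≤ Fintype.card K := Fintype.one_lt_card
  obtain ⟨r, hr⟩ : ∃ r, Fintype.card K = r + 2 := ⟨Fintype.card K - 2, by omega⟩
  rw [hr] at h1 ⊢
  have e1 : (r + 2) ^ 2 - 1 = (r + 1) * (r + 3) := by
    have : (r + 2) ^ 2 = (r + 1) * (r + 3) + 1 := by ring
    omega
  have e2 : (r + 2) ^ 2 - (r + 2) = (r + 2) * (r + 1) := by
    have : (r + 2) ^ 2 = (r + 2) * (r + 1) + (r + 2) := by ring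
    omega
  have e3 : r + 2 - 1 = r + 1 := by omega
  rw [e1, e2, e3] at h1
  rw [e3]
  apply Nat.eq_of_mul_eq_mul_right (by omega : 0 < r + 1)
  rw [← h1]
  ring

/-- The index of the circle subgroup is `q (q - 1)`. -/
theorem index_circleSL [Fintype K] (hsq : ∀ t : K, t * t ≠ -1) (h2 : (2 : K) ≠ 0) :
    (circleSL K).index = Fintype.card K * (Fintype.card K - 1) := by
  have h := Subgroup.card_mul_index (circleSL K)
  rw [card_circleSL hsq h2, card_SL2] at h
  apply Nat.eq_of_mul_eq_mul_left (by omega : 0 < Fintype.card K + 1)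
  rw [h]
  ring

end Circle

end Cfsg.Agent.Lib.helper44
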