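import Mathlib

set_option autoImplicit false

namespace Cfsg.Agent.Lib.helper44

open Matrix

/-- A nilpotent square matrix over a field vanishes at the power given by its size. -/
theorem pow_card_eq_zero_of_isNilpotent {F : Type*} [Field F] {n : Type*} [Fintype n] [DecidableEq n]
    (M : Matrix n n F) (hM : IsNilpotent M) : M ^ Fintype.card n = 0 := by
  have h1 := Matrix.isNilpotent_charpoly_sub_pow_of_isNilpotent hM
  have h2 : M.charpoly = Polynomial.X ^ Fintype.card n := by
    have := h1.eq_zero
    exact sub_eq_zero.1 this
  have h3 := Matrix.aeval_self_charpoly M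
  rw [h2] at h3
  simpa using h3

/-- In characteristic `p`, an element of `GL_n` whose `p^j`-th power is one is unipotent:
`g - 1` is nilpotent. -/
theorem sub_one_pow_eq_zero_of_pow_eq_one {F : Type*} [Field F] {n : Type*} [Fintype n] [DecidableEq n]
    (p : ℕ) [Fact p.Prime] [CharP F p] (g : Matrix.GeneralLinearGroup n F) (j : ℕ)
    (hg : g ^ p ^ j = 1) : ((g : Matrix n n F) - 1) ^ p ^ j = 0 := by
  rcases isEmpty_or_nonempty n with hn | hn
  · exact Subsingleton.elim _ _
  · have hM : (g : Matrix n n F) ^ p ^ j = 1 := by
      have := congrArg Units.val hg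
      simpa using this
    rw [sub_pow_char_pow_of_commute p j (Commute.one_right _), hM, one_pow, sub_self]

/-- In characteristic `p`, a unipotent element of `GL_n` is killed by any power of `p` that is at
least `n`. -/
theorem pow_eq_one_of_sub_one_isNilpotent {F : Type*} [Field F] {n : Type*} [Fintype n] [DecidableEq n]
    (p : ℕ) [Fact p.Prime] [CharP F p] (g : Matrix.GeneralLinearGroup n F)
    (hg : IsNilpotent ((g : Matrix n n F) - 1)) (k : ℕ) (hk : Fintype.card n ≤ p ^ k) :
    g ^ p ^ k = 1 := by
  rcases isEmpty_or_nonempty n with hn | hn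
  · exact Subsingleton.elim _ _
  · have h0 : ((g : Matrix n n F) - 1) ^ p ^ k = 0 :=
      pow_eq_zero_of_le hk (pow_card_eq_zero_of_isNilpotent _ hg)
    rw [sub_pow_char_pow_of_commute p k (Commute.one_right _), one_pow, sub_eq_zero] at h0
    ext : 1
    simpa using h0

/-- The nilpotent Jordan block of size `m`: ones on the superdiagonal. -/
def shiftMat (F : Type*) [Field F] (m : ℕ) : Matrix (Fin m) (Fin m) F :=
  Matrix.of fun i j => if j.val = i.val + 1 then 1 else 0

theorem shiftMat_apply (F : Type*) [Field F] (m : ℕ) (i j : Fin m) :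
    shiftMat F m i j = if j.val = i.val + 1 then 1 else 0 := rfl

theorem shiftMat_pow_apply (F : Type*) [Field F] (m : ℕ) (k : ℕ) (i j : Fin m) :
    (shiftMat F m ^ k) i j = if j.val = i.val + k then 1 else 0 := by
  induction k generalizing j with
  | zero =>
    simp only [pow_zero, Matrix.one_apply, add_zero]
    by_cases h : i = j
    · simp [h]
    · rw [if_neg h, if_neg]
      intro h'
      exact h (Fin.ext h'.symm)
  | succ k ih =>
    rw [pow_succ, Matrix.mul_apply]
    simp only [ih, shiftMat_apply]
    by_cases hj : j.val = i.val + (k + 1)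
    · rw [if_pos hj]
      have hlt : i.val + k < m := by have := j.2; omega
      rw [Finset.sum_eq_single (⟨i.val + k, hlt⟩ : Fin m)]
      · have e1 : ((⟨i.val + k, hlt⟩ : Fin m) : ℕ) = i.val + k := rfl
        rw [if_pos e1, if_pos (by rw [e1]; omega)]
        simp
      · intro b _ hb
        have : b.val ≠ i.val + k := fun h => hb (Fin.ext h)
        rw [if_neg this]
        simp
      · intro h
        exact absurd (Finset.mem_univ _) h
    · rw [if_neg hj]
      apply Finset.sum_eq_zero
      intro b _
      by_cases hb : b.val = i.val + k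
      · have : ¬ j.val = b.val + 1 := by omega
        rw [if_neg this]
        simp
      · rw [if_neg hb]
        simp

theorem shiftMat_pow_self (F : Type*) [Field F] (m : ℕ) : shiftMat F m ^ m = 0 := by
  ext i j
  rw [shiftMat_pow_apply]
  have := j.2
  rw [if_neg (by omega)]
  rfl

theorem shiftMat_pow_ne_zero (F : Type*) [Field F] (m : ℕ) (k : ℕ) (hk : k < m) :
    shiftMat F m ^ k ≠ 0 := by
  intro h
  have h1 := congrFun (congrFun h ⟨0, by omega⟩) ⟨k, hk⟩
  rw [shiftMat_pow_apply] at h1
  simp at h1

end Cfsg.Agent.Lib.helper44
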