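import Mathlib
import Cfsg.Agent.Lib.helper44.Unipotent
import Cfsg.Agent.Lib.helper45.SLGen

/-!
# Generation of `SL_n` by a Jordan block, its transpose and one root element

`jm F n = 1 + shiftMat F n` is the upper Jordan block.  If a subgroup `H` of `SL_n(F)`, `n ≥ 3`,
contains `jm`, `jmᵀ` and the corner transvection `1 + s E_{0,n-1}`, then it contains all
`1 + s E_{ij}`; if moreover the powers of `s` exhaust `Fˣ`, then `H = ⊤`
(`eq_top_of_jm_root`).  We also give an explicit `conjQ` of determinant one with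
`jmᵀ * conjQ * jm = conjQ`, and deduce that `SL_n(F)` is generated by three conjugates of `jm`.
-/

set_option autoImplicit false

namespace Cfsg.Agent.Lib.helper44

open Matrix

section MatGrp

variable {n : ℕ} {F : Type*} [Field F]

/-- A set of square matrices closed under products and right inverses. -/
structure MatGrp (S : Set (Matrix (Fin n) (Fin n) F)) : Prop where
  mul : ∀ {a b : Matrix (Fin n) (Fin n) F}, a ∈ S → b ∈ S → a * b ∈ S
  inv : ∀ {a : Matrix (Fin n) (Fin n) F}, a ∈ S → ∃ b ∈ S, a * b = 1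

variable {S : Set (Matrix (Fin n) (Fin n) F)}

theorem MatGrp.conj (hS : MatGrp S) {g M M' : Matrix (Fin n) (Fin n) F}
    (hg : g ∈ S) (hM : M ∈ S) (h : M' * g = g * M) : M' ∈ S := by
  obtain ⟨g', hg', e⟩ := hS.inv hg
  have : M' = g * M * g' := by
    rw [← h, mul_assoc, e, mul_one]
  rw [this]
  exact hS.mul (hS.mul hg hM) hg'

theorem MatGrp.conj' (hS : MatGrp S) {g M M' : Matrix (Fin n) (Fin n) F}
    (hg : g ∈ S) (hM : M ∈ S) (h : g * M' = M * g) : M' ∈ S := by
  obtain ⟨g', hg', e⟩ := hS.inv hg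
  have e' : g' * g = 1 := mul_eq_one_comm.mp e
  have : M' = g' * (M * g) := by
    rw [← h, ← mul_assoc, e', one_mul]
  rw [this]
  exact hS.mul hg' (hS.mul hM hg)

theorem MatGrp.cancel_left (hS : MatGrp S) {a b : Matrix (Fin n) (Fin n) F}
    (ha : a ∈ S) (hab : a * b ∈ S) : b ∈ S := by
  obtain ⟨a', ha', e⟩ := hS.inv ha
  have e' : a' * a = 1 := mul_eq_one_comm.mp e
  have : b = a' * (a * b) := by rw [← mul_assoc, e', one_mul]
  rw [this]
  exact hS.mul ha' hab

theorem MatGrp.of_mul_eq_one (hS : MatGrp S) {a b : Matrix (Fin n) (Fin n) F}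
    (ha : a ∈ S) (h : a * b = 1) : b ∈ S := by
  obtain ⟨a', ha', e⟩ := hS.inv ha
  have e' : a' * a = 1 := mul_eq_one_comm.mp e
  have : b = a' := by
    calc b = a' * a * b := by rw [e', one_mul]
      _ = a' := by rw [mul_assoc, h, mul_one]
  rw [this]; exact ha'

theorem MatGrp.transpose (hS : MatGrp S) :
    MatGrp {M : Matrix (Fin n) (Fin n) F | Mᵀ ∈ S} := by
  refine ⟨?_, ?_⟩
  · intro a b ha hb
    show (a * b)ᵀ ∈ S
    rw [Matrix.transpose_mul]
    exact hS.mul hb ha
  · intro a ha
    obtain ⟨b, hb, e⟩ := hS.inv (a := aᵀ) ha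
    refine ⟨bᵀ, ?_, ?_⟩
    · show bᵀᵀ ∈ S
      rw [Matrix.transpose_transpose]; exact hb
    · have e' : b * aᵀ = 1 := mul_eq_one_comm.mp e
      have := congrArg Matrix.transpose e'
      rw [Matrix.transpose_mul, Matrix.transpose_transpose, Matrix.transpose_one] at this
      exact this

/-- The matrices of the elements of a subgroup of `SL`. -/
def matCarrier (H : Subgroup (Matrix.SpecialLinearGroup (Fin n) F)) :
    Set (Matrix (Fin n) (Fin n) F) :=
  {M | ∃ x ∈ H, (x : Matrix (Fin n) (Fin n) F) = M}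

theorem matGrp_matCarrier (H : Subgroup (Matrix.SpecialLinearGroup (Fin n) F)) :
    MatGrp (matCarrier H) := by
  refine ⟨?_, ?_⟩
  · rintro a b ⟨x, hx, rfl⟩ ⟨y, hy, rfl⟩
    exact ⟨x * y, H.mul_mem hx hy, Matrix.SpecialLinearGroup.coe_mul x y⟩
  · rintro a ⟨x, hx, rfl⟩
    refine ⟨_, ⟨x⁻¹, H.inv_mem hx, rfl⟩, ?_⟩
    rw [← Matrix.SpecialLinearGroup.coe_mul, mul_inv_cancel, Matrix.SpecialLinearGroup.coe_one]

/-! ### Rank one perturbations of the identity -/

theorem conj_rankOne (g : Matrix (Fin n) (Fin n) F) (a φ : Fin n → F) :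
    g * (1 + vecMulVec a (φ ᵥ* g)) = (1 + vecMulVec (g *ᵥ a) φ) * g := by
  rw [mul_add, add_mul, mul_one, one_mul, Matrix.mul_vecMulVec, Matrix.vecMulVec_mul]

theorem rankOne_mul_right (a φ φ' : Fin n → F) (h : φ ⬝ᵥ a = 0) :
    (1 + vecMulVec a φ) * (1 + vecMulVec a φ') = 1 + vecMulVec a (φ + φ') := by
  rw [mul_add, mul_one, add_mul, one_mul, Matrix.vecMulVec_mul_vecMulVec, h, zero_smul,
    Matrix.vecMulVec_zero, add_zero, Matrix.vecMulVec_add, add_assoc]

theorem rankOne_mul_left (a a' φ : Fin n → F) (h : φ ⬝ᵥ a' = 0) :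
    (1 + vecMulVec a φ) * (1 + vecMulVec a' φ) = 1 + vecMulVec (a + a') φ := by
  rw [mul_add, mul_one, add_mul, one_mul, Matrix.vecMulVec_mul_vecMulVec, h, zero_smul,
    Matrix.vecMulVec_zero, add_zero, Matrix.add_vecMulVec, add_assoc]

theorem one_add_single_eq (i j : Fin n) (c : F) :
    (1 : Matrix (Fin n) (Fin n) F) + Matrix.single i j c =
      1 + vecMulVec (Pi.single i 1) (c • Pi.single j 1) := by
  rw [Matrix.vecMulVec_smul, ← Matrix.single_eq_single_vecMulVec_single, Matrix.smul_single,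
    smul_eq_mul, mul_one]

theorem smul_single_dotProduct_single (c : F) (i j : Fin n) (h : i ≠ j) :
    (c • (Pi.single i (1 : F) : Fin n → F)) ⬝ᵥ Pi.single j 1 = 0 := by
  rw [dotProduct_single, Pi.smul_apply, Pi.single_apply, if_neg (Ne.symm h)]
  simp

/-! ### The Jordan block -/

/-- The upper unitriangular Jordan block. -/
def jm (F : Type*) [Field F] (n : ℕ) : Matrix (Fin n) (Fin n) F := 1 + shiftMat F n

theorem shiftMat_mulVec (v : Fin n → F) (i : Fin n) :
    (shiftMat F n *ᵥ v) i = if h : i.val + 1 < n then v ⟨i.val + 1, h⟩ else 0 := by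
  simp only [Matrix.mulVec, dotProduct, shiftMat_apply]
  split_ifs with h
  · rw [Finset.sum_eq_single (⟨i.val + 1, h⟩ : Fin n)]
    · simp
    · intro b _ hb
      rw [if_neg, zero_mul]
      intro hb'
      exact hb (Fin.ext hb')
    · intro h'; exact absurd (Finset.mem_univ _) h'
  · apply Finset.sum_eq_zero
    intro b _
    rw [if_neg, zero_mul]
    have := b.2
    omega

theorem vecMul_shiftMat (v : Fin n → F) (j : Fin n) :
    (v ᵥ* shiftMat F n) j =
      if h : 0 < j.val then v ⟨j.val - 1, lt_of_le_of_lt (Nat.sub_le _ _) j.2⟩ else 0 := by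
  simp only [Matrix.vecMul, dotProduct, shiftMat_apply]
  split_ifs with h
  · rw [Finset.sum_eq_single (⟨j.val - 1, lt_of_le_of_lt (Nat.sub_le _ _) j.2⟩ : Fin n)]
    · rw [if_pos (by simp only; omega), mul_one]
    · intro b _ hb
      rw [if_neg, mul_zero]
      intro hb'
      exact hb (Fin.ext (by simp only; omega))
    · intro h'; exact absurd (Finset.mem_univ _) h'
  · apply Finset.sum_eq_zero
    intro b _
    rw [if_neg, mul_zero]
    omega

theorem jm_mulVec (v : Fin n → F) (i : Fin n) :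
    (jm F n *ᵥ v) i = v i + if h : i.val + 1 < n then v ⟨i.val + 1, h⟩ else 0 := by
  rw [jm, Matrix.add_mulVec, Matrix.one_mulVec, Pi.add_apply, shiftMat_mulVec]

theorem vecMul_jm (v : Fin n → F) (j : Fin n) :
    (v ᵥ* jm F n) j =
      v j + if h : 0 < j.val then v ⟨j.val - 1, lt_of_le_of_lt (Nat.sub_le _ _) j.2⟩ else 0 := by
  rw [jm, Matrix.vecMul_add, Matrix.vecMul_one, Pi.add_apply, vecMul_shiftMat]

theorem jm_mulVec_single (k k' : Fin n) (h : k'.val + 1 = k.val) :
    jm F n *ᵥ Pi.single k (1 : F) = Pi.single k 1 + Pi.single k' 1 := by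
  ext i
  rw [jm_mulVec, Pi.add_apply]
  congr 1
  by_cases hik : i = k'
  · subst hik
    have h1 : i.val + 1 < n := by have := k.2; omega
    rw [dif_pos h1]
    have : (⟨i.val + 1, h1⟩ : Fin n) = k := Fin.ext h
    rw [this]; simp
  · rw [Pi.single_apply, if_neg hik]
    split_ifs with h1
    · rw [Pi.single_apply, if_neg]
      intro e
      apply hik
      apply Fin.ext
      have := congrArg Fin.val e
      simp only at this
      omega
    · rfl

theorem jm_mulVec_single_zero (k : Fin n) (h : k.val = 0) :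
    jm F n *ᵥ Pi.single k (1 : F) = Pi.single k 1 := by
  ext i
  rw [jm_mulVec]
  split_ifs with h1
  · have e0 : (Pi.single k (1 : F) : Fin n → F) ⟨i.val + 1, h1⟩ = 0 := by
      rw [Pi.single_apply, if_neg]
      intro e
      have := congrArg Fin.val e
      simp only at this
      omega
    rw [e0, add_zero]
  · rw [add_zero]

theorem single_vecMul_jm (j j' : Fin n) (h : j.val + 1 = j'.val) :
    Pi.single j (1 : F) ᵥ* jm F n = Pi.single j 1 + Pi.single j' 1 := by
  ext i
  rw [vecMul_jm, Pi.add_apply]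
  congr 1
  by_cases hij : i = j'
  · subst hij
    have h1 : 0 < i.val := by omega
    rw [dif_pos h1]
    have : (⟨i.val - 1, lt_of_le_of_lt (Nat.sub_le _ _) i.2⟩ : Fin n) = j :=
      Fin.ext (by simp only; omega)
    rw [this]; simp
  · have e0 : (Pi.single j' (1 : F) : Fin n → F) i = 0 := by
      rw [Pi.single_apply, if_neg hij]
    rw [e0]
    split_ifs with h1
    · rw [Pi.single_apply, if_neg]
      intro e
      apply hij
      apply Fin.ext
      have := congrArg Fin.val e
      simp only at this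
      omega
    · rfl

theorem single_vecMul_jm_last (j : Fin n) (h : j.val + 1 = n) :
    Pi.single j (1 : F) ᵥ* jm F n = Pi.single j 1 := by
  ext i
  rw [vecMul_jm]
  split_ifs with h1
  · have e0 : (Pi.single j (1 : F) : Fin n → F)
        ⟨i.val - 1, lt_of_le_of_lt (Nat.sub_le _ _) i.2⟩ = 0 := by
      rw [Pi.single_apply, if_neg]
      intro e
      have hv := congrArg Fin.val e
      have hi := i.2
      simp only at hv
      omega
    rw [e0, add_zero]
  · rw [add_zero]

/-- The alternating vector. -/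
def altVec (F : Type*) [Field F] (n : ℕ) : Fin n → F := fun i => (-1) ^ i.val

theorem jm_mulVec_alt (l : Fin n) (hl : l.val + 1 = n) :
    jm F n *ᵥ altVec F n = ((-1 : F) ^ (n - 1)) • Pi.single l 1 := by
  ext i
  rw [jm_mulVec, Pi.smul_apply, Pi.single_apply, smul_eq_mul]
  by_cases hil : i = l
  · subst hil
    rw [dif_neg (by omega), if_pos rfl, add_zero, mul_one]
    show (-1 : F) ^ i.val = _
    congr 1
    omega
  · have h1 : i.val + 1 < n := by
      have := i.2
      have : i.val ≠ l.val := fun e => hil (Fin.ext e)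
      omega
    rw [dif_pos h1, if_neg hil, mul_zero]
    show (-1 : F) ^ i.val + (-1 : F) ^ (i.val + 1) = 0
    rw [pow_succ]; ring

theorem alt_vecMul_jm (z : Fin n) (hz : z.val = 0) :
    altVec F n ᵥ* jm F n = Pi.single z 1 := by
  ext j
  rw [vecMul_jm, Pi.single_apply]
  by_cases hjz : j = z
  · subst hjz
    rw [dif_neg (by omega), if_pos rfl, add_zero]
    show (-1 : F) ^ j.val = 1
    rw [hz, pow_zero]
  · have h1 : 0 < j.val := by
      have : j.val ≠ z.val := fun e => hjz (Fin.ext e)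
      omega
    rw [dif_pos h1, if_neg hjz]
    show (-1 : F) ^ j.val + (-1 : F) ^ (j.val - 1) = 0
    obtain ⟨m, hm⟩ : ∃ m, j.val = m + 1 := ⟨j.val - 1, by omega⟩
    rw [hm, Nat.add_sub_cancel, pow_succ]; ring

/-! ### The lower triangle -/

theorem lower_col_zero_step (hS : MatGrp S) (hL : (jm F n)ᵀ ∈ S) (c : F) (z k k' : Fin n)
    (hz : z.val = 0) (hk : k.val + 1 = k'.val)
    (h : 1 + vecMulVec (Pi.single k 1) (c • Pi.single z 1) ∈ S) :
    1 + vecMulVec (Pi.single k' 1) (c • Pi.single z 1) ∈ S := by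
  have key := conj_rankOne (jm F n)ᵀ (Pi.single k 1) (c • Pi.single z (1 : F))
  rw [Matrix.vecMul_transpose, Matrix.mulVec_transpose, Matrix.mulVec_smul,
    jm_mulVec_single_zero z hz, single_vecMul_jm k k' hk] at key
  have h1 := hS.conj hL h key.symm
  have hne : z ≠ k' := by
    intro e
    rw [e] at hz
    omega
  rw [← rankOne_mul_left _ _ _ (smul_single_dotProduct_single c z k' hne)] at h1
  exact hS.cancel_left h h1

theorem lower_col_step (hS : MatGrp S) (hJ : jm F n ∈ S) (c : F) (j j' k k' : Fin n)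
    (hj : j.val + 1 = j'.val) (hk : k'.val + 1 = k.val) (hjk : j ≠ k) (hjk' : j ≠ k')
    (h1 : 1 + vecMulVec (Pi.single k 1) (c • Pi.single j 1) ∈ S)
    (h2 : 1 + vecMulVec (Pi.single k' 1) (c • Pi.single j 1) ∈ S) :
    1 + vecMulVec (Pi.single k 1) (c • Pi.single j' 1) ∈ S := by
  have key := conj_rankOne (jm F n) (Pi.single k 1) (c • Pi.single j (1 : F))
  rw [jm_mulVec_single k k' hk, Matrix.smul_vecMul, single_vecMul_jm j j' hj, smul_add] at key
  have h3 : 1 + vecMulVec (Pi.single k 1 + Pi.single k' 1) (c • Pi.single j (1 : F)) ∈ S := by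
    rw [← rankOne_mul_left _ _ _ (smul_single_dotProduct_single c j k' hjk')]
    exact hS.mul h1 h2
  have h4 := hS.conj' hJ h3 key
  rw [← rankOne_mul_right _ _ _ (smul_single_dotProduct_single c j k hjk)] at h4
  exact hS.cancel_left h1 h4

theorem lower_all (hS : MatGrp S) (hJ : jm F n ∈ S) (hL : (jm F n)ᵀ ∈ S) (c : F)
    (h10 : ∀ z o : Fin n, z.val = 0 → o.val = 1 →
      1 + vecMulVec (Pi.single o 1) (c • Pi.single z 1) ∈ S) :
    ∀ (j k : ℕ) (hjk : j < k) (hk : k < n),
      1 + vecMulVec (Pi.single (⟨k, hk⟩ : Fin n) 1)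
        (c • Pi.single (⟨j, lt_trans hjk hk⟩ : Fin n) 1) ∈ S := by
  intro j
  induction j with
  | zero =>
    intro k
    induction k with
    | zero => intro hjk; omega
    | succ k ih =>
      intro hjk hk
      by_cases hk0 : k = 0
      · subst hk0
        exact h10 _ _ rfl rfl
      · have h1 := ih (by omega) (by omega)
        exact lower_col_zero_step hS hL c ⟨0, by omega⟩ ⟨k, by omega⟩ ⟨k + 1, hk⟩ rfl rfl h1
  | succ j ih =>
    intro k hjk hk
    have h1 := ih k (by omega) hk
    have h2 := ih (k - 1) (by omega) (by omega)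
    refine lower_col_step hS hJ c ⟨j, by omega⟩ ⟨j + 1, by omega⟩ ⟨k, hk⟩ ⟨k - 1, by omega⟩ rfl
      ?_ ?_ ?_ h1 h2
    · simp only; omega
    · intro e
      have := congrArg Fin.val e
      simp only at this
      omega
    · intro e
      have := congrArg Fin.val e
      simp only at this
      omega

theorem lower_single (hS : MatGrp S) (hJ : jm F n ∈ S) (hL : (jm F n)ᵀ ∈ S) (c : F)
    (h10 : ∀ z o : Fin n, z.val = 0 → o.val = 1 → 1 + Matrix.single o z c ∈ S) :
    ∀ j k : Fin n, j < k → 1 + Matrix.single k j c ∈ S := by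
  intro j k hjk
  have := lower_all hS hJ hL c (fun z o hz ho => by
    rw [← one_add_single_eq]; exact h10 z o hz ho) j.val k.val hjk k.2
  rw [← one_add_single_eq] at this
  exact this

theorem bridge (hS : MatGrp S) (hJ : jm F n ∈ S) (hL : (jm F n)ᵀ ∈ S) (c : F) (z o l : Fin n)
    (hz : z.val = 0) (ho : o.val = 1) (hl : l.val + 1 = n)
    (h : 1 + vecMulVec (Pi.single z 1) ((c * (-1) ^ (n - 1)) • Pi.single l 1) ∈ S) :
    1 + vecMulVec (Pi.single o 1) (c • Pi.single z 1) ∈ S := by
  have key1 := conj_rankOne (jm F n)ᵀ (Pi.single z 1) (c • altVec F n)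
  rw [Matrix.vecMul_transpose, Matrix.mulVec_transpose, Matrix.mulVec_smul, jm_mulVec_alt l hl,
    single_vecMul_jm z o (by omega), smul_smul] at key1
  have h1 := hS.conj hL h key1.symm
  have key2 := conj_rankOne (jm F n) (Pi.single o 1) (c • altVec F n)
  rw [jm_mulVec_single o z (by omega), Matrix.smul_vecMul, alt_vecMul_jm z hz,
    add_comm (Pi.single o (1 : F) : Fin n → F) (Pi.single z 1)] at key2
  exact hS.conj' hJ h1 key2

theorem bridge_single (hS : MatGrp S) (hJ : jm F n ∈ S) (hL : (jm F n)ᵀ ∈ S) (c : F)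
    (z o l : Fin n) (hz : z.val = 0) (ho : o.val = 1) (hl : l.val + 1 = n)
    (h : 1 + Matrix.single z l (c * (-1) ^ (n - 1)) ∈ S) :
    1 + Matrix.single o z c ∈ S := by
  rw [one_add_single_eq] at h ⊢
  exact bridge hS hJ hL c z o l hz ho hl h

/-! ### The upper triangle, by transposition -/

theorem transpose_one_add_single (i j : Fin n) (c : F) :
    ((1 : Matrix (Fin n) (Fin n) F) + Matrix.single i j c)ᵀ = 1 + Matrix.single j i c := by
  rw [Matrix.transpose_add, Matrix.transpose_one, Matrix.transpose_single]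

theorem upper_single (hS : MatGrp S) (hJ : jm F n ∈ S) (hL : (jm F n)ᵀ ∈ S) (c : F)
    (h01 : ∀ z o : Fin n, z.val = 0 → o.val = 1 → 1 + Matrix.single z o c ∈ S) :
    ∀ j k : Fin n, j < k → 1 + Matrix.single j k c ∈ S := by
  have hS' := hS.transpose
  have hJ' : jm F n ∈ {M : Matrix (Fin n) (Fin n) F | Mᵀ ∈ S} := hL
  have hL' : (jm F n)ᵀ ∈ {M : Matrix (Fin n) (Fin n) F | Mᵀ ∈ S} := by
    show (jm F n)ᵀᵀ ∈ S
    rw [Matrix.transpose_transpose]; exact hJ
  have key := lower_single hS' hJ' hL' c (fun z o hz ho => by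
    show (1 + Matrix.single o z c)ᵀ ∈ S
    rw [transpose_one_add_single]; exact h01 z o hz ho)
  intro j k hjk
  have h := key j k hjk
  change (1 + Matrix.single k j c)ᵀ ∈ S at h
  rwa [transpose_one_add_single] at h

theorem bridgeT_single (hS : MatGrp S) (hJ : jm F n ∈ S) (hL : (jm F n)ᵀ ∈ S) (c : F)
    (z o l : Fin n) (hz : z.val = 0) (ho : o.val = 1) (hl : l.val + 1 = n)
    (h : 1 + Matrix.single l z (c * (-1) ^ (n - 1)) ∈ S) :
    1 + Matrix.single z o c ∈ S := by
  have hS' := hS.transpose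
  have hJ' : jm F n ∈ {M : Matrix (Fin n) (Fin n) F | Mᵀ ∈ S} := hL
  have hL' : (jm F n)ᵀ ∈ {M : Matrix (Fin n) (Fin n) F | Mᵀ ∈ S} := by
    show (jm F n)ᵀᵀ ∈ S
    rw [Matrix.transpose_transpose]; exact hJ
  have key := bridge_single hS' hJ' hL' c z o l hz ho hl (by
    show (1 + Matrix.single z l (c * (-1) ^ (n - 1)))ᵀ ∈ S
    rw [transpose_one_add_single]; exact h)
  change (1 + Matrix.single o z c)ᵀ ∈ S at key
  rwa [transpose_one_add_single] at key

/-- From the corner root element to all root elements with the same parameter. -/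
theorem all_of_corner (hn : 2 ≤ n) (hS : MatGrp S) (hJ : jm F n ∈ S) (hL : (jm F n)ᵀ ∈ S)
    (c : F) (z l : Fin n) (hz : z.val = 0) (hl : l.val + 1 = n)
    (h : 1 + Matrix.single z l c ∈ S) :
    ∀ i j : Fin n, i ≠ j → 1 + Matrix.single i j c ∈ S := by
  have hεε : ((-1 : F) ^ (n - 1)) * ((-1 : F) ^ (n - 1)) = 1 := by
    rw [← mul_pow]; simp
  have hlow : ∀ j k : Fin n, j < k → 1 + Matrix.single k j (c * (-1) ^ (n - 1)) ∈ S := by
    apply lower_single hS hJ hL
    intro z' o' hz' ho'
    have : z' = z := Fin.ext (by omega)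
    subst this
    apply bridge_single hS hJ hL (c * (-1) ^ (n - 1)) z' o' l hz ho' hl
    rw [mul_assoc, hεε, mul_one]; exact h
  have hup : ∀ j k : Fin n, j < k → 1 + Matrix.single j k c ∈ S := by
    apply upper_single hS hJ hL
    intro z' o' hz' ho'
    have : z' = z := Fin.ext (by omega)
    subst this
    apply bridgeT_single hS hJ hL c z' o' l hz ho' hl
    exact hlow z' l (by rw [Fin.lt_def]; omega)
  have hlow' : ∀ j k : Fin n, j < k → 1 + Matrix.single k j c ∈ S := by
    intro j k hjk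
    have h0 := hlow j k hjk
    rcases neg_one_pow_eq_or F (n - 1) with h1 | h1
    · rw [h1, mul_one] at h0; exact h0
    · rw [h1, mul_neg, mul_one] at h0
      apply hS.of_mul_eq_one h0
      have hne : j ≠ k := ne_of_lt hjk
      rw [mul_add, mul_one, add_mul, one_mul, Matrix.single_mul_single_of_ne _ _ _ _ hne,
        add_zero, add_assoc, ← Matrix.single_add, neg_add_cancel, Matrix.single_zero, add_zero]
  intro i j hij
  rcases lt_or_gt_of_ne hij with h1 | h1
  · exact hup i j h1
  · exact hlow' j i h1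

/-- A subgroup of `SL_n(F)`, `n ≥ 3`, containing the Jordan block, its transpose and a corner
root element whose parameter generates `Fˣ`, is everything. -/
theorem eq_top_of_jm_root (hn : 3 ≤ n) (H : Subgroup (Matrix.SpecialLinearGroup (Fin n) F))
    (hJ : jm F n ∈ matCarrier H) (hL : (jm F n)ᵀ ∈ matCarrier H) (s : F)
    (hs : ∀ a : F, a ≠ 0 → ∃ m : ℕ, 0 < m ∧ s ^ m = a)
    (z l : Fin n) (hz : z.val = 0) (hl : l.val + 1 = n)
    (hroot : 1 + Matrix.single z l s ∈ matCarrier H) : H = ⊤ := by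
  have hS := matGrp_matCarrier H
  have hnt : Nontrivial (Fin n) := Fin.nontrivial_iff_two_le.mpr (by omega)
  have hall := all_of_corner (by omega) hS hJ hL s z l hz hl hroot
  have hC1 : ∀ (i j : Fin n) (hij : i ≠ j),
      Matrix.SpecialLinearGroup.transvection hij s ∈ H := by
    intro i j hij
    obtain ⟨x, hx, e⟩ := hall i j hij
    have : x = Matrix.SpecialLinearGroup.transvection hij s := Subtype.ext (by rw [e]; rfl)
    rw [← this]; exact hx
  have hmul : ∀ a b : F,
      (∀ (i j : Fin n) (hij : i ≠ j), Matrix.SpecialLinearGroup.transvection hij a ∈ H) →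
      (∀ (i j : Fin n) (hij : i ≠ j), Matrix.SpecialLinearGroup.transvection hij b ∈ H) →
      ∀ (i k : Fin n) (hik : i ≠ k), Matrix.SpecialLinearGroup.transvection hik (a * b) ∈ H := by
    intro a b ha hb i k hik
    obtain ⟨j, hji, hjk⟩ : ∃ j : Fin n, j ≠ i ∧ j ≠ k := by
      by_contra hcon
      have hsub : (Finset.univ : Finset (Fin n)) ⊆ {i, k} := by
        intro j _
        by_contra hj
        apply hcon
        refine ⟨j, ?_, ?_⟩
        · intro e; apply hj; simp [e]
        · intro e; apply hj; simp [e]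
      have h1 := Finset.card_le_card hsub
      rw [Finset.card_univ, Fintype.card_fin] at h1
      have h2 := Finset.card_le_two (a := i) (b := k)
      omega
    rw [← Cfsg.Agent.Lib.helper45.transvection_comm (Ne.symm hji) hjk hik a b]
    exact H.mul_mem (H.mul_mem (H.mul_mem (ha _ _ _) (hb _ _ _)) (H.inv_mem (ha _ _ _)))
      (H.inv_mem (hb _ _ _))
  have hpow : ∀ m : ℕ, ∀ (i j : Fin n) (hij : i ≠ j),
      Matrix.SpecialLinearGroup.transvection hij (s ^ (m + 1)) ∈ H := by
    intro m
    induction m with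
    | zero => intro i j hij; rw [zero_add, pow_one]; exact hC1 i j hij
    | succ m ih => intro i j hij; rw [pow_succ]; exact hmul _ _ ih hC1 i j hij
  apply Cfsg.Agent.Lib.helper45.eq_top_of_transvection_mem
  intro i j hij a
  by_cases ha : a = 0
  · subst ha
    rw [Matrix.SpecialLinearGroup.transvection_coeff_zero]; exact H.one_mem
  · obtain ⟨m, hm, rfl⟩ := hs a ha
    obtain ⟨m', rfl⟩ : ∃ m', m = m' + 1 := ⟨m - 1, by omega⟩
    exact hpow m' i j hij

end MatGrp

section Conjugator

variable {n : ℕ} {F : Type*} [Field F]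

/-- Shifted Pascal triangle: `pasc j r = C(j-1, r-1)`. -/
def pasc : ℕ → ℕ → ℕ
  | 0, 0 => 1
  | 0, _ + 1 => 0
  | _ + 1, 0 => 0
  | j + 1, r + 1 => pasc j r + pasc j (r + 1)

theorem pasc_zero_succ (r : ℕ) : pasc 0 (r + 1) = 0 := rfl

theorem pasc_succ_succ (j r : ℕ) : pasc (j + 1) (r + 1) = pasc j r + pasc j (r + 1) := rfl

theorem pasc_eq_zero : ∀ (j r : ℕ), j < r → pasc j r = 0 := by
  intro j
  induction j with
  | zero =>
    intro r hr
    obtain ⟨r', rfl⟩ : ∃ r', r = r' + 1 := ⟨r - 1, by omega⟩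
    rfl
  | succ j ih =>
    intro r hr
    obtain ⟨r', rfl⟩ : ∃ r', r = r' + 1 := ⟨r - 1, by omega⟩
    rw [pasc_succ_succ, ih r' (by omega), ih (r' + 1) (by omega)]

theorem pasc_self : ∀ j : ℕ, pasc j j = 1 := by
  intro j
  induction j with
  | zero => rfl
  | succ j ih => rw [pasc_succ_succ, ih, pasc_eq_zero j (j + 1) (by omega)]

/-- An explicit matrix of determinant one conjugating the Jordan block to the inverse of its
transpose. -/
def conjQ (F : Type*) [Field F] (n : ℕ) : Matrix (Fin n) (Fin n) F :=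
  Matrix.of fun i j => (-1) ^ j.val * (pasc j.val (n - 1 - i.val) : F)

theorem conjQ_apply (i j : Fin n) :
    conjQ F n i j = (-1) ^ j.val * (pasc j.val (n - 1 - i.val) : F) := rfl

theorem mul_jm_apply (M : Matrix (Fin n) (Fin n) F) (i j : Fin n) :
    (M * jm F n) i j =
      M i j + if h : 0 < j.val then M i ⟨j.val - 1, lt_of_le_of_lt (Nat.sub_le _ _) j.2⟩
        else 0 := by
  rw [Matrix.mul_apply_eq_vecMul, vecMul_jm]

theorem jmT_mul_apply (M : Matrix (Fin n) (Fin n) F) (i j : Fin n) :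
    ((jm F n)ᵀ * M) i j =
      M i j + if h : 0 < i.val then M ⟨i.val - 1, lt_of_le_of_lt (Nat.sub_le _ _) i.2⟩ j
        else 0 := by
  have h := mul_jm_apply Mᵀ j i
  have e : ((jm F n)ᵀ * M) i j = (Mᵀ * jm F n) j i := by
    rw [← Matrix.transpose_apply (Mᵀ * jm F n), Matrix.transpose_mul, Matrix.transpose_transpose]
  rw [e, h]
  rfl

theorem jmT_conjQ_jm : (jm F n)ᵀ * conjQ F n * jm F n = conjQ F n := by
  ext i j
  rw [mul_jm_apply, jmT_mul_apply]
  by_cases hj : 0 < j.val
  · rw [dif_pos hj, jmT_mul_apply]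
    obtain ⟨j', hj'⟩ : ∃ j', j.val = j' + 1 := ⟨j.val - 1, by omega⟩
    by_cases hi : 0 < i.val
    · rw [dif_pos hi, dif_pos hi]
      simp only [conjQ_apply]
      obtain ⟨r, hr⟩ : ∃ r, n - 1 - i.val = r := ⟨_, rfl⟩
      have hr' : n - 1 - (i.val - 1) = r + 1 := by have := i.2; omega
      rw [hr, hr', hj', Nat.add_sub_cancel, pasc_succ_succ]
      push_cast
      ring
    · rw [dif_neg hi, dif_neg hi]
      simp only [conjQ_apply]
      have h0 : pasc (j.val - 1) (n - 1 - i.val) = 0 := by
        apply pasc_eq_zero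
        have := j.2
        omega
      rw [h0]
      simp
  · rw [dif_neg hj]
    by_cases hi : 0 < i.val
    · rw [dif_pos hi]
      simp only [conjQ_apply]
      have hj0 : j.val = 0 := by omega
      obtain ⟨r, hr⟩ : ∃ r, n - 1 - (i.val - 1) = r + 1 :=
        ⟨n - 1 - i.val, by have := i.2; omega⟩
      rw [hr, hj0, pasc_zero_succ]
      simp
    · rw [dif_neg hi]
      simp

theorem det_antiTriangular : ∀ (m : ℕ) (A : Matrix (Fin m) (Fin m) F),
    (∀ i j : Fin m, i.val + j.val + 1 < m → A i j = 0) →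
    A.det = ∏ j : Fin m, ((-1) ^ j.val * A (Fin.rev j) j) := by
  intro m
  induction m with
  | zero => intro A _; simp
  | succ m ih =>
    intro A hA
    rw [Matrix.det_succ_row_zero, Finset.sum_eq_single (Fin.last m)]
    · rw [Fin.succAbove_last, ih (A.submatrix Fin.succ Fin.castSucc), Fin.prod_univ_castSucc]
      · rw [Fin.rev_last, Fin.val_last, mul_comm]
        congr 1
        apply Finset.prod_congr rfl
        intro j _
        rw [Fin.rev_castSucc]
        rfl
      · intro i j hij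
        apply hA
        simp only [Fin.val_succ, Fin.val_castSucc]
        omega
    · intro j _ hj
      have hj' : j.val < m := by
        have := j.2
        have : j.val ≠ m := fun e => hj (Fin.ext e)
        omega
      rw [hA 0 j (by simp only [Fin.val_zero]; omega), mul_zero, zero_mul]
    · intro h; exact absurd (Finset.mem_univ _) h

theorem det_conjQ : (conjQ F n).det = 1 := by
  rw [det_antiTriangular]
  · apply Finset.prod_eq_one
    intro j _
    rw [conjQ_apply, Fin.val_rev]
    have e : n - 1 - (n - (j.val + 1)) = j.val := by have := j.2; omega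
    rw [e, pasc_self, Nat.cast_one, mul_one, ← mul_pow]
    simp
  · intro i j hij
    rw [conjQ_apply, pasc_eq_zero _ _ (by omega)]
    simp

theorem det_jm : (jm F n).det = 1 := by
  rw [Matrix.det_of_isUpperTriangular]
  · apply Finset.prod_eq_one
    intro i _
    rw [jm, Matrix.add_apply, Matrix.one_apply_eq, shiftMat_apply, if_neg (by omega), add_zero]
  · intro i j hij
    have hij' : j < i := hij
    rw [jm, Matrix.add_apply, Matrix.one_apply_ne (ne_of_gt hij'), shiftMat_apply, if_neg, add_zero]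
    rw [Fin.lt_def] at hij'
    omega

theorem exists_pow_generator [Fintype F] :
    ∃ s : F, ∀ a : F, a ≠ 0 → ∃ m : ℕ, 0 < m ∧ s ^ m = a := by
  obtain ⟨g, hg⟩ := IsCyclic.exists_generator (α := Fˣ)
  refine ⟨(g : F), ?_⟩
  intro a ha
  have hmem := hg (Units.mk0 a ha)
  rw [← mem_powers_iff_mem_zpowers] at hmem
  obtain ⟨m, hm⟩ := hmem
  have hm' : (g : F) ^ m = a := by
    have := congrArg Units.val hm
    simpa using this
  by_cases h0 : m = 0
  · subst h0
    refine ⟨orderOf g, orderOf_pos g, ?_⟩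
    rw [← hm', pow_zero, ← Units.val_pow_eq_pow_val, pow_orderOf_eq_one]
    rfl
  · exact ⟨m, Nat.pos_of_ne_zero h0, hm'⟩

/-- `SL_n(F)`, `n ≥ 3`, `F` finite, is generated by three conjugate regular unipotent
elements. -/
theorem exists_three_regular_unipotent_gen [Fintype F] (n : ℕ) (hn : 3 ≤ n) :
    ∃ u g h : Matrix.SpecialLinearGroup (Fin n) F,
      (IsNilpotent ((u : Matrix (Fin n) (Fin n) F) - 1) ∧
        ((u : Matrix (Fin n) (Fin n) F) - 1) ^ (n - 1) ≠ 0) ∧
      Subgroup.closure ({u, g * u * g⁻¹, h * u * h⁻¹} :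
        Set (Matrix.SpecialLinearGroup (Fin n) F)) = ⊤ := by
  obtain ⟨s, hs⟩ := exists_pow_generator (F := F)
  obtain ⟨z, hz⟩ : ∃ z : Fin n, z.val = 0 := ⟨⟨0, by omega⟩, rfl⟩
  obtain ⟨l, hl⟩ : ∃ l : Fin n, l.val + 1 = n := ⟨⟨n - 1, by omega⟩, by simp only; omega⟩
  obtain ⟨l', hl'⟩ : ∃ l' : Fin n, l'.val + 1 = l.val := ⟨⟨n - 2, by omega⟩, by simp only; omega⟩
  have hzl' : z ≠ l' := by
    intro e
    rw [e] at hz
    omega
  have hlz : l ≠ z := by
    intro e
    rw [e] at hl
    omega
  obtain ⟨u, hu⟩ : ∃ u : Matrix.SpecialLinearGroup (Fin n) F,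
      (u : Matrix (Fin n) (Fin n) F) = jm F n := ⟨⟨jm F n, det_jm⟩, rfl⟩
  obtain ⟨g, hg⟩ : ∃ g : Matrix.SpecialLinearGroup (Fin n) F,
      (g : Matrix (Fin n) (Fin n) F) = 1 + Matrix.single z l' s :=
    ⟨Matrix.SpecialLinearGroup.transvection hzl' s, rfl⟩
  obtain ⟨h, hh⟩ : ∃ h : Matrix.SpecialLinearGroup (Fin n) F,
      (h : Matrix (Fin n) (Fin n) F) = conjQ F n := ⟨⟨conjQ F n, det_conjQ⟩, rfl⟩
  have hsub : (u : Matrix (Fin n) (Fin n) F) - 1 = shiftMat F n := by
    rw [hu, jm, add_sub_cancel_left]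
  refine ⟨u, g, h, ⟨?_, ?_⟩, ?_⟩
  · rw [hsub]; exact ⟨n, shiftMat_pow_self F n⟩
  · rw [hsub]; exact shiftMat_pow_ne_zero F n (n - 1) (by omega)
  · set H := Subgroup.closure ({u, g * u * g⁻¹, h * u * h⁻¹} :
      Set (Matrix.SpecialLinearGroup (Fin n) F)) with hH
    have hu' : u ∈ H := Subgroup.subset_closure (by simp)
    have hgu : g * u * g⁻¹ ∈ H := Subgroup.subset_closure (by simp)
    have hhu : h * u * h⁻¹ ∈ H := Subgroup.subset_closure (by simp)
    have hS := matGrp_matCarrier H
    have hJ : jm F n ∈ matCarrier H := ⟨u, hu', hu⟩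
    have hroot : 1 + Matrix.single z l s ∈ matCarrier H := by
      have hX : jm F n * (1 + Matrix.single z l s) ∈ matCarrier H := by
        refine ⟨g * u * g⁻¹, hgu, ?_⟩
        have e1 : ((g * u * g⁻¹ : Matrix.SpecialLinearGroup (Fin n) F) :
            Matrix (Fin n) (Fin n) F) * (g : Matrix (Fin n) (Fin n) F) =
            (g : Matrix (Fin n) (Fin n) F) * jm F n := by
          rw [← Matrix.SpecialLinearGroup.coe_mul, inv_mul_cancel_right,
            Matrix.SpecialLinearGroup.coe_mul, hu]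
        have e2 : (g : Matrix (Fin n) (Fin n) F) * jm F n =
            jm F n * (1 + Matrix.single z l s) * (g : Matrix (Fin n) (Fin n) F) := by
          have key := conj_rankOne (jm F n) (Pi.single z 1) (s • Pi.single l' (1 : F))
          rw [jm_mulVec_single_zero z hz, Matrix.smul_vecMul, single_vecMul_jm l' l hl',
            smul_add, add_comm (s • (Pi.single l' (1 : F) : Fin n → F)),
            ← rankOne_mul_right _ _ _ (smul_single_dotProduct_single s l z hlz),
            ← one_add_single_eq, ← one_add_single_eq, ← hg, ← mul_assoc] at key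
          exact key.symm
        have e3 : (g : Matrix (Fin n) (Fin n) F) *
            ((g⁻¹ : Matrix.SpecialLinearGroup (Fin n) F) : Matrix (Fin n) (Fin n) F) = 1 := by
          rw [← Matrix.SpecialLinearGroup.coe_mul, mul_inv_cancel,
            Matrix.SpecialLinearGroup.coe_one]
        calc ((g * u * g⁻¹ : Matrix.SpecialLinearGroup (Fin n) F) : Matrix (Fin n) (Fin n) F)
            = ((g * u * g⁻¹ : Matrix.SpecialLinearGroup (Fin n) F) : Matrix (Fin n) (Fin n) F) *
              ((g : Matrix (Fin n) (Fin n) F) *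
                ((g⁻¹ : Matrix.SpecialLinearGroup (Fin n) F) : Matrix (Fin n) (Fin n) F)) := by
              rw [e3, mul_one]
          _ = jm F n * (1 + Matrix.single z l s) * ((g : Matrix (Fin n) (Fin n) F) *
                ((g⁻¹ : Matrix.SpecialLinearGroup (Fin n) F) : Matrix (Fin n) (Fin n) F)) := by
              rw [← mul_assoc, e1, e2, mul_assoc]
          _ = jm F n * (1 + Matrix.single z l s) := by rw [e3, mul_one]
      exact hS.cancel_left hJ hX
    have hL : (jm F n)ᵀ ∈ matCarrier H := by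
      have hY : ((h * u * h⁻¹ : Matrix.SpecialLinearGroup (Fin n) F) :
          Matrix (Fin n) (Fin n) F) ∈ matCarrier H := ⟨_, hhu, rfl⟩
      apply hS.of_mul_eq_one hY
      have e1 : ((h * u * h⁻¹ : Matrix.SpecialLinearGroup (Fin n) F) :
          Matrix (Fin n) (Fin n) F) * conjQ F n = conjQ F n * jm F n := by
        rw [← hh, ← Matrix.SpecialLinearGroup.coe_mul, inv_mul_cancel_right,
          Matrix.SpecialLinearGroup.coe_mul, hu]
      have e3 : conjQ F n *
          ((h⁻¹ : Matrix.SpecialLinearGroup (Fin n) F) : Matrix (Fin n) (Fin n) F) = 1 := by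
        rw [← hh, ← Matrix.SpecialLinearGroup.coe_mul, mul_inv_cancel,
          Matrix.SpecialLinearGroup.coe_one]
      have e4 : (jm F n)ᵀ * ((h * u * h⁻¹ : Matrix.SpecialLinearGroup (Fin n) F) :
          Matrix (Fin n) (Fin n) F) = 1 := by
        calc (jm F n)ᵀ * ((h * u * h⁻¹ : Matrix.SpecialLinearGroup (Fin n) F) :
              Matrix (Fin n) (Fin n) F)
            = (jm F n)ᵀ * ((h * u * h⁻¹ : Matrix.SpecialLinearGroup (Fin n) F) :
              Matrix (Fin n) (Fin n) F) * (conjQ F n *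
              ((h⁻¹ : Matrix.SpecialLinearGroup (Fin n) F) : Matrix (Fin n) (Fin n) F)) := by
              rw [e3, mul_one]
          _ = (jm F n)ᵀ * conjQ F n * jm F n *
              ((h⁻¹ : Matrix.SpecialLinearGroup (Fin n) F) : Matrix (Fin n) (Fin n) F) := by
              rw [mul_assoc (jm F n)ᵀ, ← mul_assoc _ (conjQ F n), e1]
              simp only [mul_assoc]
          _ = 1 := by rw [jmT_conjQ_jm, e3]
      exact mul_eq_one_comm.mp e4
    exact eq_top_of_jm_root hn H hJ hL s hs z l hz hl hroot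

end Conjugator

end Cfsg.Agent.Lib.helper44
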