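/-
Doubly transitive actions with a regular normal subgroup of a point stabiliser:
the normaliser of that subgroup is the point stabiliser, and the action on its cosets
inherits double transitivity and regularity.
-/
import Mathlib

set_option autoImplicit false

namespace Cfsg.Agent.Lib.helper44

variable {G Ω : Type*} [Group G] [MulAction G Ω]

theorem normalizer_eq_stabilizer_of_regular (ω : Ω) (T : Subgroup G)
    (hT : T ≤ MulAction.stabilizer G ω)
    (hTn : ∀ g ∈ MulAction.stabilizer G ω, ∀ t ∈ T, g * t * g⁻¹ ∈ T)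
    (hreg : ∀ x : Ω, x ≠ ω → ∀ t ∈ T, t • x = x → t = 1)
    (hT1 : T ≠ ⊥) :
    Subgroup.normalizer (T : Set G) = MulAction.stabilizer G ω := by
  apply le_antisymm
  · intro g hg
    rw [MulAction.mem_stabilizer_iff]
    by_contra hne
    apply hT1
    rw [Subgroup.eq_bot_iff_forall]
    intro t ht
    apply hreg (g • ω) hne t ht
    have h1 : g⁻¹ * t * g ∈ T := by
      have h0 := (Subgroup.mem_normalizer_iff.1 hg (g⁻¹ * t * g)).2
      apply h0
      have e : g * (g⁻¹ * t * g) * g⁻¹ = t := by group
      rw [e]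
      exact ht
    have h2 := hT h1
    rw [MulAction.mem_stabilizer_iff, mul_smul, mul_smul, inv_smul_eq_iff] at h2
    exact h2
  · intro g hg
    rw [Subgroup.mem_normalizer_iff]
    intro t
    constructor
    · exact hTn g hg t
    · intro ht
      have h0 := hTn g⁻¹ (inv_mem hg) _ ht
      have e : g⁻¹ * (g * t * g⁻¹) * g⁻¹⁻¹ = t := by group
      rw [e] at h0
      exact h0

theorem two_pretransitive_quotient_stabilizer (ω : Ω)
    (h2t : MulAction.IsMultiplyPretransitive G Ω 2) :
    MulAction.IsMultiplyPretransitive G (G ⧸ MulAction.stabilizer G ω) 2 := by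
  rw [MulAction.is_two_pretransitive_iff] at h2t ⊢
  intro a b c d hab hcd
  have hinj := MulAction.injective_ofQuotientStabilizer G ω
  obtain ⟨g, h1, h2⟩ := h2t (hinj.ne hab) (hinj.ne hcd)
  refine ⟨g, hinj ?_, hinj ?_⟩
  · rw [MulAction.ofQuotientStabilizer_smul, h1]
  · rw [MulAction.ofQuotientStabilizer_smul, h2]

theorem regular_quotient_stabilizer (ω : Ω) (T : Subgroup G)
    (hreg : ∀ x y : Ω, x ≠ ω → y ≠ ω → ∃! t : T, (t : G) • x = y) :
    ∀ x y : G ⧸ MulAction.stabilizer G ω, x ≠ QuotientGroup.mk 1 → y ≠ QuotientGroup.mk 1 →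
      ∃! t : T, (t : G) • x = y := by
  intro x y hx hy
  have hinj := MulAction.injective_ofQuotientStabilizer G ω
  have h1 : MulAction.ofQuotientStabilizer G ω (QuotientGroup.mk 1) = ω := by
    rw [MulAction.ofQuotientStabilizer_mk, one_smul]
  have hx' : MulAction.ofQuotientStabilizer G ω x ≠ ω := fun hc =>
    hx (hinj (hc.trans h1.symm))
  have hy' : MulAction.ofQuotientStabilizer G ω y ≠ ω := fun hc =>
    hy (hinj (hc.trans h1.symm))
  obtain ⟨t, ht, huniq⟩ := hreg _ _ hx' hy'
  refine ⟨t, hinj (by rw [MulAction.ofQuotientStabilizer_smul]; exact ht), fun t' ht' =>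
    huniq t' ?_⟩
  show (t' : G) • MulAction.ofQuotientStabilizer G ω x = MulAction.ofQuotientStabilizer G ω y
  rw [← MulAction.ofQuotientStabilizer_smul, ht']

/-- Package: the statements about the coset space of a subgroup `N` known to be the point
stabiliser. -/
theorem two_trans_regular_package (ω : Ω) (T N : Subgroup G)
    (hN : N = MulAction.stabilizer G ω)
    (h2t : MulAction.IsMultiplyPretransitive G Ω 2)
    (hreg : ∀ x y : Ω, x ≠ ω → y ≠ ω → ∃! t : T, (t : G) • x = y) :
    MulAction.IsMultiplyPretransitive G (G ⧸ N) 2 ∧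
    ∀ x y : G ⧸ N, x ≠ QuotientGroup.mk 1 → y ≠ QuotientGroup.mk 1 →
      ∃! t : T, (t : G) • x = y := by
  subst hN
  exact ⟨two_pretransitive_quotient_stabilizer ω h2t, regular_quotient_stabilizer ω T hreg⟩

end Cfsg.Agent.Lib.helper44
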