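import Mathlib

set_option autoImplicit false

namespace Cfsg.Agent.Lib.helper44

open Matrix

variable {F : Type*} [Field F]

/-- The companion matrix of `X^2 - t X + d`. -/
def comp2 (t d : F) : Matrix (Fin 2) (Fin 2) F := !![0, -d; 1, t]

/-- A `2 × 2` matrix is scalar. -/
def IsScalar2 (M : Matrix (Fin 2) (Fin 2) F) : Prop := M 0 1 = 0 ∧ M 1 0 = 0 ∧ M 0 0 = M 1 1

theorem comp2_trace (t d : F) : (comp2 t d).trace = t := by
  simp [comp2, Matrix.trace_fin_two]

theorem comp2_det (t d : F) : (comp2 t d).det = d := by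
  simp [comp2, Matrix.det_fin_two]

theorem comp2_not_scalar (t d : F) : ¬ IsScalar2 (comp2 t d) := by
  intro h
  have := h.2.1
  simp [comp2] at this

theorem isScalar2_iff (M : Matrix (Fin 2) (Fin 2) F) :
    IsScalar2 M ↔ M = (M 0 0) • (1 : Matrix (Fin 2) (Fin 2) F) := by
  constructor
  · rintro ⟨h1, h2, h3⟩
    ext i j
    fin_cases i <;> fin_cases j <;> simp [h1, h2, h3]
  · intro h
    refine ⟨?_, ?_, ?_⟩
    · rw [h]; simp
    · rw [h]; simp
    · have := congrFun (congrFun h 1) 1
      simp at this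
      exact this.symm

/-- A scalar matrix commutes with everything. -/
theorem IsScalar2.commute {M : Matrix (Fin 2) (Fin 2) F} (h : IsScalar2 M)
    (P : Matrix (Fin 2) (Fin 2) F) : M * P = P * M := by
  rw [(isScalar2_iff M).1 h]
  simp

/-- Key lemma: a non-scalar `2 × 2` matrix has a cyclic vector, hence is similar to the
companion matrix of its characteristic polynomial. -/
theorem exists_conj_comp2 (M : Matrix (Fin 2) (Fin 2) F) (h : ¬ IsScalar2 M) :
    ∃ P : Matrix (Fin 2) (Fin 2) F, P.det ≠ 0 ∧ M * P = P * comp2 M.trace M.det := by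
  -- the general identity, for `v = (x, y)` and `P = [v | M v]`
  have key : ∀ x y : F,
      M * !![x, M 0 0 * x + M 0 1 * y; y, M 1 0 * x + M 1 1 * y] =
        !![x, M 0 0 * x + M 0 1 * y; y, M 1 0 * x + M 1 1 * y] * comp2 M.trace M.det := by
    intro x y
    ext i j
    fin_cases i <;> fin_cases j <;>
      simp [comp2, Matrix.mul_apply, Fin.sum_univ_two, Matrix.trace_fin_two, Matrix.det_fin_two] <;>
      ring
  by_cases h10 : M 1 0 = 0
  · by_cases h01 : M 0 1 = 0
    · have hne : M 0 0 ≠ M 1 1 := fun h' => h ⟨h01, h10, h'⟩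
      refine ⟨_, ?_, key 1 1⟩
      simp [Matrix.det_fin_two, h10, h01]
      intro h'
      exact hne (by linear_combination -h')
    · refine ⟨_, ?_, key 0 1⟩
      simp [Matrix.det_fin_two, h01]
  · refine ⟨_, ?_, key 1 0⟩
    simp [Matrix.det_fin_two, h10]

/-- The centraliser element `x + y C` of the companion matrix `C`. -/
def centComp2 (t d x y : F) : Matrix (Fin 2) (Fin 2) F := !![x, -(d * y); y, x + t * y]

theorem centComp2_det (t d x y : F) : (centComp2 t d x y).det = x ^ 2 + t * x * y + d * y ^ 2 := by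
  simp [centComp2, Matrix.det_fin_two]; ring

theorem centComp2_comm (t d x y : F) : comp2 t d * centComp2 t d x y = centComp2 t d x y * comp2 t d := by
  ext i j
  fin_cases i <;> fin_cases j <;>
    simp [comp2, centComp2, Matrix.mul_apply, Fin.sum_univ_two] <;> ring

/-- Variant with prescribed determinant of the conjugating matrix, if the norm form of the
characteristic polynomial represents the required value. -/
theorem exists_conj_comp2_det (M : Matrix (Fin 2) (Fin 2) F) (h : ¬ IsScalar2 M) (c : F) (hc : c ≠ 0)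
    (hN : ∀ e : F, e ≠ 0 → ∃ x y : F, x ^ 2 + M.trace * x * y + M.det * y ^ 2 = e) :
    ∃ P : Matrix (Fin 2) (Fin 2) F, P.det = c ∧ M * P = P * comp2 M.trace M.det := by
  obtain ⟨P, hP, hMP⟩ := exists_conj_comp2 M h
  obtain ⟨x, y, hxy⟩ := hN (c * (P.det)⁻¹) (mul_ne_zero hc (inv_ne_zero hP))
  refine ⟨P * centComp2 M.trace M.det x y, ?_, ?_⟩
  · rw [Matrix.det_mul, centComp2_det, hxy]
    field_simp
  · rw [← Matrix.mul_assoc, hMP, Matrix.mul_assoc, centComp2_comm, Matrix.mul_assoc]

theorem trace_conj2 (M P Q : Matrix (Fin 2) (Fin 2) F) (hPQ : P * Q = 1) :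
    (P * M * Q).trace = M.trace := by
  rw [Matrix.trace_mul_cycle, _root_.mul_eq_one_comm.1 hPQ, Matrix.one_mul]

/-! ### The general linear group -/

/-- The companion matrix as an element of `GL₂`. -/
def compGL (t : F) (d : Fˣ) : GL (Fin 2) F :=
  Matrix.GeneralLinearGroup.mkOfDetNeZero (comp2 t (d : F)) (by rw [comp2_det]; exact d.ne_zero)

theorem compGL_val (t : F) (d : Fˣ) : ((compGL t d : GL (Fin 2) F) : Matrix (Fin 2) (Fin 2) F) = comp2 t d :=
  rfl

theorem compGL_det (t : F) (d : Fˣ) : Matrix.GeneralLinearGroup.det (compGL t d) = d := by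
  ext
  simp [compGL_val, comp2_det]

/-- A non-scalar element of `GL₂` is conjugate to the companion matrix of its characteristic
polynomial. -/
theorem isConj_compGL (g : GL (Fin 2) F) (h : ¬ IsScalar2 (g : Matrix (Fin 2) (Fin 2) F)) :
    IsConj g (compGL (g : Matrix (Fin 2) (Fin 2) F).trace (Matrix.GeneralLinearGroup.det g)) := by
  obtain ⟨P, hP, hMP⟩ := exists_conj_comp2 (g : Matrix (Fin 2) (Fin 2) F) h
  refine IsConj.symm (isConj_iff.2 ⟨Matrix.GeneralLinearGroup.mkOfDetNeZero P hP, ?_⟩)
  rw [mul_inv_eq_iff_eq_mul]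
  ext : 1
  simp only [Units.val_mul, compGL_val]
  change P * comp2 _ _ = (g : Matrix (Fin 2) (Fin 2) F) * P
  rw [hMP]
  rfl

/-- Conjugate elements of `GL₂` have the same trace. -/
theorem trace_eq_of_isConj {g h : GL (Fin 2) F} (hc : IsConj g h) :
    (g : Matrix (Fin 2) (Fin 2) F).trace = (h : Matrix (Fin 2) (Fin 2) F).trace := by
  obtain ⟨c, rfl⟩ := isConj_iff.1 hc
  simp only [Units.val_mul]
  rw [trace_conj2]
  rw [← Units.val_mul, mul_inv_cancel, Units.val_one]

/-- Conjugate elements of `GL₂` have the same determinant. -/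
theorem det_eq_of_isConj {g h : GL (Fin 2) F} (hc : IsConj g h) :
    Matrix.GeneralLinearGroup.det g = Matrix.GeneralLinearGroup.det h := by
  obtain ⟨c, rfl⟩ := isConj_iff.1 hc
  simp [mul_comm]

/-- A conjugate of a scalar element of `GL₂` is the element itself. -/
theorem eq_of_isConj_of_isScalar2 {g h : GL (Fin 2) F} (hc : IsConj g h)
    (hg : IsScalar2 (g : Matrix (Fin 2) (Fin 2) F)) : g = h := by
  obtain ⟨c, rfl⟩ := isConj_iff.1 hc
  have : c * g = g * c := by
    ext : 1
    simp only [Units.val_mul]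
    exact (hg.commute _).symm
  rw [this, mul_inv_cancel_right]

/-- Non-scalar elements of `GL₂` with the same trace and determinant are conjugate. -/
theorem isConj_of_trace_det {g h : GL (Fin 2) F}
    (hg : ¬ IsScalar2 (g : Matrix (Fin 2) (Fin 2) F)) (hh : ¬ IsScalar2 (h : Matrix (Fin 2) (Fin 2) F))
    (ht : (g : Matrix (Fin 2) (Fin 2) F).trace = (h : Matrix (Fin 2) (Fin 2) F).trace)
    (hd : Matrix.GeneralLinearGroup.det g = Matrix.GeneralLinearGroup.det h) : IsConj g h := by
  have h1 := isConj_compGL g hg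
  have h2 := isConj_compGL h hh
  rw [ht, hd] at h1
  exact h1.trans h2.symm

end Cfsg.Agent.Lib.helper44
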