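import Cfsg.Agent.Lib.helper44.GL2

set_option autoImplicit false

namespace Cfsg.Agent.Lib.helper44

open Matrix

variable {F : Type*} [Field F]

/-- The companion matrix of `X^2 - t X + 1` as an element of `SL₂`. -/
def compSL (t : F) : Matrix.SpecialLinearGroup (Fin 2) F := ⟨comp2 t 1, comp2_det t 1⟩

theorem compSL_val (t : F) :
    ((compSL t : Matrix.SpecialLinearGroup (Fin 2) F) : Matrix (Fin 2) (Fin 2) F) = comp2 t 1 := rfl

/-- Two elements of `SL₂` are conjugate as soon as a determinant-one matrix intertwines them. -/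
theorem isConj_SL_of_intertwine {g h : Matrix.SpecialLinearGroup (Fin 2) F}
    (P : Matrix (Fin 2) (Fin 2) F) (hP : P.det = 1)
    (hMP : (g : Matrix (Fin 2) (Fin 2) F) * P = P * (h : Matrix (Fin 2) (Fin 2) F)) : IsConj g h := by
  let Q : Matrix.SpecialLinearGroup (Fin 2) F := ⟨P, hP⟩
  refine IsConj.symm (isConj_iff.2 ⟨Q, ?_⟩)
  rw [mul_inv_eq_iff_eq_mul]
  apply Subtype.ext
  change P * (h : Matrix (Fin 2) (Fin 2) F) = (g : Matrix (Fin 2) (Fin 2) F) * P
  exact hMP.symm

/-- A non-scalar element of `SL₂` is `SL₂`-conjugate to the companion matrix of its characteristic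
polynomial, provided the norm form `x² + t x y + y²` represents every non-zero element. -/
theorem isConj_compSL (g : Matrix.SpecialLinearGroup (Fin 2) F)
    (h : ¬ IsScalar2 (g : Matrix (Fin 2) (Fin 2) F))
    (hN : ∀ e : F, e ≠ 0 →
      ∃ x y : F, x ^ 2 + (g : Matrix (Fin 2) (Fin 2) F).trace * x * y + y ^ 2 = e) :
    IsConj g (compSL (g : Matrix (Fin 2) (Fin 2) F).trace) := by
  have hdet : (g : Matrix (Fin 2) (Fin 2) F).det = 1 := g.2
  obtain ⟨P, hP, hMP⟩ := exists_conj_comp2_det (g : Matrix (Fin 2) (Fin 2) F) h 1 one_ne_zero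
    (by intro e he; obtain ⟨x, y, hxy⟩ := hN e he; exact ⟨x, y, by rw [hdet, one_mul]; exact hxy⟩)
  rw [hdet] at hMP
  exact isConj_SL_of_intertwine P hP hMP

/-- Conjugate elements of `SL₂` have the same trace. -/
theorem trace_eq_of_isConj_SL {g h : Matrix.SpecialLinearGroup (Fin 2) F} (hc : IsConj g h) :
    (g : Matrix (Fin 2) (Fin 2) F).trace = (h : Matrix (Fin 2) (Fin 2) F).trace := by
  obtain ⟨c, rfl⟩ := isConj_iff.1 hc
  simp only [Matrix.SpecialLinearGroup.coe_mul]
  rw [trace_conj2]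
  rw [← Matrix.SpecialLinearGroup.coe_mul, mul_inv_cancel, Matrix.SpecialLinearGroup.coe_one]

/-- A conjugate of a scalar element of `SL₂` is the element itself. -/
theorem eq_of_isConj_of_isScalar2_SL {g h : Matrix.SpecialLinearGroup (Fin 2) F} (hc : IsConj g h)
    (hg : IsScalar2 (g : Matrix (Fin 2) (Fin 2) F)) : g = h := by
  obtain ⟨c, rfl⟩ := isConj_iff.1 hc
  have : c * g = g * c := by
    apply Subtype.ext
    simp only [Matrix.SpecialLinearGroup.coe_mul]
    exact (hg.commute _).symm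
  rw [this, mul_inv_cancel_right]

/-- Scalar elements of `SL₂` with the same diagonal entry are equal. -/
theorem eq_of_isScalar2_SL {g h : Matrix.SpecialLinearGroup (Fin 2) F}
    (hg : IsScalar2 (g : Matrix (Fin 2) (Fin 2) F)) (hh : IsScalar2 (h : Matrix (Fin 2) (Fin 2) F))
    (h00 : (g : Matrix (Fin 2) (Fin 2) F) 0 0 = (h : Matrix (Fin 2) (Fin 2) F) 0 0) : g = h := by
  apply Subtype.ext
  rw [(isScalar2_iff _).1 hg, (isScalar2_iff _).1 hh, h00]

/-- The diagonal entry of a scalar element of `SL₂` squares to one. -/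
theorem sq_eq_one_of_isScalar2_SL {g : Matrix.SpecialLinearGroup (Fin 2) F}
    (hg : IsScalar2 (g : Matrix (Fin 2) (Fin 2) F)) : (g : Matrix (Fin 2) (Fin 2) F) 0 0 ^ 2 = 1 := by
  have hdet : (g : Matrix (Fin 2) (Fin 2) F).det = 1 := g.2
  rw [Matrix.det_fin_two, hg.1, ← hg.2.2] at hdet
  linear_combination hdet

end Cfsg.Agent.Lib.helper44
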