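import Mathlib

set_option autoImplicit false

/-!
# The normalizer of a self-centralizing elementary abelian Sylow 2-subgroup of order 8

In a perfect group of order `8 k`, `k` odd, with a self-centralizing elementary abelian subgroup `E` of
order 8 and an element of order 3 normalizing `E` and centralizing an involution of `E`, the normalizer
of `E` has order 168.
-/

namespace Cfsg.Agent.Lib.helper44

section ConjOrbit

variable {G : Type*} [Group G]

/-- The orbit of `x` under conjugation by the subgroup `N`. -/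
def conjOrb (N : Subgroup G) (x : G) : Set G := {y | ∃ n ∈ N, n * x * n⁻¹ = y}

theorem mem_conjOrb_self (N : Subgroup G) (x : G) : x ∈ conjOrb N x := ⟨1, N.one_mem, by group⟩

theorem conjOrb_eq_of_mem {N : Subgroup G} {x y : G} (h : y ∈ conjOrb N x) : conjOrb N y = conjOrb N x := by
  obtain ⟨n, hn, rfl⟩ := h
  ext z
  constructor
  · rintro ⟨k, hk, rfl⟩
    exact ⟨k * n, N.mul_mem hk hn, by group⟩
  · rintro ⟨k, hk, rfl⟩
    exact ⟨k * n⁻¹, N.mul_mem hk (N.inv_mem hn), by group⟩

theorem conjOrb_disjoint {N : Subgroup G} {x y : G} (h : y ∉ conjOrb N x) :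
    Disjoint (conjOrb N x) (conjOrb N y) := by
  rw [Set.disjoint_left]
  intro z hzx hzy
  apply h
  rw [← conjOrb_eq_of_mem hzx, conjOrb_eq_of_mem hzy]
  exact mem_conjOrb_self N y

theorem card_conjOrb [Finite G] (N : Subgroup G) (x : G) :
    (conjOrb N x).ncard * Nat.card ↥(N ⊓ Subgroup.centralizer {x}) = Nat.card ↥N := by
  let act : MulAction ↥N G := MulAction.compHom G ((MulAut.conj (G := G)).comp N.subtype)
  have hsmul : ∀ (n : ↥N) (y : G), n • y = (n : G) * y * (n : G)⁻¹ := fun n y => rfl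
  have h1 : (MulAction.orbit ↥N x).ncard * Nat.card ↥(MulAction.stabilizer ↥N x) = Nat.card ↥N := by
    rw [← MulAction.index_stabilizer, mul_comm]
    exact Subgroup.card_mul_index _
  have h2 : MulAction.orbit ↥N x = conjOrb N x := by
    ext y
    constructor
    · rintro ⟨n, rfl⟩
      exact ⟨n, n.2, (hsmul n x).symm⟩
    · rintro ⟨n, hn, rfl⟩
      exact ⟨⟨n, hn⟩, hsmul _ _⟩
  have h3 : Nat.card ↥(MulAction.stabilizer ↥N x) = Nat.card ↥(N ⊓ Subgroup.centralizer {x}) := by
    apply Nat.card_congr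
    refine ⟨fun n => ⟨n.1.1, Subgroup.mem_inf.mpr ⟨n.1.2, ?_⟩⟩,
      fun n => ⟨⟨n.1, (Subgroup.mem_inf.mp n.2).1⟩, ?_⟩, fun n => rfl, fun n => rfl⟩
    · rw [Subgroup.mem_centralizer_iff]
      intro y hy
      rw [Set.mem_singleton_iff] at hy
      rw [hy]
      have h4 : (n.1 : G) * x * (n.1 : G)⁻¹ = x := n.2
      calc x * (n.1 : G) = ((n.1 : G) * x * (n.1 : G)⁻¹) * (n.1 : G) := by rw [h4]
        _ = (n.1 : G) * x := by group
    · have h4 := Subgroup.mem_centralizer_iff.mp (Subgroup.mem_inf.mp n.2).2 x (Set.mem_singleton x)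
      show (n.1 : G) * x * (n.1 : G)⁻¹ = x
      rw [← h4, mul_inv_cancel_right]
  rw [← h2, ← h3]
  exact h1

end ConjOrbit

section Fusion

variable {G : Type*} [Group G] [Finite G]

theorem factorization_two_eight_mul {k : ℕ} (hk : Odd k) : (8 * k).factorization 2 = 3 := by
  have hk0 : k ≠ 0 := by
    rintro rfl
    exact absurd hk (by decide)
  rw [Nat.factorization_mul (by norm_num) hk0, Finsupp.add_apply,
    Nat.factorization_eq_zero_of_not_dvd (Nat.two_dvd_ne_zero.mpr (Nat.odd_iff.mp hk)), add_zero]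
  have : (8 : ℕ) = 2 ^ 3 := by norm_num
  rw [this, Nat.Prime.factorization_pow Nat.prime_two, Finsupp.single_eq_same]

/-- In a perfect group, an involution of an abelian subgroup of odd index is conjugate to another element of
the subgroup (transfer). -/
theorem exists_conj_ne_of_perfect (hperf : commutator G = ⊤) (E : Subgroup G)
    (hEcomm : ∀ x ∈ E, ∀ y ∈ E, x * y = y * x) (hodd : Odd E.index) {t : G} (ht1 : t ≠ 1)
    (ht2 : t * t = 1) : ∃ g₀ : G, g₀⁻¹ * t * g₀ ∈ E ∧ g₀⁻¹ * t * g₀ ≠ t := by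
  by_contra hcon
  have h : ∀ g₀ : G, g₀⁻¹ * t * g₀ ∈ E → g₀⁻¹ * t * g₀ = t := by
    intro g₀ hg
    by_contra hne
    exact hcon ⟨g₀, hg, hne⟩
  let cg : CommGroup ↥E :=
    { (inferInstance : Group ↥E) with
      mul_comm := fun x y => Subtype.ext (hEcomm x.1 x.2 y.1 y.2) }
  have key : ∀ (k : ℕ) (g₀ : G), g₀⁻¹ * t ^ k * g₀ ∈ E → g₀⁻¹ * t ^ k * g₀ = t ^ k := by
    intro k g₀ hk
    rcases Nat.even_or_odd k with ⟨j, rfl⟩ | ⟨j, rfl⟩
    · have e1 : t ^ (j + j) = 1 := by
        rw [← two_mul, pow_mul, pow_two, ht2, one_pow]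
      rw [e1]
      group
    · have e1 : t ^ (2 * j + 1) = t := by
        rw [pow_succ, pow_mul, pow_two, ht2, one_pow, one_mul]
      rw [e1] at hk ⊢
      exact h g₀ hk
  have h1 := MonoidHom.transfer_eq_pow (MonoidHom.id ↥E) t key
  have h2 : MonoidHom.transfer (MonoidHom.id ↥E) t = 1 := by
    have h3 : t ∈ (MonoidHom.transfer (MonoidHom.id ↥E)).ker :=
      Abelianization.commutator_subset_ker _ (by rw [hperf]; trivial)
    exact h3
  rw [h2] at h1
  have h4 : t ^ E.index = 1 := (congrArg Subtype.val h1).symm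
  obtain ⟨j, hj⟩ := hodd
  rw [hj, pow_succ, pow_mul, pow_two, ht2, one_pow, one_mul] at h4
  exact ht1 h4

end Fusion

section Main

variable {G : Type*} [Group G] [Finite G]

/-- A perfect group of order `8 k`, `k` odd, with a self-centralizing elementary abelian subgroup `E` of
order 8 and an element of order 3 normalizing `E` and centralizing an involution of `E`: `C(E) = E` and
`|N(E)| = 168`. -/
theorem card_normalizer_elemAb (hperf : commutator G = ⊤) (k : ℕ) (hk : Odd k) (hG : Nat.card G = 8 * k)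
    (a b c : G) (hab : a * b = b * a) (hac : a * c = c * a) (hbc : b * c = c * b)
    (h1 : a ≠ 1) (h2 : b ≠ 1) (h3 : c ≠ 1) (h4 : a * b ≠ 1) (h5 : a * c ≠ 1) (h6 : b * c ≠ 1)
    (h7 : a * (b * c) ≠ 1)
    (E : Subgroup G) (hE8 : Nat.card E = 8) (hexp : ∀ x ∈ E, x * x = 1)
    (hE : ∀ x, x ∈ E ↔
      x = 1 ∨ x = a ∨ x = b ∨ x = c ∨ x = a * b ∨ x = a * c ∨ x = b * c ∨ x = a * (b * c))
    (hC : ∀ x : G, a * x = x * a → b * x = x * b → c * x = x * c → x ∈ E)
    (ω : G) (hω3 : ω * ω * ω = 1) (hω1 : ω ≠ 1) (hωa : a * ω = ω * a) (hωb : ω * b * ω⁻¹ ∈ E)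
    (hωc : ω * c * ω⁻¹ ∈ E) :
    Subgroup.centralizer (E : Set G) = E ∧ Nat.card ↥(Subgroup.normalizer (E : Set G)) = 168 := by
  have hEa : a ∈ E := (hE a).mpr (Or.inr (Or.inl rfl))
  have hEb : b ∈ E := (hE b).mpr (Or.inr (Or.inr (Or.inl rfl)))
  have hEc : c ∈ E := (hE c).mpr (Or.inr (Or.inr (Or.inr (Or.inl rfl))))
  have haa := hexp a hEa
  have hbb := hexp b hEb
  have hcc := hexp c hEc
  have hEle : ∀ Z : Subgroup G, a ∈ Z → b ∈ Z → c ∈ Z → E ≤ Z := by
    intro Z ha hb hc x hx
    rcases (hE x).mp hx with rfl | rfl | rfl | rfl | rfl | rfl | rfl | rfl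
    · exact one_mem _
    · exact ha
    · exact hb
    · exact hc
    · exact mul_mem ha hb
    · exact mul_mem ha hc
    · exact mul_mem hb hc
    · exact mul_mem ha (mul_mem hb hc)
  have hEcent : ∀ x ∈ E, a * x = x * a ∧ b * x = x * b ∧ c * x = x * c := by
    intro x hx
    have e1 : E ≤ Subgroup.centralizer ({a} : Set G) := by
      apply hEle <;> rw [Subgroup.mem_centralizer_iff] <;> intro y hy <;>
        rw [Set.mem_singleton_iff] at hy <;> rw [hy]
      · exact hab
      · exact hac
    have e2 : E ≤ Subgroup.centralizer ({b} : Set G) := by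
      apply hEle <;> rw [Subgroup.mem_centralizer_iff] <;> intro y hy <;>
        rw [Set.mem_singleton_iff] at hy <;> rw [hy]
      · exact hab.symm
      · exact hbc
    have e3 : E ≤ Subgroup.centralizer ({c} : Set G) := by
      apply hEle <;> rw [Subgroup.mem_centralizer_iff] <;> intro y hy <;>
        rw [Set.mem_singleton_iff] at hy <;> rw [hy]
      · exact hac.symm
      · exact hbc.symm
    exact ⟨Subgroup.mem_centralizer_iff.mp (e1 hx) a (Set.mem_singleton a),
      Subgroup.mem_centralizer_iff.mp (e2 hx) b (Set.mem_singleton b),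
      Subgroup.mem_centralizer_iff.mp (e3 hx) c (Set.mem_singleton c)⟩
  have hEcomm : ∀ x ∈ E, ∀ y ∈ E, x * y = y * x := by
    intro x hx y hy
    obtain ⟨e1, e2, e3⟩ := hEcent x hx
    have e4 : E ≤ Subgroup.centralizer ({x} : Set G) := by
      apply hEle <;> rw [Subgroup.mem_centralizer_iff] <;> intro z hz <;>
        rw [Set.mem_singleton_iff] at hz <;> rw [hz]
      · exact e1.symm
      · exact e2.symm
      · exact e3.symm
    exact Subgroup.mem_centralizer_iff.mp (e4 hy) x (Set.mem_singleton x)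
  have hCE : Subgroup.centralizer (E : Set G) = E := by
    apply le_antisymm
    · intro x hx
      have e2 := Subgroup.mem_centralizer_iff.mp hx
      exact hC x (e2 a hEa) (e2 b hEb) (e2 c hEc)
    · intro x hx
      rw [Subgroup.mem_centralizer_iff]
      intro y hy
      exact hEcomm y hy x hx
  refine ⟨hCE, ?_⟩
  have hp2 : Fact (Nat.Prime 2) := ⟨Nat.prime_two⟩
  have hfac := factorization_two_eight_mul hk
  have hEN : E ≤ Subgroup.normalizer (E : Set G) := Subgroup.le_normalizer
  have hNmem : ∀ n ∈ Subgroup.normalizer (E : Set G), ∀ x ∈ E, n * x * n⁻¹ ∈ E :=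
    fun n hn x hx => (Subgroup.mem_normalizer_iff.mp hn x).mp hx
  have hEodd : Odd E.index := by
    have e1 := Subgroup.index_mul_card E
    rw [hE8, hG] at e1
    have e2 : E.index = k := by omega
    rw [e2]
    exact hk
  -- fusion: every involution of `E` is moved by the normalizer
  have hfus : ∀ t ∈ E, t ≠ 1 → ∃ n ∈ Subgroup.normalizer (E : Set G), n * t * n⁻¹ ≠ t := by
    intro t ht ht1
    obtain ⟨g₀, hg1, hg2⟩ := exists_conj_ne_of_perfect hperf E hEcomm hEodd ht1 (hexp t ht)
    let P : Sylow 2 G := Sylow.ofCard E (by rw [hE8, hG, hfac]; norm_num)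
    have hPc : IsMulCommutative ↥P := ⟨⟨fun x y => Subtype.ext (hEcomm x.1 x.2 y.1 y.2)⟩⟩
    obtain ⟨n, hn, hn2⟩ := P.conj_eq_normalizer_conj_of_mem t g₀ ht hg1
    refine ⟨n⁻¹, inv_mem hn, ?_⟩
    rw [inv_inv, ← hn2]
    exact hg2
  set N := Subgroup.normalizer (E : Set G) with hN
  -- the set of involutions
  have hT7 : ({x | x ∈ E ∧ x ≠ 1} : Set G).ncard = 7 := by
    have e1 : ({x | x ∈ E ∧ x ≠ 1} : Set G) = (E : Set G) \ {1} := rfl
    have e2 : (E : Set G).ncard = 8 := (Nat.card_coe_set_eq (E : Set G)).symm.trans hE8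
    rw [e1, Set.ncard_sdiff_singleton_of_mem (show (1 : G) ∈ (E : Set G) from E.one_mem), e2]
  set T : Set G := {x | x ∈ E ∧ x ≠ 1} with hT
  have hOsub : ∀ t ∈ T, conjOrb N t ⊆ T := by
    rintro t ⟨htE, ht1⟩ y ⟨n, hn, rfl⟩
    refine ⟨hNmem n hn t htE, fun h => ht1 ?_⟩
    have e1 : t = n⁻¹ * (n * t * n⁻¹) * n := by group
    rw [e1, h]
    group
  obtain ⟨d, hdodd, hNd⟩ : ∃ d, Odd d ∧ Nat.card ↥N = 8 * d := by
    obtain ⟨d, hd⟩ := Subgroup.card_dvd_of_le hEN
    obtain ⟨d', hd'⟩ := Subgroup.card_subgroup_dvd_card N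
    rw [hE8] at hd
    refine ⟨d, ?_, hd⟩
    have e1 : k = d * d' := by
      rw [hG, hd, mul_assoc] at hd'
      exact Nat.eq_of_mul_eq_mul_left (by norm_num : 0 < 8) hd'
    exact Odd.of_dvd_nat hk ⟨d', e1⟩
  have hOodd : ∀ t ∈ T, Odd (conjOrb N t).ncard := by
    rintro t ⟨htE, ht1⟩
    have e1 := card_conjOrb N t
    have e2 : E ≤ N ⊓ Subgroup.centralizer {t} := by
      refine le_inf hEN (fun x hx => ?_)
      rw [Subgroup.mem_centralizer_iff]
      intro y hy
      rw [Set.mem_singleton_iff] at hy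
      rw [hy]
      exact hEcomm t htE x hx
    obtain ⟨j, hj⟩ := Subgroup.card_dvd_of_le e2
    rw [hj, hE8, hNd] at e1
    have e3 : d = (conjOrb N t).ncard * j := by
      have e4 : 8 * ((conjOrb N t).ncard * j) = 8 * d := by
        rw [← e1]
        ring
      exact (Nat.eq_of_mul_eq_mul_left (by norm_num : 0 < 8) e4).symm
    exact Odd.of_dvd_nat hdodd ⟨j, e3⟩
  have hOge : ∀ t ∈ T, 3 ≤ (conjOrb N t).ncard := by
    intro t ht
    obtain ⟨n, hn, hne⟩ := hfus t ht.1 ht.2
    have e1 : ({t, n * t * n⁻¹} : Set G) ⊆ conjOrb N t := by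
      intro y hy
      rcases hy with rfl | rfl
      · exact mem_conjOrb_self N _
      · exact ⟨n, hn, rfl⟩
    have e2 := Set.ncard_le_ncard e1 (Set.toFinite _)
    rw [Set.ncard_pair (Ne.symm hne)] at e2
    obtain ⟨j, hj⟩ := hOodd t ht
    omega
  have haT : a ∈ T := ⟨hEa, h1⟩
  have hOa : conjOrb N a = T := by
    by_contra hne
    have hex : ∃ t ∈ T, t ∉ conjOrb N a := by
      by_contra hcon
      apply hne
      apply Set.Subset.antisymm (hOsub a haT)
      intro t ht
      by_contra ht'
      exact hcon ⟨t, ht, ht'⟩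
    obtain ⟨t, htT, hta⟩ := hex
    have hd1 := conjOrb_disjoint hta
    have hU := Set.ncard_union_eq hd1 (Set.toFinite _) (Set.toFinite _)
    have hUsub : conjOrb N a ∪ conjOrb N t ⊆ T := Set.union_subset (hOsub a haT) (hOsub t htT)
    have hUle := Set.ncard_le_ncard hUsub (Set.toFinite _)
    have g1 := hOge a haT
    have g2 := hOge t htT
    obtain ⟨j1, hj1⟩ := hOodd a haT
    obtain ⟨j2, hj2⟩ := hOodd t htT
    have hex2 : ∃ t' ∈ T, t' ∉ conjOrb N a ∪ conjOrb N t := by
      by_contra hcon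
      have e1 : T ⊆ conjOrb N a ∪ conjOrb N t := by
        intro x hx
        by_contra hx'
        exact hcon ⟨x, hx, hx'⟩
      have e2 := Set.ncard_le_ncard e1 (Set.toFinite _)
      omega
    obtain ⟨t', ht'T, ht'U⟩ := hex2
    have hd2 : Disjoint (conjOrb N a ∪ conjOrb N t) (conjOrb N t') := by
      rw [Set.disjoint_union_left]
      exact ⟨conjOrb_disjoint (fun h => ht'U (Or.inl h)), conjOrb_disjoint (fun h => ht'U (Or.inr h))⟩
    have hU2 := Set.ncard_union_eq hd2 (Set.toFinite _) (Set.toFinite _)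
    have hU2sub : (conjOrb N a ∪ conjOrb N t) ∪ conjOrb N t' ⊆ T :=
      Set.union_subset hUsub (hOsub t' ht'T)
    have hU2le := Set.ncard_le_ncard hU2sub (Set.toFinite _)
    have g3 := hOge t' ht'T
    omega
  have hN1 : 7 * Nat.card ↥(N ⊓ Subgroup.centralizer {a}) = Nat.card ↥N := by
    have e1 := card_conjOrb N a
    rw [hOa, hT7] at e1
    exact e1
  -- the stabilizer of `a`
  set N₁ := N ⊓ Subgroup.centralizer {a} with hN₁
  have hOb : conjOrb N₁ b ⊆ T \ {a} := by
    rintro y ⟨n, hn, rfl⟩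
    have hn' := Subgroup.mem_inf.mp hn
    have hna : a * n = n * a := Subgroup.mem_centralizer_iff.mp hn'.2 a (Set.mem_singleton a)
    have e1 : b = n⁻¹ * (n * b * n⁻¹) * n := by group
    refine ⟨⟨hNmem n hn'.1 b hEb, fun h => h2 ?_⟩, fun h => ?_⟩
    · rw [e1, h]
      group
    · rw [Set.mem_singleton_iff] at h
      rw [h] at e1
      have e2 : n⁻¹ * a * n = a := by
        rw [mul_assoc, hna, ← mul_assoc, inv_mul_cancel, one_mul]
      rw [e2] at e1
      apply h4
      rw [e1]
      exact haa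
  have hs6 : (conjOrb N₁ b).ncard ≤ 6 := by
    have e1 := Set.ncard_le_ncard hOb (Set.toFinite _)
    rw [Set.ncard_sdiff_singleton_of_mem haT, hT7] at e1
    exact e1
  have hN2 := card_conjOrb N₁ b
  have hN2E : N₁ ⊓ Subgroup.centralizer {b} = E := by
    apply le_antisymm
    · intro n hn
      obtain ⟨hn1, hnb⟩ := Subgroup.mem_inf.mp hn
      obtain ⟨hnN, hna⟩ := Subgroup.mem_inf.mp hn1
      have hna' : a * n = n * a := Subgroup.mem_centralizer_iff.mp hna a (Set.mem_singleton a)
      have hnb' : b * n = n * b := Subgroup.mem_centralizer_iff.mp hnb b (Set.mem_singleton b)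
      have hy := hNmem n hnN c hEc
      have e1 : c = n⁻¹ * (n * c * n⁻¹) * n := by group
      have ea : n⁻¹ * a * n = a := by
        rw [mul_assoc, hna', ← mul_assoc, inv_mul_cancel, one_mul]
      have eb : n⁻¹ * b * n = b := by
        rw [mul_assoc, hnb', ← mul_assoc, inv_mul_cancel, one_mul]
      have eab : n⁻¹ * (a * b) * n = a * b := by
        calc n⁻¹ * (a * b) * n = (n⁻¹ * a * n) * (n⁻¹ * b * n) := by group
          _ = a * b := by rw [ea, eb]
      have habab : a * b * (a * b) = 1 := by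
        calc a * b * (a * b) = a * (b * a) * b := by simp only [mul_assoc]
          _ = a * (a * b) * b := by rw [hab]
          _ = (a * a) * (b * b) := by simp only [mul_assoc]
          _ = 1 := by rw [haa, hbb, one_mul]
      have hu : ∃ u : G, n * c * n⁻¹ = u * c ∧ u * n = n * u ∧ u * u = 1 := by
        rcases (hE _).mp hy with h | h | h | h | h | h | h | h
        · exfalso
          apply h3
          rw [e1, h]
          group
        · exfalso
          rw [h, ea] at e1
          apply h5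
          rw [e1]
          exact haa
        · exfalso
          rw [h, eb] at e1
          apply h6
          rw [e1]
          exact hbb
        · exact ⟨1, by rw [h, one_mul], by rw [one_mul, mul_one], one_mul 1⟩
        · exfalso
          rw [h, eab] at e1
          apply h7
          rw [e1, ← mul_assoc]
          exact habab
        · exact ⟨a, h, hna', haa⟩
        · exact ⟨b, h, hnb', hbb⟩
        · refine ⟨a * b, by rw [h, mul_assoc], ?_, habab⟩
          rw [mul_assoc, hnb', ← mul_assoc, hna', mul_assoc]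
      obtain ⟨u, hu1, hu2, hu3⟩ := hu
      have e2 : n * c = u * c * n := by
        rw [← hu1]
        group
      have hnn : c * (n * n) = (n * n) * c := by
        calc c * (n * n) = u * u * c * (n * n) := by rw [hu3, one_mul]
          _ = u * (u * c * n) * n := by simp only [mul_assoc]
          _ = u * (n * c) * n := by rw [e2]
          _ = (u * n) * c * n := by simp only [mul_assoc]
          _ = (n * u) * c * n := by rw [hu2]
          _ = n * (u * c * n) := by simp only [mul_assoc]
          _ = n * (n * c) := by rw [e2]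
          _ = (n * n) * c := by rw [mul_assoc]
      have hnnE : n * n ∈ E := by
        apply hC (n * n) _ _ hnn
        · rw [← mul_assoc, hna', mul_assoc, hna', ← mul_assoc]
        · rw [← mul_assoc, hnb', mul_assoc, hnb', ← mul_assoc]
      have hidx : (E.subgroupOf N).index = d := by
        have e3 := Subgroup.card_mul_index (E.subgroupOf N)
        rw [Nat.card_congr (Subgroup.subgroupOfEquivOfLe hEN).toEquiv, hE8, hNd] at e3
        exact Nat.eq_of_mul_eq_mul_left (by norm_num : 0 < 8) e3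
      have hpow : (⟨n, hnN⟩ : ↥N) ^ (E.subgroupOf N).index ∈ E.subgroupOf N :=
        Subgroup.pow_index_mem _ _
      rw [hidx, Subgroup.mem_subgroupOf, Subgroup.coe_pow] at hpow
      obtain ⟨j, hj⟩ := hdodd
      have e4 : n = ((n * n) ^ j)⁻¹ * n ^ d := by
        rw [hj, pow_succ, pow_mul, pow_two]
        group
      rw [e4]
      exact mul_mem (inv_mem (pow_mem hnnE j)) hpow
    · refine le_inf (le_inf hEN ?_) ?_
      · intro x hx
        rw [Subgroup.mem_centralizer_iff]
        intro y hy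
        rw [Set.mem_singleton_iff] at hy
        rw [hy]
        exact (hEcent x hx).1
      · intro x hx
        rw [Subgroup.mem_centralizer_iff]
        intro y hy
        rw [Set.mem_singleton_iff] at hy
        rw [hy]
        exact (hEcent x hx).2.1
  rw [hN2E, hE8] at hN2
  -- the element of order 3
  have hωfw : ∀ x ∈ E, ω * x * ω⁻¹ ∈ E := by
    have e1 : E ≤ E.comap (MulAut.conj ω).toMonoidHom := by
      apply hEle
      · show ω * a * ω⁻¹ ∈ E
        rw [← hωa, mul_inv_cancel_right]
        exact hEa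
      · exact hωb
      · exact hωc
    exact fun x hx => e1 hx
  have hωN : ω ∈ N := by
    rw [hN, Subgroup.mem_normalizer_iff]
    intro x
    constructor
    · exact hωfw x
    · intro hx
      have e1 := hωfw _ (hωfw _ hx)
      have e2 : ω * (ω * (ω * x * ω⁻¹) * ω⁻¹) * ω⁻¹ = (ω * ω * ω) * x * (ω * ω * ω)⁻¹ := by group
      rw [e2, hω3, one_mul, inv_one, mul_one] at e1
      exact e1
  have hωN₁ : ω ∈ N₁ := by
    refine Subgroup.mem_inf.mpr ⟨hωN, ?_⟩
    rw [Subgroup.mem_centralizer_iff]
    intro y hy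
    rw [Set.mem_singleton_iff] at hy
    rw [hy]
    exact hωa
  have h3dvd : 3 ∣ Nat.card ↥N₁ := by
    have hp3 : Fact (Nat.Prime 3) := ⟨Nat.prime_three⟩
    have ho : orderOf (⟨ω, hωN₁⟩ : ↥N₁) = 3 := by
      apply orderOf_eq_prime
      · apply Subtype.ext
        rw [Subgroup.coe_pow]
        show ω ^ 3 = 1
        rw [pow_succ, pow_two]
        exact hω3
      · intro h
        exact hω1 (congrArg Subtype.val h)
    rw [← ho]
    exact orderOf_dvd_natCard _
  obtain ⟨j, hj⟩ := hdodd
  obtain ⟨i, hi⟩ := h3dvd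
  omega

end Main

section Transport

variable {G : Type*} [Group G] [Finite G]

/-- Self-centralization and the order of the normalizer pass from one Sylow subgroup to all of them. -/
theorem sylow_transport {p : ℕ} [Fact p.Prime] (P S : Sylow p G)
    (hC : Subgroup.centralizer ((P : Subgroup G) : Set G) = P) :
    Subgroup.centralizer ((S : Subgroup G) : Set G) = S ∧
    Nat.card ↥(Subgroup.normalizer ((S : Subgroup G) : Set G)) =
      Nat.card ↥(Subgroup.normalizer ((P : Subgroup G) : Set G)) := by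
  obtain ⟨g, rfl⟩ := MulAction.exists_smul_eq G P S
  have hmem : ∀ x : G, x ∈ ((g • P : Sylow p G) : Subgroup G) ↔ g⁻¹ * x * g ∈ (P : Subgroup G) := by
    intro x
    rw [Sylow.coe_subgroup_smul, Subgroup.mem_pointwise_smul_iff_inv_smul_mem, MulAut.smul_def,
      MulAut.conj_inv_apply]
  constructor
  · ext x
    constructor
    · intro hx
      rw [hmem, ← hC, Subgroup.mem_centralizer_iff]
      intro h hh
      have e : g⁻¹ * (g * h * g⁻¹) * g = h := by group
      have h1 : g * h * g⁻¹ ∈ ((g • P : Sylow p G) : Subgroup G) := by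
        rw [hmem, e]
        exact hh
      have h2 := Subgroup.mem_centralizer_iff.mp hx _ h1
      calc h * (g⁻¹ * x * g) = g⁻¹ * (g * h * g⁻¹ * x) * g := by group
        _ = g⁻¹ * (x * (g * h * g⁻¹)) * g := by rw [h2]
        _ = g⁻¹ * x * g * h := by group
    · intro hx
      rw [hmem, ← hC] at hx
      rw [Subgroup.mem_centralizer_iff]
      intro y hy
      have hy' : g⁻¹ * y * g ∈ (P : Subgroup G) := (hmem y).mp hy
      have h2 := Subgroup.mem_centralizer_iff.mp hx _ hy'
      calc y * x = g * ((g⁻¹ * y * g) * (g⁻¹ * x * g)) * g⁻¹ := by group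
        _ = g * ((g⁻¹ * x * g) * (g⁻¹ * y * g)) * g⁻¹ := by rw [h2]
        _ = x * y := by group
  · apply Nat.card_congr
    refine ⟨fun x => ⟨g⁻¹ * x.1 * g, ?_⟩, fun x => ⟨g * x.1 * g⁻¹, ?_⟩,
      fun x => Subtype.ext (by group), fun x => Subtype.ext (by group)⟩
    · rw [Subgroup.mem_normalizer_iff]
      intro h
      have hx := Subgroup.mem_normalizer_iff.mp x.2 (g * h * g⁻¹)
      have e : g⁻¹ * (g * h * g⁻¹) * g = h := by group
      have e2 : g⁻¹ * (x.1 * (g * h * g⁻¹) * x.1⁻¹) * g = (g⁻¹ * x.1 * g) * h * (g⁻¹ * x.1 * g)⁻¹ := by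
        group
      constructor
      · intro hh
        have h1 : g * h * g⁻¹ ∈ ((g • P : Sylow p G) : Subgroup G) := by
          rw [hmem, e]
          exact hh
        have h3 := (hmem _).mp (hx.mp h1)
        rw [e2] at h3
        exact h3
      · intro hh
        have hh' : (g⁻¹ * x.1 * g) * h * (g⁻¹ * x.1 * g)⁻¹ ∈ (P : Subgroup G) := hh
        rw [← e2] at hh'
        have h3 := (hmem _).mp (hx.mpr ((hmem _).mpr hh'))
        rw [e] at h3
        exact h3
    · rw [Subgroup.mem_normalizer_iff]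
      intro y
      have hx := Subgroup.mem_normalizer_iff.mp x.2 (g⁻¹ * y * g)
      have e : g⁻¹ * ((g * x.1 * g⁻¹) * y * (g * x.1 * g⁻¹)⁻¹) * g = x.1 * (g⁻¹ * y * g) * x.1⁻¹ := by
        group
      constructor
      · intro hy
        have h2 := hx.mp ((hmem y).mp hy)
        apply (hmem _).mpr
        rw [e]
        exact h2
      · intro hy
        have h2 := (hmem _).mp hy
        rw [e] at h2
        exact (hmem y).mpr (hx.mpr h2)

end Transport

end Cfsg.Agent.Lib.helper44
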