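import Mathlib
import Cfsg.Agent.Lib.helper44.Norm168

set_option autoImplicit false

/-! # Centralizers that are forced into an abelian subgroup with a four-group -/

namespace Cfsg.Agent.Lib.helper44

section CentAbs

variable {G : Type*} [Group G]

/-- Two involutions either commute with a common involution which is a power of their product, or are
conjugate by a power of their product. -/
theorem invol_pair [Finite G] {j v : G} (hj : j * j = 1) (hv : v * v = 1) :
    (∃ k : ℕ, (j * v) ^ k ≠ 1 ∧ (j * v) ^ k * (j * v) ^ k = 1 ∧ (j * v) ^ k * j = j * (j * v) ^ k ∧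
        (j * v) ^ k * v = v * (j * v) ^ k) ∨
      (∃ k : ℕ, (j * v) ^ k * v * ((j * v) ^ k)⁻¹ = j) := by
  have hjinv : j⁻¹ = j := inv_eq_of_mul_eq_one_left hj
  have hvinv : v⁻¹ = v := inv_eq_of_mul_eq_one_left hv
  have hrinv : (j * v)⁻¹ = v * j := by rw [mul_inv_rev, hjinv, hvinv]
  have hjr : j * (j * v) * j⁻¹ = (j * v)⁻¹ := by
    rw [hrinv, hjinv, ← mul_assoc, hj, one_mul]
  have hvr : v * (j * v) * v⁻¹ = (j * v)⁻¹ := by
    rw [hrinv, hvinv, mul_assoc, mul_assoc, hv, mul_one]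
  have hjpow : ∀ i : ℕ, j * (j * v) ^ i * j⁻¹ = ((j * v) ^ i)⁻¹ := by
    intro i
    rw [← conj_pow, hjr, inv_pow]
  have hvpow : ∀ i : ℕ, v * (j * v) ^ i * v⁻¹ = ((j * v) ^ i)⁻¹ := by
    intro i
    rw [← conj_pow, hvr, inv_pow]
  have ho : 0 < orderOf (j * v) := orderOf_pos (j * v)
  rcases Nat.even_or_odd (orderOf (j * v)) with ⟨l, hl⟩ | ⟨l, hl⟩
  · left
    have hzz : (j * v) ^ l * (j * v) ^ l = 1 := by
      rw [← pow_add, ← hl, pow_orderOf_eq_one]
    have hzinv : ((j * v) ^ l)⁻¹ = (j * v) ^ l := inv_eq_of_mul_eq_one_left hzz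
    refine ⟨l, ?_, hzz, ?_, ?_⟩
    · exact pow_ne_one_of_lt_orderOf (by omega) (by omega)
    · have h1 := hjpow l
      rw [hzinv] at h1
      calc (j * v) ^ l * j = (j * (j * v) ^ l * j⁻¹) * j := by rw [h1]
        _ = j * (j * v) ^ l := by group
    · have h1 := hvpow l
      rw [hzinv] at h1
      calc (j * v) ^ l * v = (v * (j * v) ^ l * v⁻¹) * v := by rw [h1]
        _ = v * (j * v) ^ l := by group
  · right
    refine ⟨l + 1, ?_⟩
    have h1 := hvpow (l + 1)
    have h2 : v * ((j * v) ^ (l + 1))⁻¹ = (j * v) ^ (l + 1) * v := by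
      calc v * ((j * v) ^ (l + 1))⁻¹ = v * (v * (j * v) ^ (l + 1) * v⁻¹) := by rw [h1]
        _ = (v * v) * (j * v) ^ (l + 1) * v⁻¹ := by simp only [mul_assoc]
        _ = (j * v) ^ (l + 1) * v := by rw [hv, one_mul, hvinv]
    have h3 : (j * v) ^ (l + 1) * (j * v) ^ (l + 1) = j * v := by
      rw [← pow_add]
      have : l + 1 + (l + 1) = orderOf (j * v) + 1 := by omega
      rw [this, pow_succ, pow_orderOf_eq_one, one_mul]
    calc (j * v) ^ (l + 1) * v * ((j * v) ^ (l + 1))⁻¹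
        = (j * v) ^ (l + 1) * (v * ((j * v) ^ (l + 1))⁻¹) := by rw [mul_assoc]
      _ = ((j * v) ^ (l + 1) * (j * v) ^ (l + 1)) * v := by rw [h2, mul_assoc]
      _ = j := by rw [h3, mul_assoc, hv, mul_one]

/-- An element permuting three elements cyclically by conjugation has a power of order `3`. -/
theorem three_cycle_pow [Finite G] {x a₀ a₁ a₂ : G} (h0 : x * a₀ * x⁻¹ = a₁) (h1 : x * a₁ * x⁻¹ = a₂)
    (h2 : x * a₂ * x⁻¹ = a₀) (hne1 : a₁ ≠ a₀) (hne2 : a₂ ≠ a₀) :
    ∃ k : ℕ, x ^ k ≠ 1 ∧ x ^ k * x ^ k * x ^ k = 1 := by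
  have e3 : x ^ 3 = x * x * x := by rw [pow_succ, pow_succ, pow_one]
  have h3 : x ^ 3 * a₀ * (x ^ 3)⁻¹ = a₀ := by
    calc x ^ 3 * a₀ * (x ^ 3)⁻¹ = x * (x * (x * a₀ * x⁻¹) * x⁻¹) * x⁻¹ := by rw [e3]; group
      _ = a₀ := by rw [h0, h1, h2]
  have h3c : Commute (x ^ 3) a₀ := by
    show x ^ 3 * a₀ = a₀ * x ^ 3
    calc x ^ 3 * a₀ = (x ^ 3 * a₀ * (x ^ 3)⁻¹) * x ^ 3 := by group
      _ = a₀ * x ^ 3 := by rw [h3]
  have ho : 0 < orderOf x := orderOf_pos x
  have hq : ∀ q : ℕ, Commute (x ^ (3 * q)) a₀ := by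
    intro q
    rw [pow_mul]
    exact h3c.pow_left q
  have hdiv := Nat.div_add_mod (orderOf x) 3
  have hr : x ^ (orderOf x % 3) * x ^ (3 * (orderOf x / 3)) = 1 := by
    rw [← pow_add, add_comm, hdiv, pow_orderOf_eq_one]
  have hrc : Commute (x ^ (orderOf x % 3)) a₀ := by
    have e1 : x ^ (orderOf x % 3) = (x ^ (3 * (orderOf x / 3)))⁻¹ := eq_inv_of_mul_eq_one_left hr
    rw [e1]
    exact (hq _).inv_left
  have hmod : orderOf x % 3 = 0 := by
    have hlt : orderOf x % 3 < 3 := Nat.mod_lt _ (by norm_num)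
    by_contra hne
    have h12 : orderOf x % 3 = 1 ∨ orderOf x % 3 = 2 := by omega
    rcases h12 with h | h
    · rw [h, pow_one] at hrc
      apply hne1
      rw [← h0, hrc.eq]
      group
    · rw [h] at hrc
      apply hne2
      have e2 : a₂ = x ^ 2 * a₀ * (x ^ 2)⁻¹ := by
        rw [← h1, ← h0, pow_two]
        group
      rw [e2, hrc.eq]
      group
  refine ⟨orderOf x / 3, ?_, ?_⟩
  · exact pow_ne_one_of_lt_orderOf (by omega) (by omega)
  · rw [← pow_add, ← pow_add]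
    have : orderOf x / 3 + orderOf x / 3 + orderOf x / 3 = orderOf x := by omega
    rw [this, pow_orderOf_eq_one]

/-- The elements of square `1` of an abelian subgroup of order `4 * odd` containing a four-group. -/
theorem sq_one_cases [Finite G] (A : Subgroup G) (hA : ∀ x ∈ A, ∀ y ∈ A, x * y = y * x)
    (k : ℕ) (hk : Odd k) (hcard : Nat.card A = 4 * k)
    {a b : G} (ha : a ∈ A) (hb : b ∈ A) (ha1 : a ≠ 1) (hb1 : b ≠ 1) (hab : a ≠ b)
    (ha2 : a * a = 1) (hb2 : b * b = 1) {x : G} (hx : x ∈ A) (hx2 : x * x = 1) :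
    x = 1 ∨ x = a ∨ x = b ∨ x = a * b := by
  classical
  let W : Subgroup G :=
    { carrier := {y | y ∈ A ∧ y * y = 1}
      one_mem' := ⟨A.one_mem, mul_one 1⟩
      mul_mem' := by
        rintro y z ⟨hy, hy2⟩ ⟨hz, hz2⟩
        refine ⟨A.mul_mem hy hz, ?_⟩
        calc y * z * (y * z) = y * (z * y) * z := by simp only [mul_assoc]
          _ = y * (y * z) * z := by rw [hA z hz y hy]
          _ = (y * y) * (z * z) := by simp only [mul_assoc]
          _ = 1 := by rw [hy2, hz2, mul_one]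
      inv_mem' := by
        rintro y ⟨hy, hy2⟩
        have : y⁻¹ = y := inv_eq_of_mul_eq_one_left hy2
        show y⁻¹ ∈ A ∧ y⁻¹ * y⁻¹ = 1
        rw [this]
        exact ⟨hy, hy2⟩ }
  have hWmem : ∀ y : G, y ∈ W ↔ y ∈ A ∧ y * y = 1 := fun y => Iff.rfl
  have hWA : W ≤ A := fun y hy => hy.1
  have hW2 : IsPGroup 2 W := by
    intro g
    refine ⟨1, ?_⟩
    apply Subtype.ext
    rw [pow_one, pow_two]
    exact g.2.2
  obtain ⟨n, hn⟩ := hW2.exists_card_eq
  have hdvd : Nat.card W ∣ 4 * k := hcard ▸ Subgroup.card_dvd_of_le hWA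
  have h4 : Nat.card W ∣ 4 := by
    rw [hn] at hdvd ⊢
    exact (Nat.Coprime.pow_left n (Nat.coprime_two_left.mpr hk)).dvd_of_dvd_mul_right hdvd
  have hle : Nat.card W ≤ 4 := Nat.le_of_dvd (by norm_num) h4
  by_contra hcon
  have hx1 : x ≠ 1 := fun h => hcon (Or.inl h)
  have hxa : x ≠ a := fun h => hcon (Or.inr (Or.inl h))
  have hxb : x ≠ b := fun h => hcon (Or.inr (Or.inr (Or.inl h)))
  have hxab : x ≠ a * b := fun h => hcon (Or.inr (Or.inr (Or.inr h)))
  have hab1 : a * b ≠ 1 := by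
    intro h
    apply hab
    calc a = a * (b * b) := by rw [hb2, mul_one]
      _ = (a * b) * b := by rw [mul_assoc]
      _ = b := by rw [h, one_mul]
  have haba : a * b ≠ a := fun h => hb1 (mul_eq_left.mp h)
  have habb : a * b ≠ b := fun h => ha1 (mul_eq_right.mp h)
  have hab2 : (a * b) * (a * b) = 1 := by
    calc a * b * (a * b) = a * (b * a) * b := by simp only [mul_assoc]
      _ = a * (a * b) * b := by rw [hA b hb a ha]
      _ = (a * a) * (b * b) := by simp only [mul_assoc]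
      _ = 1 := by rw [ha2, hb2, mul_one]
  let s : Finset G := {x, 1, a, b, a * b}
  have hs : s.card = 5 := by
    have h1 : (1 : G) ∉ ({a, b, a * b} : Finset G) := by
      simp only [Finset.mem_insert, Finset.mem_singleton, not_or]
      exact ⟨Ne.symm ha1, Ne.symm hb1, Ne.symm hab1⟩
    have h2 : a ∉ ({b, a * b} : Finset G) := by
      simp only [Finset.mem_insert, Finset.mem_singleton, not_or]
      exact ⟨hab, Ne.symm haba⟩
    have h3 : b ∉ ({a * b} : Finset G) := by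
      simp only [Finset.mem_singleton]
      exact Ne.symm habb
    have h0 : x ∉ ({1, a, b, a * b} : Finset G) := by
      simp only [Finset.mem_insert, Finset.mem_singleton, not_or]
      exact ⟨hx1, hxa, hxb, hxab⟩
    show (insert x (insert 1 (insert a (insert b {a * b}))) : Finset G).card = 5
    rw [Finset.card_insert_of_notMem h0, Finset.card_insert_of_notMem h1, Finset.card_insert_of_notMem h2,
      Finset.card_insert_of_notMem h3, Finset.card_singleton]
  have hsub : (↑s : Set G) ⊆ (W : Set G) := by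
    intro y hy
    have hy' : y = x ∨ y = 1 ∨ y = a ∨ y = b ∨ y = a * b := by
      simpa [s] using hy
    rcases hy' with rfl | rfl | rfl | rfl | rfl
    · exact ⟨hx, hx2⟩
    · exact W.one_mem
    · exact ⟨ha, ha2⟩
    · exact ⟨hb, hb2⟩
    · exact ⟨A.mul_mem ha hb, hab2⟩
  have h5 := Set.ncard_le_ncard hsub (Set.toFinite _)
  rw [Set.ncard_coe_finset, hs] at h5
  have h6 : (W : Set G).ncard = Nat.card W := (Nat.card_coe_set_eq (W : Set G)).symm
  omega

/-- Let `A` be an abelian subgroup of order `4 * odd` containing `t` and two distinct involutions `a`, `b`.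
If the centralizer of `t` meets the centralizer of each of `a`, `b`, `a * b` inside `A`, and no element of
order `3` commutes with `t`, then the centralizer of `t` lies in `A`. -/
theorem cent_le_of_four [Finite G] (A : Subgroup G) (hA : ∀ x ∈ A, ∀ y ∈ A, x * y = y * x)
    (k : ℕ) (hk : Odd k) (hcard : Nat.card A = 4 * k)
    (t a b : G) (ht : t ∈ A) (ha : a ∈ A) (hb : b ∈ A) (ha1 : a ≠ 1) (hb1 : b ≠ 1) (hab : a ≠ b)
    (ha2 : a * a = 1) (hb2 : b * b = 1)
    (hα : ∀ v : G, v = a ∨ v = b ∨ v = a * b → ∀ x : G, x * t = t * x → x * v = v * x → x ∈ A)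
    (hβ : ∀ y : G, y * y * y = 1 → y * t = t * y → y = 1) :
    ∀ x : G, x * t = t * x → x ∈ A := by
  have hV : ∀ x ∈ A, x * x = 1 → x = 1 ∨ x = a ∨ x = b ∨ x = a * b :=
    fun x hx hx2 => sq_one_cases A hA k hk hcard ha hb ha1 hb1 hab ha2 hb2 hx hx2
  have hcomm_ab : a * b = b * a := hA a ha b hb
  have haba : a * b ≠ a := fun h => hb1 (mul_eq_left.mp h)
  have conj_sq : ∀ (x v : G), v * v = 1 → (x * v * x⁻¹) * (x * v * x⁻¹) = 1 := by
    intro x v hv
    calc x * v * x⁻¹ * (x * v * x⁻¹) = x * (v * v) * x⁻¹ := by group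
      _ = 1 := by rw [hv]; group
  have conj_ne : ∀ (x v : G), v ≠ 1 → x * v * x⁻¹ ≠ 1 := by
    intro x v hv h
    apply hv
    calc v = x⁻¹ * (x * v * x⁻¹) * x := by group
      _ = 1 := by rw [h]; group
  have conj_inj : ∀ (x v w : G), x * v * x⁻¹ = x * w * x⁻¹ → v = w := by
    intro x v w h
    calc v = x⁻¹ * (x * v * x⁻¹) * x := by group
      _ = x⁻¹ * (x * w * x⁻¹) * x := by rw [h]
      _ = w := by group
  have conj_comm : ∀ (x v : G), x * v * x⁻¹ = v → x * v = v * x := by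
    intro x v h
    calc x * v = (x * v * x⁻¹) * x := by group
      _ = v * x := by rw [h]
  have inv_t : ∀ x : G, x * t = t * x → x⁻¹ * t = t * x⁻¹ := by
    intro x hx
    calc x⁻¹ * t = x⁻¹ * (t * x) * x⁻¹ := by group
      _ = x⁻¹ * (x * t) * x⁻¹ := by rw [hx]
      _ = t * x⁻¹ := by group
  have mul_t : ∀ x y : G, x * t = t * x → y * t = t * y → (x * y) * t = t * (x * y) := by
    intro x y hx hy
    calc x * y * t = x * (y * t) := by rw [mul_assoc]
      _ = x * (t * y) := by rw [hy]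
      _ = (x * t) * y := by rw [mul_assoc]
      _ = t * (x * y) := by rw [hx, mul_assoc]
  have conj_t : ∀ (x v : G), x * t = t * x → v * t = t * v → (x * v * x⁻¹) * t = t * (x * v * x⁻¹) :=
    fun x v hx hv => mul_t _ _ (mul_t _ _ hx hv) (inv_t x hx)
  have hat : a * t = t * a := hA a ha t ht
  have hbt : b * t = t * b := hA b hb t ht
  have step1 : ∀ x : G, x * t = t * x → x * a * x⁻¹ ∈ A → x * b * x⁻¹ ∈ A → x ∈ A := by
    intro x hxt hxa hxb
    have hmul : x * (a * b) * x⁻¹ = (x * a * x⁻¹) * (x * b * x⁻¹) := by group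
    have hcyc : ∀ a₁ a₂ : G, x * a * x⁻¹ = a₁ → x * a₁ * x⁻¹ = a₂ → x * a₂ * x⁻¹ = a → a₁ ≠ a → a₂ ≠ a →
        x ∈ A := by
      intro a₁ a₂ h0 h1 h2 hne1 hne2
      exfalso
      obtain ⟨k', hk1, hk3⟩ := three_cycle_pow h0 h1 h2 hne1 hne2
      apply hk1
      apply hβ _ hk3
      exact ((show Commute x t from hxt).pow_left k').eq
    rcases hV _ hxa (conj_sq x a ha2) with h | h | h | h
    · exact absurd h (conj_ne x a ha1)
    · exact hα a (Or.inl rfl) x hxt (conj_comm x a h)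
    · rcases hV _ hxb (conj_sq x b hb2) with h' | h' | h' | h'
      · exact absurd h' (conj_ne x b hb1)
      · apply hα (a * b) (Or.inr (Or.inr rfl)) x hxt
        apply conj_comm
        rw [hmul, h, h', hcomm_ab]
      · exact hα b (Or.inr (Or.inl rfl)) x hxt (conj_comm x b h')
      · refine hcyc b (a * b) h h' ?_ (Ne.symm hab) haba
        rw [hmul, h, h']
        calc b * (a * b) = (b * a) * b := by rw [mul_assoc]
          _ = (a * b) * b := by rw [hcomm_ab]
          _ = a := by rw [mul_assoc, hb2, mul_one]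
    · rcases hV _ hxb (conj_sq x b hb2) with h' | h' | h' | h'
      · exact absurd h' (conj_ne x b hb1)
      · refine hcyc (a * b) b h ?_ h' haba (Ne.symm hab)
        rw [hmul, h, h']
        calc a * b * a = a * (b * a) := by rw [mul_assoc]
          _ = a * (a * b) := by rw [hcomm_ab]
          _ = b := by rw [← mul_assoc, ha2, one_mul]
      · exact hα b (Or.inr (Or.inl rfl)) x hxt (conj_comm x b h')
      · exact absurd (conj_inj x a b (h.trans h'.symm)) hab
  have step2 : ∀ j : G, j * j = 1 → j ≠ 1 → j * t = t * j → j ∈ A := by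
    intro j hj2 hj1 hjt
    have hpowt : ∀ (v : G), v * t = t * v → ∀ k' : ℕ, (j * v) ^ k' * t = t * (j * v) ^ k' := by
      intro v hv k'
      exact ((show Commute (j * v) t from mul_t j v hjt hv).pow_left k').eq
    have hcase1 : ∀ v : G, (v = a ∨ v = b ∨ v = a * b) → v * t = t * v →
        (∃ k' : ℕ, (j * v) ^ k' ≠ 1 ∧ (j * v) ^ k' * (j * v) ^ k' = 1 ∧
          (j * v) ^ k' * j = j * (j * v) ^ k' ∧ (j * v) ^ k' * v = v * (j * v) ^ k') → j ∈ A := by
      rintro v hv hvt ⟨k', hz1, hz2, hzj, hzv⟩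
      have hzA : (j * v) ^ k' ∈ A := hα v hv _ (hpowt v hvt k') hzv
      have hzV' : (j * v) ^ k' = a ∨ (j * v) ^ k' = b ∨ (j * v) ^ k' = a * b := by
        rcases hV _ hzA hz2 with h | h
        · exact absurd h hz1
        · exact h
      exact hα _ hzV' j hjt hzj.symm
    rcases invol_pair hj2 ha2 with h | ⟨k₁, hc₁⟩
    · exact hcase1 a (Or.inl rfl) hat h
    rcases invol_pair hj2 hb2 with h | ⟨k₂, hc₂⟩
    · exact hcase1 b (Or.inr (Or.inl rfl)) hbt h
    exfalso
    have hct := hpowt a hat k₁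
    have hc't := hpowt b hbt k₂
    obtain ⟨d, hd⟩ : ∃ d : G, d = ((j * b) ^ k₂)⁻¹ * (j * a) ^ k₁ := ⟨_, rfl⟩
    have hdt : d * t = t * d := by
      rw [hd]
      exact mul_t _ _ (inv_t _ hc't) hct
    have hda : d * a * d⁻¹ = b := by
      rw [hd]
      calc ((j * b) ^ k₂)⁻¹ * (j * a) ^ k₁ * a * (((j * b) ^ k₂)⁻¹ * (j * a) ^ k₁)⁻¹
          = ((j * b) ^ k₂)⁻¹ * ((j * a) ^ k₁ * a * ((j * a) ^ k₁)⁻¹) * (j * b) ^ k₂ := by group
        _ = ((j * b) ^ k₂)⁻¹ * ((j * b) ^ k₂ * b * ((j * b) ^ k₂)⁻¹) * (j * b) ^ k₂ := by rw [hc₁, hc₂]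
        _ = b := by group
    have hdbA : d * b * d⁻¹ ∈ A := by
      apply hα b (Or.inr (Or.inl rfl)) _ (conj_t d b hdt hbt)
      have e1 : (d * b * d⁻¹) * (d * a * d⁻¹) = (d * a * d⁻¹) * (d * b * d⁻¹) := by
        calc (d * b * d⁻¹) * (d * a * d⁻¹) = d * (b * a) * d⁻¹ := by group
          _ = d * (a * b) * d⁻¹ := by rw [hcomm_ab]
          _ = (d * a * d⁻¹) * (d * b * d⁻¹) := by group
      rw [hda] at e1
      exact e1
    have hdaA : d * a * d⁻¹ ∈ A := by
      rw [hda]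
      exact hb
    have hdA := step1 d hdt hdaA hdbA
    apply hab
    rw [← hda, hA d hdA a ha]
    group
  intro x hxt
  exact step1 x hxt (step2 _ (conj_sq x a ha2) (conj_ne x a ha1) (conj_t x a hxt hat))
    (step2 _ (conj_sq x b hb2) (conj_ne x b hb1) (conj_t x b hxt hbt))

/-- Centralizers of the nontrivial subgroups of an abelian subgroup `H` of order `N`, when for every prime
`p ∣ N` the abelian subgroup `T` contains a Sylow `p`-subgroup of `G` and contains the centralizers of its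
elements of order `p`: they are all equal to one conjugate of `T`. -/
theorem cent_eq_conj_of_torus [Finite G] (T : Subgroup G) (hT : ∀ x ∈ T, ∀ y ∈ T, x * y = y * x)
    (N : ℕ)
    (hcent : ∀ p : ℕ, p.Prime → p ∣ N → ∀ t ∈ T, orderOf t = p → ∀ x : G, x * t = t * x → x ∈ T)
    (hsyl : ∀ p : ℕ, p.Prime → p ∣ N → ¬ p ∣ T.index)
    (H : Subgroup G) (hH : ∀ x ∈ H, ∀ y ∈ H, x * y = y * x) (hHN : Nat.card H = N)
    (A : Subgroup G) (hAH : A ≤ H) (hA : A ≠ ⊥) :
    ∃ g : G, Subgroup.centralizer (A : Set G) = T.map (MulAut.conj g).toMonoidHom ∧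
      Subgroup.centralizer (H : Set G) = T.map (MulAut.conj g).toMonoidHom := by
  have hA1 : Nat.card A ≠ 1 := fun h => hA (Subgroup.card_eq_one.mp h)
  obtain ⟨p, hp, hpA⟩ := Nat.exists_prime_and_dvd hA1
  have hpN : p ∣ N := hHN ▸ hpA.trans (Subgroup.card_dvd_of_le hAH)
  have hpF : Fact p.Prime := ⟨hp⟩
  obtain ⟨t'', ht''⟩ := exists_prime_orderOf_dvd_card' (G := ↥A) p hpA
  obtain ⟨t', ht'A, ht'o⟩ : ∃ t' : G, t' ∈ A ∧ orderOf t' = p :=
    ⟨t''.1, t''.2, by rw [Subgroup.orderOf_coe]; exact ht''⟩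
  obtain ⟨P₀⟩ : Nonempty (Sylow p ↥T) := inferInstance
  have hP₁ : IsPGroup p ↥((P₀ : Subgroup ↥T).map T.subtype) := P₀.2.map T.subtype
  have hidx : ¬ p ∣ ((P₀ : Subgroup ↥T).map T.subtype).index := by
    rw [Subgroup.index_map_subtype]
    intro hdvd
    rcases (Nat.Prime.dvd_mul hp).mp hdvd with h | h
    · exact P₀.not_dvd_index h
    · exact hsyl p hp hpN h
  have hz : IsPGroup p ↥(Subgroup.zpowers t') :=
    IsPGroup.of_card (n := 1) (by rw [Nat.card_zpowers, ht'o, pow_one])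
  obtain ⟨Q', hQ'⟩ := hz.exists_le_sylow
  obtain ⟨g, hg⟩ := MulAction.exists_smul_eq G (hP₁.toSylow hidx) Q'
  have hmem : ∀ x : G, x ∈ (Q' : Subgroup G) ↔ g⁻¹ * x * g ∈ (P₀ : Subgroup ↥T).map T.subtype := by
    intro x
    rw [← hg, Sylow.coe_subgroup_smul, Subgroup.mem_pointwise_smul_iff_inv_smul_mem, MulAut.smul_def,
      MulAut.conj_inv_apply, IsPGroup.toSylow_coe]
  have htT : g⁻¹ * t' * g ∈ T := by
    obtain ⟨y, -, hy⟩ := Subgroup.mem_map.mp ((hmem t').mp (hQ' (Subgroup.mem_zpowers t')))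
    rw [← hy]
    exact y.2
  have hto : orderOf (g⁻¹ * t' * g) = p := by
    have h1 := (MulAut.conj g⁻¹).orderOf_eq t'
    rw [MulAut.conj_apply, inv_inv] at h1
    rw [h1, ht'o]
  have hC := hcent p hp hpN _ htT hto
  refine ⟨g, ?_⟩
  have key1 : ∀ x : G, x * t' = t' * x → g⁻¹ * x * g ∈ T := by
    intro x hx
    apply hC
    calc g⁻¹ * x * g * (g⁻¹ * t' * g) = g⁻¹ * (x * t') * g := by group
      _ = g⁻¹ * (t' * x) * g := by rw [hx]
      _ = g⁻¹ * t' * g * (g⁻¹ * x * g) := by group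
  have ht'H : t' ∈ H := hAH ht'A
  have key2 : ∀ h ∈ H, g⁻¹ * h * g ∈ T := fun h hh => key1 h (hH h hh t' ht'H)
  have key3 : ∀ x : G, g⁻¹ * x * g ∈ T → x ∈ Subgroup.centralizer (H : Set G) := by
    intro x hx
    rw [Subgroup.mem_centralizer_iff]
    intro h hh
    have h2 := hT _ (key2 h hh) _ hx
    calc h * x = g * ((g⁻¹ * h * g) * (g⁻¹ * x * g)) * g⁻¹ := by group
      _ = g * ((g⁻¹ * x * g) * (g⁻¹ * h * g)) * g⁻¹ := by rw [h2]
      _ = x * h := by group
  have hmap : ∀ x : G, x ∈ T.map (MulAut.conj g).toMonoidHom ↔ g⁻¹ * x * g ∈ T := by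
    intro x
    rw [Subgroup.mem_map]
    constructor
    · rintro ⟨y, hy, rfl⟩
      have e1 : g⁻¹ * ((MulAut.conj g).toMonoidHom y) * g = y := by
        show g⁻¹ * (g * y * g⁻¹) * g = y
        group
      rw [e1]
      exact hy
    · intro hx
      refine ⟨g⁻¹ * x * g, hx, ?_⟩
      show g * (g⁻¹ * x * g) * g⁻¹ = x
      group
  have hHA : Subgroup.centralizer (H : Set G) ≤ Subgroup.centralizer (A : Set G) :=
    Subgroup.centralizer_le hAH
  constructor
  · ext x
    rw [hmap]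
    constructor
    · intro hx
      exact key1 x ((Subgroup.mem_centralizer_iff.mp hx t' ht'A).symm)
    · intro hx
      exact hHA (key3 x hx)
  · ext x
    rw [hmap]
    constructor
    · intro hx
      exact key1 x ((Subgroup.mem_centralizer_iff.mp hx t' ht'H).symm)
    · exact key3 x

/-- If a subgroup `S` of order `8` is self-centralizing with normalizer of order `168`, then all its
non-identity elements are conjugate. -/
theorem conj_of_normalizer_168 [Finite G] (S : Subgroup G) (hS8 : Nat.card S = 8)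
    (hC : Subgroup.centralizer (S : Set G) = S) (hN : Nat.card ↥(Subgroup.normalizer (S : Set G)) = 168)
    {u v : G} (hu : u ∈ S) (hv : v ∈ S) (hu1 : u ≠ 1) (hv1 : v ≠ 1) :
    ∃ g : G, g * u * g⁻¹ = v := by
  have h7 : Fact (Nat.Prime 7) := ⟨by norm_num⟩
  obtain ⟨x', hx'⟩ := exists_prime_orderOf_dvd_card' (G := ↥(Subgroup.normalizer (S : Set G))) 7
    (by rw [hN]; norm_num)
  obtain ⟨x, hxN, hxo⟩ : ∃ x : G, x ∈ Subgroup.normalizer (S : Set G) ∧ orderOf x = 7 :=
    ⟨x'.1, x'.2, by rw [Subgroup.orderOf_coe]; exact hx'⟩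
  have hZcard : Nat.card ↥(Subgroup.zpowers x) = 7 := by rw [Nat.card_zpowers, hxo]
  have hZN : Subgroup.zpowers x ≤ Subgroup.normalizer (S : Set G) := by
    rw [Subgroup.zpowers_le]
    exact hxN
  have hnc : ∃ w ∈ S, x * w ≠ w * x := by
    by_contra hcon
    have hxS : x ∈ S := by
      rw [← hC, Subgroup.mem_centralizer_iff]
      intro w hw
      by_contra hne
      exact hcon ⟨w, hw, fun h => hne h.symm⟩
    have h1 : orderOf (⟨x, hxS⟩ : ↥S) ∣ Nat.card S := orderOf_dvd_natCard _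
    rw [← Subgroup.orderOf_coe, hxo, hS8] at h1
    norm_num at h1
  obtain ⟨w, hwS, hwx⟩ := hnc
  have hw1 : w ≠ 1 := by
    rintro rfl
    exact hwx (by rw [mul_one, one_mul])
  have hsub : conjOrb (Subgroup.zpowers x) w ⊆ (S : Set G) \ {1} := by
    rintro y ⟨n, hn, rfl⟩
    refine ⟨(Subgroup.mem_normalizer_iff.mp (hZN hn) w).mp hwS, ?_⟩
    intro h1
    apply hw1
    have h1' : n * w * n⁻¹ = 1 := h1
    calc w = n⁻¹ * (n * w * n⁻¹) * n := by group
      _ = 1 := by rw [h1']; group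
  have hcard := card_conjOrb (Subgroup.zpowers x) w
  rw [hZcard] at hcard
  have hS7 : ((S : Set G) \ {1}).ncard = 7 := by
    rw [Set.ncard_sdiff_singleton_of_mem S.one_mem, ← Nat.card_coe_set_eq]
    show Nat.card ↥S - 1 = 7
    rw [hS8]
  have horb : (conjOrb (Subgroup.zpowers x) w).ncard = 7 := by
    have hd : (conjOrb (Subgroup.zpowers x) w).ncard ∣ 7 := Dvd.intro _ hcard
    rcases (Nat.dvd_prime (by norm_num : Nat.Prime 7)).mp hd with h | h
    · exfalso
      rw [h, one_mul] at hcard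
      have hle : Subgroup.zpowers x ⊓ Subgroup.centralizer {w} ≤ Subgroup.zpowers x := inf_le_left
      have heq : Subgroup.zpowers x ⊓ Subgroup.centralizer {w} = Subgroup.zpowers x :=
        Subgroup.eq_of_le_of_card_ge hle (by rw [hcard, hZcard])
      have hxc : x ∈ Subgroup.zpowers x ⊓ Subgroup.centralizer {w} := by
        rw [heq]
        exact Subgroup.mem_zpowers x
      exact hwx (Subgroup.mem_centralizer_iff.mp hxc.2 w rfl).symm
    · exact h
  have heq : conjOrb (Subgroup.zpowers x) w = (S : Set G) \ {1} :=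
    Set.eq_of_subset_of_ncard_le hsub (by rw [horb, hS7]) (Set.toFinite _)
  have hu' : u ∈ conjOrb (Subgroup.zpowers x) w := by
    rw [heq]
    exact ⟨hu, hu1⟩
  have hv' : v ∈ conjOrb (Subgroup.zpowers x) w := by
    rw [heq]
    exact ⟨hv, hv1⟩
  obtain ⟨n₁, -, rfl⟩ := hu'
  obtain ⟨n₂, -, rfl⟩ := hv'
  exact ⟨n₂ * n₁⁻¹, by group⟩

/-- An element of prime order `p` is conjugate into any subgroup of index prime to `p`. -/
theorem exists_conj_mem_of_prime_order [Finite G] (T : Subgroup G) {p : ℕ} (hp : p.Prime)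
    (hidx : ¬ p ∣ T.index) {t' : G} (ht'o : orderOf t' = p) : ∃ g : G, g⁻¹ * t' * g ∈ T := by
  have hpF : Fact p.Prime := ⟨hp⟩
  obtain ⟨P₀⟩ : Nonempty (Sylow p ↥T) := inferInstance
  have hP₁ : IsPGroup p ↥((P₀ : Subgroup ↥T).map T.subtype) := P₀.2.map T.subtype
  have hidx' : ¬ p ∣ ((P₀ : Subgroup ↥T).map T.subtype).index := by
    rw [Subgroup.index_map_subtype]
    intro hdvd
    rcases (Nat.Prime.dvd_mul hp).mp hdvd with h | h
    · exact P₀.not_dvd_index h
    · exact hidx h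
  have hz : IsPGroup p ↥(Subgroup.zpowers t') :=
    IsPGroup.of_card (n := 1) (by rw [Nat.card_zpowers, ht'o, pow_one])
  obtain ⟨Q', hQ'⟩ := hz.exists_le_sylow
  obtain ⟨g, hg⟩ := MulAction.exists_smul_eq G (hP₁.toSylow hidx') Q'
  have hmem : ∀ x : G, x ∈ (Q' : Subgroup G) ↔ g⁻¹ * x * g ∈ (P₀ : Subgroup ↥T).map T.subtype := by
    intro x
    rw [← hg, Sylow.coe_subgroup_smul, Subgroup.mem_pointwise_smul_iff_inv_smul_mem, MulAut.smul_def,
      MulAut.conj_inv_apply, IsPGroup.toSylow_coe]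
  refine ⟨g, ?_⟩
  obtain ⟨y, -, hy⟩ := Subgroup.mem_map.mp ((hmem t').mp (hQ' (Subgroup.mem_zpowers t')))
  rw [← hy]
  exact y.2

end CentAbs

end Cfsg.Agent.Lib.helper44
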