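import Cfsg.Agent.Lib.helper44.LawNC
import Cfsg.Prelude.Def_Classical

set_option autoImplicit false

namespace Cfsg.Agent.Lib.helper44

open Matrix

section Block

variable {F : Type*} [Field F]

/-- The equivalence used to embed `k × k` blocks into `n × n` matrices. -/
def blockEquiv (k n : ℕ) (h : k ≤ n) : Fin k ⊕ Fin (n - k) ≃ Fin n :=
  finSumFinEquiv.trans (finCongr (Nat.add_sub_of_le h))

/-- Upper-left block embedding `A ↦ diag(A, 1)` of `k × k` matrices into `n × n` matrices. -/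
def blockHom (k n : ℕ) (h : k ≤ n) : Matrix (Fin k) (Fin k) F →* Matrix (Fin n) (Fin n) F where
  toFun A := Matrix.reindex (blockEquiv k n h) (blockEquiv k n h) (Matrix.fromBlocks A 0 0 1)
  map_one' := by
    simp [Matrix.fromBlocks_one]
  map_mul' A B := by
    simp [Matrix.fromBlocks_multiply]

theorem blockHom_injective (k n : ℕ) (h : k ≤ n) :
    Function.Injective (blockHom (F := F) k n h) := by
  intro A B hAB
  have h1 := (Matrix.reindex (blockEquiv k n h) (blockEquiv k n h)).injective hAB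
  exact (Matrix.fromBlocks_inj.1 h1).1

theorem det_blockHom (k n : ℕ) (h : k ≤ n) (A : Matrix (Fin k) (Fin k) F) :
    (blockHom k n h A).det = A.det := by
  simp [blockHom]

theorem blockHom_unitary (k n : ℕ) (h : k ≤ n) (σ : F →+* F) (A : Matrix (Fin k) (Fin k) F)
    (hA : Aᵀ * A.map σ = 1) : (blockHom k n h A)ᵀ * (blockHom k n h A).map σ = 1 := by
  simp only [blockHom, MonoidHom.coe_mk, OneHom.coe_mk, Matrix.reindex_apply]
  rw [Matrix.transpose_submatrix, ← Matrix.submatrix_map, Matrix.submatrix_mul_equiv,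
    Matrix.fromBlocks_transpose, Matrix.fromBlocks_map, Matrix.fromBlocks_multiply]
  simp [hA, Matrix.fromBlocks_one]

end Block

section Dbl

variable {F : Type*} [Field F] {H : Type*} [Group H] {m : ℕ}

/-- Doubling: `h ↦ diag(ρ h, (ρ h⁻¹)ᵀ)`. -/
def dblHom (ρ : H →* Matrix (Fin m) (Fin m) F) :
    H →* Matrix (Fin m ⊕ Fin m) (Fin m ⊕ Fin m) F where
  toFun h := Matrix.fromBlocks (ρ h) 0 0 (ρ h⁻¹)ᵀ
  map_one' := by
    simp [Matrix.fromBlocks_one]
  map_mul' a b := by
    simp [Matrix.fromBlocks_multiply, Matrix.transpose_mul]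

theorem dblHom_apply (ρ : H →* Matrix (Fin m) (Fin m) F) (h : H) :
    dblHom ρ h = Matrix.fromBlocks (ρ h) 0 0 (ρ h⁻¹)ᵀ := rfl

theorem dblHom_injective (ρ : H →* Matrix (Fin m) (Fin m) F) (hρ : Function.Injective ρ) :
    Function.Injective (dblHom ρ) := by
  intro a b hab
  exact hρ (Matrix.fromBlocks_inj.1 hab).1

theorem dblHom_mem_symplectic (ρ : H →* Matrix (Fin m) (Fin m) F) (h : H) :
    dblHom ρ h ∈ Matrix.symplecticGroup (Fin m) F := by
  rw [dblHom_apply, SymplecticGroup.fromBlocks_mem_iff]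
  refine ⟨by simp, by simp, ?_⟩
  rw [← Matrix.transpose_mul, ← map_mul]
  simp

/-- The pairing `Σ x_i y_i` is invariant under `(ρ h, (ρ h⁻¹)ᵀ)`. -/
theorem pairing_invariant (ρ : H →* Matrix (Fin m) (Fin m) F) (h : H) (x y : Fin m → F) :
    (ρ h *ᵥ x) ⬝ᵥ ((ρ h⁻¹)ᵀ *ᵥ y) = x ⬝ᵥ y := by
  rw [Matrix.mulVec_transpose, dotProduct_comm, ← Matrix.dotProduct_mulVec,
    Matrix.mulVec_mulVec, ← map_mul]
  simp [dotProduct_comm]

theorem dblHom_mulVec_inl (ρ : H →* Matrix (Fin m) (Fin m) F) (h : H) (v : Fin m ⊕ Fin m → F)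
    (i : Fin m) : (dblHom ρ h *ᵥ v) (Sum.inl i) = (ρ h *ᵥ (fun j => v (Sum.inl j))) i := by
  rw [dblHom_apply]
  simp [Matrix.mulVec, dotProduct, Matrix.fromBlocks]

theorem dblHom_mulVec_inr (ρ : H →* Matrix (Fin m) (Fin m) F) (h : H) (v : Fin m ⊕ Fin m → F)
    (i : Fin m) : (dblHom ρ h *ᵥ v) (Sum.inr i) = ((ρ h⁻¹)ᵀ *ᵥ (fun j => v (Sum.inr j))) i := by
  rw [dblHom_apply]
  simp [Matrix.mulVec, dotProduct, Matrix.fromBlocks]

theorem quadFormPlus_dblHom (ρ : H →* Matrix (Fin m) (Fin m) F) (h : H) (v : Fin m ⊕ Fin m → F) :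
    Cfsg.quadFormPlus m F (dblHom ρ h *ᵥ v) = Cfsg.quadFormPlus m F v := by
  unfold Cfsg.quadFormPlus
  simp only [dblHom_mulVec_inl, dblHom_mulVec_inr]
  exact pairing_invariant ρ h (fun j => v (Sum.inl j)) (fun j => v (Sum.inr j))

/-- `A ↦ diag(1, A)`. -/
def lrHom (α : Type*) {β : Type*} [Fintype α] [DecidableEq α] [Fintype β] [DecidableEq β] :
    Matrix β β F →* Matrix (α ⊕ β) (α ⊕ β) F where
  toFun A := Matrix.fromBlocks 1 0 0 A
  map_one' := by simp [Matrix.fromBlocks_one]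
  map_mul' a b := by simp [Matrix.fromBlocks_multiply]

/-- `A ↦ diag(A, 1)`. -/
def ulHom {α : Type*} (β : Type*) [Fintype α] [DecidableEq α] [Fintype β] [DecidableEq β] :
    Matrix α α F →* Matrix (α ⊕ β) (α ⊕ β) F where
  toFun A := Matrix.fromBlocks A 0 0 1
  map_one' := by simp [Matrix.fromBlocks_one]
  map_mul' a b := by simp [Matrix.fromBlocks_multiply]

theorem lrHom_injective (α : Type*) {β : Type*} [Fintype α] [DecidableEq α] [Fintype β]
    [DecidableEq β] : Function.Injective (lrHom (F := F) α (β := β)) := by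
  intro a b hab
  exact (Matrix.fromBlocks_inj.1 hab).2.2.2

theorem ulHom_injective {α : Type*} (β : Type*) [Fintype α] [DecidableEq α] [Fintype β]
    [DecidableEq β] : Function.Injective (ulHom (F := F) (α := α) β) := by
  intro a b hab
  exact (Matrix.fromBlocks_inj.1 hab).1

theorem quadFormOdd_lrHom (ρ : H →* Matrix (Fin m) (Fin m) F) (h : H)
    (v : Unit ⊕ (Fin m ⊕ Fin m) → F) :
    Cfsg.quadFormOdd m F (lrHom Unit (dblHom ρ h) *ᵥ v) = Cfsg.quadFormOdd m F v := by
  have h1 : (lrHom Unit (dblHom ρ h) *ᵥ v) (Sum.inl ()) = v (Sum.inl ()) := by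
    simp [lrHom, Matrix.fromBlocks_mulVec]
  have h2 : ∀ j, (lrHom Unit (dblHom ρ h) *ᵥ v) (Sum.inr j)
      = (dblHom ρ h *ᵥ (v ∘ Sum.inr)) j := by
    intro j
    simp [lrHom, Matrix.fromBlocks_mulVec]
  unfold Cfsg.quadFormOdd
  rw [h1]
  simp only [h2]
  congr 1
  exact quadFormPlus_dblHom ρ h (v ∘ Sum.inr)

theorem quadFormMinus_ulHom (ρ : H →* Matrix (Fin m) (Fin m) F) (a b : F) (h : H)
    (v : (Fin m ⊕ Fin m) ⊕ Fin 2 → F) :
    Cfsg.quadFormMinus m F a b (ulHom (Fin 2) (dblHom ρ h) *ᵥ v) = Cfsg.quadFormMinus m F a b v := by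
  have h1 : ∀ j, (ulHom (Fin 2) (dblHom ρ h) *ᵥ v) (Sum.inr j) = v (Sum.inr j) := by
    intro j
    simp [ulHom, Matrix.fromBlocks_mulVec]
  have h2 : ∀ j, (ulHom (Fin 2) (dblHom ρ h) *ᵥ v) (Sum.inl j)
      = (dblHom ρ h *ᵥ (v ∘ Sum.inl)) j := by
    intro j
    simp [ulHom, Matrix.fromBlocks_mulVec]
  unfold Cfsg.quadFormMinus
  simp only [h1, h2]
  congr 1
  exact quadFormPlus_dblHom ρ h (v ∘ Sum.inl)

end Dbl

section Targets

variable {F : Type*} [Field F] {H : Type*} [Group H]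

/-- A matrix representation preserving `Q` gives a hom into the isometry group. -/
def toIsom {ι : Type} [Fintype ι] [DecidableEq ι] (φ : H →* Matrix ι ι F) (Q : (ι → F) → F)
    (hQ : ∀ h u, Q (φ h *ᵥ u) = Q u) : H →* Cfsg.isometryGroup F Q :=
  φ.toHomUnits.codRestrict (Cfsg.isometryGroup F Q) (fun h u _ => hQ h u)

theorem toIsom_injective {ι : Type} [Fintype ι] [DecidableEq ι] (φ : H →* Matrix ι ι F)
    (Q : (ι → F) → F) (hQ : ∀ h u, Q (φ h *ᵥ u) = Q u) (hφ : Function.Injective φ) :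
    Function.Injective (toIsom φ Q hQ) := by
  intro a b hab
  apply hφ
  have h1 := congrArg (fun g : Cfsg.isometryGroup F Q => ((g : GL ι F) : Matrix ι ι F)) hab
  exact h1

/-- A perfect group with a non-central word value, represented faithfully by isometries of `Q`,
gives a non-law in `PΩ(Q)`. -/
theorem not_law_POmega {w : FreeGroup ℕ} (hNC : NC w H) (hperf : _root_.commutator H = ⊤)
    {ι : Type} [Fintype ι] [DecidableEq ι] (φ : H →* Matrix ι ι F) (Q : (ι → F) → F)
    (hQ : ∀ h u, Q (φ h *ᵥ u) = Q u) (hφ : Function.Injective φ) :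
    ∃ f : ℕ → Cfsg.POmega F Q, FreeGroup.lift f w ≠ 1 :=
  (hNC.to_commutator hperf (toIsom φ Q hQ) (toIsom_injective φ Q hQ hφ)).quotient_center

/-- Hom into `SL_n`. -/
def toSL {n : ℕ} (ρ : H →* Matrix (Fin n) (Fin n) F) (hdet : ∀ h, (ρ h).det = 1) :
    H →* Matrix.SpecialLinearGroup (Fin n) F where
  toFun h := (⟨ρ h, hdet h⟩ : Matrix.SpecialLinearGroup (Fin n) F)
  map_one' := by
    apply Subtype.ext
    show ρ 1 = 1
    exact map_one ρ
  map_mul' a b := by
    apply Subtype.ext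
    show ρ (a * b) = ρ a * ρ b
    exact map_mul ρ a b

theorem toSL_injective {n : ℕ} (ρ : H →* Matrix (Fin n) (Fin n) F) (hdet : ∀ h, (ρ h).det = 1)
    (hρ : Function.Injective ρ) : Function.Injective (toSL ρ hdet) := by
  intro a b hab
  exact hρ (congrArg Subtype.val hab)

/-- Hom into `Sp_{2m}`. -/
def toSp {m : ℕ} (ρ : H →* Matrix (Fin m) (Fin m) F) : H →* Matrix.symplecticGroup (Fin m) F :=
  (dblHom ρ).codRestrict (Matrix.symplecticGroup (Fin m) F) (dblHom_mem_symplectic ρ)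

theorem toSp_injective {m : ℕ} (ρ : H →* Matrix (Fin m) (Fin m) F) (hρ : Function.Injective ρ) :
    Function.Injective (toSp ρ) := by
  intro a b hab
  exact dblHom_injective ρ hρ (congrArg Subtype.val hab)

end Targets

section Sources

variable {F : Type*} [Field F]

/-- Even permutations as permutation matrices. -/
def altRep (m : ℕ) : alternatingGroup (Fin m) →* Matrix (Fin m) (Fin m) F :=
  (Matrix.permMatrixHom (R := F)).comp (alternatingGroup (Fin m)).subtype

theorem altRep_apply (m : ℕ) (σ : alternatingGroup (Fin m)) :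
    altRep (F := F) m σ = ((σ : Equiv.Perm (Fin m))⁻¹).permMatrix F := rfl

theorem altRep_injective (m : ℕ) : Function.Injective (altRep (F := F) m) := by
  intro a b hab
  rw [altRep_apply, altRep_apply] at hab
  have h1 := PEquiv.toMatrix_injective hab
  have h2 : (a : Equiv.Perm (Fin m))⁻¹ = (b : Equiv.Perm (Fin m))⁻¹ := by
    apply Equiv.ext
    intro i
    have := congrArg (fun f : Fin m ≃. Fin m => f i) h1
    simpa using this
  exact Subtype.ext (inv_injective h2)

theorem det_altRep (m : ℕ) (σ : alternatingGroup (Fin m)) : (altRep (F := F) m σ).det = 1 := by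
  rw [altRep_apply, Matrix.det_permutation]
  have h := σ.2
  rw [Equiv.Perm.mem_alternatingGroup] at h
  simp [h]

theorem altRep_mulVec (m : ℕ) (σ : alternatingGroup (Fin m)) (v : Fin m → F) :
    altRep (F := F) m σ *ᵥ v = v ∘ ⇑((σ : Equiv.Perm (Fin m))⁻¹) := by
  rw [altRep_apply, Matrix.permMatrix_mulVec]

/-- `SL_n` as matrices. -/
def slRep (n : ℕ) : Matrix.SpecialLinearGroup (Fin n) F →* Matrix (Fin n) (Fin n) F where
  toFun A := A.1
  map_one' := rfl
  map_mul' _ _ := rfl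

theorem slRep_injective (n : ℕ) : Function.Injective (slRep (F := F) n) :=
  fun _ _ h => Subtype.ext h

theorem det_slRep (n : ℕ) (A : Matrix.SpecialLinearGroup (Fin n) F) : (slRep n A).det = 1 := A.2

theorem SL2_perfect [Fintype F] (hF : 4 ≤ Fintype.card F) :
    _root_.commutator (Matrix.SpecialLinearGroup (Fin 2) F) = ⊤ := by
  classical
  have hcard : ({0, 1, -1} : Finset F).card < (Finset.univ : Finset F).card := by
    have h3 : ({0, 1, -1} : Finset F).card ≤ 3 := Finset.card_le_three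
    rw [Finset.card_univ]
    omega
  obtain ⟨a, -, ha⟩ := Finset.exists_mem_notMem_of_card_lt_card hcard
  simp only [Finset.mem_insert, Finset.mem_singleton, not_or] at ha
  apply Matrix.SL2.commutator_eq_top ha.1
  intro hsq
  have h1 : (a - 1) * (a + 1) = 0 := by ring_nf; rw [hsq]; ring
  rcases mul_eq_zero.1 h1 with h | h
  · exact ha.2.1 (sub_eq_zero.1 h)
  · exact ha.2.2 (eq_neg_of_add_eq_zero_left h)

theorem alt_perfect (m : ℕ) (hm : 5 ≤ m) : _root_.commutator (alternatingGroup (Fin m)) = ⊤ :=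
  commutator_alternatingGroup_eq_top (by simpa using hm)

end Sources

section Unitary

variable {F : Type*} [Field F] {H : Type*} [Group H]

/-- Matrix criterion for preserving the hermitian form. -/
theorem hermForm_of_unitary (n q : ℕ) (σ : F →+* F) (hσ : ∀ x, σ x = x ^ q)
    (U : Matrix (Fin n) (Fin n) F) (hU : Uᵀ * U.map σ = 1) (u v : Fin n → F) :
    Cfsg.hermForm n F q (U *ᵥ u) (U *ᵥ v) = Cfsg.hermForm n F q u v := by
  have key : ∀ x y : Fin n → F, Cfsg.hermForm n F q x y = x ⬝ᵥ (σ ∘ y) := by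
    intro x y
    simp [Cfsg.hermForm, dotProduct, hσ]
  rw [key, key]
  have h1 : σ ∘ (U *ᵥ v) = U.map σ *ᵥ (σ ∘ v) := by
    ext i
    exact RingHom.map_mulVec σ U v i
  rw [h1, Matrix.dotProduct_mulVec, ← Matrix.vecMul_transpose, Matrix.vecMul_vecMul, hU,
    Matrix.vecMul_one]

/-- Hom into `SU_n`. -/
def toSU {n : ℕ} (q : ℕ) (ρ : H →* Matrix (Fin n) (Fin n) F) (hdet : ∀ h, (ρ h).det = 1)
    (hpres : ∀ h u v, Cfsg.hermForm n F q (ρ h *ᵥ u) (ρ h *ᵥ v) = Cfsg.hermForm n F q u v) :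
    H →* Cfsg.SU n F q :=
  (toSL ρ hdet).codRestrict (Cfsg.SU n F q) (fun h u v => hpres h u v)

theorem toSU_injective {n : ℕ} (q : ℕ) (ρ : H →* Matrix (Fin n) (Fin n) F)
    (hdet : ∀ h, (ρ h).det = 1)
    (hpres : ∀ h u v, Cfsg.hermForm n F q (ρ h *ᵥ u) (ρ h *ᵥ v) = Cfsg.hermForm n F q u v)
    (hρ : Function.Injective ρ) : Function.Injective (toSU q ρ hdet hpres) := by
  intro a b hab
  exact toSL_injective ρ hdet hρ (congrArg Subtype.val hab)

theorem hermForm_altRep (n q : ℕ) (σ : alternatingGroup (Fin n)) (u v : Fin n → F) :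
    Cfsg.hermForm n F q (altRep n σ *ᵥ u) (altRep n σ *ᵥ v) = Cfsg.hermForm n F q u v := by
  rw [altRep_mulVec, altRep_mulVec]
  unfold Cfsg.hermForm
  exact Equiv.sum_comp ((σ : Equiv.Perm (Fin n))⁻¹) (fun i => u i * v i ^ q)

end Unitary

end Cfsg.Agent.Lib.helper44
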