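import Cfsg.Agent.Lib.helper44.UnitaryEmb

set_option autoImplicit false

namespace Cfsg.Agent.Lib.helper44

open Matrix

section Families

variable {F : Type*} [Field F] {H : Type*} [Group H] {w : FreeGroup ℕ}

theorem not_law_PSL (hNC : NC w H) {n : ℕ} (ρ : H →* Matrix (Fin n) (Fin n) F)
    (hρ : Function.Injective ρ) (hdet : ∀ h, (ρ h).det = 1) :
    ∃ f : ℕ → Matrix.ProjectiveSpecialLinearGroup (Fin n) F, FreeGroup.lift f w ≠ 1 :=
  (hNC.of_injective (toSL ρ hdet) (toSL_injective ρ hdet hρ)).quotient_center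

theorem not_law_PSp (hNC : NC w H) {m : ℕ} (ρ : H →* Matrix (Fin m) (Fin m) F)
    (hρ : Function.Injective ρ) :
    ∃ f : ℕ → Cfsg.PSp m F, FreeGroup.lift f w ≠ 1 :=
  (hNC.of_injective (toSp ρ) (toSp_injective ρ hρ)).quotient_center

theorem not_law_PSU (hNC : NC w H) {n : ℕ} (q : ℕ) (ρ : H →* Matrix (Fin n) (Fin n) F)
    (hρ : Function.Injective ρ) (hdet : ∀ h, (ρ h).det = 1)
    (hpres : ∀ h u v, Cfsg.hermForm n F q (ρ h *ᵥ u) (ρ h *ᵥ v) = Cfsg.hermForm n F q u v) :
    ∃ f : ℕ → Cfsg.PSU n F q, FreeGroup.lift f w ≠ 1 :=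
  (hNC.of_injective (toSU q ρ hdet hpres) (toSU_injective q ρ hdet hpres hρ)).quotient_center

theorem not_law_POmegaPlus (hNC : NC w H) (hperf : _root_.commutator H = ⊤) {m : ℕ}
    (ρ : H →* Matrix (Fin m) (Fin m) F) (hρ : Function.Injective ρ) :
    ∃ f : ℕ → Cfsg.POmega F (Cfsg.quadFormPlus m F), FreeGroup.lift f w ≠ 1 :=
  not_law_POmega hNC hperf (dblHom ρ) _ (quadFormPlus_dblHom ρ) (dblHom_injective ρ hρ)

theorem not_law_POmegaOdd (hNC : NC w H) (hperf : _root_.commutator H = ⊤) {m : ℕ}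
    (ρ : H →* Matrix (Fin m) (Fin m) F) (hρ : Function.Injective ρ) :
    ∃ f : ℕ → Cfsg.POmega F (Cfsg.quadFormOdd m F), FreeGroup.lift f w ≠ 1 :=
  not_law_POmega hNC hperf ((lrHom Unit).comp (dblHom ρ)) _ (quadFormOdd_lrHom ρ)
    ((lrHom_injective Unit).comp (dblHom_injective ρ hρ))

theorem not_law_POmegaMinus (hNC : NC w H) (hperf : _root_.commutator H = ⊤) {m : ℕ} (a b : F)
    (ρ : H →* Matrix (Fin m) (Fin m) F) (hρ : Function.Injective ρ) :
    ∃ f : ℕ → Cfsg.POmega F (Cfsg.quadFormMinus m F a b), FreeGroup.lift f w ≠ 1 :=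
  not_law_POmega hNC hperf ((ulHom (Fin 2)).comp (dblHom ρ)) _ (quadFormMinus_ulHom ρ a b)
    ((ulHom_injective (Fin 2)).comp (dblHom_injective ρ hρ))

/-- The block representation of `SL₂(F)` in degree `m ≥ 2`. -/
def sl2Block (m : ℕ) (hm : 2 ≤ m) :
    Matrix.SpecialLinearGroup (Fin 2) F →* Matrix (Fin m) (Fin m) F :=
  (blockHom 2 m hm).comp (slRep 2)

theorem sl2Block_injective (m : ℕ) (hm : 2 ≤ m) : Function.Injective (sl2Block (F := F) m hm) :=
  (blockHom_injective 2 m hm).comp (slRep_injective 2)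

theorem det_sl2Block (m : ℕ) (hm : 2 ≤ m) (g : Matrix.SpecialLinearGroup (Fin 2) F) :
    (sl2Block m hm g).det = 1 := by
  rw [sl2Block, MonoidHom.comp_apply, det_blockHom]
  exact det_slRep 2 g

/-- Non-central word values in `SU_n(q)` for large `q`. -/
theorem NC_SU_of_field [Fintype F] (hw : w ≠ 1) (n q : ℕ) (hn : 2 ≤ n)
    (hq : Fintype.card F = q ^ 2) (hbig : wordBound w.toWord < q) :
    NC w (Cfsg.SU n F q) := by
  classical
  have h2 : 2 ≤ q := by
    have h1 : 1 < Fintype.card F := Fintype.one_lt_card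
    rw [hq] at h1
    by_contra hlt
    have : q ≤ 1 := by omega
    have : q ^ 2 ≤ 1 ^ 2 := Nat.pow_le_pow_left this 2
    omega
  obtain ⟨σ, hσ, hσσ⟩ := exists_frob (F := F) q hq
  obtain ⟨x₀, ζ, hx, hζ⟩ := exists_hyperbolic_data (F := F) q hq h2 σ hσ
  obtain ⟨ρ, hρinj, hρdet, hρu⟩ := exists_SU2_rep σ hσσ x₀ ζ hx hζ
  have hK := card_fixed_ge (F := F) q hq σ hσ hσσ
  let _ : Fintype (RingHom.eqLocusField σ (RingHom.id F)) := Fintype.ofFinite _
  have hNC : NC w (Matrix.SpecialLinearGroup (Fin 2) (RingHom.eqLocusField σ (RingHom.id F))) := by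
    apply NC_SL2 w hw
    rw [← Nat.card_eq_fintype_card]
    omega
  have hdet : ∀ g, ((blockHom 2 n hn).comp ρ g).det = 1 := by
    intro g
    rw [MonoidHom.comp_apply, det_blockHom]
    exact hρdet g
  have hpres : ∀ g u v, Cfsg.hermForm n F q ((blockHom 2 n hn).comp ρ g *ᵥ u)
      ((blockHom 2 n hn).comp ρ g *ᵥ v) = Cfsg.hermForm n F q u v := by
    intro g u v
    exact hermForm_of_unitary n q σ hσ _ (blockHom_unitary 2 n hn σ _ (hρu g)) u v
  exact hNC.of_injective (toSU q ((blockHom 2 n hn).comp ρ) hdet hpres)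
    (toSU_injective q _ hdet hpres ((blockHom_injective 2 n hn).comp hρinj))

omit [Field F] in
/-- Cardinality bound for a central quotient of a matrix group. -/
theorem card_quot_center_le [Finite F] {K : Type*} [Group K] {ι : Type*} [Fintype ι]
    (j : K → Matrix ι ι F) (hj : Function.Injective j) :
    Nat.card (K ⧸ Subgroup.center K) ≤ Nat.card F ^ (Fintype.card ι * Fintype.card ι) := by
  have hfin : Finite (Matrix ι ι F) := by unfold Matrix; infer_instance
  have hK : Finite K := Finite.of_injective j hj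
  calc Nat.card (K ⧸ Subgroup.center K) ≤ Nat.card K :=
        Nat.card_le_card_of_surjective _ (QuotientGroup.mk_surjective)
    _ ≤ Nat.card (Matrix ι ι F) := Nat.card_le_card_of_injective j hj
    _ = Nat.card F ^ (Fintype.card ι * Fintype.card ι) := by
        unfold Matrix
        rw [Nat.card_fun, Nat.card_fun, ← pow_mul, Nat.card_eq_fintype_card (α := ι)]

end Families

end Cfsg.Agent.Lib.helper44
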