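import Mathlib

set_option autoImplicit false

/-!
# An affine group over `M₂(F_q)`, characteristic 3 (definitions)

`twL ε g X = ε g X σ(g)⁻¹` (`σ` the Frobenius `x ↦ x³` applied to the entries) is a linear action of
`{±1} × SL₂(K)` on `M₂(K)`; `affPerm ε hε g B` is the affine map `X ↦ (twL ε g Xᵢ + Bᵢ)ᵢ` of
`Fin k → M₂(K)` and `affGrp K k` the group of all these maps.
-/

namespace Cfsg.Agent.Lib.helper44.Cube

/-- The Frobenius twist of `SL₂(K)`. -/
noncomputable def frobSL (K : Type*) [Field K] [ExpChar K 3] :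
    Matrix.SpecialLinearGroup (Fin 2) K →* Matrix.SpecialLinearGroup (Fin 2) K :=
  Matrix.SpecialLinearGroup.map (frobenius K 3)

variable {K : Type*} [Field K] [ExpChar K 3]

/-- The twisted linear action `X ↦ ε g X σ(g)⁻¹` on `M₂(K)`. -/
noncomputable def twL (ε : K) (g : Matrix.SpecialLinearGroup (Fin 2) K) (X : Matrix (Fin 2) (Fin 2) K) :
    Matrix (Fin 2) (Fin 2) K :=
  ε • ((g : Matrix (Fin 2) (Fin 2) K) * X *
    (((frobSL K g)⁻¹ : Matrix.SpecialLinearGroup (Fin 2) K) : Matrix (Fin 2) (Fin 2) K))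

theorem twL_def (ε : K) (g : Matrix.SpecialLinearGroup (Fin 2) K) (X : Matrix (Fin 2) (Fin 2) K) :
    twL ε g X = ε • ((g : Matrix (Fin 2) (Fin 2) K) * X *
      (((frobSL K g)⁻¹ : Matrix.SpecialLinearGroup (Fin 2) K) : Matrix (Fin 2) (Fin 2) K)) := rfl

theorem twL_add (ε : K) (g : Matrix.SpecialLinearGroup (Fin 2) K) (X Y : Matrix (Fin 2) (Fin 2) K) :
    twL ε g (X + Y) = twL ε g X + twL ε g Y := by
  unfold twL
  rw [Matrix.mul_add, Matrix.add_mul, smul_add]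

theorem twL_zero (ε : K) (g : Matrix.SpecialLinearGroup (Fin 2) K) : twL ε g 0 = 0 := by
  unfold twL
  rw [Matrix.mul_zero, Matrix.zero_mul, smul_zero]

theorem twL_neg (ε : K) (g : Matrix.SpecialLinearGroup (Fin 2) K) (X : Matrix (Fin 2) (Fin 2) K) :
    twL ε g (-X) = -twL ε g X := by
  unfold twL
  rw [Matrix.mul_neg, Matrix.neg_mul, smul_neg]

theorem twL_sub (ε : K) (g : Matrix.SpecialLinearGroup (Fin 2) K) (X Y : Matrix (Fin 2) (Fin 2) K) :
    twL ε g (X - Y) = twL ε g X - twL ε g Y := by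
  rw [sub_eq_add_neg, twL_add, twL_neg, ← sub_eq_add_neg]

theorem twL_twL (ε ε' : K) (g g' : Matrix.SpecialLinearGroup (Fin 2) K) (X : Matrix (Fin 2) (Fin 2) K) :
    twL ε g (twL ε' g' X) = twL (ε * ε') (g * g') X := by
  unfold twL
  rw [map_mul, mul_inv_rev, Matrix.SpecialLinearGroup.coe_mul, Matrix.SpecialLinearGroup.coe_mul,
    Matrix.mul_smul, Matrix.smul_mul, smul_smul]
  congr 1
  simp only [Matrix.mul_assoc]

theorem twL_one (X : Matrix (Fin 2) (Fin 2) K) : twL 1 1 X = X := by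
  unfold twL
  simp

omit [ExpChar K 3] in
theorem sign_mul_self {ε : K} (hε : ε = 1 ∨ ε = -1) : ε * ε = 1 := by
  rcases hε with h | h <;> rw [h] <;> ring

omit [ExpChar K 3] in
theorem sign_mul {ε ε' : K} (hε : ε = 1 ∨ ε = -1) (hε' : ε' = 1 ∨ ε' = -1) :
    ε * ε' = 1 ∨ ε * ε' = -1 := by
  rcases hε with h | h <;> rcases hε' with h' | h' <;> rw [h, h'] <;> simp

/-- The affine map `X ↦ (ε g Xᵢ σ(g)⁻¹ + Bᵢ)ᵢ` of `Fin k → M₂(K)`, as a permutation. -/
noncomputable def affPerm {k : ℕ} (ε : K) (hε : ε = 1 ∨ ε = -1) (g : Matrix.SpecialLinearGroup (Fin 2) K)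
    (B : Fin k → Matrix (Fin 2) (Fin 2) K) : Equiv.Perm (Fin k → Matrix (Fin 2) (Fin 2) K) where
  toFun X i := twL ε g (X i) + B i
  invFun X i := twL ε g⁻¹ (X i - B i)
  left_inv X := by
    funext i
    simp only [add_sub_cancel_right]
    rw [twL_twL, sign_mul_self hε, inv_mul_cancel, twL_one]
  right_inv X := by
    funext i
    simp only
    rw [twL_twL, sign_mul_self hε, mul_inv_cancel, twL_one, sub_add_cancel]

theorem affPerm_apply {k : ℕ} (ε : K) (hε : ε = 1 ∨ ε = -1) (g : Matrix.SpecialLinearGroup (Fin 2) K)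
    (B X : Fin k → Matrix (Fin 2) (Fin 2) K) (i : Fin k) :
    affPerm ε hε g B X i = twL ε g (X i) + B i := rfl

theorem affPerm_mul {k : ℕ} (ε ε' : K) (hε : ε = 1 ∨ ε = -1) (hε' : ε' = 1 ∨ ε' = -1)
    (g g' : Matrix.SpecialLinearGroup (Fin 2) K) (B B' : Fin k → Matrix (Fin 2) (Fin 2) K) :
    affPerm ε hε g B * affPerm ε' hε' g' B' =
      affPerm (ε * ε') (sign_mul hε hε') (g * g') (fun i => twL ε g (B' i) + B i) := by
  apply Equiv.ext
  intro X
  funext i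
  rw [Equiv.Perm.mul_apply, affPerm_apply, affPerm_apply, affPerm_apply, twL_add, twL_twL, add_assoc]

theorem affPerm_one {k : ℕ} :
    affPerm (1 : K) (Or.inl rfl) 1 (0 : Fin k → Matrix (Fin 2) (Fin 2) K) = 1 := by
  apply Equiv.ext
  intro X
  funext i
  rw [affPerm_apply, twL_one, Pi.zero_apply, add_zero, Equiv.Perm.one_apply]

theorem affPerm_inv {k : ℕ} (ε : K) (hε : ε = 1 ∨ ε = -1) (g : Matrix.SpecialLinearGroup (Fin 2) K)
    (B : Fin k → Matrix (Fin 2) (Fin 2) K) :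
    (affPerm ε hε g B)⁻¹ = affPerm ε hε g⁻¹ (fun i => -twL ε g⁻¹ (B i)) := by
  apply Equiv.ext
  intro X
  funext i
  show twL ε g⁻¹ (X i - B i) = twL ε g⁻¹ (X i) + -twL ε g⁻¹ (B i)
  rw [twL_sub, sub_eq_add_neg]

/-- The group of the affine maps `affPerm ε hε g B`. -/
noncomputable def affGrp (K : Type*) [Field K] [ExpChar K 3] (k : ℕ) :
    Subgroup (Equiv.Perm (Fin k → Matrix (Fin 2) (Fin 2) K)) where
  carrier := {f | ∃ (ε : K) (hε : ε = 1 ∨ ε = -1) (g : Matrix.SpecialLinearGroup (Fin 2) K)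
    (B : Fin k → Matrix (Fin 2) (Fin 2) K), f = affPerm ε hε g B}
  one_mem' := ⟨1, Or.inl rfl, 1, 0, affPerm_one.symm⟩
  mul_mem' := by
    rintro f f' ⟨ε, hε, g, B, rfl⟩ ⟨ε', hε', g', B', rfl⟩
    exact ⟨_, _, _, _, affPerm_mul ε ε' hε hε' g g' B B'⟩
  inv_mem' := by
    rintro f ⟨ε, hε, g, B, rfl⟩
    exact ⟨_, _, _, _, affPerm_inv ε hε g B⟩

theorem mem_affGrp {k : ℕ} (f : Equiv.Perm (Fin k → Matrix (Fin 2) (Fin 2) K)) :
    f ∈ affGrp K k ↔ ∃ (ε : K) (hε : ε = 1 ∨ ε = -1) (g : Matrix.SpecialLinearGroup (Fin 2) K)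
      (B : Fin k → Matrix (Fin 2) (Fin 2) K), f = affPerm ε hε g B := Iff.rfl

theorem affPerm_mem {k : ℕ} (ε : K) (hε : ε = 1 ∨ ε = -1) (g : Matrix.SpecialLinearGroup (Fin 2) K)
    (B : Fin k → Matrix (Fin 2) (Fin 2) K) : affPerm ε hε g B ∈ affGrp K k := ⟨ε, hε, g, B, rfl⟩

end Cfsg.Agent.Lib.helper44.Cube
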