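import Cfsg.Agent.Lib.helper44.ReeWardJ
import Cfsg.Agent.Lib.helper19.S2361P1

set_option autoImplicit false
set_option maxRecDepth 100000

/-!
# Four-groups and involutions in a group with a centralizer of type `2 × PSL₂(q)`

Abstract lemmas: `φ : SL₂(K) →* G` has kernel the centre, and the centralizer of the involution `z` is
`φ(SL₂) ∪ z φ(SL₂)` with `z ∉ φ(SL₂)`.

* `sl2_odd_lift`, `sl2_comm_lift`: lifting elements of odd order and commutation through `φ`;
* `four_norm_abs`: the normalizer of a four-group containing `z` normalizes a cyclic subgroup of order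
  `(q + 1) / 4`;
* `invol_not_mem_commutator`: `z` is not in the commutator subgroup of a subgroup of its centralizer.
-/

namespace Cfsg.Agent.Lib.helper44

open Cfsg Cfsg.Lie Cfsg.Agent.Lib.helper41 Cfsg.Agent.Lib.helper22 Cfsg.Agent.Lib.helper23

section SolvAbs

open scoped commutatorElement

variable {G : Type*} [Group G] {K : Type*} [Field K]

/-- The elements of a group of order 4 containing an involution `z` and a further element `y`. -/
theorem four_group_mem (D : Subgroup G) (hD : Nat.card D = 4) (z y : G) (hz : z ∈ D)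
    (hy : y ∈ D) (hz1 : z ≠ 1) (hy1 : y ≠ 1) (hzy : z ≠ y) (hz2 : z * z = 1) (d : G) (hd : d ∈ D) :
    d = 1 ∨ d = z ∨ d = y ∨ d = z * y := by
  classical
  by_contra hcon
  simp only [not_or] at hcon
  obtain ⟨h1, h2, h3, h4⟩ := hcon
  have hfin : Finite D := Nat.finite_of_card_ne_zero (by rw [hD]; norm_num)
  have hzy1 : z * y ≠ 1 := by
    intro h
    apply hzy
    calc z = z * (z * y) := by rw [h, mul_one]
      _ = (z * z) * y := by rw [mul_assoc]
      _ = y := by rw [hz2, one_mul]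
  have hzyz : z * y ≠ z := by
    intro h
    apply hy1
    calc y = z⁻¹ * (z * y) := by group
      _ = 1 := by rw [h]; group
  have hzyy : z * y ≠ y := by
    intro h
    apply hz1
    calc z = (z * y) * y⁻¹ := by group
      _ = 1 := by rw [h]; group
  have hcard : ({1, z, y, z * y, d} : Finset G).card = 5 := by
    rw [Finset.card_insert_of_notMem, Finset.card_insert_of_notMem, Finset.card_insert_of_notMem,
      Finset.card_insert_of_notMem, Finset.card_singleton]
    · rw [Finset.mem_singleton]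
      exact fun h => h4 h.symm
    · rw [Finset.mem_insert, Finset.mem_singleton, not_or]
      exact ⟨fun h => hzyy h.symm, fun h => h3 h.symm⟩
    · rw [Finset.mem_insert, Finset.mem_insert, Finset.mem_singleton, not_or, not_or]
      exact ⟨hzy, fun h => hzyz h.symm, fun h => h2 h.symm⟩
    · rw [Finset.mem_insert, Finset.mem_insert, Finset.mem_insert, Finset.mem_singleton, not_or, not_or, not_or]
      exact ⟨fun h => hz1 h.symm, fun h => hy1 h.symm, fun h => hzy1 h.symm, fun h => h1 h.symm⟩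
  have hsub : (({1, z, y, z * y, d} : Finset G) : Set G) ⊆ (D : Set G) := by
    intro x hx
    rw [Finset.mem_coe, Finset.mem_insert, Finset.mem_insert, Finset.mem_insert, Finset.mem_insert,
      Finset.mem_singleton] at hx
    rcases hx with rfl | rfl | rfl | rfl | rfl
    · exact one_mem D
    · exact hz
    · exact hy
    · exact mul_mem hz hy
    · exact hd
  have hle := Set.ncard_le_ncard hsub (Set.toFinite _)
  rw [Set.ncard_coe_finset, hcard] at hle
  have e : (D : Set G).ncard = Nat.card D := (Nat.card_coe_set_eq (D : Set G)).symm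
  rw [e, hD] at hle
  omega

/-- Odd powers of `-1`. -/
theorem qz_pow_odd {k : ℕ} (hk : Odd k) : (qz : Matrix.SpecialLinearGroup (Fin 2) K) ^ k = qz := by
  obtain ⟨j, rfl⟩ := hk
  rw [pow_succ, pow_mul, pow_two, qz_mul_qz, one_pow, one_mul]

/-- An element of odd order of the centralizer of `z` is the image under `φ` of an element of the same odd
exponent. -/
theorem sl2_odd_lift (φ : Matrix.SpecialLinearGroup (Fin 2) K →* G)
    (hker : ∀ s, φ s = 1 ↔ s ∈ Subgroup.center (Matrix.SpecialLinearGroup (Fin 2) K))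
    (z : G) (hz2 : z * z = 1)
    (hcent : ∀ g : G, g * z = z * g ↔ g ∈ φ.range ∨ z * g ∈ φ.range) (hz : z ∉ φ.range)
    (g : G) (hgz : g * z = z * g) (k : ℕ) (hk : Odd k) (hgk : g ^ k = 1) :
    ∃ s, φ s = g ∧ s ^ k = 1 := by
  have key : ∀ s, φ s = g → ∃ s, φ s = g ∧ s ^ k = 1 := by
    intro s hs
    have h1 : φ (s ^ k) = 1 := by rw [map_pow, hs, hgk]
    rcases sl2_center_cases ((hker _).mp h1) with h | h
    · exact ⟨s, hs, h⟩
    · refine ⟨qz * s, ?_, ?_⟩
      · rw [map_mul, (hker qz).mpr qz_mem_center, one_mul, hs]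
      · rw [(qz_comm s).mul_pow, h, qz_pow_odd hk, qz_mul_qz]
  rcases (hcent g).mp hgz with ⟨s, hs⟩ | ⟨s, hs⟩
  · exact key s hs
  · exfalso
    apply hz
    have hzk : z ^ k = z := by
      obtain ⟨j, rfl⟩ := hk
      rw [pow_succ, pow_mul, pow_two, hz2, one_pow, one_mul]
    have h2 : (z * g) ^ k = z := by
      rw [(show Commute z g from hgz.symm).mul_pow, hgk, mul_one, hzk]
    exact ⟨s ^ k, by rw [map_pow, hs, h2]⟩

/-- Commutation of `φ(u)` with `φ(s)` lifts to `SL₂` when `s` has odd order. -/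
theorem sl2_comm_lift (φ : Matrix.SpecialLinearGroup (Fin 2) K →* G)
    (hker : ∀ s, φ s = 1 ↔ s ∈ Subgroup.center (Matrix.SpecialLinearGroup (Fin 2) K))
    (hne : (-1 : K) ≠ 1) {s u : Matrix.SpecialLinearGroup (Fin 2) K} {k : ℕ} (hk : Odd k)
    (hs : s ^ k = 1) (hc : φ u * φ s = φ s * φ u) : u * s = s * u := by
  have h1 : φ (u * s * u⁻¹ * s⁻¹) = 1 := by
    rw [map_mul, map_mul, map_mul, map_inv, map_inv, hc]
    group
  rcases sl2_center_cases ((hker _).mp h1) with h | h
  · calc u * s = (u * s * u⁻¹ * s⁻¹) * (s * u) := by group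
      _ = s * u := by rw [h, one_mul]
  · exfalso
    have e1 : u * s * u⁻¹ = qz * s := by
      calc u * s * u⁻¹ = (u * s * u⁻¹ * s⁻¹) * s := by group
        _ = qz * s := by rw [h]
    have e2 : (u * s * u⁻¹) ^ k = 1 := by
      rw [conj_pow, hs]
      group
    rw [e1, (qz_comm s).mul_pow, hs, mul_one, qz_pow_odd hk] at e2
    exact qz_ne_one hne e2

theorem qi_mem_circleSL : (qi : Matrix.SpecialLinearGroup (Fin 2) K) ∈ circleSL K := by
  constructor
  · rfl
  · show (1 : K) = -(-(1 : K)⁻¹)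
    rw [neg_neg, inv_one]

theorem qi_not_mem_center :
    (qi : Matrix.SpecialLinearGroup (Fin 2) K) ∉ Subgroup.center (Matrix.SpecialLinearGroup (Fin 2) K) := by
  intro h
  have h01 : (qi : Matrix.SpecialLinearGroup (Fin 2) K).val 0 1 = 1 := rfl
  rcases sl2_center_cases h with h1 | h1
  · rw [h1] at h01
    have h0 : (1 : Matrix.SpecialLinearGroup (Fin 2) K).val 0 1 = 0 := by simp
    rw [h0] at h01
    exact zero_ne_one h01
  · rw [h1] at h01
    have h0 : (qz : Matrix.SpecialLinearGroup (Fin 2) K).val 0 1 = 0 := rfl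
    rw [h0] at h01
    exact zero_ne_one h01

/-- The normalizer of the four-group `{1, z, φ(i), z φ(i)}` normalizes a cyclic subgroup of order
`(q + 1) / 4`. -/
theorem four_norm_core [Finite G] [Fintype K] (hsq : ∀ y : K, y * y ≠ -1) (h2 : (2 : K) ≠ 0) (t : ℕ)
    (hq : Fintype.card K = 8 * t + 3)
    (φ : Matrix.SpecialLinearGroup (Fin 2) K →* G)
    (hker : ∀ s, φ s = 1 ↔ s ∈ Subgroup.center (Matrix.SpecialLinearGroup (Fin 2) K))
    (z : G) (hz2 : z * z = 1)
    (hcent : ∀ g : G, g * z = z * g ↔ g ∈ φ.range ∨ z * g ∈ φ.range) (hz : z ∉ φ.range)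
    (D : Subgroup G) (hD : Nat.card D = 4) (hzD : z ∈ D) (hbD : φ qi ∈ D) :
    ∃ A : Subgroup G, IsCyclic A ∧ Nat.card A = 2 * t + 1 ∧
      Subgroup.normalizer (D : Set G) ≤ Subgroup.normalizer (A : Set G) := by
  classical
  have hne : (-1 : K) ≠ 1 := by
    intro h
    apply h2
    linear_combination (-1 : K) * h
  have hcyc : IsCyclic ↥(circleSL K) := circleSL_isCyclic hsq
  have hcard : Nat.card ↥(circleSL K) = 8 * t + 4 := by rw [card_circleSL hsq h2, hq]
  obtain ⟨x, hxC, hxo⟩ := exists_orderOf_eq_of_cyclic (circleSL K) hcyc (2 * t + 1)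
    (by rw [hcard]; exact ⟨4, by ring⟩)
  have hqic : (qi : Matrix.SpecialLinearGroup (Fin 2) K) ∈ circleSL K := qi_mem_circleSL
  have hz1 : z ≠ 1 := by
    rintro rfl
    exact hz (one_mem _)
  have hb1 : φ qi ≠ 1 := fun h => qi_not_mem_center ((hker qi).mp h)
  have hzb : z ≠ φ qi := fun h => hz ⟨qi, h.symm⟩
  have hDmem : ∀ d ∈ D, d = 1 ∨ d = z ∨ d = φ qi ∨ d = z * φ qi := fun d hd =>
    four_group_mem D hD z (φ qi) hzD hbD hz1 hb1 hzb hz2 d hd
  have hzr : ∀ s, φ s * z = z * φ s := fun s => (hcent (φ s)).mpr (Or.inl ⟨s, rfl⟩)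
  have hcD : ∀ s ∈ circleSL K, ∀ d ∈ D, φ s * d = d * φ s := by
    intro s hs d hd
    have hb : φ s * φ qi = φ qi * φ s := by rw [← map_mul, ← map_mul, circleSL_comm hs hqic]
    rcases hDmem d hd with rfl | rfl | rfl | rfl
    · rw [mul_one, one_mul]
    · exact hzr s
    · exact hb
    · rw [← mul_assoc, hzr s, mul_assoc, hb, mul_assoc]
  have hxk : x ^ (2 * t + 1) = 1 := by
    rw [← hxo]
    exact pow_orderOf_eq_one x
  have hord : orderOf (φ x) = 2 * t + 1 := by
    apply Nat.dvd_antisymm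
    · apply orderOf_dvd_of_pow_eq_one
      rw [← map_pow, hxk, map_one]
    · have h1 : φ (x ^ orderOf (φ x)) = 1 := by rw [map_pow, pow_orderOf_eq_one]
      have h2' : x ^ (orderOf (φ x) * 2) = 1 := by
        rcases sl2_center_cases ((hker _).mp h1) with h | h
        · rw [pow_mul, h, one_pow]
        · rw [pow_mul, h, pow_two, qz_mul_qz]
      have h3 : 2 * t + 1 ∣ orderOf (φ x) * 2 := by
        rw [← hxo]
        exact orderOf_dvd_of_pow_eq_one h2'
      exact (Nat.Coprime.dvd_mul_right (Nat.coprime_two_right.mpr ⟨t, rfl⟩)).mp h3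
  have key : ∀ n ∈ Subgroup.normalizer (D : Set G), ∀ u ∈ Subgroup.zpowers (φ x),
      n * u * n⁻¹ ∈ Subgroup.zpowers (φ x) := by
    intro n hn u hu
    obtain ⟨i, rfl⟩ := Subgroup.mem_zpowers_iff.mp hu
    have hxi : x ^ i ∈ circleSL K := zpow_mem hxC i
    have hu' : φ x ^ i = φ (x ^ i) := (map_zpow φ x i).symm
    rw [hu']
    have hxik : (x ^ i) ^ (2 * t + 1) = 1 := by
      rw [← zpow_natCast, ← zpow_mul, mul_comm, zpow_mul, zpow_natCast, hxk, one_zpow]
    have hgk : (n * φ (x ^ i) * n⁻¹) ^ (2 * t + 1) = 1 := by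
      rw [conj_pow, ← map_pow, hxik, map_one]
      group
    have hcomm : ∀ d ∈ D, (n * φ (x ^ i) * n⁻¹) * d = d * (n * φ (x ^ i) * n⁻¹) := by
      intro d hd
      have hd' : n⁻¹ * d * n ∈ D := by
        have := (Subgroup.mem_normalizer_iff.mp (inv_mem hn) d).mp hd
        rwa [inv_inv] at this
      have h := hcD (x ^ i) hxi _ hd'
      calc n * φ (x ^ i) * n⁻¹ * d = n * (φ (x ^ i) * (n⁻¹ * d * n)) * n⁻¹ := by group
        _ = n * ((n⁻¹ * d * n) * φ (x ^ i)) * n⁻¹ := by rw [h]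
        _ = d * (n * φ (x ^ i) * n⁻¹) := by group
    obtain ⟨s, hs, hsk⟩ := sl2_odd_lift φ hker z hz2 hcent hz _ (hcomm z hzD) (2 * t + 1) ⟨t, rfl⟩ hgk
    have hsc : s * qi = qi * s := by
      have h := sl2_comm_lift φ hker hne (u := qi) (s := s) ⟨t, rfl⟩ hsk
        (by rw [hs]; exact (hcomm _ hbD).symm)
      exact h.symm
    have hqi10 : (qi : Matrix.SpecialLinearGroup (Fin 2) K).val 1 0 ≠ 0 := by
      show -(1 : K)⁻¹ ≠ 0
      rw [inv_one]
      exact neg_ne_zero.mpr one_ne_zero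
    have hsC : s ∈ circleSL K := mem_circleSL_of_commute hqic hqi10 hsc
    have hfinS : Finite (Matrix.SpecialLinearGroup (Fin 2) K) := inferInstance
    have hsx : s ∈ Subgroup.zpowers x :=
      Cfsg.Agent.Lib.helper1.wtl_mem_of_pow_card (circleSL K) (Subgroup.zpowers x) hcyc
        ((Subgroup.zpowers_le).mpr hxC) hsC (by rw [Nat.card_zpowers, hxo]; exact hsk)
    obtain ⟨j, rfl⟩ := Subgroup.mem_zpowers_iff.mp hsx
    rw [← hs, map_zpow]
    exact zpow_mem (Subgroup.mem_zpowers _) j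
  refine ⟨Subgroup.zpowers (φ x), inferInstance, by rw [Nat.card_zpowers, hord], ?_⟩
  intro n hn
  rw [Subgroup.mem_normalizer_iff]
  intro h
  constructor
  · exact key n hn h
  · intro hh
    have h3 := key n⁻¹ (inv_mem hn) _ hh
    rw [inv_inv] at h3
    have e : n⁻¹ * (n * h * n⁻¹) * n = h := by group
    rwa [e] at h3

theorem qz_val_eq : ((qz : Matrix.SpecialLinearGroup (Fin 2) K) : Matrix (Fin 2) (Fin 2) K) = -1 := by
  show !![-1, 0; 0, (-1 : K)⁻¹] = -1
  rw [inv_neg_one]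
  ext i j
  fin_cases i <;> fin_cases j <;> simp

/-- The normalizer of a four-group containing `z` normalizes a cyclic subgroup of order `(q + 1) / 4`. -/
theorem four_norm_abs [Finite G] [Fintype K] (hsq : ∀ y : K, y * y ≠ -1) (h2 : (2 : K) ≠ 0) (t : ℕ)
    (hq : Fintype.card K = 8 * t + 3)
    (φ : Matrix.SpecialLinearGroup (Fin 2) K →* G)
    (hker : ∀ s, φ s = 1 ↔ s ∈ Subgroup.center (Matrix.SpecialLinearGroup (Fin 2) K))
    (z : G) (hz2 : z * z = 1)
    (hcent : ∀ g : G, g * z = z * g ↔ g ∈ φ.range ∨ z * g ∈ φ.range) (hz : z ∉ φ.range)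
    (D : Subgroup G) (hD : Nat.card D = 4) (hzD : z ∈ D) :
    ∃ A : Subgroup G, IsCyclic A ∧ Nat.card A = 2 * t + 1 ∧
      Subgroup.normalizer (D : Set G) ≤ Subgroup.normalizer (A : Set G) := by
  classical
  have hz1 : z ≠ 1 := by
    rintro rfl
    exact hz (one_mem _)
  have h2F : Fact (Nat.Prime 2) := ⟨Nat.prime_two⟩
  have hDc : IsMulCommutative ↥D := IsPGroup.isMulCommutative_of_card_eq_prime_sq (p := 2) (by rw [hD]; norm_num)
  have hDcomm : ∀ u ∈ D, ∀ v ∈ D, u * v = v * u := by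
    intro u hu v hv
    exact congrArg Subtype.val (mul_comm' (⟨u, hu⟩ : ↥D) ⟨v, hv⟩)
  have hzo : orderOf z = 2 := orderOf_eq_prime (by rw [pow_two]; exact hz2) hz1
  -- a second element
  obtain ⟨y, hyD, hyz⟩ : ∃ y ∈ D, y ∉ Subgroup.zpowers z := by
    by_contra hcon
    have hle : D ≤ Subgroup.zpowers z := by
      intro y hy
      by_contra hy'
      exact hcon ⟨y, hy, hy'⟩
    have h1 := Subgroup.card_le_of_le hle
    rw [hD, Nat.card_zpowers, hzo] at h1
    omega
  have hy1 : y ≠ 1 := by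
    rintro rfl
    exact hyz (one_mem _)
  have hyz' : y ≠ z := by
    rintro rfl
    exact hyz (Subgroup.mem_zpowers _)
  -- an element of `D` in the image of `φ`
  obtain ⟨s, hsD, hs1⟩ : ∃ s, φ s ∈ D ∧ φ s ≠ 1 := by
    rcases (hcent y).mp (hDcomm y hyD z hzD) with ⟨s, hs⟩ | ⟨s, hs⟩
    · exact ⟨s, by rw [hs]; exact hyD, by rw [hs]; exact hy1⟩
    · refine ⟨s, by rw [hs]; exact mul_mem hzD hyD, ?_⟩
      rw [hs]
      intro h
      apply hyz'
      calc y = (z * z) * y := by rw [hz2, one_mul]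
        _ = z * (z * y) := by rw [mul_assoc]
        _ = z := by rw [h, mul_one]
  have hsz : z ≠ φ s := fun h => hz ⟨s, h.symm⟩
  have hss : φ (s * s) = 1 := by
    rcases four_group_mem D hD z (φ s) hzD hsD hz1 hs1 hsz hz2 (φ s * φ s) (mul_mem hsD hsD) with h | h | h | h
    · rw [map_mul, h]
    · exfalso
      exact hz ⟨s * s, by rw [map_mul, h]⟩
    · exfalso
      apply hs1
      calc φ s = (φ s)⁻¹ * (φ s * φ s) := by group
        _ = 1 := by rw [h]; group
    · exfalso
      apply hsz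
      calc z = (z * φ s) * (φ s)⁻¹ := by group
        _ = φ s := by rw [← h]; group
  have hsq2 : s * s = qz := by
    rcases sl2_center_cases ((hker _).mp hss) with h | h
    · exfalso
      exact hs1 ((hker s).mpr (sl2_mem_center_of_sq h2 h))
    · exact h
  have hsm : (s : Matrix (Fin 2) (Fin 2) K) * (s : Matrix (Fin 2) (Fin 2) K) = -1 := by
    rw [← qz_val_eq, ← hsq2]
    rfl
  obtain ⟨g, hg⟩ := Cfsg.Agent.Lib.helper19.P1_sl2_conj hsq h2 s hsm
  -- `g⁻¹ s g` is `qi` or `qz * qi`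
  have hgs : φ (g⁻¹ * s * g) = φ qi := by
    rcases hg with h | h
    · have e : g⁻¹ * s * g = qi := by
        apply Subtype.ext
        rw [h]
        show !![0, 1; -1, 0] = !![0, 1; -(1 : K)⁻¹, 0]
        rw [inv_one]
      rw [e]
    · have e : g⁻¹ * s * g = qz * qi := by
        apply Subtype.ext
        rw [h]
        show !![0, -1; 1, 0] = !![-1, 0; 0, (-1 : K)⁻¹] * !![0, 1; -(1 : K)⁻¹, 0]
        rw [inv_one, inv_neg_one]
        ext i j
        fin_cases i <;> fin_cases j <;> simp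
      rw [e, map_mul, (hker qz).mpr qz_mem_center, one_mul]
  -- the conjugated homomorphism
  obtain ⟨φ', hφ'⟩ : ∃ φ' : Matrix.SpecialLinearGroup (Fin 2) K →* G, ∀ u, φ' u = φ (g * u * g⁻¹) :=
    ⟨φ.comp (MulAut.conj g).toMonoidHom, fun u => rfl⟩
  have hrange : ∀ v : G, v ∈ φ'.range ↔ v ∈ φ.range := by
    intro v
    constructor
    · rintro ⟨u, rfl⟩
      exact ⟨g * u * g⁻¹, (hφ' u).symm⟩
    · rintro ⟨u, rfl⟩
      refine ⟨g⁻¹ * u * g, ?_⟩
      rw [hφ']
      congr 1
      group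
  have hker' : ∀ u, φ' u = 1 ↔ u ∈ Subgroup.center (Matrix.SpecialLinearGroup (Fin 2) K) := by
    intro u
    rw [hφ', hker]
    constructor
    · intro h
      have h1 := (Subgroup.center (Matrix.SpecialLinearGroup (Fin 2) K)).normal_of_characteristic.conj_mem _ h g⁻¹
      have e : g⁻¹ * (g * u * g⁻¹) * g⁻¹⁻¹ = u := by group
      rwa [e] at h1
    · intro h
      exact (Subgroup.center (Matrix.SpecialLinearGroup (Fin 2) K)).normal_of_characteristic.conj_mem _ h g
  have hcent' : ∀ v : G, v * z = z * v ↔ v ∈ φ'.range ∨ z * v ∈ φ'.range := by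
    intro v
    rw [hrange, hrange]
    exact hcent v
  have hz' : z ∉ φ'.range := by
    rw [hrange]
    exact hz
  have hbD : φ' qi ∈ D := by
    have e : φ' qi = φ s := by
      rw [hφ']
      have h1 : φ (g * (g⁻¹ * s * g) * g⁻¹) = φ (g * qi * g⁻¹) := by
        rw [map_mul, map_mul, hgs, ← map_mul, ← map_mul]
      rw [← h1]
      congr 1
      group
    rw [e]
    exact hsD
  exact four_norm_core hsq h2 t hq φ' hker' z hz2 hcent' hz' D hD hzD hbD

/-- The involution `z` is not in the commutator subgroup of a subgroup of its centralizer. -/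
theorem invol_not_mem_commutator (φ : Matrix.SpecialLinearGroup (Fin 2) K →* G)
    (z : G) (hz2 : z * z = 1)
    (hcent : ∀ g : G, g * z = z * g ↔ g ∈ φ.range ∨ z * g ∈ φ.range) (hz : z ∉ φ.range)
    (S : Subgroup G) (hS : ∀ x ∈ S, x * z = z * x) : z ∉ ⁅S, S⁆ := by
  have hzr : ∀ r ∈ φ.range, Commute z r := fun r hr => ((hcent r).mpr (Or.inl hr)).symm
  -- every element of the centralizer is `r` or `z * r` with `r` in the range
  have hdec : ∀ x : G, x * z = z * x → ∃ r ∈ φ.range, x = r ∨ x = z * r := by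
    intro x hx
    rcases (hcent x).mp hx with h | h
    · exact ⟨x, h, Or.inl rfl⟩
    · refine ⟨z * x, h, Or.inr ?_⟩
      rw [← mul_assoc, hz2, one_mul]
  have hcl : ∀ r₁ r₂ : G, Commute z r₁ → Commute z r₂ → ⁅z * r₁, r₂⁆ = ⁅r₁, r₂⁆ := by
    intro r₁ r₂ h1 h2
    rw [commutatorElement_def, commutatorElement_def]
    have hc : Commute z (r₁ * r₂ * r₁⁻¹) := (h1.mul_right h2).mul_right h1.inv_right
    calc z * r₁ * r₂ * (z * r₁)⁻¹ * r₂⁻¹ = (z * (r₁ * r₂ * r₁⁻¹)) * z⁻¹ * r₂⁻¹ := by group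
      _ = ((r₁ * r₂ * r₁⁻¹) * z) * z⁻¹ * r₂⁻¹ := by rw [hc.eq]
      _ = r₁ * r₂ * r₁⁻¹ * r₂⁻¹ := by group
  have hcr : ∀ r₁ r₂ : G, Commute z r₁ → Commute z r₂ → ⁅r₁, z * r₂⁆ = ⁅r₁, r₂⁆ := by
    intro r₁ r₂ h1 h2
    rw [commutatorElement_def, commutatorElement_def]
    have hc : Commute z (r₂ * r₁⁻¹ * r₂⁻¹) := (h2.mul_right h1.inv_right).mul_right h2.inv_right
    calc r₁ * (z * r₂) * r₁⁻¹ * (z * r₂)⁻¹ = r₁ * (z * (r₂ * r₁⁻¹ * r₂⁻¹)) * z⁻¹ := by group
      _ = r₁ * ((r₂ * r₁⁻¹ * r₂⁻¹) * z) * z⁻¹ := by rw [hc.eq]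
      _ = r₁ * r₂ * r₁⁻¹ * r₂⁻¹ := by group
  have hle : ⁅S, S⁆ ≤ φ.range := by
    rw [Subgroup.commutator_le]
    intro g₁ hg₁ g₂ hg₂
    obtain ⟨r₁, hr₁, h1⟩ := hdec g₁ (hS g₁ hg₁)
    obtain ⟨r₂, hr₂, h2⟩ := hdec g₂ (hS g₂ hg₂)
    have hrr : ⁅r₁, r₂⁆ ∈ φ.range := by
      rw [commutatorElement_def]
      exact mul_mem (mul_mem (mul_mem hr₁ hr₂) (inv_mem hr₁)) (inv_mem hr₂)
    have hzz : Commute z z := Commute.refl z
    rcases h1 with rfl | rfl <;> rcases h2 with rfl | rfl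
    · exact hrr
    · rw [hcr _ _ (hzr _ hr₁) (hzr _ hr₂)]
      exact hrr
    · rw [hcl _ _ (hzr _ hr₁) (hzr _ hr₂)]
      exact hrr
    · rw [hcl _ _ (hzr _ hr₁) (hzz.mul_right (hzr _ hr₂)), hcr _ _ (hzr _ hr₁) (hzr _ hr₂)]
      exact hrr
  exact fun h => hz (hle h)

/-- Normalizers of conjugate subgroups. -/
theorem normalizer_map_conj_le (H A : Subgroup G) (g : G)
    (h : Subgroup.normalizer (H : Set G) ≤ Subgroup.normalizer (A : Set G)) :
    Subgroup.normalizer ((H.map (MulAut.conj g).toMonoidHom : Subgroup G) : Set G) ≤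
      Subgroup.normalizer ((A.map (MulAut.conj g).toMonoidHom : Subgroup G) : Set G) := by
  rw [← Subgroup.map_equiv_normalizer_eq, ← Subgroup.map_equiv_normalizer_eq]
  exact Subgroup.map_mono h

/-- A conjugate of a cyclic subgroup is cyclic. -/
theorem isCyclic_map_conj (A : Subgroup G) (g : G) (hA : IsCyclic ↥A) :
    IsCyclic ↥(A.map (MulAut.conj g).toMonoidHom) := by
  have := hA
  exact isCyclic_of_surjective _ (A.equivMapOfInjective (MulAut.conj g).toMonoidHom
    (MulAut.conj g).injective).surjective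

/-- The subgroup of the elements of order dividing `p` of a commutative subgroup `D`, for a prime `p`
dividing the order of `D`. -/
theorem exists_omega_sub [Finite G] (D : Subgroup G) (hD : ∀ x ∈ D, ∀ y ∈ D, x * y = y * x)
    (p : ℕ) (hp : p.Prime) (hpD : p ∣ Nat.card D) :
    ∃ E : Subgroup G, E ≤ D ∧ E ≠ ⊥ ∧ (∀ y ∈ E, y ^ p = 1) ∧
      Subgroup.normalizer (D : Set G) ≤ Subgroup.normalizer (E : Set G) := by
  have hpF : Fact p.Prime := ⟨hp⟩
  obtain ⟨E, hEmem⟩ : ∃ E : Subgroup G, ∀ y, y ∈ E ↔ y ∈ D ∧ y ^ p = 1 :=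
    ⟨{ carrier := {y | y ∈ D ∧ y ^ p = 1}
       one_mem' := ⟨one_mem D, one_pow p⟩
       mul_mem' := by
         rintro x y ⟨hx, hxp⟩ ⟨hy, hyp⟩
         exact ⟨mul_mem hx hy, by rw [(show Commute x y from hD x hx y hy).mul_pow, hxp, hyp, one_mul]⟩
       inv_mem' := by
         rintro x ⟨hx, hxp⟩
         exact ⟨inv_mem hx, by rw [inv_pow, hxp, inv_one]⟩ }, fun y => Iff.rfl⟩
  refine ⟨E, fun y hy => ((hEmem y).mp hy).1, ?_, fun y hy => ((hEmem y).mp hy).2, ?_⟩
  · obtain ⟨x, hx⟩ := exists_prime_orderOf_dvd_card' (G := ↥D) p hpD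
    intro h
    have hxE : (x : G) ∈ E := by
      rw [hEmem]
      refine ⟨x.2, ?_⟩
      have h1 := pow_orderOf_eq_one x
      rw [hx] at h1
      exact congrArg Subtype.val h1
    rw [h, Subgroup.mem_bot] at hxE
    have hx1 : x = 1 := Subtype.ext hxE
    rw [hx1, orderOf_one] at hx
    exact hp.one_lt.ne hx
  · intro n hn
    have key : ∀ n ∈ Subgroup.normalizer (D : Set G), ∀ y ∈ E, n * y * n⁻¹ ∈ E := by
      intro n hn y hy
      rw [hEmem] at hy ⊢
      refine ⟨(Subgroup.mem_normalizer_iff.mp hn y).mp hy.1, ?_⟩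
      rw [conj_pow, hy.2]
      group
    rw [Subgroup.mem_normalizer_iff]
    intro h
    constructor
    · exact key n hn h
    · intro hh
      have h3 := key n⁻¹ (inv_mem hn) _ hh
      rw [inv_inv] at h3
      have e : n⁻¹ * (n * h * n⁻¹) * n = h := by group
      rwa [e] at h3

end SolvAbs

end Cfsg.Agent.Lib.helper44
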