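import Cfsg.Agent.Lib.helper44.CubeDefs
import Cfsg.Agent.Lib.helper44.ReeSolvA
import Cfsg.Agent.Lib.helper4.S3626C1
import Cfsg.Agent.Lib.helper4.S3626C2
import Cfsg.Agent.Lib.helper57.S3626C3

set_option autoImplicit false
set_option maxRecDepth 100000

/-!
# The element orders of the affine group `affGrp K k`

Every element of `affGrp K k` (`K` a field with `q = 3^j = 8t+3` elements) has order dividing `9`, `6`,
`q - 1` or `(q + 1) / 2`.
-/

namespace Cfsg.Agent.Lib.helper44.Cube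

open Cfsg.Agent.Lib.helper44


variable {K : Type*} [Field K] [ExpChar K 3]

omit [ExpChar K 3] in
/-- Cayley–Hamilton for `SL₂`. -/
theorem sl2_sq_eq (g : Matrix.SpecialLinearGroup (Fin 2) K) :
    (g : Matrix (Fin 2) (Fin 2) K) * (g : Matrix (Fin 2) (Fin 2) K) =
      Matrix.trace (g : Matrix (Fin 2) (Fin 2) K) • (g : Matrix (Fin 2) (Fin 2) K) - 1 := by
  have hdet := g.2
  rw [Matrix.det_fin_two] at hdet
  ext i j
  fin_cases i <;> fin_cases j
  · show (g.val * g.val) 0 0 = (Matrix.trace g.val • g.val - 1) 0 0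
    rw [Matrix.mul_apply, Fin.sum_univ_two, Matrix.sub_apply, Matrix.smul_apply, Matrix.trace_fin_two,
      Matrix.one_apply_eq, smul_eq_mul]
    linear_combination (-1 : K) * hdet
  · show (g.val * g.val) 0 1 = (Matrix.trace g.val • g.val - 1) 0 1
    rw [Matrix.mul_apply, Fin.sum_univ_two, Matrix.sub_apply, Matrix.smul_apply, Matrix.trace_fin_two,
      Matrix.one_apply_ne (by decide), smul_eq_mul]
    ring
  · show (g.val * g.val) 1 0 = (Matrix.trace g.val • g.val - 1) 1 0
    rw [Matrix.mul_apply, Fin.sum_univ_two, Matrix.sub_apply, Matrix.smul_apply, Matrix.trace_fin_two,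
      Matrix.one_apply_ne (by decide), smul_eq_mul]
    ring
  · show (g.val * g.val) 1 1 = (Matrix.trace g.val • g.val - 1) 1 1
    rw [Matrix.mul_apply, Fin.sum_univ_two, Matrix.sub_apply, Matrix.smul_apply, Matrix.trace_fin_two,
      Matrix.one_apply_eq, smul_eq_mul]
    linear_combination (-1 : K) * hdet

omit [ExpChar K 3] in
/-- The cube of an element of `SL₂` with trace `t` is `(t² - 1) g - t`. -/
theorem sl2_cube_eq (g : Matrix.SpecialLinearGroup (Fin 2) K) :
    ((g ^ 3 : Matrix.SpecialLinearGroup (Fin 2) K) : Matrix (Fin 2) (Fin 2) K) =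
      (Matrix.trace (g : Matrix (Fin 2) (Fin 2) K) * Matrix.trace (g : Matrix (Fin 2) (Fin 2) K) - 1) •
        (g : Matrix (Fin 2) (Fin 2) K) - Matrix.trace (g : Matrix (Fin 2) (Fin 2) K) • 1 := by
  have hsq := sl2_sq_eq g
  have e : ((g ^ 3 : Matrix.SpecialLinearGroup (Fin 2) K) : Matrix (Fin 2) (Fin 2) K) =
      (g : Matrix (Fin 2) (Fin 2) K) * (g : Matrix (Fin 2) (Fin 2) K) * (g : Matrix (Fin 2) (Fin 2) K) := by
    rw [pow_succ, pow_two]
    rfl
  rw [e, hsq, Matrix.sub_mul, Matrix.smul_mul, hsq, Matrix.one_mul, smul_sub, smul_smul, sub_smul, one_smul]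
  abel

omit [ExpChar K 3] in
/-- The powers of an element of `SL₂` of trace `-1`, `1` or `0`. -/
theorem sl2_pow_of_trace (g : Matrix.SpecialLinearGroup (Fin 2) K) :
    (Matrix.trace (g : Matrix (Fin 2) (Fin 2) K) = -1 → g ^ 3 = 1) ∧
    (Matrix.trace (g : Matrix (Fin 2) (Fin 2) K) = 1 →
      ((g ^ 3 : Matrix.SpecialLinearGroup (Fin 2) K) : Matrix (Fin 2) (Fin 2) K) = -1) ∧
    (Matrix.trace (g : Matrix (Fin 2) (Fin 2) K) = 0 →
      ((g ^ 2 : Matrix.SpecialLinearGroup (Fin 2) K) : Matrix (Fin 2) (Fin 2) K) = -1) := by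
  refine ⟨fun ht => ?_, fun ht => ?_, fun ht => ?_⟩
  · apply Subtype.ext
    rw [sl2_cube_eq, ht]
    show ((-1 : K) * -1 - 1) • (g : Matrix (Fin 2) (Fin 2) K) - (-1 : K) • (1 : Matrix (Fin 2) (Fin 2) K) = 1
    have e1 : ((-1 : K) * -1 - 1) = 0 := by ring
    rw [e1, zero_smul, neg_smul, one_smul, zero_sub, neg_neg]
  · rw [sl2_cube_eq, ht]
    have e1 : ((1 : K) * 1 - 1) = 0 := by ring
    rw [e1, zero_smul, one_smul, zero_sub]
  · have hsq := sl2_sq_eq g
    rw [ht, zero_smul, zero_sub] at hsq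
    rw [pow_two]
    exact hsq

/-- `twL ε h X = ε • X` when `h` is `-1`. -/
theorem twL_of_neg_one (ε : K) (h : Matrix.SpecialLinearGroup (Fin 2) K)
    (hh : (h : Matrix (Fin 2) (Fin 2) K) = -1) (X : Matrix (Fin 2) (Fin 2) K) : twL ε h X = ε • X := by
  have h1 : ((frobSL K h : Matrix.SpecialLinearGroup (Fin 2) K) : Matrix (Fin 2) (Fin 2) K) = -1 := by
    show (h : Matrix (Fin 2) (Fin 2) K).map (frobenius K 3) = -1
    rw [hh]
    ext i j
    fin_cases i <;> fin_cases j <;> simp [frobenius_def] <;> ring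
  have h2 : (frobSL K h)⁻¹ = frobSL K h := by
    apply inv_eq_of_mul_eq_one_left
    apply Subtype.ext
    rw [Matrix.SpecialLinearGroup.coe_mul, h1]
    simp
  rw [twL_def, h2, h1, hh]
  simp

/-- `twL ε 1 X = ε • X`. -/
theorem twL_of_one (ε : K) (X : Matrix (Fin 2) (Fin 2) K) : twL ε 1 X = ε • X := by
  rw [twL_def, map_one]
  simp

/-- Every element of the affine group has order dividing `9`, `6`, `q - 1` or `(q + 1) / 2`. -/
theorem affPerm_order [Fintype K] (h3 : (3 : K) = 0) (hsq : ∀ y : K, y * y ≠ -1) {j t : ℕ}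
    (hK : Fintype.card K = 3 ^ j) (hq : 3 ^ j = 8 * t + 3) {k : ℕ} (ε : K) (hε : ε = 1 ∨ ε = -1)
    (g : Matrix.SpecialLinearGroup (Fin 2) K) (B : Fin k → Matrix (Fin 2) (Fin 2) K) :
    orderOf (affPerm ε hε g B) ∣ 9 ∨ orderOf (affPerm ε hε g B) ∣ 6 ∨
      orderOf (affPerm ε hε g B) ∣ 8 * t + 2 ∨ orderOf (affPerm ε hε g B) ∣ 4 * t + 2 := by
  classical
  obtain ⟨L, hLdef⟩ : ∃ L : (Fin k → Matrix (Fin 2) (Fin 2) K) → (Fin k → Matrix (Fin 2) (Fin 2) K),
      ∀ X i, L X i = twL ε g (X i) := ⟨fun X i => twL ε g (X i), fun _ _ => rfl⟩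
  have hL : ∀ X Y, L (X + Y) = L X + L Y := by
    intro X Y
    funext i
    rw [hLdef, Pi.add_apply, twL_add, Pi.add_apply, hLdef, hLdef]
  have hf : ∀ X, affPerm ε hε g B X = L X + B := by
    intro X
    funext i
    rw [affPerm_apply, Pi.add_apply, hLdef]
  have hiter : ∀ (n : ℕ) (X : Fin k → Matrix (Fin 2) (Fin 2) K) (i : Fin k),
      L^[n] X i = twL (ε ^ n) (g ^ n) (X i) := by
    intro n
    induction n with
    | zero =>
      intro X i
      rw [Function.iterate_zero, id, pow_zero, pow_zero, twL_one]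
    | succ n ih =>
      intro X i
      rw [Function.iterate_succ_apply, ih, hLdef, twL_twL, pow_succ, pow_succ]
  have h3V : ∀ X : Fin k → Matrix (Fin 2) (Fin 2) K, X + X + X = 0 := by
    intro X
    have e : X + X + X = (3 : K) • X := by
      rw [show (3 : K) = 1 + 1 + 1 by norm_num, add_smul, add_smul, one_smul]
    rw [e, h3, zero_smul]
  have hεsq : ε * ε = 1 := sign_mul_self hε
  have hε3 : ε ^ 3 = ε := by rw [pow_succ, pow_two, hεsq, one_mul]
  have hεeven : ∀ n, ε ^ (2 * n) = 1 := by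
    intro n
    rw [pow_mul, pow_two, hεsq, one_pow]
  obtain ⟨hA, hB, hC⟩ := sl2_pow_of_trace g
  have case3 : (∀ X : Matrix (Fin 2) (Fin 2) K, twL (ε ^ 3) (g ^ 3) X = ε • X) →
      (orderOf (affPerm ε hε g B) ∣ 9 ∨ orderOf (affPerm ε hε g B) ∣ 6 ∨
        orderOf (affPerm ε hε g B) ∣ 8 * t + 2 ∨ orderOf (affPerm ε hε g B) ∣ 4 * t + 2) := by
    intro h
    rcases hε with h1 | h1
    · left
      apply orderOf_dvd_of_pow_eq_one
      exact Cfsg.Agent.Lib.helper4.Cube.aff_pow_three_mul h3V _ L hL B hf 3 (fun X => by funext i; rw [hiter, h, h1, one_smul])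
    · right
      left
      apply orderOf_dvd_of_pow_eq_one
      exact Cfsg.Agent.Lib.helper4.Cube.aff_pow_six _ L hL B hf (fun X => by funext i; rw [hiter, h, h1, neg_smul, one_smul]; rfl)
  by_cases ht1 : Matrix.trace (g : Matrix (Fin 2) (Fin 2) K) = -1
  · apply case3
    intro X
    rw [hA ht1, hε3, twL_of_one]
  by_cases ht2 : Matrix.trace (g : Matrix (Fin 2) (Fin 2) K) = 1
  · apply case3
    intro X
    rw [hε3, twL_of_neg_one _ _ (hB ht2)]
  by_cases ht0 : Matrix.trace (g : Matrix (Fin 2) (Fin 2) K) = 0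
  · right
    left
    apply orderOf_dvd_of_pow_eq_one
    exact Cfsg.Agent.Lib.helper4.Cube.aff_pow_three_mul h3V _ L hL B hf 2 (fun X => by
      funext i
      rw [hiter, twL_of_neg_one _ _ (hC ht0), pow_two, hεsq, one_smul])
  have htsq : (Matrix.trace (g : Matrix (Fin 2) (Fin 2) K)) ^ 2 ≠ 1 := by
    intro h
    have h' : (Matrix.trace (g : Matrix (Fin 2) (Fin 2) K) - 1) *
        (Matrix.trace (g : Matrix (Fin 2) (Fin 2) K) + 1) = 0 := by linear_combination h
    rcases mul_eq_zero.mp h' with h'' | h''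
    · exact ht2 (sub_eq_zero.mp h'')
    · exact ht1 (eq_neg_of_add_eq_zero_left h'')
  have hfix : ∀ X, L X = X → X = 0 := by
    intro X hX
    funext i
    exact Cfsg.Agent.Lib.helper57.Cube.twL_no_fix hsq ε hε g ht0 htsq (X i) (by rw [← hLdef, hX])
  rcases Cfsg.Agent.Lib.helper4.Cube.sl2_pow_card hK g htsq with hg | hg
  · right
    right
    left
    apply orderOf_dvd_of_pow_eq_one
    have e : 3 ^ j - 1 = 2 * (4 * t + 1) := by omega
    rw [e] at hg
    have e2 : 8 * t + 2 = 2 * (4 * t + 1) := by ring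
    rw [e2]
    exact Cfsg.Agent.Lib.helper4.Cube.aff_pow_of_no_fix _ L hL B hf _ (fun X => by funext i; rw [hiter, hg, hεeven, twL_one]) hfix
  · right
    right
    right
    apply orderOf_dvd_of_pow_eq_one
    have e : 3 ^ j + 1 = (4 * t + 2) + (4 * t + 2) := by omega
    rw [e, pow_add] at hg
    have h2K : (2 : K) ≠ 0 := by
      intro h
      have h1 : (1 : K) = 0 := by linear_combination h3 - h
      exact one_ne_zero h1
    have hcen := sl2_mem_center_of_sq h2K hg
    have e2 : 4 * t + 2 = 2 * (2 * t + 1) := by ring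
    apply Cfsg.Agent.Lib.helper4.Cube.aff_pow_of_no_fix _ L hL B hf _ _ hfix
    intro X
    funext i
    rw [hiter]
    have hε' : ε ^ (4 * t + 2) = 1 := by
      rw [e2]
      exact hεeven _
    rw [hε']
    rcases sl2_center_cases hcen with h | h
    · rw [h, twL_one]
    · rw [h, twL_of_neg_one _ _ qz_val_eq, one_smul]

end Cfsg.Agent.Lib.helper44.Cube
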