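import Cfsg.Agent.S1159

set_option autoImplicit false

/-!
# The spectrum of `R × R × Y` for the small Ree group `R`

If the element orders of `Y` are exactly the divisors of `6`, `9`, `q - 1` and `(q + 1) / 2`, then
`R × R × Y` and `R × R × R` have the same set of element orders.
-/

namespace Cfsg.Agent.Lib.helper44.Cube

open Cfsg Cfsg.Lie

/-- An element of every order dividing the order of a given element. -/
theorem exists_orderOf_of_dvd {G : Type*} [Monoid G] (x : G) (hx : 0 < orderOf x) (d : ℕ)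
    (hd : d ∣ orderOf x) : ∃ y : G, orderOf y = d := by
  have hd0 : 0 < d := Nat.pos_of_dvd_of_pos hd hx
  refine ⟨x ^ (orderOf x / d), ?_⟩
  rw [orderOf_pow_of_dvd (Nat.div_pos (Nat.le_of_dvd hx hd) hd0).ne' (Nat.div_dvd_of_dvd hd),
    Nat.div_div_self hd hx.ne']

theorem orderOf_triple {A B C : Type*} [Monoid A] [Monoid B] [Monoid C] (a : A) (b : B) (c : C) :
    orderOf (a, b, c) = (orderOf a).lcm ((orderOf b).lcm (orderOf c)) := by
  rw [Prod.orderOf, Prod.orderOf]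

theorem ree_cube_spectrum {K : Type*} [Field K] [Fintype K] {m : ℕ} (hm : 1 ≤ m)
    (hK : Fintype.card K = 3 ^ (2 * m + 1)) (Y : Type*) [Group Y]
    (hY1 : ∀ y : Y, orderOf y ∣ 6 ∨ orderOf y ∣ 9 ∨ orderOf y ∣ 3 ^ (2 * m + 1) - 1 ∨
      orderOf y ∣ (3 ^ (2 * m + 1) + 1) / 2)
    (hY2 : ∀ d : ℕ, (d ∣ 6 ∨ d ∣ 9 ∨ d ∣ 3 ^ (2 * m + 1) - 1 ∨ d ∣ (3 ^ (2 * m + 1) + 1) / 2) →
      ∃ y : Y, orderOf y = d) :
    Set.range (orderOf : ↥(twistedG2 K (3 ^ m)) × ↥(twistedG2 K (3 ^ m)) × Y → ℕ) =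
      Set.range (orderOf : ↥(twistedG2 K (3 ^ m)) × ↥(twistedG2 K (3 ^ m)) × ↥(twistedG2 K (3 ^ m)) → ℕ) := by
  have hR := fun d => Cfsg.Agent.S1159.result hm hK d
  ext n
  constructor
  · rintro ⟨⟨g1, g2, y⟩, rfl⟩
    obtain ⟨g3, hg3⟩ := (hR (orderOf y)).mpr (by
      rcases hY1 y with h | h | h | h
      · exact Or.inl h
      · exact Or.inr (Or.inl h)
      · exact Or.inr (Or.inr (Or.inl h))
      · exact Or.inr (Or.inr (Or.inr (Or.inl h))))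
    refine ⟨(g1, g2, g3), ?_⟩
    rw [orderOf_triple, orderOf_triple, hg3]
  · rintro ⟨⟨g1, g2, g3⟩, rfl⟩
    rw [orderOf_triple]
    have mk : ∀ (a b : ↥(twistedG2 K (3 ^ m))) (y : Y), (orderOf a).lcm ((orderOf b).lcm (orderOf y)) ∈
        Set.range (orderOf : ↥(twistedG2 K (3 ^ m)) × ↥(twistedG2 K (3 ^ m)) × Y → ℕ) :=
      fun a b y => ⟨(a, b, y), orderOf_triple a b y⟩
    have tri : ∀ g : ↥(twistedG2 K (3 ^ m)), (∃ y : Y, orderOf y = orderOf g) ∨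
        orderOf g ∣ 3 ^ (2 * m + 1) - 3 ^ (m + 1) + 1 ∨ orderOf g ∣ 3 ^ (2 * m + 1) + 3 ^ (m + 1) + 1 := by
      intro g
      rcases (hR (orderOf g)).mp ⟨g, rfl⟩ with h | h | h | h | h | h
      · exact Or.inl (hY2 _ (Or.inl h))
      · exact Or.inl (hY2 _ (Or.inr (Or.inl h)))
      · exact Or.inl (hY2 _ (Or.inr (Or.inr (Or.inl h))))
      · exact Or.inl (hY2 _ (Or.inr (Or.inr (Or.inr h))))
      · exact Or.inr (Or.inl h)
      · exact Or.inr (Or.inr h)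
    rcases tri g3 with ⟨y, hy⟩ | h3
    · rw [← hy]
      exact mk g1 g2 y
    rcases tri g2 with ⟨y, hy⟩ | h2
    · have h := mk g1 g3 y
      rw [hy, Nat.lcm_comm (orderOf g3)] at h
      exact h
    rcases tri g1 with ⟨y, hy⟩ | h1
    · have h := mk g2 g3 y
      rw [hy] at h
      have e : (orderOf g2).lcm ((orderOf g3).lcm (orderOf g1)) =
          (orderOf g1).lcm ((orderOf g2).lcm (orderOf g3)) := by
        rw [← Nat.lcm_assoc, Nat.lcm_comm]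
      rw [e] at h
      exact h
    have big : ∀ d : ℕ, (d ∣ 3 ^ (2 * m + 1) - 3 ^ (m + 1) + 1 ∨ d ∣ 3 ^ (2 * m + 1) + 3 ^ (m + 1) + 1) →
        ∃ g : ↥(twistedG2 K (3 ^ m)), orderOf g = d := by
      intro d hd
      apply (hR d).mpr
      rcases hd with h | h
      · exact Or.inr (Or.inr (Or.inr (Or.inr (Or.inl h))))
      · exact Or.inr (Or.inr (Or.inr (Or.inr (Or.inr h))))
    have p12 : ((orderOf g1 ∣ 3 ^ (2 * m + 1) - 3 ^ (m + 1) + 1 ∧ orderOf g2 ∣ 3 ^ (2 * m + 1) - 3 ^ (m + 1) + 1) ∨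
        (orderOf g1 ∣ 3 ^ (2 * m + 1) + 3 ^ (m + 1) + 1 ∧ orderOf g2 ∣ 3 ^ (2 * m + 1) + 3 ^ (m + 1) + 1)) →
        (orderOf g1).lcm ((orderOf g2).lcm (orderOf g3)) ∈
          Set.range (orderOf : ↥(twistedG2 K (3 ^ m)) × ↥(twistedG2 K (3 ^ m)) × Y → ℕ) := by
      intro h
      obtain ⟨g', hg'⟩ := big ((orderOf g1).lcm (orderOf g2)) (by
        rcases h with ⟨a, b⟩ | ⟨a, b⟩
        · exact Or.inl (Nat.lcm_dvd a b)
        · exact Or.inr (Nat.lcm_dvd a b))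
      have h' := mk g' g3 1
      rw [hg', orderOf_one, Nat.lcm_one_right, Nat.lcm_assoc] at h'
      exact h'
    have p13 : ((orderOf g1 ∣ 3 ^ (2 * m + 1) - 3 ^ (m + 1) + 1 ∧ orderOf g3 ∣ 3 ^ (2 * m + 1) - 3 ^ (m + 1) + 1) ∨
        (orderOf g1 ∣ 3 ^ (2 * m + 1) + 3 ^ (m + 1) + 1 ∧ orderOf g3 ∣ 3 ^ (2 * m + 1) + 3 ^ (m + 1) + 1)) →
        (orderOf g1).lcm ((orderOf g2).lcm (orderOf g3)) ∈
          Set.range (orderOf : ↥(twistedG2 K (3 ^ m)) × ↥(twistedG2 K (3 ^ m)) × Y → ℕ) := by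
      intro h
      obtain ⟨g', hg'⟩ := big ((orderOf g1).lcm (orderOf g3)) (by
        rcases h with ⟨a, b⟩ | ⟨a, b⟩
        · exact Or.inl (Nat.lcm_dvd a b)
        · exact Or.inr (Nat.lcm_dvd a b))
      have h' := mk g' g2 1
      rw [hg', orderOf_one, Nat.lcm_one_right, Nat.lcm_assoc, Nat.lcm_comm (orderOf g3)] at h'
      exact h'
    have p23 : ((orderOf g2 ∣ 3 ^ (2 * m + 1) - 3 ^ (m + 1) + 1 ∧ orderOf g3 ∣ 3 ^ (2 * m + 1) - 3 ^ (m + 1) + 1) ∨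
        (orderOf g2 ∣ 3 ^ (2 * m + 1) + 3 ^ (m + 1) + 1 ∧ orderOf g3 ∣ 3 ^ (2 * m + 1) + 3 ^ (m + 1) + 1)) →
        (orderOf g1).lcm ((orderOf g2).lcm (orderOf g3)) ∈
          Set.range (orderOf : ↥(twistedG2 K (3 ^ m)) × ↥(twistedG2 K (3 ^ m)) × Y → ℕ) := by
      intro h
      obtain ⟨g', hg'⟩ := big ((orderOf g2).lcm (orderOf g3)) (by
        rcases h with ⟨a, b⟩ | ⟨a, b⟩
        · exact Or.inl (Nat.lcm_dvd a b)
        · exact Or.inr (Nat.lcm_dvd a b))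
      have h' := mk g1 g' 1
      rw [hg', orderOf_one, Nat.lcm_one_right] at h'
      exact h'
    rcases h1 with a | a <;> rcases h2 with b | b <;> rcases h3 with c | c
    · exact p12 (Or.inl ⟨a, b⟩)
    · exact p12 (Or.inl ⟨a, b⟩)
    · exact p13 (Or.inl ⟨a, c⟩)
    · exact p23 (Or.inr ⟨b, c⟩)
    · exact p23 (Or.inl ⟨b, c⟩)
    · exact p13 (Or.inr ⟨a, c⟩)
    · exact p12 (Or.inr ⟨a, b⟩)
    · exact p12 (Or.inr ⟨a, b⟩)

end Cfsg.Agent.Lib.helper44.Cube
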