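import Mathlib

set_option autoImplicit false

/-!
# Elementary abelian subgroups of order 8 and Sylow 2-subgroups

Three commuting independent involutions generate an elementary abelian group of order 8; if the order of
the group is `8 k` with `k` odd, every Sylow 2-subgroup is elementary abelian of order 8.
-/

namespace Cfsg.Agent.Lib.helper44

/-- The homomorphism from the group of order 2 sending the generator to an involution. -/
def invHom {G : Type*} [Group G] (x : G) (hx : x * x = 1) : Multiplicative (ZMod 2) →* G :=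
  MonoidHom.mk' (fun i => x ^ (Multiplicative.toAdd i).val) (by
    intro i j
    have h2 : x ^ 2 = 1 := by rw [pow_two]; exact hx
    rw [← pow_add, toAdd_mul, ZMod.val_add, ← pow_eq_pow_mod _ h2])

theorem invHom_gen {G : Type*} [Group G] (x : G) (hx : x * x = 1) :
    invHom x hx (Multiplicative.ofAdd 1) = x := by
  show x ^ (1 : ZMod 2).val = x
  have : (1 : ZMod 2).val = 1 := rfl
  rw [this, pow_one]

theorem mulZMod2_cases (i : Multiplicative (ZMod 2)) : i = 1 ∨ i = Multiplicative.ofAdd 1 := by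
  have h : ∀ j : ZMod 2, j = 0 ∨ j = 1 := by decide
  rcases h (Multiplicative.toAdd i) with h | h
  · left
    exact toAdd_eq_zero.mp h
  · right
    rw [← h, ofAdd_toAdd]

theorem mulZMod2_sq (i : Multiplicative (ZMod 2)) : i * i = 1 := by
  rcases mulZMod2_cases i with rfl | rfl
  · rfl
  · rfl

theorem card_mulZMod2 : Nat.card (Multiplicative (ZMod 2)) = 2 := by
  rw [Nat.card_eq_fintype_card]
  rfl

/-- Three commuting independent involutions generate an elementary abelian group of order 8. -/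
theorem exists_elemAb_eight {G : Type*} [Group G] (a b c : G) (ha : a * a = 1) (hb : b * b = 1)
    (hc : c * c = 1) (hab : a * b = b * a) (hac : a * c = c * a) (hbc : b * c = c * b)
    (h1 : a ≠ 1) (h2 : b ≠ 1) (h3 : c ≠ 1) (h4 : a * b ≠ 1) (h5 : a * c ≠ 1) (h6 : b * c ≠ 1)
    (h7 : a * (b * c) ≠ 1) :
    ∃ E : Subgroup G, Nat.card E = 8 ∧ (∀ x ∈ E, x * x = 1) ∧ a ∈ E ∧ b ∈ E ∧ c ∈ E ∧
      ∀ x, x ∈ E ↔ x = 1 ∨ x = a ∨ x = b ∨ x = c ∨ x = a * b ∨ x = a * c ∨ x = b * c ∨ x = a * (b * c) := by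
  have cbc : ∀ m n, Commute (invHom b hb m) (invHom c hc n) := by
    intro m n
    show Commute (b ^ _) (c ^ _)
    exact (show Commute b c from hbc).pow_pow _ _
  let fbc : Multiplicative (ZMod 2) × Multiplicative (ZMod 2) →* G :=
    MonoidHom.noncommCoprod (invHom b hb) (invHom c hc) cbc
  have hfbc : ∀ p, fbc p = invHom b hb p.1 * invHom c hc p.2 := fun p => rfl
  have ca : ∀ m n, Commute (invHom a ha m) (fbc n) := by
    intro m n
    rw [hfbc]
    show Commute (a ^ _) (b ^ _ * c ^ _)
    exact ((show Commute a b from hab).pow_pow _ _).mul_right ((show Commute a c from hac).pow_pow _ _)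
  let F : Multiplicative (ZMod 2) × Multiplicative (ZMod 2) × Multiplicative (ZMod 2) →* G :=
    MonoidHom.noncommCoprod (invHom a ha) fbc ca
  have hF : ∀ α β γ, F (α, β, γ) = invHom a ha α * (invHom b hb β * invHom c hc γ) := fun _ _ _ => rfl
  have hinj : Function.Injective F := by
    rw [injective_iff_map_eq_one]
    rintro ⟨α, β, γ⟩ h
    rw [hF] at h
    rcases mulZMod2_cases α with rfl | rfl <;> rcases mulZMod2_cases β with rfl | rfl <;>
      rcases mulZMod2_cases γ with rfl | rfl <;>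
      simp only [map_one, invHom_gen, one_mul, mul_one] at h
    · rfl
    · exact absurd h h3
    · exact absurd h h2
    · exact absurd h h6
    · exact absurd h h1
    · exact absurd h h5
    · exact absurd h h4
    · exact absurd h h7
  have hma : a ∈ F.range := by
    refine ⟨(Multiplicative.ofAdd 1, 1, 1), ?_⟩
    rw [hF, invHom_gen, map_one, map_one, mul_one, mul_one]
  have hmb : b ∈ F.range := by
    refine ⟨(1, Multiplicative.ofAdd 1, 1), ?_⟩
    rw [hF, invHom_gen, map_one, map_one, mul_one, one_mul]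
  have hmc : c ∈ F.range := by
    refine ⟨(1, 1, Multiplicative.ofAdd 1), ?_⟩
    rw [hF, invHom_gen, map_one, map_one, one_mul, one_mul]
  refine ⟨F.range, ?_, ?_, hma, hmb, hmc, ?_⟩
  · rw [← Nat.card_congr (MonoidHom.ofInjective hinj).toEquiv, Nat.card_prod, Nat.card_prod, card_mulZMod2]
  · rintro x ⟨y, rfl⟩
    rw [← map_mul]
    have : y * y = 1 := by
      obtain ⟨α, β, γ⟩ := y
      exact Prod.ext (mulZMod2_sq α) (Prod.ext (mulZMod2_sq β) (mulZMod2_sq γ))
    rw [this, map_one]
  · intro x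
    constructor
    · rintro ⟨⟨α, β, γ⟩, rfl⟩
      rw [hF]
      rcases mulZMod2_cases α with rfl | rfl <;> rcases mulZMod2_cases β with rfl | rfl <;>
        rcases mulZMod2_cases γ with rfl | rfl <;>
        simp only [map_one, invHom_gen, one_mul, mul_one] <;> simp
    · rintro (rfl | rfl | rfl | rfl | rfl | rfl | rfl | rfl)
      · exact one_mem _
      · exact hma
      · exact hmb
      · exact hmc
      · exact mul_mem hma hmb
      · exact mul_mem hma hmc
      · exact mul_mem hmb hmc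
      · exact mul_mem hma (mul_mem hmb hmc)

/-- If `|G| = 8 k` with `k` odd and `G` has an elementary abelian subgroup of order 8, then every Sylow
2-subgroup is elementary abelian of order 8. -/
theorem sylow_two_of_elemAb {G : Type*} [Group G] [Finite G] (k : ℕ) (hk : Odd k)
    (hG : Nat.card G = 8 * k) (E : Subgroup G) (hE : Nat.card E = 8) (hexp : ∀ x ∈ E, x * x = 1)
    (S : Sylow 2 G) : Nat.card S = 8 ∧ ∀ x ∈ S, x * x = 1 := by
  have : Fact (Nat.Prime 2) := ⟨Nat.prime_two⟩
  have hk0 : k ≠ 0 := by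
    rintro rfl
    exact absurd hk (by decide)
  have hfac : (8 * k).factorization 2 = 3 := by
    rw [Nat.factorization_mul (by norm_num) hk0, Finsupp.add_apply,
      Nat.factorization_eq_zero_of_not_dvd (Nat.two_dvd_ne_zero.mpr (Nat.odd_iff.mp hk)), add_zero]
    have : (8 : ℕ) = 2 ^ 3 := by norm_num
    rw [this, Nat.Prime.factorization_pow Nat.prime_two, Finsupp.single_eq_same]
  have hcard : ∀ P : Sylow 2 G, Nat.card P = 8 := by
    intro P
    rw [Sylow.card_eq_multiplicity, hG, hfac]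
    norm_num
  have hE2 : IsPGroup 2 E := IsPGroup.of_card (n := 3) (by rw [hE]; norm_num)
  obtain ⟨P, hEP⟩ := hE2.exists_le_sylow
  have hEP' : E = P := Subgroup.eq_of_le_of_card_ge hEP (by rw [hcard P, hE])
  refine ⟨hcard S, ?_⟩
  obtain ⟨g, rfl⟩ := MulAction.exists_smul_eq G P S
  intro x hx
  have hx' : g⁻¹ * x * g ∈ E := by
    rw [hEP']
    have hx2 : x ∈ ((g • P : Sylow 2 G) : Subgroup G) := hx
    rw [Sylow.coe_subgroup_smul, Subgroup.mem_pointwise_smul_iff_inv_smul_mem, MulAut.smul_def,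
      MulAut.conj_inv_apply] at hx2
    exact hx2
  have h1 := hexp _ hx'
  have h2 : x * x = g * ((g⁻¹ * x * g) * (g⁻¹ * x * g)) * g⁻¹ := by group
  rw [h2, h1, mul_one, mul_inv_cancel]

/-- The order `q³ (q - 1) (q³ + 1)` of the Ree group, `q = 3 ^ (2 m + 1)`, is `8` times an odd number. -/
theorem ree_card_eight (m : ℕ) : ∃ k : ℕ, Odd k ∧
    (3 ^ (2 * m + 1)) ^ 3 * (3 ^ (2 * m + 1) - 1) * ((3 ^ (2 * m + 1)) ^ 3 + 1) = 8 * k := by
  obtain ⟨t, ht⟩ : ∃ t, 3 ^ (2 * m + 1) = 8 * t + 3 := by
    have h9 : 9 ^ m % 8 = 1 := by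
      rw [Nat.pow_mod]
      norm_num
    have h : 3 ^ (2 * m + 1) = 3 * 9 ^ m := by
      rw [pow_succ, pow_mul]
      norm_num
      ring
    refine ⟨(3 ^ (2 * m + 1)) / 8, ?_⟩
    omega
  rw [ht]
  refine ⟨(8 * t + 3) ^ 3 * (4 * t + 1) * ((2 * t + 1) * ((8 * t + 3) * (8 * t + 2) + 1)), ?_, ?_⟩
  · exact Odd.mul (Odd.mul (Odd.pow ⟨4 * t + 1, by ring⟩) ⟨2 * t, by ring⟩)
      (Odd.mul ⟨t, by ring⟩ ⟨(8 * t + 3) * (4 * t + 1), by ring⟩)
  · have h1 : 8 * t + 3 - 1 = 8 * t + 2 := by omega
    rw [h1]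
    ring

end Cfsg.Agent.Lib.helper44
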