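-- helper44: induced class functions evaluated through a system of left coset representatives.
import Mathlib
import Cfsg.Prelude.Def_Characters
import Cfsg.Agent.Lib.helper4.Induction

set_option autoImplicit false

namespace Cfsg.Agent.Lib.helper44

open Cfsg.Agent.Lib.helper4

/-- The extension by zero of a class function of `H` is invariant under conjugation by `H`. -/
theorem extendByZero_conj_of_class {G : Type*} [Group G] (H : Subgroup G) (θ : H → ℂ)
    (hθ : ∀ h y : H, θ (h⁻¹ * y * h) = θ y) (h : G) (hh : h ∈ H) (y : G) :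
    Cfsg.extendByZero H θ (h⁻¹ * y * h) = Cfsg.extendByZero H θ y := by
  by_cases hy : y ∈ H
  · have hy' : h⁻¹ * y * h ∈ H := H.mul_mem (H.mul_mem (H.inv_mem hh) hy) hh
    rw [extendByZero_apply_mem H θ hy', extendByZero_apply_mem H θ hy]
    exact hθ ⟨h, hh⟩ ⟨y, hy⟩
  · have hy' : h⁻¹ * y * h ∉ H := by
      intro hc
      apply hy
      have : y = h * (h⁻¹ * y * h) * h⁻¹ := by group
      rw [this]
      exact H.mul_mem (H.mul_mem hh hc) (H.inv_mem hh)
    rw [extendByZero_apply_of_not_mem H θ hy', extendByZero_apply_of_not_mem H θ hy]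

/-- The value of an induced class function as a sum over a system of representatives `r` of the
left cosets of `H`: `Ind θ (g) = ∑ᵢ θ°(rᵢ⁻¹ g rᵢ)`, where `θ°` is the extension of `θ` by zero. -/
theorem indFun_eq_sum_reps {G : Type*} [Group G] [Fintype G] (H : Subgroup G) (θ : H → ℂ)
    (hθ : ∀ h y : H, θ (h⁻¹ * y * h) = θ y)
    {ι : Type*} [Fintype ι] (r : ι → G)
    (hr : Function.Bijective (fun i => (QuotientGroup.mk (r i) : G ⧸ H))) (g : G) :
    Cfsg.indFun H θ g = ∑ i, Cfsg.extendByZero H θ ((r i)⁻¹ * g * r i) := by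
  classical
  have : Fintype H := Fintype.ofFinite H
  rw [indFun_apply]
  let e : ι × H → G := fun p => r p.1 * (p.2 : G)
  have he : Function.Bijective e := by
    constructor
    · rintro ⟨i, h⟩ ⟨j, h'⟩ hij
      have hij' : r i * (h : G) = r j * (h' : G) := hij
      have h1 : (QuotientGroup.mk (r i) : G ⧸ H) = QuotientGroup.mk (r j) := by
        rw [QuotientGroup.eq]
        have : (r i)⁻¹ * r j = (h : G) * (h' : G)⁻¹ := by
          rw [eq_mul_inv_iff_mul_eq, mul_assoc, ← hij', inv_mul_cancel_left]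
        rw [this]
        exact H.mul_mem h.2 (H.inv_mem h'.2)
      have h2 : i = j := hr.1 h1
      subst h2
      have h3 : (h : G) = h' := mul_left_cancel hij'
      rw [Subtype.ext h3]
    · intro x
      obtain ⟨i, hi⟩ := hr.2 (QuotientGroup.mk x)
      have hi' : (QuotientGroup.mk (r i) : G ⧸ H) = QuotientGroup.mk x := hi
      rw [QuotientGroup.eq] at hi'
      exact ⟨(i, ⟨(r i)⁻¹ * x, hi'⟩), by simp [e]⟩
  have hsum : ∑ x : G, Cfsg.extendByZero H θ (x⁻¹ * g * x) =
      ∑ p : ι × H, Cfsg.extendByZero H θ ((r p.1)⁻¹ * g * r p.1) := by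
    refine (Fintype.sum_bijective e he _ _ ?_).symm
    rintro ⟨i, h⟩
    have := extendByZero_conj_of_class H θ hθ (h : G) h.2 ((r i)⁻¹ * g * r i)
    rw [← this]
    congr 1
    simp [e, mul_assoc]
  rw [hsum, Fintype.sum_prod_type]
  simp only [Finset.sum_const, Finset.card_univ, nsmul_eq_mul]
  rw [← Finset.mul_sum, ← mul_assoc, Nat.card_eq_fintype_card, inv_mul_cancel₀, one_mul]
  exact_mod_cast Fintype.card_ne_zero

end Cfsg.Agent.Lib.helper44
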