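-- helper44: explicit values of the characters of GL₂(q) induced from linear characters of the
-- upper triangular subgroup (principal series), through coset representatives.
import Mathlib
import Cfsg.Prelude.Def_Characters
import Cfsg.Prelude.Def_ParabolicCharacters
import Cfsg.Agent.Lib.helper43.GL2Values
import Cfsg.Agent.Lib.helper44.IndCoset

set_option autoImplicit false

namespace Cfsg.Agent.Lib.helper44

open Matrix Cfsg.Agent.Lib.helper4 Cfsg.Agent.Lib.helper43

section GL2Ind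

variable {F : Type*} [Field F]

/-- Representatives of the left cosets of the upper triangular subgroup of `GL₂`: the Weyl element
and the lower unitriangular matrices. -/
noncomputable def borelRep : Option F → GL (Fin 2) F
  | none => wGL
  | some c => lGL c

theorem borelRep_none : borelRep (none : Option F) = wGL := rfl

theorem borelRep_some (c : F) : borelRep (some c) = lGL c := rfl

theorem borelRep_injective : Function.Injective
    (fun o : Option F => (QuotientGroup.mk (borelRep o) : GL (Fin 2) F ⧸ Cfsg.upperTriangularGL 2 F)) := by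
  intro o o' h
  rcases o with _ | c <;> rcases o' with _ | c'
  · rfl
  · exfalso
    have h' : (QuotientGroup.mk wGL : GL (Fin 2) F ⧸ Cfsg.upperTriangularGL 2 F) =
        QuotientGroup.mk (lGL c') := h
    rw [QuotientGroup.eq, wGL_inv, mem_upperGL_iff] at h'
    simp [wGL_val, lGL_val, Matrix.mul_apply, Fin.sum_univ_two] at h'
  · exfalso
    have h' : (QuotientGroup.mk (lGL c) : GL (Fin 2) F ⧸ Cfsg.upperTriangularGL 2 F) =
        QuotientGroup.mk wGL := h
    rw [QuotientGroup.eq, lGL_inv, mem_upperGL_iff] at h'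
    simp [wGL_val, lGL_val, Matrix.mul_apply, Fin.sum_univ_two] at h'
  · have h' : (QuotientGroup.mk (lGL c) : GL (Fin 2) F ⧸ Cfsg.upperTriangularGL 2 F) =
        QuotientGroup.mk (lGL c') := h
    rw [QuotientGroup.eq, lGL_inv, lGL_mul, mem_upperGL_iff] at h'
    simp [lGL_val] at h'
    congr 1
    linear_combination -h'

theorem borelRep_bijective [Fintype F] : Function.Bijective
    (fun o : Option F => (QuotientGroup.mk (borelRep o) : GL (Fin 2) F ⧸ Cfsg.upperTriangularGL 2 F)) := by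
  classical
  have : Fintype (GL (Fin 2) F ⧸ Cfsg.upperTriangularGL 2 F) := Fintype.ofFinite _
  rw [Fintype.bijective_iff_injective_and_card]
  refine ⟨borelRep_injective, ?_⟩
  rw [Fintype.card_option, ← Nat.card_eq_fintype_card (α := GL (Fin 2) F ⧸ Cfsg.upperTriangularGL 2 F)]
  exact (index_upperGL (F := F)).symm

/-- The linear character `b ↦ α(b₁₁) β(b₂₂)` of the upper triangular subgroup. -/
noncomputable def borelChar (α β : MulChar F ℂ) : Cfsg.upperTriangularGL 2 F → ℂ :=
  fun b => α (((b : GL (Fin 2) F) : Matrix (Fin 2) (Fin 2) F) 0 0) *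
    β (((b : GL (Fin 2) F) : Matrix (Fin 2) (Fin 2) F) 1 1)

/-- Diagonal entries of upper triangular matrices are invariant under conjugation by upper
triangular matrices. -/
theorem upper_conj_diag (h y : GL (Fin 2) F) (hh : (h : Matrix (Fin 2) (Fin 2) F) 1 0 = 0)
    (hy : (y : Matrix (Fin 2) (Fin 2) F) 1 0 = 0) :
    ((h⁻¹ * y * h : GL (Fin 2) F) : Matrix (Fin 2) (Fin 2) F) 0 0 = (y : Matrix (Fin 2) (Fin 2) F) 0 0 ∧
    ((h⁻¹ * y * h : GL (Fin 2) F) : Matrix (Fin 2) (Fin 2) F) 1 1 = (y : Matrix (Fin 2) (Fin 2) F) 1 1 := by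
  set z := h⁻¹ * y * h with hz
  have hz10 : (z : Matrix (Fin 2) (Fin 2) F) 1 0 = 0 := by
    have hzmem : z ∈ Cfsg.upperTriangularGL 2 F :=
      (Cfsg.upperTriangularGL 2 F).mul_mem ((Cfsg.upperTriangularGL 2 F).mul_mem
        ((Cfsg.upperTriangularGL 2 F).inv_mem ((mem_upperGL_iff h).2 hh)) ((mem_upperGL_iff y).2 hy))
        ((mem_upperGL_iff h).2 hh)
    exact (mem_upperGL_iff z).1 hzmem
  have hxy : h * z = y * h := by rw [hz]; group
  have hM : (h : Matrix (Fin 2) (Fin 2) F) * (z : Matrix (Fin 2) (Fin 2) F) =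
      (y : Matrix (Fin 2) (Fin 2) F) * (h : Matrix (Fin 2) (Fin 2) F) := by
    have := congrArg (fun z : GL (Fin 2) F => (z : Matrix (Fin 2) (Fin 2) F)) hxy
    simpa using this
  have e00 := congrFun (congrFun hM 0) 0
  have e11 := congrFun (congrFun hM 1) 1
  simp only [Matrix.mul_apply, Fin.sum_univ_two, hh, hy, hz10, mul_zero, zero_mul, add_zero,
    zero_add] at e00 e11
  have hdet : (h : Matrix (Fin 2) (Fin 2) F).det ≠ 0 := Matrix.GeneralLinearGroup.det_ne_zero h
  rw [Matrix.det_fin_two, hh, mul_zero, sub_zero] at hdet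
  have h00 : (h : Matrix (Fin 2) (Fin 2) F) 0 0 ≠ 0 := left_ne_zero_of_mul hdet
  have h11 : (h : Matrix (Fin 2) (Fin 2) F) 1 1 ≠ 0 := right_ne_zero_of_mul hdet
  constructor
  · apply mul_left_cancel₀ h00
    rw [e00, mul_comm]
  · apply mul_left_cancel₀ h11
    rw [e11, mul_comm]

theorem borelChar_conj (α β : MulChar F ℂ) (h y : Cfsg.upperTriangularGL 2 F) :
    borelChar α β (h⁻¹ * y * h) = borelChar α β y := by
  have := upper_conj_diag (h : GL (Fin 2) F) (y : GL (Fin 2) F)
    ((mem_upperGL_iff _).1 h.2) ((mem_upperGL_iff _).1 y.2)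
  unfold borelChar
  have hc : (((h⁻¹ * y * h : Cfsg.upperTriangularGL 2 F) : GL (Fin 2) F)) =
      (h : GL (Fin 2) F)⁻¹ * (y : GL (Fin 2) F) * (h : GL (Fin 2) F) := by
    simp
  rw [hc, this.1, this.2]

theorem extendByZero_borelChar [DecidableEq F] (α β : MulChar F ℂ) (y : GL (Fin 2) F) :
    Cfsg.extendByZero (Cfsg.upperTriangularGL 2 F) (borelChar α β) y =
      if (y : Matrix (Fin 2) (Fin 2) F) 1 0 = 0 then
        α ((y : Matrix (Fin 2) (Fin 2) F) 0 0) * β ((y : Matrix (Fin 2) (Fin 2) F) 1 1) else 0 := by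
  by_cases hy : (y : Matrix (Fin 2) (Fin 2) F) 1 0 = 0
  · rw [if_pos hy, extendByZero_apply_mem _ _ ((mem_upperGL_iff y).2 hy)]
    rfl
  · rw [if_neg hy, extendByZero_apply_of_not_mem _ _ (fun hc => hy ((mem_upperGL_iff y).1 hc))]

/-- Explicit formula for the principal series characters of `GL₂(q)`: for `g = !![a, b; c, d]`,
`Ind_B^G (α ⊗ β) (g) = [b = 0] α(d) β(a) + ∑_{x : c + (d - a) x - b x² = 0} α(a + b x) β(d - b x)`. -/
theorem indFun_borelChar_apply [Fintype F] [DecidableEq F] [Fintype (GL (Fin 2) F)]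
    (α β : MulChar F ℂ) (g : GL (Fin 2) F) :
    Cfsg.indFun (Cfsg.upperTriangularGL 2 F) (borelChar α β) g =
      (if (g : Matrix (Fin 2) (Fin 2) F) 0 1 = 0 then
        α ((g : Matrix (Fin 2) (Fin 2) F) 1 1) * β ((g : Matrix (Fin 2) (Fin 2) F) 0 0) else 0) +
      ∑ x : F, if (g : Matrix (Fin 2) (Fin 2) F) 1 0 +
          ((g : Matrix (Fin 2) (Fin 2) F) 1 1 - (g : Matrix (Fin 2) (Fin 2) F) 0 0) * x -
          (g : Matrix (Fin 2) (Fin 2) F) 0 1 * x ^ 2 = 0 then
        α ((g : Matrix (Fin 2) (Fin 2) F) 0 0 + (g : Matrix (Fin 2) (Fin 2) F) 0 1 * x) *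
          β ((g : Matrix (Fin 2) (Fin 2) F) 1 1 - (g : Matrix (Fin 2) (Fin 2) F) 0 1 * x) else 0 := by
  rw [indFun_eq_sum_reps (Cfsg.upperTriangularGL 2 F) (borelChar α β) (borelChar_conj α β)
    borelRep borelRep_bijective g, Fintype.sum_option]
  congr 1
  · rw [borelRep_none, extendByZero_borelChar, wGL_inv]
    have e10 : ((wGL * g * wGL : GL (Fin 2) F) : Matrix (Fin 2) (Fin 2) F) 1 0 =
        (g : Matrix (Fin 2) (Fin 2) F) 0 1 := by
      simp [wGL_val, Matrix.mul_apply, Fin.sum_univ_two, Matrix.vecMul, dotProduct]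
    have e00 : ((wGL * g * wGL : GL (Fin 2) F) : Matrix (Fin 2) (Fin 2) F) 0 0 =
        (g : Matrix (Fin 2) (Fin 2) F) 1 1 := by
      simp [wGL_val, Matrix.mul_apply, Fin.sum_univ_two, Matrix.vecMul, dotProduct]
    have e11 : ((wGL * g * wGL : GL (Fin 2) F) : Matrix (Fin 2) (Fin 2) F) 1 1 =
        (g : Matrix (Fin 2) (Fin 2) F) 0 0 := by
      simp [wGL_val, Matrix.mul_apply, Fin.sum_univ_two, Matrix.vecMul, dotProduct]
    rw [e10, e00, e11]
  · refine Finset.sum_congr rfl (fun x _ => ?_)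
    rw [borelRep_some, extendByZero_borelChar, lGL_inv]
    have e10 : ((lGL (-x) * g * lGL x : GL (Fin 2) F) : Matrix (Fin 2) (Fin 2) F) 1 0 =
        (g : Matrix (Fin 2) (Fin 2) F) 1 0 +
          ((g : Matrix (Fin 2) (Fin 2) F) 1 1 - (g : Matrix (Fin 2) (Fin 2) F) 0 0) * x -
          (g : Matrix (Fin 2) (Fin 2) F) 0 1 * x ^ 2 := by
      simp [lGL_val, Matrix.mul_apply, Fin.sum_univ_two, Matrix.vecMul, dotProduct]
      ring
    have e00 : ((lGL (-x) * g * lGL x : GL (Fin 2) F) : Matrix (Fin 2) (Fin 2) F) 0 0 =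
        (g : Matrix (Fin 2) (Fin 2) F) 0 0 + (g : Matrix (Fin 2) (Fin 2) F) 0 1 * x := by
      simp [lGL_val, Matrix.mul_apply, Fin.sum_univ_two, Matrix.vecMul, dotProduct]
    have e11 : ((lGL (-x) * g * lGL x : GL (Fin 2) F) : Matrix (Fin 2) (Fin 2) F) 1 1 =
        (g : Matrix (Fin 2) (Fin 2) F) 1 1 - (g : Matrix (Fin 2) (Fin 2) F) 0 1 * x := by
      simp [lGL_val, Matrix.mul_apply, Fin.sum_univ_two, Matrix.vecMul, dotProduct]
      ring
    rw [e10, e00, e11]

end GL2Ind

end Cfsg.Agent.Lib.helper44
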