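-- helper44: isotypic components of permutation characters under a commuting abelian group.
import Mathlib
import Cfsg.Prelude.Def_Characters
import Cfsg.Agent.Lib.helper4.RepBasic

set_option autoImplicit false

namespace Cfsg.Agent.Lib.helper44

/-- The trace of the pull-back operator `φ ↦ φ ∘ τ` on the functions on a finite set is the
number of fixed points of `τ`. -/
theorem trace_funLeft_eq_card_fixed {Y : Type*} [Fintype Y] [DecidableEq Y] (τ : Y → Y) :
    LinearMap.trace ℂ (Y → ℂ) (LinearMap.funLeft ℂ ℂ τ) =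
      ((Finset.univ.filter (fun y => τ y = y)).card : ℂ) := by
  rw [LinearMap.trace_eq_matrix_trace ℂ (Pi.basisFun ℂ Y), Matrix.trace]
  simp only [Matrix.diag_apply, LinearMap.toMatrix_apply, Pi.basisFun_repr, Pi.basisFun_apply,
    LinearMap.funLeft_apply]
  rw [Finset.card_filter]
  push_cast
  refine Finset.sum_congr rfl fun i _ => ?_
  simp [Pi.single_apply]

/-- If a group `G` and a finite abelian group `A` act on a finite set `Y` and the actions
commute, then for every linear character `lam` of `A` the `lam`-isotypic part of the permutation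
character of `G` is a character of `G`: explicitly, the function
`g ↦ |A|⁻¹ ∑_c lam(c) #{y | g (c y) = y}`. -/
theorem isCharacter_isotypic {G A Y : Type*} [Group G] [CommGroup A] [Fintype A] [Fintype Y]
    [DecidableEq Y] (actG : G → Y → Y) (hGmul : ∀ g h y, actG (g * h) y = actG g (actG h y))
    (hGone : ∀ y, actG 1 y = y) (actA : A → Y → Y)
    (hAmul : ∀ a b y, actA (a * b) y = actA a (actA b y)) (hAone : ∀ y, actA 1 y = y)
    (hcomm : ∀ g a y, actG g (actA a y) = actA a (actG g y)) (lam : A →* ℂˣ) :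
    Cfsg.IsCharacter G (fun g => (Fintype.card A : ℂ)⁻¹ *
      ∑ c : A, (lam c : ℂ) * ((Finset.univ.filter (fun y => actG g (actA c y) = y)).card : ℂ)) := by
  classical
  -- the permutation representation and the commuting operators
  let ρ : Representation ℂ G (Y → ℂ) :=
    { toFun := fun g => LinearMap.funLeft ℂ ℂ (actG g⁻¹)
      map_one' := by
        refine LinearMap.ext fun φ => funext fun y => ?_
        simp [LinearMap.funLeft_apply, hGone]
      map_mul' := by
        intro g h
        refine LinearMap.ext fun φ => funext fun y => ?_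
        simp [LinearMap.funLeft_apply, hGmul] }
  have hρ : ∀ g φ y, ρ g φ y = φ (actG g⁻¹ y) := fun g φ y => rfl
  let σ : A → (Y → ℂ) →ₗ[ℂ] (Y → ℂ) := fun c => LinearMap.funLeft ℂ ℂ (actA c⁻¹)
  have hσ : ∀ c φ y, σ c φ y = φ (actA c⁻¹ y) := fun c φ y => rfl
  have hσσ : ∀ d c φ, σ d (σ c φ) = σ (d * c) φ := by
    intro d c φ
    funext y
    rw [hσ, hσ, hσ, mul_inv_rev, hAmul]
  have hσρ : ∀ d g φ, σ d (ρ g φ) = ρ g (σ d φ) := by
    intro d g φ
    funext y
    rw [hσ, hρ, hρ, hσ, hcomm]
  -- the isotypic subspace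
  let p : Submodule ℂ (Y → ℂ) :=
    { carrier := {φ | ∀ d : A, σ d φ = (((lam d)⁻¹ : ℂˣ) : ℂ) • φ}
      add_mem' := by
        intro a b ha hb d
        rw [map_add, ha d, hb d, smul_add]
      zero_mem' := by
        intro d
        simp
      smul_mem' := by
        intro c φ hφ d
        rw [map_smul, hφ d, smul_comm] }
  have hp : ∀ φ, φ ∈ p ↔ ∀ d : A, σ d φ = (((lam d)⁻¹ : ℂˣ) : ℂ) • φ := fun φ => Iff.rfl
  have hp_inv : ∀ g φ, φ ∈ p → ρ g φ ∈ p := by
    intro g φ hφ
    rw [hp] at hφ ⊢
    intro d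
    rw [hσρ, hφ d, map_smul]
  -- the projection
  have hA0 : (Fintype.card A : ℂ) ≠ 0 := by
    exact_mod_cast Fintype.card_ne_zero
  let e : (Y → ℂ) →ₗ[ℂ] (Y → ℂ) := (Fintype.card A : ℂ)⁻¹ • ∑ c : A, (lam c : ℂ) • σ c
  have he : ∀ φ, e φ = (Fintype.card A : ℂ)⁻¹ • ∑ c : A, (lam c : ℂ) • σ c φ := by
    intro φ
    simp only [e, LinearMap.smul_apply, LinearMap.sum_apply]
  have he_mem : ∀ φ, e φ ∈ p := by
    intro φ
    rw [hp]
    intro d
    rw [he, map_smul, map_sum, smul_comm]
    congr 1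
    rw [Finset.smul_sum]
    rw [← Fintype.sum_equiv (Equiv.mulLeft d) (fun c => (((lam d)⁻¹ : ℂˣ) : ℂ) • ((lam (d * c) : ℂ) • σ (d * c) φ))
      (fun c => (((lam d)⁻¹ : ℂˣ) : ℂ) • ((lam c : ℂ) • σ c φ)) (fun c => rfl)]
    refine Finset.sum_congr rfl fun c _ => ?_
    rw [map_smul, hσσ, smul_smul, map_mul, Units.val_mul, ← mul_assoc, ← Units.val_mul,
      inv_mul_cancel, Units.val_one, one_mul]
  have he_id : ∀ φ, φ ∈ p → e φ = φ := by
    intro φ hφ
    rw [hp] at hφ
    rw [he]
    have h1 : ∀ c : A, (lam c : ℂ) • σ c φ = φ := by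
      intro c
      rw [hφ c, smul_smul, ← Units.val_mul, mul_inv_cancel, Units.val_one, one_smul]
    simp only [h1, Finset.sum_const, Finset.card_univ]
    rw [← Nat.cast_smul_eq_nsmul ℂ, smul_smul, inv_mul_cancel₀ hA0, one_smul]
  -- the subrepresentation
  let ρ' : Representation ℂ G p :=
    { toFun := fun g => (ρ g).restrict (fun φ hφ => hp_inv g φ hφ)
      map_one' := by
        refine LinearMap.ext fun φ => Subtype.ext ?_
        simp
      map_mul' := by
        intro g h
        refine LinearMap.ext fun φ => Subtype.ext ?_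
        simp }
  have hchar : ρ'.character = (fun g => (Fintype.card A : ℂ)⁻¹ *
      ∑ c : A, (lam c : ℂ) * ((Finset.univ.filter (fun y => actG g (actA c y) = y)).card : ℂ)) := by
    funext g
    have hmem : ∀ φ, (ρ g ∘ₗ e) φ ∈ p := fun φ => hp_inv g _ (he_mem φ)
    have h1 : ρ' g = (ρ g ∘ₗ e).restrict (fun φ _ => hmem φ) := by
      refine LinearMap.ext fun φ => Subtype.ext ?_
      change ρ g φ.1 = ρ g (e φ.1)
      rw [he_id φ.1 φ.2]
    have h2 : ρ'.character g = LinearMap.trace ℂ p (ρ' g) := rfl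
    rw [h2, h1, LinearMap.trace_restrict_eq_of_forall_mem p (ρ g ∘ₗ e) hmem]
    have h3 : ρ g ∘ₗ e = (Fintype.card A : ℂ)⁻¹ • ∑ c : A, (lam c : ℂ) •
        LinearMap.funLeft ℂ ℂ (fun y => actA c⁻¹ (actG g⁻¹ y)) := by
      refine LinearMap.ext fun φ => ?_
      rw [LinearMap.comp_apply, he, map_smul, map_sum, LinearMap.smul_apply, LinearMap.sum_apply]
      congr 1
    rw [h3, map_smul, map_sum, smul_eq_mul]
    congr 1
    refine Finset.sum_congr rfl fun c _ => ?_
    rw [map_smul, smul_eq_mul, trace_funLeft_eq_card_fixed]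
    congr 3
    refine Finset.filter_congr fun y _ => ?_
    constructor
    · intro h
      have h4 : actG g (actA c (actA c⁻¹ (actG g⁻¹ y))) = y := by
        rw [← hAmul, mul_inv_cancel, hAone, ← hGmul, mul_inv_cancel, hGone]
      rw [h] at h4
      exact h4
    · intro h
      have h4 : actA c⁻¹ (actG g⁻¹ (actG g (actA c y))) = y := by
        rw [← hGmul, inv_mul_cancel, hGone, ← hAmul, inv_mul_cancel, hAone]
      rw [h] at h4
      exact h4
  rw [← hchar]
  exact Cfsg.Agent.Lib.helper4.isCharacter_of_rep ρ'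

end Cfsg.Agent.Lib.helper44
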