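import Cfsg.Agent.Lib.helper44.SL2Law

set_option autoImplicit false

namespace Cfsg.Agent.Lib.helper44

/-- `NC w H`: some value of the word `w` in `H` does not commute with some element of `H`
(in particular `w` is not a law in `H`, nor in `H` modulo its centre). -/
def NC (w : FreeGroup ℕ) (H : Type*) [Group H] : Prop :=
  ∃ (g : ℕ → H) (y : H), FreeGroup.lift g w * y ≠ y * FreeGroup.lift g w

/-- Word values commute with homomorphisms. -/
theorem lift_map_hom {H K : Type*} [Group H] [Group K] (φ : H →* K) (g : ℕ → H) (w : FreeGroup ℕ) :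
    FreeGroup.lift (fun i => φ (g i)) w = φ (FreeGroup.lift g w) := by
  have hcomp : FreeGroup.lift (fun i => φ (g i)) = φ.comp (FreeGroup.lift g) := by
    apply FreeGroup.ext_hom
    intro i
    simp
  rw [hcomp]
  rfl

theorem NC.of_injective {w : FreeGroup ℕ} {H K : Type*} [Group H] [Group K] (h : NC w H)
    (φ : H →* K) (hφ : Function.Injective φ) : NC w K := by
  obtain ⟨g, y, hne⟩ := h
  refine ⟨fun i => φ (g i), φ y, fun heq => hne (hφ ?_)⟩
  rw [lift_map_hom] at heq
  rw [map_mul, map_mul]
  exact heq

theorem NC.quotient_center {w : FreeGroup ℕ} {K : Type*} [Group K] (h : NC w K) :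
    ∃ f : ℕ → K ⧸ Subgroup.center K, FreeGroup.lift f w ≠ 1 := by
  obtain ⟨g, y, hne⟩ := h
  refine ⟨fun i => QuotientGroup.mk' (Subgroup.center K) (g i), fun h1 => hne ?_⟩
  rw [lift_map_hom] at h1
  have hmem : FreeGroup.lift g w ∈ Subgroup.center K := (QuotientGroup.eq_one_iff _).1 h1
  exact (Subgroup.mem_center_iff.1 hmem y).symm

/-- If `w` is not a law in `H` and `G ≃* H`, then `w` is not a law in `G`. -/
theorem not_law_of_mulEquiv {w : FreeGroup ℕ} {G H : Type*} [Group G] [Group H] (e : G ≃* H)
    (h : ∃ f : ℕ → H, FreeGroup.lift f w ≠ 1) : ∃ f : ℕ → G, FreeGroup.lift f w ≠ 1 := by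
  obtain ⟨f, hf⟩ := h
  refine ⟨fun i => e.symm (f i), fun h1 => hf ?_⟩
  have := lift_map_hom e.symm.toMonoidHom f w
  simp only [MulEquiv.coe_toMonoidHom] at this
  rw [this] at h1
  simpa using h1

/-- A perfect group maps into the commutator subgroup. -/
theorem NC.to_commutator {w : FreeGroup ℕ} {H O : Type*} [Group H] [Group O] (h : NC w H)
    (hperf : _root_.commutator H = ⊤) (φ : H →* O) (hφ : Function.Injective φ) :
    NC w (_root_.commutator O) := by
  have hmem : ∀ x : H, φ x ∈ _root_.commutator O := by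
    intro x
    have hx : x ∈ _root_.commutator H := by rw [hperf]; exact Subgroup.mem_top x
    have h1 : φ x ∈ (_root_.commutator H).map φ := Subgroup.mem_map_of_mem φ hx
    have h2 : (_root_.commutator H).map φ ≤ _root_.commutator O := by
      rw [commutator_def, commutator_def, Subgroup.map_commutator]
      exact Subgroup.commutator_mono le_top le_top
    exact h2 h1
  exact h.of_injective (φ.codRestrict (_root_.commutator O) hmem)
    (fun a b hab => hφ (congrArg Subtype.val hab))

/-- A non-trivial word has a non-central value in the alternating group of large degree. -/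
theorem NC_alternating (w : FreeGroup ℕ) (hw : w ≠ 1) (m : ℕ)
    (hm : 2 * (w.toWord.length + 1) ≤ m) : NC w (alternatingGroup (Fin m)) := by
  obtain ⟨f, hf⟩ := exists_alternating_lift_ne_one w hw m hm
  have hm4 : 4 ≤ Nat.card (Fin m) := by
    have hlen : 1 ≤ w.toWord.length := by
      rcases Nat.eq_zero_or_pos w.toWord.length with h0 | h0
      · exact absurd (FreeGroup.toWord_eq_nil_iff.1 (List.length_eq_zero_iff.1 h0)) hw
      · exact h0
    simp
    omega
  have hc := alternatingGroup.center_eq_bot hm4
  by_contra hnc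
  apply hf
  have hmem : FreeGroup.lift f w ∈ Subgroup.center (alternatingGroup (Fin m)) := by
    rw [Subgroup.mem_center_iff]
    intro y
    by_contra hne
    exact hnc ⟨f, y, fun h => hne h.symm⟩
  rw [hc] at hmem
  exact Subgroup.mem_bot.1 hmem

/-- A non-trivial word has a non-central value in `SL₂(F)` over a large finite field. -/
theorem NC_SL2 (w : FreeGroup ℕ) (hw : w ≠ 1) (F : Type*) [Field F] [Fintype F]
    (hF : wordBound w.toWord < Fintype.card F) : NC w (Matrix.SpecialLinearGroup (Fin 2) F) := by
  obtain ⟨g, hg⟩ := exists_SL2_lift_not_scalar (F := F) w hw hF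
  let y : Matrix.SpecialLinearGroup (Fin 2) F := ⟨!![1, 0; 1, 1], by simp [Matrix.det_fin_two]⟩
  have hy : (y : Matrix (Fin 2) (Fin 2) F) = !![1, 0; 1, 1] := rfl
  refine ⟨g, y, fun h => hg ?_⟩
  have h1 := congrArg (fun A : Matrix.SpecialLinearGroup (Fin 2) F =>
    (A : Matrix (Fin 2) (Fin 2) F) 0 0) h
  simp only [Matrix.SpecialLinearGroup.coe_mul, hy, Matrix.mul_apply, Fin.sum_univ_two] at h1
  simpa using h1

end Cfsg.Agent.Lib.helper44
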