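-- helper44: SL_n(F), n ≥ 3, is transitive on linearly independent pairs of vectors.
import Mathlib

set_option autoImplicit false

namespace Cfsg.Agent.Lib.helper44

open Module

/-- The basis `Basis.sumExtend` extends the given family. -/
theorem sumExtend_inl {K V ι : Type*} [DivisionRing K] [AddCommGroup V] [Module K V] {v : ι → V}
    (hs : LinearIndependent K v) (i : ι) : Basis.sumExtend hs (Sum.inl i) = v i := by
  simp only [Basis.sumExtend, Basis.reindex_apply, Basis.extend_apply_self]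
  rfl

/-- `SL_n(F)`, `n ≥ 3`, is transitive on linearly independent pairs (family version). -/
theorem exists_SL_mulVec_family {F : Type*} [Field F] {n : ℕ} (hn : 3 ≤ n)
    (v₁ v₂ : Fin 2 → (Fin n → F)) (h₁ : LinearIndependent F v₁) (h₂ : LinearIndependent F v₂) :
    ∃ g : Matrix.SpecialLinearGroup (Fin n) F,
      ∀ i, (g : Matrix (Fin n) (Fin n) F).mulVec (v₁ i) = v₂ i := by
  classical
  let B₁ := Basis.sumExtend h₁
  let B₂ := Basis.sumExtend h₂
  have hfin₁ : Finite (Fin 2 ⊕ Basis.sumExtendIndex h₁) := Module.Finite.finite_basis B₁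
  have hfin₂ : Finite (Fin 2 ⊕ Basis.sumExtendIndex h₂) := Module.Finite.finite_basis B₂
  have hS₁ : Finite (Basis.sumExtendIndex h₁) := Finite.sum_right (Fin 2)
  have hS₂ : Finite (Basis.sumExtendIndex h₂) := Finite.sum_right (Fin 2)
  let _ : Fintype (Basis.sumExtendIndex h₁) := Fintype.ofFinite _
  let _ : Fintype (Basis.sumExtendIndex h₂) := Fintype.ofFinite _
  have hc₁ : 2 + Fintype.card (Basis.sumExtendIndex h₁) = n := by
    have h := Module.finrank_eq_card_basis B₁
    rw [Module.finrank_fin_fun, Fintype.card_sum, Fintype.card_fin] at h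
    exact h.symm
  have hc₂ : 2 + Fintype.card (Basis.sumExtendIndex h₂) = n := by
    have h := Module.finrank_eq_card_basis B₂
    rw [Module.finrank_fin_fun, Fintype.card_sum, Fintype.card_fin] at h
    exact h.symm
  have hcard : Fintype.card (Basis.sumExtendIndex h₂) = Fintype.card (Basis.sumExtendIndex h₁) := by
    omega
  let σ : Basis.sumExtendIndex h₂ ≃ Basis.sumExtendIndex h₁ := Fintype.equivOfCardEq hcard
  have hne : Nonempty (Basis.sumExtendIndex h₁) := by
    rw [← Fintype.card_pos_iff]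
    omega
  obtain ⟨j₀⟩ := hne
  let B₂' : Basis (Fin 2 ⊕ Basis.sumExtendIndex h₁) F (Fin n → F) :=
    B₂.reindex (Equiv.sumCongr (Equiv.refl _) σ)
  have hB₂' : ∀ i, B₂' (Sum.inl i) = v₂ i := by
    intro i
    simp [B₂', B₂, Basis.reindex_apply, sumExtend_inl]
  have hd : IsUnit (B₁.det B₂') := B₁.isUnit_det B₂'
  let d : Fˣ := hd.unit
  let w : Fin 2 ⊕ Basis.sumExtendIndex h₁ → Fˣ := Function.update (fun _ => 1) (Sum.inr j₀) d⁻¹
  let L : (Fin n → F) ≃ₗ[F] (Fin n → F) := B₁.equiv (B₂'.unitsSMul w) (Equiv.refl _)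
  have hdet : LinearMap.det (L : (Fin n → F) →ₗ[F] (Fin n → F)) = 1 := by
    have h1 : LinearMap.det (L : (Fin n → F) →ₗ[F] (Fin n → F)) = B₁.det (B₂'.unitsSMul w) :=
      Basis.det_basis (B₂'.unitsSMul w) B₁
    rw [h1]
    have h2 : ⇑(B₂'.unitsSMul w) = fun i => (w i : F) • B₂' i := by
      funext i
      rw [Basis.unitsSMul_apply]
      rfl
    rw [h2, AlternatingMap.map_smul_univ]
    have hprod : ∏ i, (w i : F) = ((d⁻¹ : Fˣ) : F) := by
      rw [Fintype.prod_eq_single (Sum.inr j₀)]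
      · simp [w]
      · intro i hi
        simp [w, Function.update_of_ne hi]
    have h3 : B₁.det B₂' = (d : F) := hd.unit_spec.symm
    rw [hprod, smul_eq_mul, h3, ← Units.val_mul, inv_mul_cancel, Units.val_one]
  refine ⟨⟨LinearMap.toMatrix' (L : (Fin n → F) →ₗ[F] (Fin n → F)), ?_⟩, ?_⟩
  · rw [LinearMap.det_toMatrix']
    exact hdet
  · intro i
    change (LinearMap.toMatrix' (L : (Fin n → F) →ₗ[F] (Fin n → F))).mulVec (v₁ i) = v₂ i
    rw [LinearMap.toMatrix'_mulVec, ← sumExtend_inl h₁ i]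
    change L (B₁ (Sum.inl i)) = _
    rw [Basis.equiv_apply, Equiv.refl_apply, Basis.unitsSMul_apply, hB₂']
    simp [w]

/-- `SL_n(F)`, `n ≥ 3`, is transitive on linearly independent pairs. -/
theorem exists_SL_mulVec_pair {F : Type*} [Field F] {n : ℕ} (hn : 3 ≤ n)
    (v w v' w' : Fin n → F) (h : LinearIndependent F ![v, w])
    (h' : LinearIndependent F ![v', w']) :
    ∃ g : Matrix.SpecialLinearGroup (Fin n) F,
      (g : Matrix (Fin n) (Fin n) F).mulVec v = v' ∧
        (g : Matrix (Fin n) (Fin n) F).mulVec w = w' := by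
  obtain ⟨g, hg⟩ := exists_SL_mulVec_family hn ![v, w] ![v', w'] h h'
  exact ⟨g, by simpa using hg 0, by simpa using hg 1⟩

/-- `SL_n(F)`, `n ≥ 3`, is transitive on non-zero vectors. -/
theorem exists_SL_mulVec_eq {F : Type*} [Field F] {n : ℕ} (hn : 3 ≤ n)
    (v v' : Fin n → F) (hv : v ≠ 0) (hv' : v' ≠ 0) :
    ∃ g : Matrix.SpecialLinearGroup (Fin n) F,
      (g : Matrix (Fin n) (Fin n) F).mulVec v = v' := by
  have hfr : 1 < Module.finrank F (Fin n → F) := by
    rw [Module.finrank_fin_fun]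
    omega
  obtain ⟨w, hw⟩ := exists_linearIndependent_pair_of_one_lt_finrank hfr hv
  obtain ⟨w', hw'⟩ := exists_linearIndependent_pair_of_one_lt_finrank hfr hv'
  obtain ⟨g, hg, -⟩ := exists_SL_mulVec_pair hn v w v' w' hw hw'
  exact ⟨g, hg⟩

end Cfsg.Agent.Lib.helper44
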