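-- helper44: the Fine–Herstein count of nilpotent matrices over a finite field.
import Mathlib
import Cfsg.Agent.Lib.helper44.Unipotent
import Cfsg.Agent.Lib.helper44.SLPairs

set_option autoImplicit false

namespace Cfsg.Agent.Lib.helper44

open Module

section Blocks

variable {R : Type*} [CommRing R] {m n : Type*} [Fintype m] [Fintype n] [DecidableEq m]
  [DecidableEq n]

/-- Powers of a block upper triangular matrix are block upper triangular. -/
theorem fromBlocks_zero₂₁_pow (A : Matrix m m R) (B : Matrix m n R) (D : Matrix n n R) (j : ℕ) :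
    ∃ B' : Matrix m n R, (Matrix.fromBlocks A B 0 D) ^ j = Matrix.fromBlocks (A ^ j) B' 0 (D ^ j) := by
  induction j with
  | zero => exact ⟨0, by rw [pow_zero, pow_zero, pow_zero, Matrix.fromBlocks_one]⟩
  | succ j ih =>
    obtain ⟨B', hB'⟩ := ih
    refine ⟨A ^ j * B + B' * D, ?_⟩
    rw [pow_succ, hB', Matrix.fromBlocks_multiply]
    simp [pow_succ]

/-- A block upper triangular matrix is nilpotent iff its diagonal blocks are. -/
theorem isNilpotent_fromBlocks_iff (A : Matrix m m R) (B : Matrix m n R) (D : Matrix n n R) :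
    IsNilpotent (Matrix.fromBlocks A B 0 D) ↔ IsNilpotent A ∧ IsNilpotent D := by
  constructor
  · rintro ⟨j, hj⟩
    obtain ⟨B', hB'⟩ := fromBlocks_zero₂₁_pow A B D j
    rw [hB'] at hj
    have h1 := congrArg Matrix.toBlocks₁₁ hj
    have h2 := congrArg Matrix.toBlocks₂₂ hj
    rw [Matrix.toBlocks_fromBlocks₁₁] at h1
    rw [Matrix.toBlocks_fromBlocks₂₂] at h2
    exact ⟨⟨j, h1⟩, ⟨j, h2⟩⟩
  · rintro ⟨⟨a, ha⟩, ⟨b, hb⟩⟩
    obtain ⟨B₁, hB₁⟩ := fromBlocks_zero₂₁_pow A B D a
    obtain ⟨B₂, hB₂⟩ := fromBlocks_zero₂₁_pow A B D b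
    refine ⟨a + b, ?_⟩
    rw [pow_add, hB₁, hB₂, ha, hb, Matrix.fromBlocks_multiply]
    simp

end Blocks

section Count

variable {F : Type*} [Field F] [Fintype F]

/-- Counting block upper triangular nilpotent matrices with a prescribed nilpotent upper left
block. -/
theorem card_nilpotent_blocks {k l : ℕ} (S₀ : Matrix (Fin k) (Fin k) F) (hS : IsNilpotent S₀) :
    Nat.card {M : Matrix (Fin k ⊕ Fin l) (Fin k ⊕ Fin l) F //
        IsNilpotent M ∧ M.toBlocks₁₁ = S₀ ∧ M.toBlocks₂₁ = 0} =
      Fintype.card F ^ (k * l) * Nat.card {D : Matrix (Fin l) (Fin l) F // IsNilpotent D} := by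
  classical
  have e : {M : Matrix (Fin k ⊕ Fin l) (Fin k ⊕ Fin l) F //
        IsNilpotent M ∧ M.toBlocks₁₁ = S₀ ∧ M.toBlocks₂₁ = 0} ≃
      Matrix (Fin k) (Fin l) F × {D : Matrix (Fin l) (Fin l) F // IsNilpotent D} :=
    { toFun := fun M => (M.1.toBlocks₁₂, ⟨M.1.toBlocks₂₂, by
        have h := M.2.1
        rw [← Matrix.fromBlocks_toBlocks M.1, M.2.2.1, M.2.2.2, isNilpotent_fromBlocks_iff] at h
        exact h.2⟩)
      invFun := fun BD => ⟨Matrix.fromBlocks S₀ BD.1 0 BD.2.1,
        (isNilpotent_fromBlocks_iff _ _ _).mpr ⟨hS, BD.2.2⟩,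
        Matrix.toBlocks_fromBlocks₁₁ _ _ _ _, Matrix.toBlocks_fromBlocks₂₁ _ _ _ _⟩
      left_inv := fun M => by
        apply Subtype.ext
        change Matrix.fromBlocks S₀ M.1.toBlocks₁₂ 0 M.1.toBlocks₂₂ = M.1
        conv_rhs => rw [← Matrix.fromBlocks_toBlocks M.1, M.2.2.1, M.2.2.2]
      right_inv := fun BD => by
        apply Prod.ext
        · exact Matrix.toBlocks_fromBlocks₁₂ _ _ _ _
        · exact Subtype.ext (Matrix.toBlocks_fromBlocks₂₂ _ _ _ _) }
  rw [Nat.card_congr e, Nat.card_prod, Nat.card_eq_fintype_card]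
  congr 1
  change Fintype.card (Fin k → Fin l → F) = _
  rw [Fintype.card_fun, Fintype.card_fun, Fintype.card_fin, Fintype.card_fin, ← pow_mul, mul_comm]

omit [Fintype F] in
/-- The vectors `v, M v, M² v, …` up to the first vanishing one are linearly independent. -/
theorem linearIndependent_pow_mulVec {n : ℕ} (M : Matrix (Fin n) (Fin n) F) (v : Fin n → F)
    (k : ℕ) (hk : (M ^ k).mulVec v = 0) (hmin : ∀ j < k, (M ^ j).mulVec v ≠ 0) :
    LinearIndependent F (fun i : Fin k => (M ^ i.val).mulVec v) := by
  rw [Fintype.linearIndependent_iff]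
  intro g hg
  have key : ∀ a : ℕ, ∀ i : Fin k, i.val = a → g i = 0 := by
    intro a
    induction a using Nat.strong_induction_on with
    | _ a ih =>
      intro i hi
      have h1 := congrArg (fun u => (M ^ (k - 1 - a)).mulVec u) hg
      simp only [Matrix.mulVec_sum, Matrix.mulVec_smul, Matrix.mulVec_mulVec, ← pow_add,
        Matrix.mulVec_zero] at h1
      rw [Finset.sum_eq_single i] at h1
      · have h2 : k - 1 - a + i.val = k - 1 := by omega
        rw [h2] at h1
        rcases smul_eq_zero.mp h1 with h3 | h3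
        · exact h3
        · exact absurd h3 (hmin (k - 1) (by omega))
      · intro i' _ hne
        rcases lt_or_gt_of_ne (fun h => hne (Fin.ext h)) with hlt | hgt
        · rw [ih i'.val (by omega) i' rfl, zero_smul]
        · have h4 : (M ^ (k - 1 - a + i'.val)).mulVec v = 0 := by
            have e : k - 1 - a + i'.val = (k - 1 - a + i'.val - k) + k := by omega
            rw [e, pow_add, ← Matrix.mulVec_mulVec, hk, Matrix.mulVec_zero]
          rw [h4, smul_zero]
      · intro h
        exact absurd (Finset.mem_univ i) h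
  exact fun i => key i.val i rfl

/-- The cyclic condition: `M` is nilpotent and shifts the sequence `w` (killing its last
member). -/
def CycCond {n : ℕ} (k : ℕ) (w : Fin k → (Fin n → F)) (M : Matrix (Fin n) (Fin n) F) : Prop :=
  IsNilpotent M ∧
    ∀ i : Fin k, M.mulVec (w i) = if h : i.val + 1 < k then w ⟨i.val + 1, h⟩ else 0

/-- The number of nilpotent matrices shifting a given linearly independent sequence. -/
theorem card_cycCond {n k : ℕ} (w : Fin k → (Fin n → F)) (hw : LinearIndependent F w) :
    Nat.card {M : Matrix (Fin n) (Fin n) F // CycCond k w M} =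
      Fintype.card F ^ (k * (n - k)) *
        Nat.card {D : Matrix (Fin (n - k)) (Fin (n - k)) F // IsNilpotent D} := by
  classical
  -- an adapted basis
  let B₁ := Basis.sumExtend hw
  have hfin₁ : Finite (Fin k ⊕ Basis.sumExtendIndex hw) := Module.Finite.finite_basis B₁
  have hS₁ : Finite (Basis.sumExtendIndex hw) := Finite.sum_right (Fin k)
  let _ : Fintype (Basis.sumExtendIndex hw) := Fintype.ofFinite _
  have hc₁ : k + Fintype.card (Basis.sumExtendIndex hw) = n := by
    have h := Module.finrank_eq_card_basis B₁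
    rw [Module.finrank_fin_fun, Fintype.card_sum, Fintype.card_fin] at h
    exact h.symm
  let e : Basis.sumExtendIndex hw ≃ Fin (n - k) := Fintype.equivFinOfCardEq (by omega)
  let b : Basis (Fin k ⊕ Fin (n - k)) F (Fin n → F) :=
    B₁.reindex (Equiv.sumCongr (Equiv.refl _) e)
  have hb : ∀ i, b (Sum.inl i) = w i := by
    intro i
    simp [b, B₁, Basis.reindex_apply, sumExtend_inl]
  let Φ : Matrix (Fin n) (Fin n) F ≃ₐ[F] Matrix (Fin k ⊕ Fin (n - k)) (Fin k ⊕ Fin (n - k)) F :=
    Matrix.toLinAlgEquiv'.trans (LinearMap.toMatrixAlgEquiv b)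
  have hΦ : ∀ (M : Matrix (Fin n) (Fin n) F) (x j : Fin k ⊕ Fin (n - k)),
      Φ M x j = b.repr (M.mulVec (b j)) x := by
    intro M x j
    simp [Φ, LinearMap.toMatrixAlgEquiv_apply]
  -- the target columns
  have htarget : ∀ (j : Fin k) (x : Fin k ⊕ Fin (n - k)),
      b.repr (if h : j.val + 1 < k then w ⟨j.val + 1, h⟩ else 0) x =
        Sum.elim (fun i' : Fin k => if i'.val = j.val + 1 then (1 : F) else 0) (fun _ => 0) x := by
    intro j x
    by_cases h : j.val + 1 < k
    · rw [dif_pos h, ← hb, Basis.repr_self, Finsupp.single_apply]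
      cases x with
      | inl i' =>
        simp only [Sum.elim_inl, Sum.inl.injEq]
        by_cases h2 : i'.val = j.val + 1
        · rw [if_pos h2, if_pos (Fin.ext h2.symm)]
        · rw [if_neg h2, if_neg (fun h3 => h2 (by rw [← h3]))]
      | inr i' => simp
    · rw [dif_neg h, map_zero, Finsupp.zero_apply]
      cases x with
      | inl i' =>
        simp only [Sum.elim_inl]
        rw [if_neg]
        have := i'.isLt
        omega
      | inr i' => rfl
  have hcond : ∀ M : Matrix (Fin n) (Fin n) F, CycCond k w M ↔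
      (IsNilpotent (Φ M) ∧ (Φ M).toBlocks₁₁ = (shiftMat F k).transpose ∧
        (Φ M).toBlocks₂₁ = 0) := by
    intro M
    have hnil : IsNilpotent (Φ M) ↔ IsNilpotent M := IsNilpotent.map_iff Φ.injective
    unfold CycCond
    rw [hnil]
    refine and_congr_right fun _ => ?_
    constructor
    · intro h
      constructor
      · ext i' j
        change Φ M (Sum.inl i') (Sum.inl j) = _
        rw [hΦ, hb, h j, htarget]
        simp [shiftMat_apply]
      · ext i' j
        change Φ M (Sum.inr i') (Sum.inl j) = _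
        rw [hΦ, hb, h j, htarget]
        simp
    · rintro ⟨h1, h2⟩ j
      apply b.repr.injective
      ext x
      rw [htarget, ← hb j, ← hΦ]
      cases x with
      | inl i' =>
        have h3 : Φ M (Sum.inl i') (Sum.inl j) = (shiftMat F k).transpose i' j :=
          congrFun (congrFun h1 i') j
        rw [h3]
        simp [shiftMat_apply]
      | inr i' =>
        have h3 : Φ M (Sum.inr i') (Sum.inl j) = 0 := congrFun (congrFun h2 i') j
        rw [h3]
        rfl
  have e2 : {M : Matrix (Fin n) (Fin n) F // CycCond k w M} ≃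
      {M' : Matrix (Fin k ⊕ Fin (n - k)) (Fin k ⊕ Fin (n - k)) F //
        IsNilpotent M' ∧ M'.toBlocks₁₁ = (shiftMat F k).transpose ∧ M'.toBlocks₂₁ = 0} :=
    Equiv.subtypeEquiv Φ.toEquiv (fun M => hcond M)
  rw [Nat.card_congr e2]
  exact card_nilpotent_blocks _
    ⟨k, by rw [← Matrix.transpose_pow, shiftMat_pow_self, Matrix.transpose_zero]⟩

omit [Fintype F] in
/-- Iterating a matrix satisfying the cyclic condition along the sequence. -/
theorem cycCond_pow {n k : ℕ} {w : Fin k → (Fin n → F)} {M : Matrix (Fin n) (Fin n) F}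
    (hc : CycCond k w M) (h0 : 0 < k) (j : ℕ) :
    (M ^ j).mulVec (w ⟨0, h0⟩) = if h : j < k then w ⟨j, h⟩ else 0 := by
  induction j with
  | zero => rw [pow_zero, Matrix.one_mulVec, dif_pos h0]
  | succ j ih =>
    rw [pow_succ', ← Matrix.mulVec_mulVec, ih]
    by_cases h : j < k
    · rw [dif_pos h, hc.2 ⟨j, h⟩]
    · rw [dif_neg h, Matrix.mulVec_zero, dif_neg (by omega)]

/-- The first vector of a sequence (zero for the empty sequence). -/
def cycStart {n : ℕ} (k : ℕ) (w : Fin k → (Fin n → F)) : Fin n → F :=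
  if h : 0 < k then w ⟨0, h⟩ else 0

omit [Fintype F] in
theorem cycStart_pow_eq_zero_iff {n k : ℕ} {w : Fin k → (Fin n → F)}
    {M : Matrix (Fin n) (Fin n) F} (hw : LinearIndependent F w) (hc : CycCond k w M) (j : ℕ) :
    (M ^ j).mulVec (cycStart k w) = 0 ↔ k ≤ j := by
  unfold cycStart
  by_cases h0 : 0 < k
  · rw [dif_pos h0, cycCond_pow hc h0]
    constructor
    · intro h
      by_contra hj
      rw [dif_pos (by omega)] at h
      exact hw.ne_zero _ h
    · intro h
      rw [dif_neg (by omega)]
  · rw [dif_neg h0, Matrix.mulVec_zero]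
    constructor
    · intro _
      omega
    · intro _
      rfl

/-- The stratification of the pairs (nilpotent matrix, vector) by cyclic sequences. -/
theorem card_nilpotent_mul (n : ℕ) :
    Nat.card {M : Matrix (Fin n) (Fin n) F // IsNilpotent M} * Fintype.card F ^ n =
      ∑ k ∈ Finset.range (n + 1),
        (∏ i ∈ Finset.range k, (Fintype.card F ^ n - Fintype.card F ^ i)) *
          (Fintype.card F ^ (k * (n - k)) *
            Nat.card {D : Matrix (Fin (n - k)) (Fin (n - k)) F // IsNilpotent D}) := by
  classical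
  let T := Σ k : Fin (n + 1), Σ w : {w : Fin k.val → (Fin n → F) // LinearIndependent F w},
    {M : Matrix (Fin n) (Fin n) F // CycCond k.val w.1 M}
  let Φ : T → {M : Matrix (Fin n) (Fin n) F // IsNilpotent M} × (Fin n → F) :=
    fun t => (⟨t.2.2.1, t.2.2.2.1⟩, cycStart t.1.val t.2.1.1)
  have hinj : Function.Injective Φ := by
    rintro ⟨k, w, M⟩ ⟨k', w', M'⟩ h
    have hM : M.1 = M'.1 := congrArg (fun x => x.1.1) h
    have hv : cycStart k.val w.1 = cycStart k'.val w'.1 := congrArg Prod.snd h
    have hk : k = k' := by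
      apply Fin.ext
      have h1 := cycStart_pow_eq_zero_iff w.2 M.2
      have h2 := cycStart_pow_eq_zero_iff w'.2 M'.2
      rw [hM, hv] at h1
      have a := (h1 k'.val).mp ((h2 k'.val).mpr le_rfl)
      have b := (h2 k.val).mp ((h1 k.val).mpr le_rfl)
      omega
    subst hk
    have hw : w = w' := by
      apply Subtype.ext
      funext i
      have h0 : 0 < k.val := by
        have := i.isLt
        omega
      have h1 := cycCond_pow M.2 h0 i.val
      have h2 := cycCond_pow M'.2 h0 i.val
      rw [dif_pos i.isLt] at h1 h2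
      have e1 : w.1 ⟨0, h0⟩ = w'.1 ⟨0, h0⟩ := by
        unfold cycStart at hv
        rw [dif_pos h0, dif_pos h0] at hv
        exact hv
      rw [← h1, ← h2, hM, e1]
    subst hw
    have hMM : M = M' := Subtype.ext hM
    subst hMM
    rfl
  have hsurj : Function.Surjective Φ := by
    rintro ⟨⟨A, hA⟩, v⟩
    have hAn : (A ^ n).mulVec v = 0 := by
      have h := pow_card_eq_zero_of_isNilpotent A hA
      rw [Fintype.card_fin] at h
      rw [h, Matrix.zero_mulVec]
    have hex : ∃ j, (A ^ j).mulVec v = 0 := ⟨n, hAn⟩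
    have hk : (A ^ Nat.find hex).mulVec v = 0 := Nat.find_spec hex
    have hkn : Nat.find hex ≤ n := Nat.find_min' hex hAn
    have hmin : ∀ j < Nat.find hex, (A ^ j).mulVec v ≠ 0 := fun j hj => Nat.find_min hex hj
    have hind := linearIndependent_pow_mulVec A v (Nat.find hex) hk hmin
    refine ⟨⟨⟨Nat.find hex, by omega⟩, ⟨fun i => (A ^ i.val).mulVec v, hind⟩, ⟨A, hA, ?_⟩⟩, ?_⟩
    · intro i
      rw [Matrix.mulVec_mulVec, ← pow_succ']
      by_cases h : i.val + 1 < Nat.find hex
      · rw [dif_pos h]
      · rw [dif_neg h]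
        have h5 : i.val < Nat.find hex := i.isLt
        have h3 : i.val + 1 = Nat.find hex := by omega
        rw [h3]
        exact hk
    · apply Prod.ext
      · rfl
      · change cycStart (Nat.find hex) (fun i => (A ^ i.val).mulVec v) = v
        unfold cycStart
        by_cases h0 : 0 < Nat.find hex
        · rw [dif_pos h0]
          simp
        · rw [dif_neg h0]
          have h4 : Nat.find hex = 0 := by omega
          rw [h4, pow_zero, Matrix.one_mulVec] at hk
          exact hk.symm
  have hcard : Nat.card T =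
      Nat.card ({M : Matrix (Fin n) (Fin n) F // IsNilpotent M} × (Fin n → F)) :=
    Nat.card_congr (Equiv.ofBijective Φ ⟨hinj, hsurj⟩)
  rw [Nat.card_prod, Nat.card_eq_fintype_card (α := Fin n → F), Fintype.card_pi_const] at hcard
  rw [← hcard]
  have h1 : Nat.card T = ∑ k : Fin (n + 1),
      Nat.card (Σ w : {w : Fin k.val → (Fin n → F) // LinearIndependent F w},
        {M : Matrix (Fin n) (Fin n) F // CycCond k.val w.1 M}) := Nat.card_sigma
  have h2 : ∀ k : Fin (n + 1),
      Nat.card (Σ w : {w : Fin k.val → (Fin n → F) // LinearIndependent F w},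
        {M : Matrix (Fin n) (Fin n) F // CycCond k.val w.1 M}) =
      (∏ i ∈ Finset.range k.val, (Fintype.card F ^ n - Fintype.card F ^ i)) *
          (Fintype.card F ^ (k.val * (n - k.val)) *
            Nat.card {D : Matrix (Fin (n - k.val)) (Fin (n - k.val)) F // IsNilpotent D}) := by
    intro k
    let _ : Fintype {w : Fin k.val → (Fin n → F) // LinearIndependent F w} := Fintype.ofFinite _
    rw [Nat.card_sigma]
    have h3 : ∀ w : {w : Fin k.val → (Fin n → F) // LinearIndependent F w},
        Nat.card {M : Matrix (Fin n) (Fin n) F // CycCond k.val w.1 M} =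
          Fintype.card F ^ (k.val * (n - k.val)) *
            Nat.card {D : Matrix (Fin (n - k.val)) (Fin (n - k.val)) F // IsNilpotent D} :=
      fun w => card_cycCond w.1 w.2
    rw [Finset.sum_congr rfl (fun w _ => h3 w), Finset.sum_const, Finset.card_univ, smul_eq_mul,
      ← Nat.card_eq_fintype_card,
      card_linearIndependent (K := F) (V := Fin n → F) (k := k.val)
        (by rw [Module.finrank_fin_fun]; have := k.isLt; omega),
      Module.finrank_fin_fun,
      Fin.prod_univ_eq_prod_range (fun i => Fintype.card F ^ n - Fintype.card F ^ i) k.val]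
  rw [h1, Finset.sum_congr rfl (fun k _ => h2 k)]
  exact Fin.sum_univ_eq_sum_range (fun k => (∏ i ∈ Finset.range k,
    (Fintype.card F ^ n - Fintype.card F ^ i)) * (Fintype.card F ^ (k * (n - k)) *
      Nat.card {D : Matrix (Fin (n - k)) (Fin (n - k)) F // IsNilpotent D})) (n + 1)

end Count

/-- A telescoping identity. -/
theorem tail_sum_aux (q n : ℕ) (hq : 0 < q) (d : ℕ) : ∀ j : ℕ, j + d = n →
    ∑ k ∈ Finset.Ico j (n + 1),
        (∏ i ∈ Finset.range k, (q ^ n - q ^ i)) * q ^ ((n - k) * (n - 1)) =
      (∏ i ∈ Finset.range j, (q ^ n - q ^ i)) * q ^ (n * d) := by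
  induction d with
  | zero =>
    intro j hj
    have hjn : j = n := by omega
    subst hjn
    simp
  | succ d ih =>
    intro j hj
    have hIco : Finset.Ico j (n + 1) = insert j (Finset.Ico (j + 1) (n + 1)) := by
      ext x
      simp only [Finset.mem_Ico, Finset.mem_insert]
      omega
    rw [hIco, Finset.sum_insert (by simp), ih (j + 1) (by omega), Finset.prod_range_succ]
    have e2 : (n - j) * (n - 1) = j + n * d := by
      have h1 : n - j = d + 1 := by omega
      have h2 : n - 1 = j + d := by omega
      rw [h1, h2, ← hj]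
      ring
    have hle : q ^ j ≤ q ^ n := Nat.pow_le_pow_right hq (by omega)
    rw [e2, pow_add]
    have e3 : n * (d + 1) = n + n * d := by ring
    rw [e3, pow_add]
    have e4 : q ^ j + (q ^ n - q ^ j) = q ^ n := Nat.add_sub_cancel' hle
    calc (∏ i ∈ Finset.range j, (q ^ n - q ^ i)) * (q ^ j * q ^ (n * d)) +
          (∏ i ∈ Finset.range j, (q ^ n - q ^ i)) * (q ^ n - q ^ j) * q ^ (n * d)
        = (∏ i ∈ Finset.range j, (q ^ n - q ^ i)) * ((q ^ j + (q ^ n - q ^ j)) * q ^ (n * d)) := by
          ring
      _ = _ := by rw [e4]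

/-- **Fine–Herstein**: the number of nilpotent `n × n` matrices over a field with `q` elements is
`q ^ (n (n - 1))`. -/
theorem card_nilpotent_matrix {F : Type*} [Field F] [Fintype F] (n : ℕ) :
    Nat.card {M : Matrix (Fin n) (Fin n) F // IsNilpotent M} =
      Fintype.card F ^ (n * (n - 1)) := by
  induction n using Nat.strong_induction_on with
  | _ n ih =>
    rcases Nat.eq_zero_or_pos n with rfl | hn
    · have h1 : Nat.card {M : Matrix (Fin 0) (Fin 0) F // IsNilpotent M} = 1 := by
        rw [Nat.card_eq_one_iff_unique]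
        exact ⟨⟨fun a b => Subtype.ext (Subsingleton.elim _ _)⟩,
          ⟨⟨0, IsNilpotent.zero⟩⟩⟩
      rw [h1]
      simp
    · have hq : 1 < Fintype.card F := Fintype.one_lt_card
      have hmain := card_nilpotent_mul (F := F) n
      rw [Finset.range_eq_Ico, Finset.sum_eq_sum_Ico_succ_bot (by omega)] at hmain
      have h0 : (∏ i ∈ Finset.range 0, (Fintype.card F ^ n - Fintype.card F ^ i)) *
          (Fintype.card F ^ (0 * (n - 0)) *
            Nat.card {D : Matrix (Fin (n - 0)) (Fin (n - 0)) F // IsNilpotent D}) =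
          Nat.card {M : Matrix (Fin n) (Fin n) F // IsNilpotent M} := by
        rw [Finset.prod_range_zero, zero_mul, pow_zero, one_mul, one_mul]
        rfl
      have hrest : ∑ k ∈ Finset.Ico (0 + 1) (n + 1),
          (∏ i ∈ Finset.range k, (Fintype.card F ^ n - Fintype.card F ^ i)) *
          (Fintype.card F ^ (k * (n - k)) *
            Nat.card {D : Matrix (Fin (n - k)) (Fin (n - k)) F // IsNilpotent D}) =
          (Fintype.card F ^ n - 1) * Fintype.card F ^ (n * (n - 1)) := by
        have h3 := tail_sum_aux (Fintype.card F) n (by omega) (n - 1) 1 (by omega)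
        rw [Finset.prod_range_one, pow_zero] at h3
        rw [← h3]
        refine Finset.sum_congr rfl fun k hk => ?_
        rw [Finset.mem_Ico] at hk
        rw [ih (n - k) (by omega), ← pow_add]
        congr 2
        have e1 : n - k - 1 = n - 1 - k := by omega
        rw [e1]
        obtain ⟨m, rfl⟩ : ∃ m, n = k + m := ⟨n - k, by omega⟩
        obtain ⟨k', rfl⟩ : ∃ k', k = k' + 1 := ⟨k - 1, by omega⟩
        have e2 : k' + 1 + m - (k' + 1) = m := by omega
        have e3 : k' + 1 + m - 1 - (k' + 1) = m - 1 := by omega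
        have e4 : k' + 1 + m - 1 = k' + m := by omega
        rw [e2, e3, e4]
        rcases Nat.eq_zero_or_pos m with rfl | hm
        · simp
        · obtain ⟨m', rfl⟩ : ∃ m', m = m' + 1 := ⟨m - 1, by omega⟩
          simp only [Nat.add_sub_cancel]
          ring
      rw [h0, hrest] at hmain
      set N := Nat.card {M : Matrix (Fin n) (Fin n) F // IsNilpotent M} with hN
      set X := Fintype.card F ^ (n * (n - 1)) with hX
      have hQ : 0 < Fintype.card F ^ n - 1 := by
        have : 2 ≤ Fintype.card F ^ n := by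
          calc 2 ≤ Fintype.card F := hq
            _ = Fintype.card F ^ 1 := (pow_one _).symm
            _ ≤ Fintype.card F ^ n := Nat.pow_le_pow_right (by omega) hn
        omega
      obtain ⟨Q, hQ'⟩ : ∃ Q, Fintype.card F ^ n = Q + 1 := ⟨Fintype.card F ^ n - 1, by omega⟩
      rw [hQ'] at hmain hQ
      rw [Nat.add_sub_cancel] at hmain hQ
      have h5 : Q * N = Q * X := by
        have h6 : N * (Q + 1) = N * Q + N := by ring
        rw [h6] at hmain
        have h7 : N * Q = Q * X := by omega
        rw [← h7]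
        ring
      exact Nat.eq_of_mul_eq_mul_left hQ h5

end Cfsg.Agent.Lib.helper44
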