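import Mathlib
import Cfsg.Agent.Lib.helper44.PresDefs
import Cfsg.Agent.Lib.helper44.Circle
import Cfsg.Agent.Lib.helper77.PresMATa
import Cfsg.Agent.Lib.helper77.PresMATb
import Cfsg.Agent.Lib.helper28.PresPG
import Cfsg.Agent.Lib.helper92.PresPW
import Cfsg.Agent.Lib.helper27.PresMATc
import Cfsg.Agent.Lib.helper43.PresX1Core
import Cfsg.Agent.Lib.helper97.PresASOCore
import Cfsg.Agent.Lib.helper92.PresBR

/-! # S2286, piece GSL: the generic presentation of `SL₂(q)`, `q` odd -/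

set_option autoImplicit false

namespace Cfsg.Agent.Lib.helper44.Pres

open Polynomial

/-- In a presented group, evaluating a word at the generators is the quotient map. -/
theorem h44_lift_of_eq_mk (rels : Set (FreeGroup (Fin 3))) :
    FreeGroup.lift ![(PresentedGroup.of (0 : Fin 3) : PresentedGroup rels),
      PresentedGroup.of (1 : Fin 3), PresentedGroup.of (2 : Fin 3)] = PresentedGroup.mk rels := by
  ext i
  fin_cases i <;> simp [PresentedGroup.of]

/-- Relations hold at the generators of the presented group. -/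
theorem h44_lift_rel (rels : Set (FreeGroup (Fin 3))) (r : FreeGroup (Fin 3)) (hr : r ∈ rels) :
    FreeGroup.lift ![(PresentedGroup.of (0 : Fin 3) : PresentedGroup rels),
      PresentedGroup.of (1 : Fin 3), PresentedGroup.of (2 : Fin 3)] r = 1 := by
  rw [h44_lift_of_eq_mk]
  exact PresentedGroup.one_of_mem hr

theorem h44_lift_gu {S : Type*} [Group S] (a b c : S) : FreeGroup.lift ![a, b, c] gu = a := by
  simp [gu]

theorem h44_lift_gt {S : Type*} [Group S] (a b c : S) : FreeGroup.lift ![a, b, c] gt = b := by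
  simp [gt]

theorem h44_lift_gh {S : Type*} [Group S] (a b c : S) : FreeGroup.lift ![a, b, c] gh = c := by
  simp [gh]

/-- Every element of `F` is a polynomial in `μ` when `F_p[μ] = F`. -/
theorem h44_exists_aeval {F : Type*} [Field F] {p : ℕ} [Algebra (ZMod p) F] (μ : F)
    (hμ : Algebra.adjoin (ZMod p) {μ} = ⊤) (a : F) : ∃ f : (ZMod p)[X], aeval μ f = a := by
  have h : a ∈ Algebra.adjoin (ZMod p) {μ} := by rw [hμ]; exact Algebra.mem_top
  rw [Algebra.adjoin_singleton_eq_range_aeval] at h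
  exact h

/-- The base relations of the generic odd presentation of `SL₂`. -/
def slBase {p : ℕ} (i M : ℕ) (m L Z Z' : (ZMod p)[X]) : List (FreeGroup (Fin 3)) :=
  [polyWord (gh ^ i) gu m,
   gh * gu * gh⁻¹ * (polyWord (gh ^ i) gu L)⁻¹,
   gt * gh * gt⁻¹ * gh,
   gu * gt * gu * gt⁻¹ * gu * gt⁻¹,
   polyWord (gh ^ i) gu Z * gt * polyWord (gh ^ i) gu Z' * gt⁻¹ * polyWord (gh ^ i) gu Z *
     (gh * gt)⁻¹,
   gt * gt * (gh ^ M)⁻¹]

/-- What the base relations say about a triple `a, b, c` of group elements. -/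
theorem h44_slBase_iff {S : Type*} [Group S] {p : ℕ} (i M : ℕ) (m L Z Z' : (ZMod p)[X])
    (a b c : S) :
    (∀ r ∈ slBase i M m L Z Z', FreeGroup.lift ![a, b, c] r = 1) ↔
      (polyWord (c ^ i) a m = 1 ∧ c * a * c⁻¹ = polyWord (c ^ i) a L ∧ b * c * b⁻¹ = c⁻¹ ∧
        a * b * a * b⁻¹ * a = b ∧
        polyWord (c ^ i) a Z * b * polyWord (c ^ i) a Z' * b⁻¹ * polyWord (c ^ i) a Z = c * b ∧
        b * b = c ^ M) := by
  simp only [slBase, List.mem_cons, List.mem_nil_iff, or_false, forall_eq_or_imp, forall_eq,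
    map_mul, map_inv, map_pow, polyWord_map, h44_lift_gu, h44_lift_gt, h44_lift_gh]
  constructor
  · rintro ⟨h1, h2, h3, h4, h5, h6⟩
    refine ⟨h1, ?_, ?_, ?_, ?_, ?_⟩
    · exact mul_inv_eq_one.mp h2
    · exact mul_eq_one_iff_eq_inv.mp h3
    · exact mul_inv_eq_one.mp h4
    · exact mul_inv_eq_one.mp h5
    · exact mul_inv_eq_one.mp h6
  · rintro ⟨h1, h2, h3, h4, h5, h6⟩
    refine ⟨h1, ?_, ?_, ?_, ?_, ?_⟩
    · exact mul_inv_eq_one.mpr h2
    · exact mul_eq_one_iff_eq_inv.mpr h3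
    · exact mul_inv_eq_one.mpr h4
    · exact mul_inv_eq_one.mpr h5
    · exact mul_inv_eq_one.mpr h6

/-- `t h t⁻¹ = h⁻¹` and `t² = h^M` force `h^(2M) = 1`. -/
theorem h44_pow_two_mul {S : Type*} [Group S] (t h : S) (M : ℕ) (hD : t * h * t⁻¹ = h⁻¹)
    (ht2 : t * t = h ^ M) : h ^ (2 * M) = 1 := by
  have h1 : t * h ^ M * t⁻¹ = (h ^ M)⁻¹ := by
    have : t * h ^ M * t⁻¹ = (t * h * t⁻¹) ^ M := by
      rw [conj_pow]
    rw [this, hD, inv_pow]
  have h2 : t * h ^ M * t⁻¹ = h ^ M := by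
    rw [← ht2]; group
  rw [h2] at h1
  rw [two_mul, pow_add]
  nth_rewrite 1 [h1]
  exact inv_mul_cancel _

/-- The abstract side in odd characteristic (assembled from the landed cores). -/
theorem h44_conf_odd {G : Type*} [Group G] {F : Type*} [Field F] [Fintype F] {p : ℕ}
    [Fact p.Prime] [Algebra (ZMod p) F] (u t h : G) (ζ : Fˣ)
    (hζ : ∀ y : Fˣ, y ∈ Subgroup.zpowers ζ) (i : ℕ)
    (hμ : Algebra.adjoin (ZMod p) {((ζ : F) ^ 2) ^ i} = ⊤) (hp : u ^ p = 1)
    (hcomm : ∀ n : ℕ, Commute u ((h ^ i) ^ n * u * ((h ^ i) ^ n)⁻¹))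
    (hG : polyWord (h ^ i) u (minpoly (ZMod p) (((ζ : F) ^ 2) ^ i)) = 1)
    (L Z Z' : (ZMod p)[X]) (hL : aeval (((ζ : F) ^ 2) ^ i) L = (ζ : F) ^ 2)
    (hZ : aeval (((ζ : F) ^ 2) ^ i) Z = (ζ : F))
    (hZ' : aeval (((ζ : F) ^ 2) ^ i) Z' = ((ζ⁻¹ : Fˣ) : F))
    (hLrel : h * u * h⁻¹ = polyWord (h ^ i) u L) (hD : t * h * t⁻¹ = h⁻¹)
    (h6 : u * t * u * t⁻¹ * u = t)
    (h7 : polyWord (h ^ i) u Z * t * polyWord (h ^ i) u Z' * t⁻¹ * polyWord (h ^ i) u Z = h * t)
    (n s : ℕ) (ht2 : t * t = h ^ s) (hn : h ^ n = 1) (hn0 : 0 < n) :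
    ∃ x : F → G, IsBConf x u t h ((ζ : F) ^ 2) n s := by
  have hX1 := Cfsg.Agent.Lib.helper43.Pres.exists_param_core u (h ^ i) (((ζ : F) ^ 2) ^ i)
    (fun f => polyWord (h ^ i) u f) (polyWord_one _ _) (fun f => polyWord_X_mul _ _ f)
    (fun f f' => polyWord_add _ _ hp hcomm f f') hμ hG
  exact helper97_conf_odd_core u t h ζ hζ i hμ hX1 L Z Z' hL hZ hZ' hLrel hD h6 h7 n s ht2 hn hn0
    (fun x hxa hhx a k ha => bp_scale x t h _ n hxa hhx hD hn hn0 a k ha)
    (fun x hxa hhx a a' k hr => bp_of_rel x t h _ n s hxa hhx hD ht2 hn hn0 a a' k hr)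

-- GSL
theorem sl_odd_generic {F : Type*} [Field F] [Fintype F] {p : ℕ} [Fact p.Prime]
    [Algebra (ZMod p) F] (hp2 : p ≠ 2) (ζ : Fˣ) (hζ : ∀ y : Fˣ, y ∈ Subgroup.zpowers ζ) (i : ℕ)
    (hμ : Algebra.adjoin (ZMod p) {((ζ : F) ^ 2) ^ i} = ⊤)
    (extra : List (FreeGroup (Fin 3))) (hlen : extra.length ≤ 3)
    (hSL : ∀ r ∈ extra, FreeGroup.lift ![mU F 1, mT F, mH ζ] r = 1)
    (hcomm : ∀ (G : Type) [Group G] (u t h : G),
      polyWord (h ^ i) u (minpoly (ZMod p) (((ζ : F) ^ 2) ^ i)) = 1 →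
      (∀ r ∈ extra, FreeGroup.lift ![u, t, h] r = 1) →
      u ^ p = 1 ∧ ∀ n : ℕ, Commute u ((h ^ i) ^ n * u * ((h ^ i) ^ n)⁻¹)) :
    ∃ rels : Finset (FreeGroup (Fin 3)), rels.card ≤ 9 ∧
      Nonempty (PresentedGroup (↑rels : Set (FreeGroup (Fin 3))) ≃*
        Matrix.SpecialLinearGroup (Fin 2) F) := by
  classical
  obtain ⟨L, hL⟩ := h44_exists_aeval _ hμ ((ζ : F) ^ 2)
  obtain ⟨Z, hZ⟩ := h44_exists_aeval _ hμ (ζ : F)
  obtain ⟨Z', hZ'⟩ := h44_exists_aeval _ hμ ((ζ⁻¹ : Fˣ) : F)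
  -- arithmetic of `q`
  have hcharp : CharP F p := charP_of_injective_algebraMap (algebraMap (ZMod p) F).injective p
  obtain ⟨e, hpp, hq⟩ := FiniteField.card F p
  have hodd : Odd (Fintype.card F) := by
    rw [hq]
    exact Odd.pow (hpp.odd_of_ne_two hp2)
  set M := (Fintype.card F - 1) / 2 with hM
  have hq3 : 3 ≤ Fintype.card F := by
    have h2 : 2 ≤ Fintype.card F := Fintype.one_lt_card
    rcases hodd with ⟨k, hk⟩
    omega
  have h2M : 2 * M = Fintype.card F - 1 := by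
    rcases hodd with ⟨k, hk⟩
    omega
  set m := minpoly (ZMod p) (((ζ : F) ^ 2) ^ i) with hm
  refine ⟨(slBase i M m L Z Z' ++ extra).toFinset, ?_, ?_⟩
  · calc (slBase i M m L Z Z' ++ extra).toFinset.card
        ≤ (slBase i M m L Z Z' ++ extra).length := List.toFinset_card_le _
      _ ≤ 9 := by
        rw [List.length_append]
        have : (slBase i M m L Z Z').length = 6 := rfl
        omega
  · set rels : Set (FreeGroup (Fin 3)) := ↑(slBase i M m L Z Z' ++ extra).toFinset with hrels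
    have hmem : ∀ r, r ∈ slBase i M m L Z Z' ++ extra → r ∈ rels := by
      intro r hr
      rw [hrels]
      exact Finset.mem_coe.mpr (List.mem_toFinset.mpr hr)
    have hmem' : ∀ r, r ∈ rels → r ∈ slBase i M m L Z Z' ++ extra := by
      intro r hr
      rw [hrels] at hr
      exact List.mem_toFinset.mp (Finset.mem_coe.mp hr)
    -- the target side
    have hf : ∀ r ∈ rels, FreeGroup.lift ![mU F 1, mT F, mH ζ] r = 1 := by
      intro r hr
      rcases List.mem_append.mp (hmem' r hr) with hb | he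
      · refine (h44_slBase_iff i M m L Z Z' (mU F 1) (mT F) (mH ζ)).mpr ?_ r hb
        refine ⟨?_, ?_, ?_, ?_, ?_, ?_⟩
        · rw [polyWord_mU, hm, minpoly.aeval]
          have := mU_pow (F := F) 1 0
          simpa using this.symm
        · rw [polyWord_mU, hL]
          have := mH_pow_conj ζ 1 (1 : F)
          simpa using this
        · exact mT_mH ζ
        · exact mat_rel6
        · rw [polyWord_mU, polyWord_mU, hZ, hZ']
          exact mat_rel7 ζ
        · exact mT_sq_eq hodd ζ hζ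
      · exact hSL r he
    have hgen : Subgroup.closure (Set.range ![mU F 1, mT F, mH ζ]) = ⊤ := mat_closure ζ i hμ
    -- the abstract side
    have hrel : ∀ r ∈ slBase i M m L Z Z' ++ extra,
        FreeGroup.lift ![(PresentedGroup.of (0 : Fin 3) : PresentedGroup rels),
          PresentedGroup.of (1 : Fin 3), PresentedGroup.of (2 : Fin 3)] r = 1 :=
      fun r hr => h44_lift_rel rels r (hmem r hr)
    obtain ⟨h1, h2, h3, h4, h5, h6⟩ :=
      (h44_slBase_iff i M m L Z Z' (PresentedGroup.of (0 : Fin 3) : PresentedGroup rels)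
        (PresentedGroup.of (1 : Fin 3)) (PresentedGroup.of (2 : Fin 3))).mp
        (fun r hr => hrel r (List.mem_append_left _ hr))
    obtain ⟨hup, hc⟩ := hcomm (PresentedGroup rels) (PresentedGroup.of (0 : Fin 3))
      (PresentedGroup.of (1 : Fin 3)) (PresentedGroup.of (2 : Fin 3)) h1
      (fun r hr => hrel r (List.mem_append_right _ hr))
    have hn := h44_pow_two_mul _ _ M h3 h6
    obtain ⟨x, hx⟩ := h44_conf_odd (PresentedGroup.of (0 : Fin 3) : PresentedGroup rels)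
      (PresentedGroup.of (1 : Fin 3)) (PresentedGroup.of (2 : Fin 3)) ζ hζ i hμ hup hc h1 L Z Z'
      hL hZ hZ' h2 h3 h4 h5 (2 * M) M h6 hn (by omega)
    refine pres_of_conf rels ![mU F 1, mT F, mH ζ] hf hgen x ((ζ : F) ^ 2) (2 * M) M hx ?_
    rw [Cfsg.Agent.Lib.helper44.card_SL2, h2M]
    exact le_of_eq (by ring)

end Cfsg.Agent.Lib.helper44.Pres
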