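import Mathlib
import Cfsg.Agent.Lib.helper44.PresDefs
import Cfsg.Agent.Lib.helper44.PresGSL

/-! # S2286: the generic presentation of `PSL₂(q)`, `q` odd (helper44's copy) -/

set_option autoImplicit false

namespace Cfsg.Agent.Lib.helper44.Pres

open Polynomial

/-- The base relations (with `M = 0`) land in a subgroup `N` as soon as the five equations hold
and `b * b ∈ N`. -/
theorem h44_slBase_mem {S : Type*} [Group S] {p : ℕ} (i : ℕ) (m L Z Z' : (ZMod p)[X])
    (a b c : S) (N : Subgroup S) (h1 : polyWord (c ^ i) a m = 1)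
    (h2 : c * a * c⁻¹ = polyWord (c ^ i) a L) (h3 : b * c * b⁻¹ = c⁻¹)
    (h4 : a * b * a * b⁻¹ * a = b)
    (h5 : polyWord (c ^ i) a Z * b * polyWord (c ^ i) a Z' * b⁻¹ * polyWord (c ^ i) a Z = c * b)
    (h6 : b * b ∈ N) :
    ∀ r ∈ slBase i 0 m L Z Z', FreeGroup.lift ![a, b, c] r ∈ N := by
  intro r hr
  simp only [slBase, List.mem_cons, List.mem_nil_iff, or_false] at hr
  rcases hr with rfl | rfl | rfl | rfl | rfl | rfl
  · simp only [polyWord_map, map_pow, h44_lift_gu, h44_lift_gh]
    rw [h1]; exact N.one_mem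
  · simp only [polyWord_map, map_mul, map_inv, map_pow, h44_lift_gu, h44_lift_gh]
    rw [h2, mul_inv_cancel]; exact N.one_mem
  · simp only [map_mul, map_inv, h44_lift_gt, h44_lift_gh]
    rw [h3, inv_mul_cancel]; exact N.one_mem
  · simp only [map_mul, map_inv, h44_lift_gu, h44_lift_gt]
    rw [h4, mul_inv_cancel]; exact N.one_mem
  · simp only [polyWord_map, map_mul, map_inv, map_pow, h44_lift_gu, h44_lift_gt, h44_lift_gh]
    rw [h5, mul_inv_cancel]; exact N.one_mem
  · simp only [map_mul, h44_lift_gt, pow_zero, inv_one, mul_one]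
    exact h6

/-- The generic presentation of `PSL₂(q)` for odd `q` (same statement as the skeleton's
`psl_odd_generic`). -/
theorem h44_psl_odd_generic {F : Type*} [Field F] [Fintype F] {p : ℕ} [Fact p.Prime]
    [Algebra (ZMod p) F] (hp2 : p ≠ 2) (ζ : Fˣ) (hζ : ∀ y : Fˣ, y ∈ Subgroup.zpowers ζ) (i : ℕ)
    (hμ : Algebra.adjoin (ZMod p) {((ζ : F) ^ 2) ^ i} = ⊤)
    (extra : List (FreeGroup (Fin 3))) (hlen : extra.length ≤ 3)
    (hPSL : ∀ r ∈ extra, FreeGroup.lift ![mU F 1, mT F, mH ζ] r ∈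
      Subgroup.center (Matrix.SpecialLinearGroup (Fin 2) F))
    (hcomm : ∀ (G : Type) [Group G] (u t h : G),
      polyWord (h ^ i) u (minpoly (ZMod p) (((ζ : F) ^ 2) ^ i)) = 1 →
      (∀ r ∈ extra, FreeGroup.lift ![u, t, h] r = 1) →
      u ^ p = 1 ∧ h ^ ((Fintype.card F - 1) / 2) = 1 ∧
        ∀ n : ℕ, Commute u ((h ^ i) ^ n * u * ((h ^ i) ^ n)⁻¹)) :
    ∃ rels : Finset (FreeGroup (Fin 3)), rels.card ≤ 9 ∧
      Nonempty (PresentedGroup (↑rels : Set (FreeGroup (Fin 3))) ≃*
        Matrix.ProjectiveSpecialLinearGroup (Fin 2) F) := by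
  classical
  obtain ⟨L, hL⟩ := h44_exists_aeval _ hμ ((ζ : F) ^ 2)
  obtain ⟨Z, hZ⟩ := h44_exists_aeval _ hμ (ζ : F)
  obtain ⟨Z', hZ'⟩ := h44_exists_aeval _ hμ ((ζ⁻¹ : Fˣ) : F)
  have hcharp : CharP F p := charP_of_injective_algebraMap (algebraMap (ZMod p) F).injective p
  obtain ⟨e, hpp, hq⟩ := FiniteField.card F p
  have hodd : Odd (Fintype.card F) := by
    rw [hq]
    exact Odd.pow (hpp.odd_of_ne_two hp2)
  set M := (Fintype.card F - 1) / 2 with hM
  have hq3 : 3 ≤ Fintype.card F := by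
    have h2 : 2 ≤ Fintype.card F := Fintype.one_lt_card
    rcases hodd with ⟨k, hk⟩
    omega
  have hM0 : 0 < M := by omega
  set m := minpoly (ZMod p) (((ζ : F) ^ 2) ^ i) with hm
  refine ⟨(slBase i 0 m L Z Z' ++ extra).toFinset, ?_, ?_⟩
  · calc (slBase i 0 m L Z Z' ++ extra).toFinset.card
        ≤ (slBase i 0 m L Z Z' ++ extra).length := List.toFinset_card_le _
      _ ≤ 9 := by
        rw [List.length_append]
        have : (slBase i 0 m L Z Z').length = 6 := rfl
        omega
  · set rels : Set (FreeGroup (Fin 3)) := ↑(slBase i 0 m L Z Z' ++ extra).toFinset with hrels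
    have hmem : ∀ r, r ∈ slBase i 0 m L Z Z' ++ extra → r ∈ rels := by
      intro r hr
      rw [hrels]
      exact Finset.mem_coe.mpr (List.mem_toFinset.mpr hr)
    have hmem' : ∀ r, r ∈ rels → r ∈ slBase i 0 m L Z Z' ++ extra := by
      intro r hr
      rw [hrels] at hr
      exact List.mem_toFinset.mp (Finset.mem_coe.mp hr)
    -- the target side, inside `SL₂`
    have hfS : ∀ r ∈ rels, FreeGroup.lift ![mU F 1, mT F, mH ζ] r ∈
        Subgroup.center (Matrix.SpecialLinearGroup (Fin 2) F) := by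
      intro r hr
      rcases List.mem_append.mp (hmem' r hr) with hb | he
      · refine h44_slBase_mem i m L Z Z' (mU F 1) (mT F) (mH ζ) _ ?_ ?_ ?_ ?_ ?_ ?_ r hb
        · rw [polyWord_mU, hm, minpoly.aeval]
          have := mU_pow (F := F) 1 0
          simpa using this.symm
        · rw [polyWord_mU, hL]
          have := mH_pow_conj ζ 1 (1 : F)
          simpa using this
        · exact mT_mH ζ
        · exact mat_rel6
        · rw [polyWord_mU, polyWord_mU, hZ, hZ']
          exact mat_rel7 ζ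
        · exact mT_sq_mem_center
      · exact hPSL r he
    -- the target side, inside `PSL₂`
    set π : Matrix.SpecialLinearGroup (Fin 2) F →* Matrix.ProjectiveSpecialLinearGroup (Fin 2) F :=
      QuotientGroup.mk' (Subgroup.center (Matrix.SpecialLinearGroup (Fin 2) F)) with hπ
    have hlift : FreeGroup.lift (fun k => π (![mU F 1, mT F, mH ζ] k)) =
        π.comp (FreeGroup.lift ![mU F 1, mT F, mH ζ]) := by
      ext k
      simp
    have hf : ∀ r ∈ rels, FreeGroup.lift (fun k => π (![mU F 1, mT F, mH ζ] k)) r = 1 := by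
      intro r hr
      rw [hlift, MonoidHom.comp_apply, hπ, QuotientGroup.mk'_apply, QuotientGroup.eq_one_iff]
      exact hfS r hr
    have hgen : Subgroup.closure (Set.range (fun k => π (![mU F 1, mT F, mH ζ] k))) = ⊤ := by
      have h1 : Set.range (fun k => π (![mU F 1, mT F, mH ζ] k)) =
          π '' Set.range ![mU F 1, mT F, mH ζ] := by
        rw [← Set.range_comp]; rfl
      rw [h1, ← MonoidHom.map_closure, mat_closure ζ i hμ]
      exact Subgroup.map_top_of_surjective π (QuotientGroup.mk'_surjective _)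
    -- the abstract side
    have hrel : ∀ r ∈ slBase i 0 m L Z Z' ++ extra,
        FreeGroup.lift ![(PresentedGroup.of (0 : Fin 3) : PresentedGroup rels),
          PresentedGroup.of (1 : Fin 3), PresentedGroup.of (2 : Fin 3)] r = 1 :=
      fun r hr => h44_lift_rel rels r (hmem r hr)
    obtain ⟨h1, h2, h3, h4, h5, h6⟩ :=
      (h44_slBase_iff i 0 m L Z Z' (PresentedGroup.of (0 : Fin 3) : PresentedGroup rels)
        (PresentedGroup.of (1 : Fin 3)) (PresentedGroup.of (2 : Fin 3))).mp
        (fun r hr => hrel r (List.mem_append_left _ hr))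
    obtain ⟨hup, hhM, hc⟩ := hcomm (PresentedGroup rels) (PresentedGroup.of (0 : Fin 3))
      (PresentedGroup.of (1 : Fin 3)) (PresentedGroup.of (2 : Fin 3)) h1
      (fun r hr => hrel r (List.mem_append_right _ hr))
    obtain ⟨x, hx⟩ := h44_conf_odd (PresentedGroup.of (0 : Fin 3) : PresentedGroup rels)
      (PresentedGroup.of (1 : Fin 3)) (PresentedGroup.of (2 : Fin 3)) ζ hζ i hμ hup hc h1 L Z Z'
      hL hZ hZ' h2 h3 h4 h5 M 0 h6 hhM hM0
    exact pres_of_conf rels (fun k => π (![mU F 1, mT F, mH ζ] k)) hf hgen x ((ζ : F) ^ 2) M 0 hx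
      (card_psl_ge hodd)

end Cfsg.Agent.Lib.helper44.Pres
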