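import Cfsg.Agent.Lib.helper44.ReeTorus

set_option autoImplicit false
set_option maxRecDepth 100000

/-!
# The centralizer of an involution in the small Ree groups

Built on helper23's `ChevRee*` files.  The roots `a + b` and `3a + b` of `G₂` are orthogonal and in
characteristic `3` their rank one groups commute; `g ↦ φ_{a+b}(g^θ) φ_{3a+b}(g)` is a homomorphism
`SL₂(K) → ²G₂(K)` with kernel `{±1}` whose image, together with the involution `a` of `H¹`, is the
centralizer of `a`.
-/

namespace Cfsg.Agent.Lib.helper44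

open Cfsg Cfsg.Lie Cfsg.Agent.Lib.helper41 Cfsg.Agent.Lib.helper22 Cfsg.Agent.Lib.helper23

theorem coroot_G2_vals : corootZ chevG2 8 1 = 3 ∧ corootZ chevG2 10 1 = 1 := by decide

section Phi

variable {K : Type*} [Field K]

/-- String data of the root `a + b`. -/
noncomputable def s8 : StringData chevG2 ⟨8, by decide⟩ := Classical.choice (stringData_G2 _)

/-- String data of the root `3a + b`. -/
noncomputable def s10 : StringData chevG2 ⟨10, by decide⟩ := Classical.choice (stringData_G2 _)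

/-- A subgroup of `SL₂` containing the upper and lower unipotent elements is everything. -/
theorem sl2_eq_top (H : Subgroup (Matrix.SpecialLinearGroup (Fin 2) K)) (hu : ∀ t : K, sl2u t ∈ H)
    (hl : ∀ t : K, sl2l t ∈ H) : H = ⊤ := by
  apply Cfsg.Agent.Lib.helper45.eq_top_of_transvection_mem
  intro i j hij a
  fin_cases i <;> fin_cases j
  · exact absurd rfl hij
  · have e1 : Matrix.SpecialLinearGroup.transvection hij a = sl2u a := by
      apply Subtype.ext
      ext i j
      fin_cases i <;> fin_cases j <;>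
        simp [sl2u, Matrix.SpecialLinearGroup.transvection_coe]
    rw [e1]
    exact hu a
  · have e1 : Matrix.SpecialLinearGroup.transvection hij a = sl2l a := by
      apply Subtype.ext
      ext i j
      fin_cases i <;> fin_cases j <;>
        simp [sl2l, Matrix.SpecialLinearGroup.transvection_coe]
    rw [e1]
    exact hl a
  · exact absurd rfl hij

variable {e : ℕ} (R : ReeData K e)

include R

/-- The rank one groups of the roots `a + b` and `3a + b` commute. -/
theorem ree_sl2_comm (g h : Matrix.SpecialLinearGroup (Fin 2) K) :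
    Commute (sl2Hom s8 g) (sl2Hom s10 h) := by
  have := R.char3
  have n8 : chevG2.neg 8 = 3 := by decide
  have n10 : chevG2.neg 10 = 1 := by decide
  have v8u : ∀ t : K, ((sl2Hom s8 (sl2u t) : GL chevG2.Idx K) : Matrix chevG2.Idx chevG2.Idx K) =
      chevG2.x K 8 t := fun t => sl2Hom_sl2u s8 t
  have v8l : ∀ t : K, ((sl2Hom s8 (sl2l t) : GL chevG2.Idx K) : Matrix chevG2.Idx chevG2.Idx K) =
      chevG2.x K 3 t := fun t => by
    have h1 := sl2Hom_sl2l s8 t
    rw [n8] at h1
    exact h1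
  have v10u : ∀ t : K, ((sl2Hom s10 (sl2u t) : GL chevG2.Idx K) : Matrix chevG2.Idx chevG2.Idx K) =
      chevG2.x K 10 t := fun t => sl2Hom_sl2u s10 t
  have v10l : ∀ t : K, ((sl2Hom s10 (sl2l t) : GL chevG2.Idx K) : Matrix chevG2.Idx chevG2.Idx K) =
      chevG2.x K 1 t := fun t => by
    have h1 := sl2Hom_sl2l s10 t
    rw [n10] at h1
    exact h1
  have lift : ∀ {A B : GL chevG2.Idx K},
      Commute (A : Matrix chevG2.Idx chevG2.Idx K) (B : Matrix chevG2.Idx chevG2.Idx K) → Commute A B := by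
    intro A B hAB
    exact Units.ext (by rw [Units.val_mul, Units.val_mul]; exact hAB.eq)
  have step : ∀ h' : Matrix.SpecialLinearGroup (Fin 2) K,
      (∀ t : K, Commute (sl2Hom s8 (sl2u t)) (sl2Hom s10 h')) →
      (∀ t : K, Commute (sl2Hom s8 (sl2l t)) (sl2Hom s10 h')) →
      ∀ g' : Matrix.SpecialLinearGroup (Fin 2) K, Commute (sl2Hom s8 g') (sl2Hom s10 h') := by
    intro h' hu hl g'
    have htop : (Subgroup.centralizer {sl2Hom s10 h'}).comap (sl2Hom (F := K) s8) = ⊤ := by
      apply sl2_eq_top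
      · intro t
        rw [Subgroup.mem_comap, Subgroup.mem_centralizer_iff]
        intro y hy
        rw [Set.mem_singleton_iff] at hy
        rw [hy]
        exact (hu t).eq.symm
      · intro t
        rw [Subgroup.mem_comap, Subgroup.mem_centralizer_iff]
        intro y hy
        rw [Set.mem_singleton_iff] at hy
        rw [hy]
        exact (hl t).eq.symm
    have hg' : g' ∈ (Subgroup.centralizer {sl2Hom s10 h'}).comap (sl2Hom (F := K) s8) := by
      rw [htop]
      trivial
    rw [Subgroup.mem_comap, Subgroup.mem_centralizer_iff] at hg'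
    exact (hg' _ rfl).symm
  have step2 : ∀ g₀ : Matrix.SpecialLinearGroup (Fin 2) K,
      (∀ u : K, Commute (sl2Hom s8 g₀) (sl2Hom s10 (sl2u u))) →
      (∀ u : K, Commute (sl2Hom s8 g₀) (sl2Hom s10 (sl2l u))) →
      ∀ h' : Matrix.SpecialLinearGroup (Fin 2) K, Commute (sl2Hom s8 g₀) (sl2Hom s10 h') := by
    intro g₀ hu hl h'
    have htop : (Subgroup.centralizer {sl2Hom s8 g₀}).comap (sl2Hom (F := K) s10) = ⊤ := by
      apply sl2_eq_top
      · intro t
        rw [Subgroup.mem_comap, Subgroup.mem_centralizer_iff]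
        intro y hy
        rw [Set.mem_singleton_iff] at hy
        rw [hy]
        exact (hu t).eq
      · intro t
        rw [Subgroup.mem_comap, Subgroup.mem_centralizer_iff]
        intro y hy
        rw [Set.mem_singleton_iff] at hy
        rw [hy]
        exact (hl t).eq
    have hh' : h' ∈ (Subgroup.centralizer {sl2Hom s8 g₀}).comap (sl2Hom (F := K) s10) := by
      rw [htop]
      trivial
    rw [Subgroup.mem_comap, Subgroup.mem_centralizer_iff] at hh'
    exact hh' _ rfl
  apply step h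
  · intro t
    apply step2
    · intro u
      apply lift
      rw [v8u, v10u]
      exact comm_x3 8 10 (by decide) t u
    · intro u
      apply lift
      rw [v8u, v10l]
      exact comm_x3 8 1 (by decide) t u
  · intro t
    apply step2
    · intro u
      apply lift
      rw [v8l, v10u]
      exact comm_x3 3 10 (by decide) t u
    · intro u
      apply lift
      rw [v8l, v10l]
      exact comm_x3 3 1 (by decide) t u

/-- The field endomorphism `x ↦ x ^ e`. -/
def ree_frob : K →+* K where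
  toFun x := x ^ e
  map_one' := one_pow _
  map_mul' x y := mul_pow x y _
  map_zero' := zero_pow R.e_ne_zero
  map_add' := R.hadd

theorem ree_frob_apply (x : K) : (ree_frob R) x = x ^ e := rfl

/-- The homomorphism `SL₂(K) → G₂(K)`, `g ↦ φ_{a+b}(g^θ) φ_{3a+b}(g)`. -/
noncomputable def ree_phi : Matrix.SpecialLinearGroup (Fin 2) K →* GL chevG2.Idx K :=
  MonoidHom.mk' (fun g => sl2Hom s8 (Matrix.SpecialLinearGroup.map (ree_frob R) g) * sl2Hom s10 g) (by
    intro g h
    have hc := (ree_sl2_comm R (Matrix.SpecialLinearGroup.map (ree_frob R) h) g).eq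
    rw [map_mul, map_mul, map_mul]
    calc sl2Hom s8 (Matrix.SpecialLinearGroup.map (ree_frob R) g) *
          sl2Hom s8 (Matrix.SpecialLinearGroup.map (ree_frob R) h) * (sl2Hom s10 g * sl2Hom s10 h)
        = sl2Hom s8 (Matrix.SpecialLinearGroup.map (ree_frob R) g) *
          (sl2Hom s8 (Matrix.SpecialLinearGroup.map (ree_frob R) h) * sl2Hom s10 g) * sl2Hom s10 h := by
          simp only [mul_assoc]
      _ = sl2Hom s8 (Matrix.SpecialLinearGroup.map (ree_frob R) g) *
          (sl2Hom s10 g * sl2Hom s8 (Matrix.SpecialLinearGroup.map (ree_frob R) h)) * sl2Hom s10 h := by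
          rw [hc]
      _ = _ := by simp only [mul_assoc])

theorem ree_phi_apply (g : Matrix.SpecialLinearGroup (Fin 2) K) :
    (ree_phi R) g = sl2Hom s8 (Matrix.SpecialLinearGroup.map (ree_frob R) g) * sl2Hom s10 g := rfl

omit R in
theorem sl2_map_sl2u (f : K →+* K) (t : K) :
    Matrix.SpecialLinearGroup.map f (sl2u t) = sl2u (f t) := by
  apply Subtype.ext
  rw [Matrix.SpecialLinearGroup.map_apply_coe]
  show f.mapMatrix !![1, t; 0, 1] = !![1, f t; 0, 1]
  ext i j
  fin_cases i <;> fin_cases j <;> simp [RingHom.mapMatrix_apply]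

omit R in
theorem sl2_map_sl2l (f : K →+* K) (t : K) :
    Matrix.SpecialLinearGroup.map f (sl2l t) = sl2l (f t) := by
  apply Subtype.ext
  rw [Matrix.SpecialLinearGroup.map_apply_coe]
  show f.mapMatrix !![1, 0; t, 1] = !![1, 0; f t, 1]
  ext i j
  fin_cases i <;> fin_cases j <;> simp [RingHom.mapMatrix_apply]

omit R in
theorem sl2_map_sl2h (f : K →+* K) (t : K) (ht : t ≠ 0) :
    Matrix.SpecialLinearGroup.map f (sl2h t ht) = sl2h (f t) ((map_ne_zero f).mpr ht) := by
  apply Subtype.ext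
  rw [Matrix.SpecialLinearGroup.map_apply_coe]
  show f.mapMatrix !![t, 0; 0, t⁻¹] = !![f t, 0; 0, (f t)⁻¹]
  ext i j
  fin_cases i <;> fin_cases j <;> simp [RingHom.mapMatrix_apply]

omit R in
theorem sl2_map_sl2n (f : K →+* K) (t : K) (ht : t ≠ 0) :
    Matrix.SpecialLinearGroup.map f (sl2n t ht) = sl2n (f t) ((map_ne_zero f).mpr ht) := by
  apply Subtype.ext
  rw [Matrix.SpecialLinearGroup.map_apply_coe]
  show f.mapMatrix !![0, t; -t⁻¹, 0] = !![0, f t; -(f t)⁻¹, 0]
  ext i j
  fin_cases i <;> fin_cases j <;> simp [RingHom.mapMatrix_apply]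

theorem ree_map_frob_sl2u (t : K) :
    Matrix.SpecialLinearGroup.map (ree_frob R) (sl2u t) = sl2u (t ^ e) :=
  sl2_map_sl2u (ree_frob R) t

theorem ree_map_frob_sl2l (t : K) :
    Matrix.SpecialLinearGroup.map (ree_frob R) (sl2l t) = sl2l (t ^ e) :=
  sl2_map_sl2l (ree_frob R) t

theorem ree_map_frob_sl2h (t : K) (ht : t ≠ 0) :
    Matrix.SpecialLinearGroup.map (ree_frob R) (sl2h t ht) = sl2h (t ^ e) (pow_ne_zero e ht) :=
  sl2_map_sl2h (ree_frob R) t ht

theorem ree_map_frob_sl2n (t : K) (ht : t ≠ 0) :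
    Matrix.SpecialLinearGroup.map (ree_frob R) (sl2n t ht) = sl2n (t ^ e) (pow_ne_zero e ht) :=
  sl2_map_sl2n (ree_frob R) t ht

/-- `φ` on the upper unipotent elements: the elements `U(0, t, 0)`. -/
theorem ree_phi_sl2u (t : K) :
    (((ree_phi R) (sl2u t) : GL chevG2.Idx K) : Matrix chevG2.Idx chevG2.Idx K) =
      chevG2.wordMat K (reeWordU e 0 t 0) := by
  have h1 : ((sl2Hom s8 (sl2u (t ^ e)) : GL chevG2.Idx K) : Matrix chevG2.Idx chevG2.Idx K) =
      chevG2.x K 8 (t ^ e) := sl2Hom_sl2u s8 (t ^ e)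
  have h2 : ((sl2Hom s10 (sl2u t) : GL chevG2.Idx K) : Matrix chevG2.Idx chevG2.Idx K) =
      chevG2.x K 10 t := sl2Hom_sl2u s10 t
  rw [ree_phi_apply R, Units.val_mul, ree_map_frob_sl2u R, wordMat_reeU_mid R.e_ne_zero, h1, h2]

/-- `φ` on the lower unipotent elements: the elements `V(0, -t, 0)`. -/
theorem ree_phi_sl2l (t : K) :
    (((ree_phi R) (sl2l t) : GL chevG2.Idx K) : Matrix chevG2.Idx chevG2.Idx K) =
      chevG2.wordMat K (reeWordV e 0 (-t) 0) := by
  have n8 : chevG2.neg 8 = 3 := by decide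
  have n10 : chevG2.neg 10 = 1 := by decide
  have h1 : ((sl2Hom s8 (sl2l (t ^ e)) : GL chevG2.Idx K) : Matrix chevG2.Idx chevG2.Idx K) =
      chevG2.x K (chevG2.neg 8) (t ^ e) := sl2Hom_sl2l s8 (t ^ e)
  have h2 : ((sl2Hom s10 (sl2l t) : GL chevG2.Idx K) : Matrix chevG2.Idx chevG2.Idx K) =
      chevG2.x K (chevG2.neg 10) t := sl2Hom_sl2l s10 t
  rw [n8] at h1
  rw [n10] at h2
  rw [ree_phi_apply R, Units.val_mul, ree_map_frob_sl2l R, wordMat_reeV_mid R.e_ne_zero, R.neg_pow_e, neg_neg,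
    neg_neg, h1, h2]

/-- The image of `φ` lies in the twisted group. -/
theorem ree_phi_mem (g : Matrix.SpecialLinearGroup (Fin 2) K) : (ree_phi R) g ∈ twistedG2 K e := by
  have htop : (twistedG2 K e).comap (ree_phi R) = ⊤ := by
    apply sl2_eq_top
    · intro t
      rw [Subgroup.mem_comap]
      exact reeU_mem_twisted _ _ _ _ (ree_phi_sl2u R t)
    · intro t
      rw [Subgroup.mem_comap]
      exact reeV_mem_twisted _ _ _ _ (ree_phi_sl2l R t)
  have hg : g ∈ (twistedG2 K e).comap (ree_phi R) := by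
    rw [htop]
    trivial
  exact hg

theorem ree_phi_sl2u_pos (t : K) : (ree_phi R) (sl2u t) ∈ chevG2.posUnipotent K :=
  reeU_mem_pos R 0 t 0 _ (ree_phi_sl2u R t)

theorem ree_phi_sl2l_neg (t : K) : (ree_phi R) (sl2l t) ∈ chevG2.negUnipotent K :=
  reeV_mid_mem_neg R.e_ne_zero (-t) _ (ree_phi_sl2l R t)

/-- `φ` on the diagonal elements: an element of `H¹` whose entry at the highest root is `s ^ (3 θ + 1)`. -/
theorem ree_phi_sl2h (s : K) (hs : s ≠ 0) :
    (ree_phi R) (sl2h s hs) ∈ chevG2.diagonalSubgroup K ⊓ twistedG2 K e ∧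
    (((ree_phi R) (sl2h s hs) : GL chevG2.Idx K) : Matrix chevG2.Idx chevG2.Idx K)
      (Sum.inr ⟨11, by decide⟩) (Sum.inr ⟨11, by decide⟩) = (s ^ e) ^ 3 * s := by
  have hse : s ^ e ≠ 0 := pow_ne_zero e hs
  have v8 : ((sl2Hom s8 (sl2h (s ^ e) hse) : GL chevG2.Idx K) : Matrix chevG2.Idx chevG2.Idx K) =
      chevG2.hMat K 8 (s ^ e) := sl2Hom_sl2h s8 (s ^ e) hse
  have v10 : ((sl2Hom s10 (sl2h s hs) : GL chevG2.Idx K) : Matrix chevG2.Idx chevG2.Idx K) =
      chevG2.hMat K 10 s := sl2Hom_sl2h s10 s hs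
  have d8 : sl2Hom s8 (sl2h (s ^ e) hse) ∈ chevG2.diagonalSubgroup K :=
    Subgroup.subset_closure ⟨8, s ^ e, by decide, hse, v8⟩
  have d10 : sl2Hom s10 (sl2h s hs) ∈ chevG2.diagonalSubgroup K :=
    Subgroup.subset_closure ⟨10, s, by decide, hs, v10⟩
  obtain ⟨k8, k10⟩ := coroot_G2_vals
  have e8 : ((sl2Hom s8 (sl2h (s ^ e) hse) : GL chevG2.Idx K) : Matrix chevG2.Idx chevG2.Idx K)
      (Sum.inr ⟨11, by decide⟩) (Sum.inr ⟨11, by decide⟩) = (s ^ e) ^ 3 := by
    rw [v8, hMat_torus 8 (by decide) _ hse, torusMat_entry]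
    show torusChar chevG2 K _ 11 = _
    rw [torusChar_11]
    show (s ^ e) ^ corootZ chevG2 8 1 = _
    rw [k8]
    exact zpow_ofNat _ 3
  have e10 : ((sl2Hom s10 (sl2h s hs) : GL chevG2.Idx K) : Matrix chevG2.Idx chevG2.Idx K)
      (Sum.inr ⟨11, by decide⟩) (Sum.inr ⟨11, by decide⟩) = s := by
    rw [v10, hMat_torus 10 (by decide) _ hs, torusMat_entry]
    show torusChar chevG2 K _ 11 = _
    rw [torusChar_11]
    show s ^ corootZ chevG2 10 1 = _
    rw [k10]
    exact zpow_one _
  have hphi : (ree_phi R) (sl2h s hs) = sl2Hom s8 (sl2h (s ^ e) hse) * sl2Hom s10 (sl2h s hs) := by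
    rw [ree_phi_apply R, ree_map_frob_sl2h R]
  refine ⟨Subgroup.mem_inf.mpr ⟨?_, ree_phi_mem R _⟩, ?_⟩
  · rw [hphi]
    exact mul_mem d8 d10
  · rw [hphi, diag_entry_mul d8 d10, e8, e10]

end Phi

end Cfsg.Agent.Lib.helper44
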