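import Cfsg.Agent.Lib.helper44.ReeCent

set_option autoImplicit false
set_option maxRecDepth 100000

/-!
# The centralizer of an involution in the small Ree groups, II

The kernel of `φ : SL₂(K) → ²G₂(K)` is the centre, the involution `a` of `H¹` commutes with the image and
does not lie in it, and every element of `G¹` commuting with `a` lies in `⟨a⟩ × φ(SL₂(K))`.
-/

namespace Cfsg.Agent.Lib.helper44

open Cfsg Cfsg.Lie Cfsg.Agent.Lib.helper41 Cfsg.Agent.Lib.helper22 Cfsg.Agent.Lib.helper23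

section SL2

variable {K : Type*} [Field K]

theorem sl2_det (g : Matrix.SpecialLinearGroup (Fin 2) K) :
    g.val 0 0 * g.val 1 1 - g.val 0 1 * g.val 1 0 = 1 := by
  have := g.2
  rw [Matrix.det_fin_two] at this
  exact this

/-- Decomposition of an element of `SL₂` with non-zero lower left entry. -/
theorem sl2_lower_decomp (g : Matrix.SpecialLinearGroup (Fin 2) K) (hr : g.val 1 0 ≠ 0) :
    sl2u ((g.val 0 0 - 1) / g.val 1 0) * sl2l (g.val 1 0) * sl2u ((g.val 1 1 - 1) / g.val 1 0) = g := by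
  have hdet := sl2_det g
  apply Subtype.ext
  show !![1, (g.val 0 0 - 1) / g.val 1 0; 0, 1] * !![1, 0; g.val 1 0, 1] *
    !![1, (g.val 1 1 - 1) / g.val 1 0; 0, 1] = g.val
  ext i j
  fin_cases i <;> fin_cases j
  · simp [Matrix.mul_apply, Fin.sum_univ_two]
    field_simp
    ring
  · simp [Matrix.mul_apply, Fin.sum_univ_two]
    field_simp
    linear_combination hdet
  · simp [Matrix.mul_apply, Fin.sum_univ_two]
  · simp [Matrix.mul_apply, Fin.sum_univ_two]
    field_simp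
    ring

/-- Decomposition of an upper triangular element of `SL₂`. -/
theorem sl2_upper_decomp (g : Matrix.SpecialLinearGroup (Fin 2) K) (hr : g.val 1 0 = 0) :
    ∃ (hp : g.val 0 0 ≠ 0), sl2h (g.val 0 0) hp * sl2u (g.val 0 1 / g.val 0 0) = g := by
  have hdet := sl2_det g
  rw [hr, mul_zero, sub_zero] at hdet
  have hp : g.val 0 0 ≠ 0 := by
    intro h0
    rw [h0, zero_mul] at hdet
    exact zero_ne_one hdet
  have hs : (g.val 0 0)⁻¹ = g.val 1 1 := inv_eq_of_mul_eq_one_right hdet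
  refine ⟨hp, ?_⟩
  apply Subtype.ext
  show !![g.val 0 0, 0; 0, (g.val 0 0)⁻¹] * !![1, g.val 0 1 / g.val 0 0; 0, 1] = g.val
  ext i j
  fin_cases i <;> fin_cases j
  · simp [Matrix.mul_apply, Fin.sum_univ_two]
  · simp [Matrix.mul_apply, Fin.sum_univ_two]
    field_simp
  · simp [Matrix.mul_apply, Fin.sum_univ_two, hr]
  · simp [Matrix.mul_apply, Fin.sum_univ_two, hs]

/-- A diagonal element `diag(p, p⁻¹)` with `p² = 1` is central. -/
theorem sl2h_mem_center (p : K) (hp : p ≠ 0) (hpp : p * p = 1) :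
    sl2h p hp ∈ Subgroup.center (Matrix.SpecialLinearGroup (Fin 2) K) := by
  rw [Matrix.SpecialLinearGroup.mem_center_iff]
  refine ⟨p, by rw [Fintype.card_fin, sq, hpp], ?_⟩
  have hs : p⁻¹ = p := inv_eq_of_mul_eq_one_right hpp
  show Matrix.scalar (Fin 2) p = !![p, 0; 0, p⁻¹]
  ext i j
  fin_cases i <;> fin_cases j <;> simp [hs]

/-- A central element of `SL₂` is `diag(p, p⁻¹)` with `p² = 1`. -/
theorem sl2_center_eq {g : Matrix.SpecialLinearGroup (Fin 2) K}
    (hg : g ∈ Subgroup.center (Matrix.SpecialLinearGroup (Fin 2) K)) :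
    ∃ (p : K) (hp : p ≠ 0), p * p = 1 ∧ g = sl2h p hp := by
  rw [Matrix.SpecialLinearGroup.mem_center_iff] at hg
  obtain ⟨p, hp2, hpg⟩ := hg
  rw [Fintype.card_fin, sq] at hp2
  have hp : p ≠ 0 := by
    rintro rfl
    rw [mul_zero] at hp2
    exact zero_ne_one hp2
  have hs : p⁻¹ = p := inv_eq_of_mul_eq_one_right hp2
  refine ⟨p, hp, hp2, ?_⟩
  apply Subtype.ext
  rw [← hpg]
  show Matrix.scalar (Fin 2) p = !![p, 0; 0, p⁻¹]
  ext i j
  fin_cases i <;> fin_cases j <;> simp [hs]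

end SL2

section Ker

variable {K : Type*} [Field K] {e : ℕ} (R : ReeData K e)

include R

theorem ree_neg_one_ne_one : (-1 : K) ≠ 1 := by
  intro h
  have := R.char3
  have h2 : ((2 : ℕ) : K) = 0 := by
    have : (1 : K) + 1 = 0 := by nth_rewrite 1 [← h]; ring
    rw [← this]
    norm_num
  have h3 := (CharP.cast_eq_zero_iff K 3 2).mp h2
  omega

/-- `-1` is not a square in `K`. -/
theorem ree_sq_ne_neg_one (y : K) : y * y ≠ -1 := by
  intro hy
  obtain ⟨j, hj⟩ := R.hodd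
  have h4 : y ^ 4 = 1 := by
    calc y ^ 4 = (y * y) * (y * y) := by ring
      _ = 1 := by rw [hy]; ring
  have h3 : ((y ^ e) ^ e) ^ 3 = (y ^ 4) ^ (3 * j * j + 3 * j) * (y * y) * y := by
    rw [hj]
    ring
  rw [R.hφ, h4, one_pow, one_mul, hy] at h3
  have h5 : y * y = -(y * y) := by
    nth_rewrite 1 [h3]
    ring
  rw [hy, neg_neg] at h5
  exact ree_neg_one_ne_one R h5

/-- `φ(sl2l c) ∈ B` only for `c = 0`. -/
theorem ree_phi_sl2l_borel {c : K} (h : (ree_phi R) (sl2l c) ∈ chevG2.borelSubgroup K) : c = 0 := by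
  have := R.char3
  have I := bnInput_G2 K
  have h1 : (ree_phi R) (sl2l c) ∈ chevG2.borelSubgroup K ⊓ chevG2.negUnipotent K :=
    Subgroup.mem_inf.mpr ⟨h, ree_phi_sl2l_neg R c⟩
  rw [(Cfsg.Agent.S1037.result (F := K) chevG2 (by simp)).1, Subgroup.mem_bot] at h1
  have h2 := ree_phi_sl2l R c
  rw [h1, Units.val_one, wordMat_reeV_mid R.e_ne_zero, R.neg_pow_e, neg_neg, neg_neg] at h2
  have h3 : chevG2.x K 3 (c ^ e) = chevG2.x K 1 (-c) := by
    have h4 : chevG2.x K 3 (c ^ e) * chevG2.x K 1 c * chevG2.x K 1 (-c) = chevG2.x K 1 (-c) := by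
      rw [← h2, one_mul]
    rw [mul_assoc, x_add' I.hSD' 1 c (-c), add_neg_cancel, x_zero_G2, mul_one] at h4
    exact h4
  have h5 : c ^ e = 0 := x_ne_of_ne I (primHyp_G2 K) (by decide : 3 < chevG2.nroots)
    (by decide : 1 < chevG2.nroots) (by decide) h3
  exact (pow_eq_zero_iff R.e_ne_zero).mp h5

/-- If `φ(g) ∈ B` then `g` is upper triangular. -/
theorem ree_phi_borel {g : Matrix.SpecialLinearGroup (Fin 2) K}
    (h : (ree_phi R) g ∈ chevG2.borelSubgroup K) : g.val 1 0 = 0 := by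
  by_contra hr
  have hUB : chevG2.posUnipotent K ≤ chevG2.borelSubgroup K := le_sup_left
  have e1 := congrArg (ree_phi R) (sl2_lower_decomp g hr)
  rw [map_mul, map_mul] at e1
  have e2 : (ree_phi R) (sl2l (g.val 1 0)) =
      ((ree_phi R) (sl2u ((g.val 0 0 - 1) / g.val 1 0)))⁻¹ * (ree_phi R) g *
        ((ree_phi R) (sl2u ((g.val 1 1 - 1) / g.val 1 0)))⁻¹ := by
    rw [← e1]
    group
  have e3 : (ree_phi R) (sl2l (g.val 1 0)) ∈ chevG2.borelSubgroup K := by
    rw [e2]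
    exact mul_mem (mul_mem (inv_mem (hUB (ree_phi_sl2u_pos R _))) h) (inv_mem (hUB (ree_phi_sl2u_pos R _)))
  exact hr (ree_phi_sl2l_borel R e3)

/-- If `φ(g) ∈ H` then `g` is diagonal and `φ(g) = φ(diag(p, p⁻¹))`. -/
theorem ree_phi_diag {g : Matrix.SpecialLinearGroup (Fin 2) K}
    (h : (ree_phi R) g ∈ chevG2.diagonalSubgroup K) :
    ∃ (hp : g.val 0 0 ≠ 0), g = sl2h (g.val 0 0) hp := by
  have hHB : chevG2.diagonalSubgroup K ≤ chevG2.borelSubgroup K := le_sup_right
  have hr := ree_phi_borel R (hHB h)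
  obtain ⟨hp, hg⟩ := sl2_upper_decomp g hr
  refine ⟨hp, ?_⟩
  have e1 := congrArg (ree_phi R) hg
  rw [map_mul] at e1
  have hd := (Subgroup.mem_inf.mp (ree_phi_sl2h R (g.val 0 0) hp).1).1
  have e2 : (ree_phi R) (sl2u (g.val 0 1 / g.val 0 0)) * 1 =
      1 * (((ree_phi R) (sl2h (g.val 0 0) hp))⁻¹ * (ree_phi R) g) := by
    rw [← e1]
    group
  obtain ⟨e3, -⟩ := uh_unique (ree_phi_sl2u_pos R _) (one_mem _) (one_mem _) (mul_mem (inv_mem hd) h) e2
  have e4 : chevG2.wordMat K (reeWordU e 0 (g.val 0 1 / g.val 0 0) 0) =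
      chevG2.wordMat K (reeWordU e 0 0 0) := by
    rw [← ree_phi_sl2u R, e3, Units.val_one, ree_zero R]
  obtain ⟨-, e5, -⟩ := R.reeU_inj e4
  rw [e5, Cfsg.Agent.Lib.helper22.sl2u_zero, mul_one] at hg
  exact hg.symm

/-- The kernel of `φ` lies in the centre. -/
theorem ree_phi_ker {g : Matrix.SpecialLinearGroup (Fin 2) K} (hg : (ree_phi R) g = 1) :
    g ∈ Subgroup.center (Matrix.SpecialLinearGroup (Fin 2) K) ∧ g.val 0 1 = 0 := by
  have h1 : (ree_phi R) g ∈ chevG2.diagonalSubgroup K := by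
    rw [hg]
    exact one_mem _
  obtain ⟨hp, hgp⟩ := ree_phi_diag R h1
  generalize g.val 0 0 = p at hp hgp
  subst hgp
  have h2 := (ree_phi_sl2h R p hp).2
  rw [hg, Units.val_one, Matrix.one_apply_eq] at h2
  have h2' : (p ^ e) ^ 3 * p = 1 := h2.symm
  have h3 : ((p ^ e) ^ e) ^ 3 * p ^ e = 1 := by
    rw [← R.pow_e_cube (p ^ e), ← mul_pow, h2', one_pow]
  rw [R.hφ] at h3
  have h4 : p * p = 1 := by
    have h5 : (p ^ e) ^ 3 * p * (p * p) = (p * p ^ e) ^ 3 := by ring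
    rw [h2', one_mul, h3, one_pow] at h5
    exact h5
  refine ⟨sl2h_mem_center p hp h4, ?_⟩
  show (!![p, 0; 0, p⁻¹] : Matrix (Fin 2) (Fin 2) K) 0 1 = 0
  simp

/-- The centre lies in the kernel of `φ`. -/
theorem ree_phi_center {g : Matrix.SpecialLinearGroup (Fin 2) K}
    (hg : g ∈ Subgroup.center (Matrix.SpecialLinearGroup (Fin 2) K)) : (ree_phi R) g = 1 := by
  obtain ⟨p, hp, hpp, rfl⟩ := sl2_center_eq hg
  obtain ⟨h1, h2⟩ := ree_phi_sl2h R p hp
  have h3 := Subgroup.mem_inf.mp h1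
  apply R.fix_diag_inj h3.1 (R.twisted_le_fix h3.2) (one_mem _) (one_mem _)
  rw [h2, Units.val_one, Matrix.one_apply_eq]
  obtain ⟨j, hj⟩ := R.hodd
  have hpe : p ^ e = p := by
    rw [hj, pow_succ, pow_mul, sq, hpp, one_pow, one_mul]
  rw [hpe]
  calc p ^ 3 * p = (p * p) * (p * p) := by ring
    _ = 1 := by rw [hpp, one_mul]

end Ker

theorem cartan_G2_neg_vals :
    cartanZ chevG2 0 3 = 1 ∧ cartanZ chevG2 1 3 = -1 ∧ cartanZ chevG2 0 1 = -3 ∧ cartanZ chevG2 1 1 = 1 := by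
  decide

section Invol

variable {K : Type*} [Field K] {e : ℕ} (R : ReeData K e)

include R

/-- An element of `H¹` of square `1` commutes with the image of `φ`. -/
theorem ree_invol_comm {a : GL chevG2.Idx K} (haH : a ∈ chevG2.diagonalSubgroup K) (hfix : a ∈ R.fix)
    (hsq : (a : Matrix chevG2.Idx chevG2.Idx K) (Sum.inr ⟨11, by decide⟩) (Sum.inr ⟨11, by decide⟩) *
      (a : Matrix chevG2.Idx chevG2.Idx K) (Sum.inr ⟨11, by decide⟩) (Sum.inr ⟨11, by decide⟩) = 1)
    (g : Matrix.SpecialLinearGroup (Fin 2) K) : Commute a ((ree_phi R) g) := by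
  obtain ⟨c, hc, hv, hc0, hμ⟩ := ree_torus_param R haH hfix
  obtain ⟨-, -, -, -, k8a, k8b, -, -, k10a, k10b, -, -⟩ := cartan_G2_vals
  obtain ⟨k3a, k3b, k1a, k1b⟩ := cartan_G2_neg_vals
  rw [hμ] at hsq
  obtain ⟨μ, hc1⟩ : ∃ μ : K, c ⟨1, by decide⟩ = μ := ⟨_, rfl⟩
  rw [hc1] at hc0 hsq
  have hμ0 : μ ≠ 0 := by
    rintro rfl
    rw [mul_zero] at hsq
    exact zero_ne_one hsq
  have hμe : μ ^ e = μ := by
    obtain ⟨j, hj⟩ := R.hodd
    rw [hj, pow_succ, pow_mul, sq, hsq, one_pow, one_mul]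
  have hinv : μ⁻¹ = μ := inv_eq_of_mul_eq_one_right hsq
  have χ8 : torusChar chevG2 K c 8 = 1 := by
    rw [torusChar_two, k8a, k8b, hc0, hc1, hμe, zpow_neg, zpow_one, inv_mul_cancel₀ hμ0]
  have χ10 : torusChar chevG2 K c 10 = 1 := by
    rw [torusChar_two, k10a, k10b, hc0, hc1, hμe, zpow_neg, zpow_one, hinv]
    have : μ ^ (3 : ℤ) = μ ^ 3 := zpow_ofNat μ 3
    rw [this]
    calc μ ^ 3 * μ = (μ * μ) * (μ * μ) := by ring
      _ = 1 := by rw [hsq, one_mul]
  have χ3 : torusChar chevG2 K c 3 = 1 := by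
    rw [torusChar_two, k3a, k3b, hc0, hc1, hμe, zpow_neg, zpow_one, mul_inv_cancel₀ hμ0]
  have χ1 : torusChar chevG2 K c 1 = 1 := by
    rw [torusChar_two, k1a, k1b, hc0, hc1, hμe, zpow_neg, zpow_one, ← inv_zpow, hinv]
    have : μ ^ (3 : ℤ) = μ ^ 3 := zpow_ofNat μ 3
    rw [this]
    calc μ ^ 3 * μ = (μ * μ) * (μ * μ) := by ring
      _ = 1 := by rw [hsq, one_mul]
  have hx : ∀ (r : ℕ) (hr : r < 12), torusChar chevG2 K c r = 1 → ∀ t : K,
      (a : Matrix chevG2.Idx chevG2.Idx K) * chevG2.x K r t =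
        chevG2.x K r t * (a : Matrix chevG2.Idx chevG2.Idx K) := by
    intro r hr hχ t
    rw [hv, torusMat_mul_x c hc r hr t, hχ, one_mul]
  have n8 : chevG2.neg 8 = 3 := by decide
  have n10 : chevG2.neg 10 = 1 := by decide
  have c8 : ∀ g' : Matrix.SpecialLinearGroup (Fin 2) K, Commute a (sl2Hom s8 g') := by
    intro g'
    have htop : (Subgroup.centralizer {a}).comap (sl2Hom (F := K) s8) = ⊤ := by
      apply sl2_eq_top
      · intro t
        rw [Subgroup.mem_comap, Subgroup.mem_centralizer_iff]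
        intro y hy
        rw [Set.mem_singleton_iff] at hy
        rw [hy]
        apply Units.ext
        rw [Units.val_mul, Units.val_mul]
        have h1 : ((sl2Hom s8 (sl2u t) : GL chevG2.Idx K) : Matrix chevG2.Idx chevG2.Idx K) =
            chevG2.x K 8 t := sl2Hom_sl2u s8 t
        rw [h1]
        exact hx 8 (by decide) χ8 t
      · intro t
        rw [Subgroup.mem_comap, Subgroup.mem_centralizer_iff]
        intro y hy
        rw [Set.mem_singleton_iff] at hy
        rw [hy]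
        apply Units.ext
        rw [Units.val_mul, Units.val_mul]
        have h1 : ((sl2Hom s8 (sl2l t) : GL chevG2.Idx K) : Matrix chevG2.Idx chevG2.Idx K) =
            chevG2.x K (chevG2.neg 8) t := sl2Hom_sl2l s8 t
        rw [n8] at h1
        rw [h1]
        exact hx 3 (by decide) χ3 t
    have hg' : g' ∈ (Subgroup.centralizer {a}).comap (sl2Hom (F := K) s8) := by
      rw [htop]
      trivial
    rw [Subgroup.mem_comap, Subgroup.mem_centralizer_iff] at hg'
    exact hg' a rfl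
  have c10 : ∀ g' : Matrix.SpecialLinearGroup (Fin 2) K, Commute a (sl2Hom s10 g') := by
    intro g'
    have htop : (Subgroup.centralizer {a}).comap (sl2Hom (F := K) s10) = ⊤ := by
      apply sl2_eq_top
      · intro t
        rw [Subgroup.mem_comap, Subgroup.mem_centralizer_iff]
        intro y hy
        rw [Set.mem_singleton_iff] at hy
        rw [hy]
        apply Units.ext
        rw [Units.val_mul, Units.val_mul]
        have h1 : ((sl2Hom s10 (sl2u t) : GL chevG2.Idx K) : Matrix chevG2.Idx chevG2.Idx K) =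
            chevG2.x K 10 t := sl2Hom_sl2u s10 t
        rw [h1]
        exact hx 10 (by decide) χ10 t
      · intro t
        rw [Subgroup.mem_comap, Subgroup.mem_centralizer_iff]
        intro y hy
        rw [Set.mem_singleton_iff] at hy
        rw [hy]
        apply Units.ext
        rw [Units.val_mul, Units.val_mul]
        have h1 : ((sl2Hom s10 (sl2l t) : GL chevG2.Idx K) : Matrix chevG2.Idx chevG2.Idx K) =
            chevG2.x K (chevG2.neg 10) t := sl2Hom_sl2l s10 t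
        rw [n10] at h1
        rw [h1]
        exact hx 1 (by decide) χ1 t
    have hg' : g' ∈ (Subgroup.centralizer {a}).comap (sl2Hom (F := K) s10) := by
      rw [htop]
      trivial
    rw [Subgroup.mem_comap, Subgroup.mem_centralizer_iff] at hg'
    exact hg' a rfl
  rw [ree_phi_apply R]
  exact (c8 _).mul_right (c10 _)

/-- The entry at the highest root of an involution of `H¹` is `-1`. -/
theorem ree_invol_entry {a : GL chevG2.Idx K} (haH : a ∈ chevG2.diagonalSubgroup K ⊓ twistedG2 K e)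
    (ha1 : a ≠ 1) (ha2 : a * a = 1) :
    (a : Matrix chevG2.Idx chevG2.Idx K) (Sum.inr ⟨11, by decide⟩) (Sum.inr ⟨11, by decide⟩) = -1 := by
  have h1 := Subgroup.mem_inf.mp haH
  have hfix := R.twisted_le_fix h1.2
  have hsq := diag_entry_mul h1.1 h1.1
  rw [ha2, Units.val_one, Matrix.one_apply_eq] at hsq
  have hne : (a : Matrix chevG2.Idx chevG2.Idx K) (Sum.inr ⟨11, by decide⟩) (Sum.inr ⟨11, by decide⟩) ≠ 1 := by
    intro h
    apply ha1
    apply R.fix_diag_inj h1.1 hfix (one_mem _) (one_mem _)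
    rw [h, Units.val_one, Matrix.one_apply_eq]
  generalize (a : Matrix chevG2.Idx chevG2.Idx K) (Sum.inr ⟨11, by decide⟩) (Sum.inr ⟨11, by decide⟩) = μ
    at hsq hne ⊢
  have h3 : (μ - 1) * (μ + 1) = 0 := by
    have : (μ - 1) * (μ + 1) = μ * μ - 1 := by ring
    rw [this, ← hsq, sub_self]
  rcases mul_eq_zero.mp h3 with h | h
  · exact absurd (sub_eq_zero.mp h) hne
  · exact eq_neg_of_add_eq_zero_left h

/-- An involution of `H¹` commutes with the image of `φ`. -/
theorem ree_invol_comm' {a : GL chevG2.Idx K} (haH : a ∈ chevG2.diagonalSubgroup K ⊓ twistedG2 K e)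
    (ha1 : a ≠ 1) (ha2 : a * a = 1) (g : Matrix.SpecialLinearGroup (Fin 2) K) : Commute a ((ree_phi R) g) := by
  have h1 := Subgroup.mem_inf.mp haH
  apply ree_invol_comm R h1.1 (R.twisted_le_fix h1.2)
  rw [ree_invol_entry R haH ha1 ha2]
  ring

/-- The involution of `H¹` does not lie in the image of `φ`. -/
theorem ree_invol_not_phi {a : GL chevG2.Idx K} (haH : a ∈ chevG2.diagonalSubgroup K ⊓ twistedG2 K e)
    (ha1 : a ≠ 1) (ha2 : a * a = 1) (g : Matrix.SpecialLinearGroup (Fin 2) K) : a ≠ (ree_phi R) g := by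
  intro hag
  have h1 := Subgroup.mem_inf.mp haH
  have hent := ree_invol_entry R haH ha1 ha2
  rw [hag] at h1 hent
  obtain ⟨hp, hgp⟩ := ree_phi_diag R h1.1
  generalize g.val 0 0 = p at hp hgp
  subst hgp
  rw [(ree_phi_sl2h R p hp).2] at hent
  obtain ⟨j, hj⟩ := R.hodd
  apply ree_sq_ne_neg_one R (p ^ (3 * j + 2))
  rw [← hent, hj]
  ring

/-- Every element of `H¹` lies in `φ(SL₂) ∪ a φ(SL₂)`. -/
theorem ree_diag_cent {a : GL chevG2.Idx K} (haH : a ∈ chevG2.diagonalSubgroup K ⊓ twistedG2 K e)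
    (ha1 : a ≠ 1) (ha2 : a * a = 1) {h : GL chevG2.Idx K}
    (hh : h ∈ chevG2.diagonalSubgroup K ⊓ twistedG2 K e) :
    ∃ g : Matrix.SpecialLinearGroup (Fin 2) K, h = (ree_phi R) g ∨ h = a * (ree_phi R) g := by
  have h1 := Subgroup.mem_inf.mp haH
  have h2 := Subgroup.mem_inf.mp hh
  have hν := diag_entry_ne_zero h2.1
  obtain ⟨y, hy⟩ := R.exists_sq ((h : Matrix chevG2.Idx chevG2.Idx K) (Sum.inr ⟨11, by decide⟩)
    (Sum.inr ⟨11, by decide⟩))
  have hy0 : y ≠ 0 := by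
    rintro rfl
    rcases hy with hy | hy
    · rw [mul_zero] at hy
      exact hν hy.symm
    · rw [mul_zero] at hy
      exact hν (neg_eq_zero.mp hy.symm)
  obtain ⟨j, hj⟩ := R.hodd
  have hs0 : y ^ (6 * j + 2) ≠ 0 := pow_ne_zero _ hy0
  obtain ⟨d1, d2⟩ := ree_phi_sl2h R (y ^ (6 * j + 2)) hs0
  have d3 := Subgroup.mem_inf.mp d1
  have halg : ((y ^ (6 * j + 2)) ^ e) ^ 3 * y ^ (6 * j + 2) = y * y := by
    have e1 : ((y ^ (6 * j + 2)) ^ e) ^ 3 * y ^ (6 * j + 2) * y = (((y ^ e) ^ e) ^ 3) ^ 3 := by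
      rw [hj]
      ring
    rw [R.hφ] at e1
    have e2 : ((y ^ (6 * j + 2)) ^ e) ^ 3 * y ^ (6 * j + 2) * y = y * y * y := by
      rw [e1]
      ring
    exact mul_right_cancel₀ hy0 e2
  rw [halg] at d2
  refine ⟨sl2h (y ^ (6 * j + 2)) hs0, ?_⟩
  rcases hy with hy | hy
  · left
    apply R.fix_diag_inj h2.1 (R.twisted_le_fix h2.2) d3.1 (R.twisted_le_fix d3.2)
    rw [d2, hy]
  · right
    apply R.fix_diag_inj h2.1 (R.twisted_le_fix h2.2) (mul_mem h1.1 d3.1)
      (R.twisted_le_fix (mul_mem h1.2 d3.2))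
    rw [diag_entry_mul h1.1 d3.1, d2, hy, ree_invol_entry R haH ha1 ha2]
    ring

/-- The subgroup `⟨a⟩ φ(SL₂)`. -/
def ree_centSub (a : GL chevG2.Idx K) (ha2 : a * a = 1)
    (hcomm : ∀ g : Matrix.SpecialLinearGroup (Fin 2) K, Commute a ((ree_phi R) g)) :
    Subgroup (GL chevG2.Idx K) where
  carrier := {x | ∃ g : Matrix.SpecialLinearGroup (Fin 2) K, x = (ree_phi R) g ∨ x = a * (ree_phi R) g}
  one_mem' := ⟨1, Or.inl (map_one _).symm⟩
  mul_mem' := by
    rintro x y ⟨g, rfl | rfl⟩ ⟨g', rfl | rfl⟩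
    · exact ⟨g * g', Or.inl (map_mul _ _ _).symm⟩
    · refine ⟨g * g', Or.inr ?_⟩
      rw [map_mul, ← mul_assoc, ← mul_assoc, (hcomm g).eq]
    · refine ⟨g * g', Or.inr ?_⟩
      rw [map_mul, mul_assoc]
    · refine ⟨g * g', Or.inl ?_⟩
      rw [map_mul]
      calc a * (ree_phi R) g * (a * (ree_phi R) g') = a * ((ree_phi R) g * a) * (ree_phi R) g' := by simp only [mul_assoc]
        _ = a * (a * (ree_phi R) g) * (ree_phi R) g' := by rw [(hcomm g).eq]
        _ = (a * a) * (ree_phi R) g * (ree_phi R) g' := by simp only [mul_assoc]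
        _ = (ree_phi R) g * (ree_phi R) g' := by rw [ha2, one_mul]
  inv_mem' := by
    rintro x ⟨g, rfl | rfl⟩
    · exact ⟨g⁻¹, Or.inl (map_inv _ _).symm⟩
    · refine ⟨g⁻¹, Or.inr ?_⟩
      have ha : a⁻¹ = a := inv_eq_of_mul_eq_one_left ha2
      rw [mul_inv_rev, ha, map_inv]
      exact (hcomm g).inv_right.eq.symm

theorem ree_mem_centSub {a : GL chevG2.Idx K} {ha2 : a * a = 1}
    {hcomm : ∀ g : Matrix.SpecialLinearGroup (Fin 2) K, Commute a ((ree_phi R) g)} {x : GL chevG2.Idx K} :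
    x ∈ ree_centSub R a ha2 hcomm ↔
      ∃ g : Matrix.SpecialLinearGroup (Fin 2) K, x = (ree_phi R) g ∨ x = a * (ree_phi R) g := Iff.rfl

/-- The centralizer of the involution `a` of `H¹` in `G¹` is `⟨a⟩ φ(SL₂)`. -/
theorem ree_cent_cases {a : GL chevG2.Idx K} (haH : a ∈ chevG2.diagonalSubgroup K ⊓ twistedG2 K e)
    (ha1 : a ≠ 1) (ha2 : a * a = 1) {x : GL chevG2.Idx K} (hx : x ∈ twistedG2 K e)
    (hc : a * x = x * a) :
    ∃ g : Matrix.SpecialLinearGroup (Fin 2) K, x = (ree_phi R) g ∨ x = a * (ree_phi R) g := by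
  have h1 := Subgroup.mem_inf.mp haH
  have hfix := R.twisted_le_fix h1.2
  have hcomm := ree_invol_comm' R haH ha1 ha2
  have hent := ree_invol_entry R haH ha1 ha2
  have hUB : chevG2.posUnipotent K ≤ chevG2.borelSubgroup K := le_sup_left
  have hHB : chevG2.diagonalSubgroup K ≤ chevG2.borelSubgroup K := le_sup_right
  obtain ⟨n, hn⟩ := R.exists_w0
  show x ∈ ree_centSub R a ha2 hcomm
  set M := ree_centSub R a ha2 hcomm with hM
  have hMphi : ∀ g : Matrix.SpecialLinearGroup (Fin 2) K, (ree_phi R) g ∈ M := fun g => ⟨g, Or.inl rfl⟩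
  have hMcomm : ∀ y ∈ M, a * y = y * a := by
    rintro y ⟨g, rfl | rfl⟩
    · exact (hcomm g).eq
    · rw [mul_assoc, (hcomm g).eq]
  have hMu : ∀ u ∈ chevG2.posUnipotent K ⊓ twistedG2 K e, a * u = u * a → u ∈ M := by
    intro u hu hau
    obtain ⟨t, u', v, huw⟩ := (R.pos_inf_twisted u).mp hu
    obtain ⟨hA, -⟩ := ree_commute_imp R h1.1 hfix huw hau
    rw [hent] at hA
    have ht : t = 0 := by
      by_contra h0
      exact ree_neg_one_ne_one R (hA (Or.inl h0))
    have hv : v = 0 := by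
      by_contra h0
      exact ree_neg_one_ne_one R (hA (Or.inr h0))
    rw [ht, hv, ← ree_phi_sl2u R] at huw
    rw [Units.ext huw]
    exact hMphi _
  have hMh : ∀ h ∈ chevG2.diagonalSubgroup K ⊓ twistedG2 K e, h ∈ M :=
    fun h hh => ree_diag_cent R haH ha1 ha2 hh
  have hMn : n ∈ M := by
    have hn1 : (ree_phi R) (sl2n 1 one_ne_zero) ∈ chevG2.monomialSubgroup K := by
      rw [ree_phi_apply R, ree_map_frob_sl2n R]
      exact mul_mem (sl2n_mem_mono s8 _ _) (sl2n_mem_mono s10 _ _)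
    rcases R.mono_twisted hn hn1 (ree_phi_mem R _) with hd | ⟨h, hh, hhΓ, e2⟩
    · exfalso
      have h0 := ree_phi_borel R (hHB hd)
      have h0' : (-(1 : K)⁻¹) = 0 := h0
      rw [inv_one] at h0'
      exact one_ne_zero (neg_eq_zero.mp h0')
    · have e3 : n = (ree_phi R) (sl2n 1 one_ne_zero) * h⁻¹ := by
        rw [e2]
        group
      rw [e3]
      exact mul_mem (hMphi _) (inv_mem (hMh h (Subgroup.mem_inf.mpr ⟨hh, hhΓ⟩)))
  rcases R.twisted_cases hn hx with ⟨u, hu, h, hh, rfl⟩ | ⟨u, hu, h, hh, u', hu', rfl⟩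
  · have hah := hMcomm h (hMh h hh)
    have hau : a * u = u * a := by
      have e1 : a * u * h = u * a * h := by
        calc a * u * h = u * h * a := by rw [mul_assoc, hc]
          _ = u * (h * a) := by rw [mul_assoc]
          _ = u * (a * h) := by rw [hah]
          _ = u * a * h := by rw [mul_assoc]
      exact mul_right_cancel e1
    exact mul_mem (hMu u hu hau) (hMh h hh)
  · have hah := hMcomm h (hMh h hh)
    have han := hMcomm n hMn
    have hBU := borel_normalizes_pos K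
    have haN := hBU (hHB h1.1)
    have hu1 : a * u * a⁻¹ ∈ chevG2.posUnipotent K := (Subgroup.mem_normalizer_iff.mp haN u).mp hu.1
    have hu2 : a * u' * a⁻¹ ∈ chevG2.posUnipotent K := (Subgroup.mem_normalizer_iff.mp haN u').mp hu'.1
    have e1 : (a * u * a⁻¹ * h) * n * (a * u' * a⁻¹) = (u * h) * n * u' := by
      have e2 : a * h * a⁻¹ = h := by rw [hah, mul_inv_cancel_right]
      have e3 : a * n * a⁻¹ = n := by rw [han, mul_inv_cancel_right]
      calc (a * u * a⁻¹ * h) * n * (a * u' * a⁻¹)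
          = (a * u * a⁻¹) * (a * h * a⁻¹) * (a * n * a⁻¹) * (a * u' * a⁻¹) := by rw [e2, e3]
        _ = a * (u * h * n * u') * a⁻¹ := by group
        _ = (u * h * n * u') * a * a⁻¹ := by rw [hc]
        _ = (u * h) * n * u' := by rw [mul_inv_cancel_right]
    obtain ⟨e4, e5⟩ := hn.unique (mul_mem (hUB hu1) (hHB hh.1)) (mul_mem (hUB hu.1) (hHB hh.1))
      hu2 hu'.1 e1
    have hau : a * u = u * a := by
      have e6 : a * u * a⁻¹ = u := mul_right_cancel e4
      calc a * u = (a * u * a⁻¹) * a := by group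
        _ = u * a := by rw [e6]
    have hau' : a * u' = u' * a := by
      calc a * u' = (a * u' * a⁻¹) * a := by group
        _ = u' * a := by rw [e5]
    exact mul_mem (mul_mem (mul_mem (hMu u hu hau) (hMh h hh)) hMn) (hMu u' hu' hau')

/-- Two elements of `SL₂` whose images are commuting involutions generating a four-group. -/
theorem ree_exists_four : ∃ b c : Matrix.SpecialLinearGroup (Fin 2) K,
    (ree_phi R) b * (ree_phi R) b = 1 ∧ (ree_phi R) c * (ree_phi R) c = 1 ∧ (ree_phi R) b * (ree_phi R) c = (ree_phi R) c * (ree_phi R) b ∧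
    (ree_phi R) b ≠ 1 ∧ (ree_phi R) c ≠ 1 ∧ (ree_phi R) b * (ree_phi R) c ≠ 1 := by
  have := R.char3
  have h3 : (3 : K) = 0 := three_eq_zero
  have hz : (ree_phi R) (sl2h (-1 : K) (neg_ne_zero.mpr one_ne_zero)) = 1 :=
    ree_phi_center R (sl2h_mem_center _ _ (by ring))
  let i₀ : Matrix.SpecialLinearGroup (Fin 2) K := sl2n 1 one_ne_zero
  let j₀ : Matrix.SpecialLinearGroup (Fin 2) K :=
    ⟨!![1, 1; 1, -1], by rw [Matrix.det_fin_two_of]; linear_combination (-1 : K) * h3⟩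
  have hii : i₀ * i₀ = sl2h (-1 : K) (neg_ne_zero.mpr one_ne_zero) :=
    Cfsg.Agent.Lib.helper22.sl2n_mul_sl2n
  have hjj : j₀ * j₀ = sl2h (-1 : K) (neg_ne_zero.mpr one_ne_zero) := by
    apply Subtype.ext
    show !![1, 1; 1, -1] * !![1, 1; 1, -1] = !![-1, 0; 0, (-1 : K)⁻¹]
    ext i j
    fin_cases i <;> fin_cases j <;> simp [Matrix.mul_apply, Fin.sum_univ_two, inv_neg] <;>
      linear_combination h3
  have hij : i₀ * j₀ = sl2h (-1 : K) (neg_ne_zero.mpr one_ne_zero) * (j₀ * i₀) := by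
    apply Subtype.ext
    show !![0, 1; -(1 : K)⁻¹, 0] * !![1, 1; 1, -1] =
      !![-1, 0; 0, (-1 : K)⁻¹] * (!![1, 1; 1, -1] * !![0, 1; -(1 : K)⁻¹, 0])
    ext i j
    fin_cases i <;> fin_cases j <;> simp [Matrix.mul_apply, Fin.sum_univ_two, inv_neg]
  have e01 : ∀ g : Matrix.SpecialLinearGroup (Fin 2) K, g.val 0 1 ≠ 0 → (ree_phi R) g ≠ 1 :=
    fun g hg h => hg (ree_phi_ker R h).2
  refine ⟨i₀, j₀, ?_, ?_, ?_, ?_, ?_, ?_⟩
  · rw [← map_mul, hii, hz]
  · rw [← map_mul, hjj, hz]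
  · rw [← map_mul, ← map_mul, hij, map_mul, hz, one_mul]
  · apply e01
    show (!![0, 1; -(1 : K)⁻¹, 0] : Matrix (Fin 2) (Fin 2) K) 0 1 ≠ 0
    simp
  · apply e01
    show (!![1, 1; 1, -1] : Matrix (Fin 2) (Fin 2) K) 0 1 ≠ 0
    simp
  · rw [← map_mul]
    apply e01
    show (!![0, 1; -(1 : K)⁻¹, 0] * !![1, 1; 1, -1] : Matrix (Fin 2) (Fin 2) K) 0 1 ≠ 0
    simp [Matrix.mul_apply, Fin.sum_univ_two]

end Invol

end Cfsg.Agent.Lib.helper44
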