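import Cfsg.Agent.Lib.helper44.ReeCent2

set_option autoImplicit false
set_option maxRecDepth 100000

/-!
# The Sylow 2-subgroup of the small Ree groups: centralizer and an element of order 3

The quaternion group `{±1, ±i, ±j, ±ij}` of `SL₂(K)` (characteristic 3) maps under `φ` onto a four-group `V`;
an element of `φ(SL₂)` commuting with `V` lies in `V`, and `φ(sl2u 1)` has order 3 and normalizes `V`.
-/

namespace Cfsg.Agent.Lib.helper44

open Cfsg Cfsg.Lie Cfsg.Agent.Lib.helper41 Cfsg.Agent.Lib.helper22 Cfsg.Agent.Lib.helper23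

section Quat

/-- In a group with a central involution `z` and elements `i`, `j` with `j i = z i j`: an element commuting
with `i` and `j` up to `z` commutes with `i` and `j` after multiplication by one of `1`, `j`, `i`, `i j`. -/
theorem quat_reduce {S : Type*} [Group S] (i j z : S) (hz : ∀ x : S, Commute z x) (hzz : z * z = 1)
    (hji : SemiconjBy j i (z * i)) (hij : SemiconjBy i j (z * j)) (g : S)
    (h1 : Commute g i ∨ SemiconjBy g i (z * i)) (h2 : Commute g j ∨ SemiconjBy g j (z * j)) :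
    ∃ q : S, (q = 1 ∨ q = j ∨ q = i ∨ q = i * j) ∧ Commute (g * q) i ∧ Commute (g * q) j := by
  have flip : ∀ x t : S, SemiconjBy x t (z * t) → SemiconjBy x (z * t) t := by
    intro x t h
    have e1 : SemiconjBy x (z * t) (z * (z * t)) := SemiconjBy.mul_right (hz x).symm h
    rw [← mul_assoc, hzz, one_mul] at e1
    exact e1
  rcases h1 with h1 | h1 <;> rcases h2 with h2 | h2
  · exact ⟨1, Or.inl rfl, by rw [mul_one]; exact h1, by rw [mul_one]; exact h2⟩
  · exact ⟨i, Or.inr (Or.inr (Or.inl rfl)), h1.mul_left (Commute.refl i), (flip g j h2).mul_left hij⟩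
  · exact ⟨j, Or.inr (Or.inl rfl), (flip g i h1).mul_left hji, h2.mul_left (Commute.refl j)⟩
  · have hAi : SemiconjBy (i * j) i (z * i) :=
      SemiconjBy.mul_left ((hz i).symm.mul_right (Commute.refl i)) hji
    have hAj : SemiconjBy (i * j) j (z * j) := SemiconjBy.mul_left hij (Commute.refl j)
    exact ⟨i * j, Or.inr (Or.inr (Or.inr rfl)), (flip g i h1).mul_left hAi, (flip g j h2).mul_left hAj⟩

variable {K : Type*} [Field K]

/-- The element `i = [[0, 1], [-1, 0]]`. -/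
def qi : Matrix.SpecialLinearGroup (Fin 2) K := sl2n 1 one_ne_zero

/-- The central element `-1`. -/
def qz : Matrix.SpecialLinearGroup (Fin 2) K := sl2h (-1) (neg_ne_zero.mpr one_ne_zero)

/-- The element `j = [[1, 1], [1, -1]]` (characteristic 3). -/
def qj (h3 : (3 : K) = 0) : Matrix.SpecialLinearGroup (Fin 2) K :=
  ⟨!![1, 1; 1, -1], by rw [Matrix.det_fin_two_of]; linear_combination (-1 : K) * h3⟩

theorem qz_mem_center : (qz : Matrix.SpecialLinearGroup (Fin 2) K) ∈
    Subgroup.center (Matrix.SpecialLinearGroup (Fin 2) K) :=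
  sl2h_mem_center _ _ (by ring)

theorem qz_comm (x : Matrix.SpecialLinearGroup (Fin 2) K) : Commute qz x :=
  (Subgroup.mem_center_iff.mp qz_mem_center x).symm

theorem qz_mul_qz : (qz : Matrix.SpecialLinearGroup (Fin 2) K) * qz = 1 := by
  apply Subtype.ext
  show !![-1, 0; 0, (-1 : K)⁻¹] * !![-1, 0; 0, (-1 : K)⁻¹] = 1
  ext i j
  fin_cases i <;> fin_cases j <;> simp [Matrix.mul_apply, Fin.sum_univ_two, inv_neg]

theorem qi_mul_qi : (qi : Matrix.SpecialLinearGroup (Fin 2) K) * qi = qz :=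
  Cfsg.Agent.Lib.helper22.sl2n_mul_sl2n

theorem qj_mul_qj (h3 : (3 : K) = 0) : qj h3 * qj h3 = qz := by
  apply Subtype.ext
  show !![1, 1; 1, -1] * !![1, 1; 1, -1] = !![-1, 0; 0, (-1 : K)⁻¹]
  ext i j
  fin_cases i <;> fin_cases j <;> simp [Matrix.mul_apply, Fin.sum_univ_two, inv_neg] <;>
    linear_combination h3

theorem qi_mul_qj (h3 : (3 : K) = 0) : SemiconjBy qi (qj h3) (qz * qj h3) := by
  apply Subtype.ext
  show !![0, 1; -(1 : K)⁻¹, 0] * !![1, 1; 1, -1] =
    !![-1, 0; 0, (-1 : K)⁻¹] * !![1, 1; 1, -1] * !![0, 1; -(1 : K)⁻¹, 0]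
  ext i j
  fin_cases i <;> fin_cases j <;> simp [Matrix.mul_apply, Fin.sum_univ_two, inv_neg]

theorem qj_mul_qi (h3 : (3 : K) = 0) : SemiconjBy (qj h3) qi (qz * qi) := by
  apply Subtype.ext
  show !![1, 1; 1, -1] * !![0, 1; -(1 : K)⁻¹, 0] =
    !![-1, 0; 0, (-1 : K)⁻¹] * !![0, 1; -(1 : K)⁻¹, 0] * !![1, 1; 1, -1]
  ext i j
  fin_cases i <;> fin_cases j <;> simp [Matrix.mul_apply, Fin.sum_univ_two, inv_neg]

/-- `sl2u 1` conjugates `i` to `-j`. -/
theorem sl2u_mul_qi (h3 : (3 : K) = 0) : SemiconjBy (sl2u (1 : K)) qi (qz * qj h3) := by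
  apply Subtype.ext
  show !![1, 1; 0, 1] * !![0, 1; -(1 : K)⁻¹, 0] =
    !![-1, 0; 0, (-1 : K)⁻¹] * !![1, 1; 1, -1] * !![1, 1; 0, 1]
  ext i j
  fin_cases i <;> fin_cases j <;> simp [Matrix.mul_apply, Fin.sum_univ_two, inv_neg]
  linear_combination h3

/-- `sl2u 1` conjugates `j` to `-ij`. -/
theorem sl2u_mul_qj (h3 : (3 : K) = 0) : SemiconjBy (sl2u (1 : K)) (qj h3) (qz * (qi * qj h3)) := by
  apply Subtype.ext
  show !![1, 1; 0, 1] * !![1, 1; 1, -1] =
    !![-1, 0; 0, (-1 : K)⁻¹] * (!![0, 1; -(1 : K)⁻¹, 0] * !![1, 1; 1, -1]) * !![1, 1; 0, 1]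
  ext i j
  fin_cases i <;> fin_cases j <;> simp [Matrix.mul_apply, Fin.sum_univ_two, inv_neg] <;>
    first | linear_combination h3 | linear_combination (-1 : K) * h3

theorem sl2u_cube (h3 : (3 : K) = 0) : sl2u (1 : K) * sl2u 1 * sl2u 1 = 1 := by
  rw [← Cfsg.Agent.Lib.helper22.sl2u_add, ← Cfsg.Agent.Lib.helper22.sl2u_add]
  have : (1 : K) + 1 + 1 = 0 := by linear_combination h3
  rw [this, Cfsg.Agent.Lib.helper22.sl2u_zero]

/-- A central element of `SL₂` is `1` or `-1`. -/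
theorem sl2_center_cases {g : Matrix.SpecialLinearGroup (Fin 2) K}
    (hg : g ∈ Subgroup.center (Matrix.SpecialLinearGroup (Fin 2) K)) : g = 1 ∨ g = qz := by
  obtain ⟨p, hp, hpp, rfl⟩ := sl2_center_eq hg
  have h1 : (p - 1) * (p + 1) = 0 := by linear_combination hpp
  rcases mul_eq_zero.mp h1 with h | h
  · left
    have hp1 : p = 1 := sub_eq_zero.mp h
    subst hp1
    apply Subtype.ext
    show !![(1 : K), 0; 0, (1 : K)⁻¹] = 1
    ext i j
    fin_cases i <;> fin_cases j <;> simp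
  · right
    have hp1 : p = -1 := eq_neg_of_add_eq_zero_left h
    subst hp1
    rfl

/-- An element of `SL₂` commuting with `i` and `j` is central. -/
theorem sl2_comm_qi_qj (h3 : (3 : K) = 0) {g : Matrix.SpecialLinearGroup (Fin 2) K}
    (hi : Commute g qi) (hj : Commute g (qj h3)) :
    g ∈ Subgroup.center (Matrix.SpecialLinearGroup (Fin 2) K) := by
  have hdet := sl2_det g
  have ei : g.val * !![0, 1; -(1 : K)⁻¹, 0] = !![0, 1; -(1 : K)⁻¹, 0] * g.val := congrArg Subtype.val hi.eq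
  have ej : g.val * !![1, 1; 1, -1] = !![1, 1; 1, -1] * g.val := congrArg Subtype.val hj.eq
  have e1 := congrFun (congrFun ei 0) 0
  have e2 := congrFun (congrFun ei 0) 1
  have e3 := congrFun (congrFun ej 0) 0
  simp [Matrix.mul_apply, Fin.sum_univ_two] at e1 e2 e3
  have h01 : g.val 0 1 = 0 := by linear_combination (g.val 0 1) * h3 - e3 + e1
  have h10 : g.val 1 0 = 0 := by rw [← e3, h01]
  rw [h01, zero_mul, sub_zero, ← e2] at hdet
  have hp : g.val 0 0 ≠ 0 := by
    intro h0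
    rw [h0, zero_mul] at hdet
    exact zero_ne_one hdet
  have hs : (g.val 0 0)⁻¹ = g.val 0 0 := inv_eq_of_mul_eq_one_right hdet
  have hg : g = sl2h (g.val 0 0) hp := by
    apply Subtype.ext
    show g.val = !![g.val 0 0, 0; 0, (g.val 0 0)⁻¹]
    ext i j
    fin_cases i <;> fin_cases j
    · rfl
    · exact h01
    · exact h10
    · show g.val 1 1 = (g.val 0 0)⁻¹
      rw [hs, e2]
  rw [hg]
  exact sl2h_mem_center _ hp hdet

end Quat

section ReeFour

variable {K : Type*} [Field K] {e : ℕ} (R : ReeData K e)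

include R

/-- The four-group of `φ(SL₂)`, its centralizer in `φ(SL₂)` and an element of order 3 normalizing it. -/
theorem ree_exists_four_ext : ∃ b c w : Matrix.SpecialLinearGroup (Fin 2) K,
    (ree_phi R) b * (ree_phi R) b = 1 ∧ (ree_phi R) c * (ree_phi R) c = 1 ∧
    (ree_phi R) b * (ree_phi R) c = (ree_phi R) c * (ree_phi R) b ∧
    (ree_phi R) b ≠ 1 ∧ (ree_phi R) c ≠ 1 ∧ (ree_phi R) b * (ree_phi R) c ≠ 1 ∧
    (∀ g : Matrix.SpecialLinearGroup (Fin 2) K,
      (ree_phi R) g * (ree_phi R) b = (ree_phi R) b * (ree_phi R) g →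
      (ree_phi R) g * (ree_phi R) c = (ree_phi R) c * (ree_phi R) g →
      (ree_phi R) g = 1 ∨ (ree_phi R) g = (ree_phi R) b ∨ (ree_phi R) g = (ree_phi R) c ∨
        (ree_phi R) g = (ree_phi R) b * (ree_phi R) c) ∧
    (ree_phi R) w * (ree_phi R) w * (ree_phi R) w = 1 ∧ (ree_phi R) w ≠ 1 ∧
    (ree_phi R) w * (ree_phi R) b = (ree_phi R) c * (ree_phi R) w ∧
    (ree_phi R) w * (ree_phi R) c = (ree_phi R) b * (ree_phi R) c * (ree_phi R) w := by
  have := R.char3
  have h3 : (3 : K) = 0 := three_eq_zero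
  have hz : (ree_phi R) (qz : Matrix.SpecialLinearGroup (Fin 2) K) = 1 := ree_phi_center R qz_mem_center
  have e01 : ∀ g : Matrix.SpecialLinearGroup (Fin 2) K, g.val 0 1 ≠ 0 → (ree_phi R) g ≠ 1 :=
    fun g hg h => hg (ree_phi_ker R h).2
  have hbb : (ree_phi R) (qi : Matrix.SpecialLinearGroup (Fin 2) K) * (ree_phi R) qi = 1 := by
    rw [← map_mul, qi_mul_qi, hz]
  have hcc : (ree_phi R) (qj h3) * (ree_phi R) (qj h3) = 1 := by
    rw [← map_mul, qj_mul_qj, hz]
  have hbc : (ree_phi R) (qi : Matrix.SpecialLinearGroup (Fin 2) K) * (ree_phi R) (qj h3) =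
      (ree_phi R) (qj h3) * (ree_phi R) qi := by
    calc (ree_phi R) (qi : Matrix.SpecialLinearGroup (Fin 2) K) * (ree_phi R) (qj h3)
        = (ree_phi R) (qi * qj h3) := (map_mul _ _ _).symm
      _ = (ree_phi R) (qz * qj h3 * qi) := by rw [(qi_mul_qj h3).eq]
      _ = (ree_phi R) qz * (ree_phi R) (qj h3) * (ree_phi R) qi := by rw [map_mul, map_mul]
      _ = (ree_phi R) (qj h3) * (ree_phi R) qi := by rw [hz, one_mul]
  have hbcbc : ((ree_phi R) (qi : Matrix.SpecialLinearGroup (Fin 2) K) * (ree_phi R) (qj h3)) *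
      ((ree_phi R) qi * (ree_phi R) (qj h3)) = 1 := by
    calc ((ree_phi R) (qi : Matrix.SpecialLinearGroup (Fin 2) K) * (ree_phi R) (qj h3)) *
          ((ree_phi R) qi * (ree_phi R) (qj h3))
        = (ree_phi R) qi * ((ree_phi R) (qj h3) * (ree_phi R) qi) * (ree_phi R) (qj h3) := by
          simp only [mul_assoc]
      _ = (ree_phi R) qi * ((ree_phi R) qi * (ree_phi R) (qj h3)) * (ree_phi R) (qj h3) := by rw [hbc]
      _ = ((ree_phi R) qi * (ree_phi R) qi) * ((ree_phi R) (qj h3) * (ree_phi R) (qj h3)) := by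
          simp only [mul_assoc]
      _ = 1 := by rw [hbb, hcc, one_mul]
  refine ⟨qi, qj h3, sl2u 1, hbb, hcc, hbc, ?_, ?_, ?_, ?_, ?_, ?_, ?_, ?_⟩
  · apply e01
    show (!![0, 1; -(1 : K)⁻¹, 0] : Matrix (Fin 2) (Fin 2) K) 0 1 ≠ 0
    simp
  · apply e01
    show (!![1, 1; 1, -1] : Matrix (Fin 2) (Fin 2) K) 0 1 ≠ 0
    simp
  · rw [← map_mul]
    apply e01
    show (!![0, 1; -(1 : K)⁻¹, 0] * !![1, 1; 1, -1] : Matrix (Fin 2) (Fin 2) K) 0 1 ≠ 0
    simp [Matrix.mul_apply, Fin.sum_univ_two]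
  · intro g hgb hgc
    -- the commutators of `g` with `i`, `j` are central
    have key : ∀ t : Matrix.SpecialLinearGroup (Fin 2) K,
        (ree_phi R) g * (ree_phi R) t = (ree_phi R) t * (ree_phi R) g →
        Commute g t ∨ SemiconjBy g t (qz * t) := by
      intro t ht
      have h1 : (ree_phi R) (g * t * g⁻¹ * t⁻¹) = 1 := by
        rw [map_mul, map_mul, map_mul, ht, map_inv, map_inv]
        group
      rcases sl2_center_cases (ree_phi_ker R h1).1 with h | h
      · left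
        show g * t = t * g
        calc g * t = (g * t * g⁻¹ * t⁻¹) * t * g := by group
          _ = t * g := by rw [h, one_mul]
      · right
        show g * t = qz * t * g
        calc g * t = (g * t * g⁻¹ * t⁻¹) * t * g := by group
          _ = qz * t * g := by rw [h]
    obtain ⟨q, hq, hqi, hqj⟩ := quat_reduce qi (qj h3) qz qz_comm qz_mul_qz (qj_mul_qi h3) (qi_mul_qj h3) g
      (key qi hgb) (key (qj h3) hgc)
    have h1 : (ree_phi R) g * (ree_phi R) q = 1 := by
      rw [← map_mul]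
      exact ree_phi_center R (sl2_comm_qi_qj h3 hqi hqj)
    have h2 : (ree_phi R) g = ((ree_phi R) q)⁻¹ := eq_inv_of_mul_eq_one_left h1
    rcases hq with rfl | rfl | rfl | rfl
    · left
      rw [h2, map_one, inv_one]
    · right; right; left
      rw [h2]
      exact inv_eq_of_mul_eq_one_left hcc
    · right; left
      rw [h2]
      exact inv_eq_of_mul_eq_one_left hbb
    · right; right; right
      rw [h2, map_mul]
      exact inv_eq_of_mul_eq_one_left hbcbc
  · rw [← map_mul, ← map_mul, sl2u_cube h3, map_one]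
  · apply e01
    show (!![1, 1; 0, 1] : Matrix (Fin 2) (Fin 2) K) 0 1 ≠ 0
    simp
  · calc (ree_phi R) (sl2u 1) * (ree_phi R) (qi : Matrix.SpecialLinearGroup (Fin 2) K)
        = (ree_phi R) (sl2u 1 * qi) := (map_mul _ _ _).symm
      _ = (ree_phi R) (qz * qj h3 * sl2u 1) := by rw [(sl2u_mul_qi h3).eq]
      _ = (ree_phi R) qz * (ree_phi R) (qj h3) * (ree_phi R) (sl2u 1) := by rw [map_mul, map_mul]
      _ = (ree_phi R) (qj h3) * (ree_phi R) (sl2u 1) := by rw [hz, one_mul]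
  · calc (ree_phi R) (sl2u 1) * (ree_phi R) (qj h3)
        = (ree_phi R) (sl2u 1 * qj h3) := (map_mul _ _ _).symm
      _ = (ree_phi R) (qz * (qi * qj h3) * sl2u 1) := by rw [(sl2u_mul_qj h3).eq]
      _ = (ree_phi R) qz * ((ree_phi R) qi * (ree_phi R) (qj h3)) * (ree_phi R) (sl2u 1) := by
          rw [map_mul, map_mul, map_mul]
      _ = (ree_phi R) qi * (ree_phi R) (qj h3) * (ree_phi R) (sl2u 1) := by rw [hz, one_mul]

/-- An involution of `H¹`. -/
theorem ree_exists_invol2 : ∃ a : GL chevG2.Idx K, a ∈ chevG2.diagonalSubgroup K ⊓ twistedG2 K e ∧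
    a ≠ 1 ∧ a * a = 1 := by
  obtain ⟨h, hH, hΓ, hent⟩ := R.exists_diag_entry (-1) (neg_ne_zero.mpr one_ne_zero)
  have hfix := R.twisted_le_fix hΓ
  refine ⟨h, Subgroup.mem_inf.mpr ⟨hH, hΓ⟩, ?_, ?_⟩
  · rintro rfl
    rw [Units.val_one, Matrix.one_apply_eq] at hent
    exact ree_neg_one_ne_one R hent.symm
  · apply R.fix_diag_inj (mul_mem hH hH) (mul_mem hfix hfix) (one_mem _) (one_mem _)
    rw [diag_entry_mul hH hH, hent, Units.val_one, Matrix.one_apply_eq]
    ring

end ReeFour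

end Cfsg.Agent.Lib.helper44

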