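import Cfsg.Agent.Lib.helper44.ReeCent3
import Cfsg.Agent.Lib.helper23.ChevReeSyl

set_option autoImplicit false
set_option maxRecDepth 100000

/-!
# Centralizers of torus elements and of elements of order 3 in the small Ree groups

* `ree_cent_torus`: the centralizer in `G¹` of an element `t` of `H¹` with `t² ≠ 1` is contained in `H¹`;
* `ree_three_cent`: an element of `G¹` of order prime to `q (q - 1)` commutes with no element of order `3`;
* `ree_phi_comm_lift`, `ree_lift_odd`: lifting elements of odd order and commutation through `φ : SL₂ → G¹`.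
-/

namespace Cfsg.Agent.Lib.helper44

open Cfsg Cfsg.Lie Cfsg.Agent.Lib.helper41 Cfsg.Agent.Lib.helper22 Cfsg.Agent.Lib.helper23

section SL2Aux

variable {K : Type*} [Field K]

theorem qz_ne_one (h : (-1 : K) ≠ 1) : (qz : Matrix.SpecialLinearGroup (Fin 2) K) ≠ 1 := by
  intro h1
  apply h
  have h2 := congrArg (fun g : Matrix.SpecialLinearGroup (Fin 2) K => g.val 0 0) h1
  have h3 : (qz : Matrix.SpecialLinearGroup (Fin 2) K).val 0 0 = -1 := rfl
  have h4 : (1 : Matrix.SpecialLinearGroup (Fin 2) K).val 0 0 = 1 := by simp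
  exact h3.symm.trans (h2.trans h4)

theorem qz_val_10 : (qz : Matrix.SpecialLinearGroup (Fin 2) K).val 1 0 = 0 := rfl

theorem qz_val_11 : (qz : Matrix.SpecialLinearGroup (Fin 2) K).val 1 1 = -1 := by
  show (-1 : K)⁻¹ = -1
  exact inv_neg_one

theorem sl2h_val_10 (p : K) (hp : p ≠ 0) : (sl2h p hp).val 1 0 = 0 := rfl

theorem sl2h_val_00 (p : K) (hp : p ≠ 0) : (sl2h p hp).val 0 0 = p := rfl

theorem sl2h_val_11 (p : K) (hp : p ≠ 0) : (sl2h p hp).val 1 1 = p⁻¹ := rfl

theorem sl2h_val_01 (p : K) (hp : p ≠ 0) : (sl2h p hp).val 0 1 = 0 := rfl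

end SL2Aux

section Cent4

variable {K : Type*} [Field K] {e : ℕ} (R : ReeData K e)

include R

/-- `φ` maps upper triangular matrices into `B`. -/
theorem ree_phi_mem_borel {g : Matrix.SpecialLinearGroup (Fin 2) K} (hr : g.val 1 0 = 0) :
    (ree_phi R) g ∈ chevG2.borelSubgroup K := by
  obtain ⟨hp, hg⟩ := sl2_upper_decomp g hr
  rw [← hg, map_mul]
  exact mul_mem (Subgroup.mem_sup_right (Subgroup.mem_inf.mp (ree_phi_sl2h R _ hp).1).1)
    (Subgroup.mem_sup_left (ree_phi_sl2u_pos R _))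

/-- Commutation of `φ(g)` with `φ(s)` lifts to `SL₂` when `s` has odd order. -/
theorem ree_phi_comm_lift {s g : Matrix.SpecialLinearGroup (Fin 2) K} {p : ℕ} (hp : Odd p) (hs : s ^ p = 1)
    (hc : (ree_phi R) g * (ree_phi R) s = (ree_phi R) s * (ree_phi R) g) : g * s = s * g := by
  have h1 : (ree_phi R) (g * s * g⁻¹ * s⁻¹) = 1 := by
    rw [map_mul, map_mul, map_mul, map_inv, map_inv, hc]
    group
  rcases sl2_center_cases (ree_phi_ker R h1).1 with h | h
  · calc g * s = (g * s * g⁻¹ * s⁻¹) * (s * g) := by group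
      _ = s * g := by rw [h, one_mul]
  · exfalso
    have e1 : g * s * g⁻¹ = qz * s := by
      calc g * s * g⁻¹ = (g * s * g⁻¹ * s⁻¹) * s := by group
        _ = qz * s := by rw [h]
    have e2 : (g * s * g⁻¹) ^ p = 1 := by
      rw [conj_pow, hs]
      group
    rw [e1, (qz_comm s).mul_pow, hs, mul_one] at e2
    obtain ⟨j, rfl⟩ := hp
    rw [pow_succ, pow_mul, pow_two, qz_mul_qz, one_pow, one_mul] at e2
    exact qz_ne_one (ree_neg_one_ne_one R) e2

/-- An element of odd order of the centralizer of the involution `a` of `H¹` is the image under `φ` of an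
element of the same odd exponent. -/
theorem ree_lift_odd {a t : GL chevG2.Idx K} (haH : a ∈ chevG2.diagonalSubgroup K ⊓ twistedG2 K e)
    (ha1 : a ≠ 1) (ha2 : a * a = 1) (ht : t ∈ twistedG2 K e) (hc : a * t = t * a) {p : ℕ} (hp : Odd p)
    (htp : t ^ p = 1) : ∃ s : Matrix.SpecialLinearGroup (Fin 2) K, t = (ree_phi R) s ∧ s ^ p = 1 := by
  have hcomm := ree_invol_comm' R haH ha1 ha2
  have hap : a ^ p = a := by
    obtain ⟨j, rfl⟩ := hp
    rw [pow_succ, pow_mul, pow_two, ha2, one_pow, one_mul]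
  obtain ⟨g, hg | hg⟩ := ree_cent_cases R haH ha1 ha2 ht hc
  · have h1 : (ree_phi R) (g ^ p) = 1 := by rw [map_pow, ← hg, htp]
    rcases sl2_center_cases (ree_phi_ker R h1).1 with h | h
    · exact ⟨g, hg, h⟩
    · refine ⟨qz * g, ?_, ?_⟩
      · rw [map_mul, ree_phi_center R qz_mem_center, one_mul]
        exact hg
      · rw [(qz_comm g).mul_pow, h]
        obtain ⟨j, rfl⟩ := hp
        rw [pow_succ, pow_mul, pow_two, qz_mul_qz, one_pow, one_mul, qz_mul_qz]
  · exfalso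
    have h1 : a * (ree_phi R) (g ^ p) = 1 := by
      rw [map_pow, ← hap, ← (hcomm g).mul_pow, ← hg, htp]
    apply ree_invol_not_phi R haH ha1 ha2 (g ^ p)⁻¹
    rw [map_inv]
    exact eq_inv_of_mul_eq_one_left h1

/-- An element of `H¹` commuting with the Weyl element has square `1`. -/
theorem ree_w0_comm_sq {n t : GL chevG2.Idx K} (hn : ReeW0 e n)
    (ht : t ∈ chevG2.diagonalSubgroup K ⊓ twistedG2 K e) (hc : n * t = t * n) : t * t = 1 := by
  obtain ⟨a, haH, ha1, ha2⟩ := ree_exists_invol2 R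
  have I := bnInput_G2 K
  have h1 := Subgroup.mem_inf.mp haH
  have ht1 := Subgroup.mem_inf.mp ht
  have hcomm := ree_invol_comm' R haH ha1 ha2
  have hHB : chevG2.diagonalSubgroup K ≤ chevG2.borelSubgroup K := le_sup_right
  have hna : n * a * n⁻¹ = a := by
    have hmem : n * a * n⁻¹ ∈ chevG2.diagonalSubgroup K ⊓ twistedG2 K e :=
      Subgroup.mem_inf.mpr ⟨conj_mem_diag I hn.mono h1.1, mul_mem (mul_mem hn.tw h1.2) (inv_mem hn.tw)⟩
    have hm1 := Subgroup.mem_inf.mp hmem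
    have hne : n * a * n⁻¹ ≠ 1 := by
      intro h
      apply ha1
      calc a = n⁻¹ * (n * a * n⁻¹) * n := by group
        _ = 1 := by rw [h]; group
    have hsq : (n * a * n⁻¹) * (n * a * n⁻¹) = 1 := by
      calc (n * a * n⁻¹) * (n * a * n⁻¹) = n * (a * a) * n⁻¹ := by group
        _ = 1 := by rw [ha2]; group
    apply R.fix_diag_inj hm1.1 (R.twisted_le_fix hm1.2) h1.1 (R.twisted_le_fix h1.2)
    rw [ree_invol_entry R hmem hne hsq, ree_invol_entry R haH ha1 ha2]
  have han : a * n = n * a := by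
    calc a * n = (n * a * n⁻¹) * n := by rw [hna]
      _ = n * a := by group
  obtain ⟨gn, hgn⟩ := ree_cent_cases R haH ha1 ha2 hn.tw han
  obtain ⟨gt, hgt⟩ := ree_diag_cent R haH ha1 ha2 ht
  have hat : a * t = t * a := by
    rcases hgt with h | h
    · rw [h]
      exact (hcomm gt).eq
    · rw [h]
      calc a * (a * (ree_phi R) gt) = a * ((ree_phi R) gt * a) := by rw [(hcomm gt).eq]
        _ = a * (ree_phi R) gt * a := by rw [mul_assoc]
  have hφt : (ree_phi R) gt ∈ chevG2.diagonalSubgroup K := by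
    rcases hgt with h | h
    · rw [← h]
      exact ht1.1
    · have e1 : (ree_phi R) gt = a * t := by rw [h, ← mul_assoc, ha2, one_mul]
      rw [e1]
      exact mul_mem h1.1 ht1.1
  obtain ⟨hp, hgtp⟩ := ree_phi_diag R hφt
  have hφn : (ree_phi R) gn ∉ chevG2.borelSubgroup K := by
    intro hB
    apply hn.not_mem_borel
    rcases hgn with h | h
    · rw [h]
      exact hB
    · rw [h]
      exact mul_mem (hHB h1.1) hB
  have hγ : gn.val 1 0 ≠ 0 := fun h0 => hφn (ree_phi_mem_borel R h0)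
  have hPt : (ree_phi R) gn * t = t * (ree_phi R) gn := by
    rcases hgn with h | h
    · rw [← h]
      exact hc
    · have e1 : (ree_phi R) gn = a * n := by rw [h, ← mul_assoc, ha2, one_mul]
      rw [e1]
      calc a * n * t = a * (n * t) := by rw [mul_assoc]
        _ = a * (t * n) := by rw [hc]
        _ = (a * t) * n := by rw [mul_assoc]
        _ = (t * a) * n := by rw [hat]
        _ = t * (a * n) := by rw [mul_assoc]
  have hPQ : (ree_phi R) gn * (ree_phi R) gt = (ree_phi R) gt * (ree_phi R) gn := by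
    rcases hgt with h | h
    · rw [← h]
      exact hPt
    · have e1 : (ree_phi R) gt = a * t := by rw [h, ← mul_assoc, ha2, one_mul]
      rw [e1]
      calc (ree_phi R) gn * (a * t) = ((ree_phi R) gn * a) * t := by rw [mul_assoc]
        _ = (a * (ree_phi R) gn) * t := by rw [(hcomm gn).eq]
        _ = a * ((ree_phi R) gn * t) := by rw [mul_assoc]
        _ = a * (t * (ree_phi R) gn) := by rw [hPt]
        _ = a * t * (ree_phi R) gn := by rw [mul_assoc]
  have hker : (ree_phi R) (gn * gt * gn⁻¹ * gt⁻¹) = 1 := by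
    rw [map_mul, map_mul, map_mul, map_inv, map_inv, hPQ]
    group
  have hmul : ∀ c : Matrix.SpecialLinearGroup (Fin 2) K, gn * gt * gn⁻¹ * gt⁻¹ = c → gn * gt = c * gt * gn := by
    intro c hc'
    rw [← hc']
    group
  obtain ⟨p, hp0, hgt'⟩ : ∃ (p : K) (hp0 : p ≠ 0), gt = sl2h p hp0 := ⟨_, hp, hgtp⟩
  subst hgt'
  have hpp : p * p = 1 := by
    rcases sl2_center_cases (ree_phi_ker R hker).1 with hc1 | hc1
    · have e := hmul 1 hc1
      rw [one_mul] at e
      have e10 : (gn * sl2h p hp0).val 1 0 = (sl2h p hp0 * gn).val 1 0 := by rw [e]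
      rw [Matrix.SpecialLinearGroup.coe_mul, Matrix.SpecialLinearGroup.coe_mul, Matrix.mul_apply,
        Matrix.mul_apply, Fin.sum_univ_two, Fin.sum_univ_two, sl2h_val_00, sl2h_val_10, sl2h_val_11] at e10
      apply mul_left_cancel₀ hγ
      calc gn.val 1 0 * (p * p) = (gn.val 1 0 * p + gn.val 1 1 * 0) * p := by ring
        _ = (0 * gn.val 0 0 + p⁻¹ * gn.val 1 0) * p := by rw [e10]
        _ = gn.val 1 0 * (p⁻¹ * p) := by ring
        _ = gn.val 1 0 * 1 := by rw [inv_mul_cancel₀ hp0]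
    · exfalso
      have e := hmul qz hc1
      have e10 : (gn * sl2h p hp0).val 1 0 = (qz * sl2h p hp0 * gn).val 1 0 := by rw [e]
      rw [Matrix.SpecialLinearGroup.coe_mul, Matrix.SpecialLinearGroup.coe_mul,
        Matrix.SpecialLinearGroup.coe_mul, Matrix.mul_apply,
        Matrix.mul_apply, Fin.sum_univ_two, Fin.sum_univ_two, Matrix.mul_apply, Matrix.mul_apply,
        Fin.sum_univ_two, Fin.sum_univ_two, sl2h_val_00, sl2h_val_10, sl2h_val_11, sl2h_val_01,
        qz_val_10, qz_val_11] at e10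
      apply ree_sq_ne_neg_one R p
      apply mul_left_cancel₀ hγ
      calc gn.val 1 0 * (p * p) = (gn.val 1 0 * p + gn.val 1 1 * 0) * p := by ring
        _ = ((0 * p + -1 * 0) * gn.val 0 0 + (0 * 0 + -1 * p⁻¹) * gn.val 1 0) * p := by rw [e10]
        _ = gn.val 1 0 * (-(p⁻¹ * p)) := by ring
        _ = gn.val 1 0 * -1 := by rw [inv_mul_cancel₀ hp0]
  have hone : (ree_phi R) (sl2h p hp0) = 1 := ree_phi_center R (sl2h_mem_center p hp0 hpp)
  rw [hone] at hgt
  rcases hgt with h | h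
  · rw [h, one_mul]
  · rw [h, mul_one, ha2]

/-- The centralizer in `G¹` of an element `t` of `H¹` with `t² ≠ 1` is contained in `H¹`. -/
theorem ree_cent_torus [Finite K] {t x : GL chevG2.Idx K}
    (ht : t ∈ chevG2.diagonalSubgroup K ⊓ twistedG2 K e) (ht2 : t * t ≠ 1) (hx : x ∈ twistedG2 K e)
    (hc : x * t = t * x) : x ∈ chevG2.diagonalSubgroup K ⊓ twistedG2 K e := by
  obtain ⟨n, hn⟩ := R.exists_w0
  have I := bnInput_G2 K
  have ht1 := Subgroup.mem_inf.mp ht
  have hNU := (Cfsg.Agent.S1036.result (F := K) chevG2 (by simp)).1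
  have hUB : chevG2.posUnipotent K ≤ chevG2.borelSubgroup K := le_sup_left
  have hHB : chevG2.diagonalSubgroup K ≤ chevG2.borelSubgroup K := le_sup_right
  have hconjU : ∀ u ∈ chevG2.posUnipotent K ⊓ twistedG2 K e,
      t * u * t⁻¹ ∈ chevG2.posUnipotent K ⊓ twistedG2 K e := by
    intro u hu
    have hu1 := Subgroup.mem_inf.mp hu
    exact Subgroup.mem_inf.mpr ⟨(Subgroup.mem_normalizer_iff.mp (hNU ht1.1) u).mp hu1.1,
      mul_mem (mul_mem ht1.2 hu1.2) (inv_mem ht1.2)⟩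
  have hfix : ∀ u ∈ chevG2.posUnipotent K ⊓ twistedG2 K e, t * u * t⁻¹ = u → u = 1 := by
    intro u hu h
    by_contra hne
    apply ht2
    apply ree_sq_eq_one_of_commute R ht hu hne
    calc t * u = (t * u * t⁻¹) * t := by group
      _ = u * t := by rw [h]
  have hHcomm : ∀ h ∈ chevG2.diagonalSubgroup K ⊓ twistedG2 K e, h * t = t * h := by
    intro h hh
    have hcyc := R.diag_cyclic
    have e1 := isMulCommutative_iff.mp
      (IsCyclic.isMulCommutative (α := ↥(chevG2.diagonalSubgroup K ⊓ twistedG2 K e))) ⟨h, hh⟩ ⟨t, ht⟩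
    exact congrArg Subtype.val e1
  rcases R.twisted_cases hn hx with ⟨u, hu, h, hh, rfl⟩ | ⟨u, hu, h, hh, u', hu', rfl⟩
  · have hht := hHcomm h hh
    have h1 : t * u * t⁻¹ = u := by
      calc t * u * t⁻¹ = (t * (u * h)) * h⁻¹ * t⁻¹ := by group
        _ = (u * h * t) * h⁻¹ * t⁻¹ := by rw [hc]
        _ = u * (h * t) * h⁻¹ * t⁻¹ := by group
        _ = u * (t * h) * h⁻¹ * t⁻¹ := by rw [hht]
        _ = u := by group
    rw [hfix u hu h1, one_mul]
    exact hh
  · exfalso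
    have hht := hHcomm h hh
    have hu1 := Subgroup.mem_inf.mp hu
    have hh1 := Subgroup.mem_inf.mp hh
    have hu'1 := Subgroup.mem_inf.mp hu'
    have e0 : t⁻¹ * h * t = h := by
      rw [mul_assoc, hht]
      group
    have e1 : (t * u * t⁻¹ * (h * (t * (n * t⁻¹ * n⁻¹)))) * n * (t * u' * t⁻¹) = (u * h) * n * u' := by
      calc (t * u * t⁻¹ * (h * (t * (n * t⁻¹ * n⁻¹)))) * n * (t * u' * t⁻¹)
          = t * u * (t⁻¹ * h * t) * n * u' * t⁻¹ := by group
        _ = t * u * h * n * u' * t⁻¹ := by rw [e0]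
        _ = t * (u * h * n * u') * t⁻¹ := by group
        _ = (u * h * n * u' * t) * t⁻¹ := by rw [hc]
        _ = (u * h) * n * u' := by group
    have hd : t * (n * t⁻¹ * n⁻¹) ∈ chevG2.diagonalSubgroup K :=
      mul_mem ht1.1 (conj_mem_diag I hn.mono (inv_mem ht1.1))
    have hb' : t * u * t⁻¹ * (h * (t * (n * t⁻¹ * n⁻¹))) ∈ chevG2.borelSubgroup K :=
      mul_mem (hUB (Subgroup.mem_inf.mp (hconjU u hu)).1) (hHB (mul_mem hh1.1 hd))
    have hb : u * h ∈ chevG2.borelSubgroup K := mul_mem (hUB hu1.1) (hHB hh1.1)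
    obtain ⟨e2, e3⟩ := hn.unique hb' hb (Subgroup.mem_inf.mp (hconjU u' hu')).1 hu'1.1 e1
    obtain ⟨e4, e5⟩ := uh_unique (Subgroup.mem_inf.mp (hconjU u hu)).1 hu1.1 (mul_mem hh1.1 hd) hh1.1 e2
    have hnt : n * t = t * n := by
      have e6 : t * (n * t⁻¹ * n⁻¹) = 1 := by
        calc t * (n * t⁻¹ * n⁻¹) = h⁻¹ * (h * (t * (n * t⁻¹ * n⁻¹))) := by group
          _ = 1 := by rw [e5]; group
      calc n * t = (t * (n * t⁻¹ * n⁻¹))⁻¹ * (t * n) := by group
        _ = t * n := by rw [e6]; group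
    exact ht2 (ree_w0_comm_sq R hn ht hnt)

/-- An element of `B¹` whose order is prime to `q` and to `q - 1` is trivial. -/
theorem ree_borel_pow [Fintype K] {b : GL chevG2.Idx K} (hb : b ∈ chevG2.borelSubgroup K)
    (hbt : b ∈ twistedG2 K e) {k : ℕ} (hk : b ^ k = 1) (hkq : Nat.Coprime k (Fintype.card K))
    (hkq1 : Nat.Coprime k (Fintype.card K - 1)) : b = 1 := by
  obtain ⟨u, hu, h, hh, rfl⟩ := R.borel_twisted hb hbt
  have hu1 := Subgroup.mem_inf.mp hu
  have hh1 := Subgroup.mem_inf.mp hh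
  have hNU := (Cfsg.Agent.S1036.result (F := K) chevG2 (by simp)).1
  have hpow : ∀ j : ℕ, ∃ v ∈ chevG2.posUnipotent K ⊓ twistedG2 K e, (u * h) ^ j = v * h ^ j := by
    intro j
    induction j with
    | zero => exact ⟨1, one_mem _, by rw [pow_zero, pow_zero, one_mul]⟩
    | succ j ih =>
      obtain ⟨v, hv, hvj⟩ := ih
      have hhj : h ^ j ∈ chevG2.diagonalSubgroup K ⊓ twistedG2 K e := pow_mem hh j
      have hhj1 := Subgroup.mem_inf.mp hhj
      refine ⟨v * (h ^ j * u * (h ^ j)⁻¹), mul_mem hv (Subgroup.mem_inf.mpr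
        ⟨(Subgroup.mem_normalizer_iff.mp (hNU hhj1.1) u).mp hu1.1,
          mul_mem (mul_mem hhj1.2 hu1.2) (inv_mem hhj1.2)⟩), ?_⟩
      rw [pow_succ, hvj, pow_succ]
      group
  obtain ⟨v, hv, hvk⟩ := hpow k
  rw [hk] at hvk
  have hv1 := Subgroup.mem_inf.mp hv
  obtain ⟨-, e2⟩ := uh_unique (one_mem _) hv1.1 (one_mem _) (pow_mem hh1.1 k)
    (by rw [one_mul]; exact hvk)
  have hh_one : h = 1 := by
    have hcard := R.card_diag_inf_twisted
    have h2 : (⟨h, hh⟩ : ↥(chevG2.diagonalSubgroup K ⊓ twistedG2 K e)) ^ (Fintype.card K - 1) = 1 := by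
      rw [← hcard]
      exact pow_card_eq_one'
    have h3 : h ^ (Fintype.card K - 1) = 1 := congrArg Subtype.val h2
    have h4 : orderOf h ∣ k := orderOf_dvd_of_pow_eq_one e2.symm
    have h5 : orderOf h ∣ Fintype.card K - 1 := orderOf_dvd_of_pow_eq_one h3
    have h6 : orderOf h ∣ Nat.gcd k (Fintype.card K - 1) := Nat.dvd_gcd h4 h5
    rw [Nat.Coprime.gcd_eq_one hkq1] at h6
    exact orderOf_eq_one_iff.mp (Nat.dvd_one.mp h6)
  rw [hh_one, mul_one] at hk ⊢
  have hcard := R.card_pos_inf_twisted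
  have h2 : (⟨u, hu⟩ : ↥(chevG2.posUnipotent K ⊓ twistedG2 K e)) ^ (Fintype.card K ^ 3) = 1 := by
    rw [← hcard]
    exact pow_card_eq_one'
  have h3 : u ^ (Fintype.card K ^ 3) = 1 := congrArg Subtype.val h2
  have h4 : orderOf u ∣ k := orderOf_dvd_of_pow_eq_one hk
  have h5 : orderOf u ∣ Fintype.card K ^ 3 := orderOf_dvd_of_pow_eq_one h3
  have h6 : orderOf u ∣ Nat.gcd k (Fintype.card K ^ 3) := Nat.dvd_gcd h4 h5
  rw [Nat.Coprime.gcd_eq_one (Nat.Coprime.pow_right 3 hkq)] at h6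
  exact orderOf_eq_one_iff.mp (Nat.dvd_one.mp h6)

/-- An element of `G¹` of order prime to `q (q - 1)` commutes with no element of order `3`. -/
theorem ree_three_cent [Fintype K] {m : ℕ} (hK : Fintype.card K = 3 ^ (2 * m + 1))
    {y t : GL chevG2.Idx K} (hy : y ∈ twistedG2 K e) (ht : t ∈ twistedG2 K e)
    (hy3 : y * y * y = 1) (hy1 : y ≠ 1) (hc : y * t = t * y) {k : ℕ} (hk : t ^ k = 1)
    (hkq : Nat.Coprime k (Fintype.card K)) (hkq1 : Nat.Coprime k (Fintype.card K - 1)) : t = 1 := by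
  obtain ⟨n, hn⟩ := R.exists_w0
  obtain ⟨S₀, hS₀⟩ := R.exists_sylow hK
  have h3 : Fact (Nat.Prime 3) := ⟨Nat.prime_three⟩
  obtain ⟨y', hy'⟩ : ∃ y' : ↥(twistedG2 K e), (y' : GL chevG2.Idx K) = y := ⟨⟨y, hy⟩, rfl⟩
  have hy'3 : y' ^ 3 = 1 := by
    apply Subtype.ext
    show (y' : GL chevG2.Idx K) ^ 3 = 1
    rw [hy', pow_succ, pow_succ, pow_one]
    exact hy3
  have hy'1 : y' ≠ 1 := by
    intro h
    apply hy1
    rw [← hy', h]
    rfl
  have hz : IsPGroup 3 ↥(Subgroup.zpowers y') := by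
    apply IsPGroup.of_card (n := 1)
    rw [Nat.card_zpowers, pow_one]
    have hd : orderOf y' ∣ 3 := orderOf_dvd_of_pow_eq_one hy'3
    rcases (Nat.dvd_prime Nat.prime_three).mp hd with h | h
    · exact absurd (orderOf_eq_one_iff.mp h) hy'1
    · exact h
  obtain ⟨Q, hQ⟩ := hz.exists_le_sylow
  obtain ⟨g, hg⟩ := MulAction.exists_smul_eq ↥(twistedG2 K e) S₀ Q
  have hmem : g⁻¹ * y' * g ∈ S₀ := by
    have h1 : y' ∈ (Q : Subgroup ↥(twistedG2 K e)) := hQ (Subgroup.mem_zpowers y')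
    rw [← hg, Sylow.coe_subgroup_smul, Subgroup.mem_pointwise_smul_iff_inv_smul_mem, MulAut.smul_def,
      MulAut.conj_inv_apply] at h1
    exact h1
  rw [hS₀] at hmem
  have hu : (g : GL chevG2.Idx K)⁻¹ * y * g ∈ chevG2.posUnipotent K := by
    rw [← hy']
    exact hmem
  have hu1 : (g : GL chevG2.Idx K)⁻¹ * y * g ≠ 1 := by
    intro h
    apply hy1
    calc y = g * ((g : GL chevG2.Idx K)⁻¹ * y * g) * (g : GL chevG2.Idx K)⁻¹ := by group
      _ = 1 := by rw [h]; group
  have ht' : (g : GL chevG2.Idx K)⁻¹ * t * g ∈ twistedG2 K e := mul_mem (mul_mem (inv_mem g.2) ht) g.2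
  have hcomm : ((g : GL chevG2.Idx K)⁻¹ * t * g) * ((g : GL chevG2.Idx K)⁻¹ * y * g) *
      ((g : GL chevG2.Idx K)⁻¹ * t * g)⁻¹ = (g : GL chevG2.Idx K)⁻¹ * y * g := by
    calc ((g : GL chevG2.Idx K)⁻¹ * t * g) * ((g : GL chevG2.Idx K)⁻¹ * y * g) *
          ((g : GL chevG2.Idx K)⁻¹ * t * g)⁻¹
        = (g : GL chevG2.Idx K)⁻¹ * (t * y) * t⁻¹ * g := by group
      _ = (g : GL chevG2.Idx K)⁻¹ * (y * t) * t⁻¹ * g := by rw [hc]
      _ = (g : GL chevG2.Idx K)⁻¹ * y * g := by group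
  have hB : (g : GL chevG2.Idx K)⁻¹ * t * g ∈ chevG2.borelSubgroup K := by
    by_contra hnB
    exact hu1 (R.conj_pos_trivial hn ht' hnB hu (by rw [hcomm]; exact hu))
  have hpow : ((g : GL chevG2.Idx K)⁻¹ * t * g) ^ k = 1 := by
    have e1 : ((g : GL chevG2.Idx K)⁻¹ * t * g) ^ k = (g : GL chevG2.Idx K)⁻¹ * t ^ k * g := by
      have e2 := conj_pow (a := (g : GL chevG2.Idx K)⁻¹) (b := t) (i := k)
      rw [inv_inv] at e2
      exact e2
    rw [e1, hk]
    group
  have h1 := ree_borel_pow R hB ht' hpow hkq hkq1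
  calc t = g * ((g : GL chevG2.Idx K)⁻¹ * t * g) * (g : GL chevG2.Idx K)⁻¹ := by group
    _ = 1 := by rw [h1]; group

end Cent4

end Cfsg.Agent.Lib.helper44
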