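import Cfsg.Agent.Lib.helper44.ReeGen

set_option autoImplicit false
set_option maxRecDepth 100000

/-!
# Field automorphisms of the twisted group of type `G₂`

A ring automorphism `ψ` of `K` acts entrywise on `GL`, sends `x_r(t)` to `x_r(ψ t)`, and so preserves `U`, `H`
and the twisted group `G¹`.
-/

namespace Cfsg.Agent.Lib.helper44

open Cfsg Cfsg.Lie Cfsg.Agent.Lib.helper41 Cfsg.Agent.Lib.helper22 Cfsg.Agent.Lib.helper23

section FieldAut

variable {K : Type*} [Field K]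

theorem x_map_ring (ψ : K →+* K) (r : ℕ) (t : K) :
    (chevG2.x K r t).map ψ = chevG2.x K r (ψ t) := by
  unfold ChevalleyDatum.x
  split_ifs with h
  · exact xMat_map_hom chevG2 ψ ⟨r, h⟩ t
  · exact Matrix.map_one ψ (map_zero ψ) (map_one ψ)

theorem wordMat_map_ring (ψ : K →+* K) (w : List (ℕ × K)) :
    (chevG2.wordMat K w).map ψ = chevG2.wordMat K (w.map fun p => (p.1, ψ p.2)) := by
  induction w with
  | nil =>
    rw [List.map_nil, wordMat_nil]
    exact Matrix.map_one ψ (map_zero ψ) (map_one ψ)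
  | cons p w ih =>
    rw [wordMat_cons, List.map_cons, wordMat_cons, Matrix.map_mul, ih, x_map_ring]

theorem reeWordU_map (ψ : K →+* K) (e : ℕ) (t u v : K) :
    (reeWordU e t u v).map (fun p => (p.1, ψ p.2)) = reeWordU e (ψ t) (ψ u) (ψ v) := by
  simp [reeWordU, map_pow, map_add]

theorem reeWordV_map (ψ : K →+* K) (e : ℕ) (t u v : K) :
    (reeWordV e t u v).map (fun p => (p.1, ψ p.2)) = reeWordV e (ψ t) (ψ u) (ψ v) := by
  simp [reeWordV, reeWordU, ChevalleyDatum.negWord, map_pow, map_add, map_neg]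

theorem glMap_entry (ψ : K ≃+* K) (g : GL chevG2.Idx K) (i j : chevG2.Idx) :
    ((glMapEquiv chevG2 ψ g : GL chevG2.Idx K) : Matrix chevG2.Idx chevG2.Idx K) i j =
      ψ ((g : Matrix chevG2.Idx chevG2.Idx K) i j) := by
  rw [glMapEquiv_val]
  rfl

theorem glMap_word (ψ : K ≃+* K) {g : GL chevG2.Idx K} {w : List (ℕ × K)}
    (hg : (g : Matrix chevG2.Idx chevG2.Idx K) = chevG2.wordMat K w) :
    ((glMapEquiv chevG2 ψ g : GL chevG2.Idx K) : Matrix chevG2.Idx chevG2.Idx K) =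
      chevG2.wordMat K (w.map fun p => (p.1, ψ p.2)) := by
  rw [glMapEquiv_val, hg, wordMat_map_ring]
  rfl

theorem glMap_reeU (ψ : K ≃+* K) {e : ℕ} {t u v : K} {g : GL chevG2.Idx K}
    (hg : (g : Matrix chevG2.Idx chevG2.Idx K) = chevG2.wordMat K (reeWordU e t u v)) :
    ((glMapEquiv chevG2 ψ g : GL chevG2.Idx K) : Matrix chevG2.Idx chevG2.Idx K) =
      chevG2.wordMat K (reeWordU e (ψ t) (ψ u) (ψ v)) := by
  rw [glMap_word ψ hg]
  exact congrArg _ (reeWordU_map (ψ : K →+* K) e t u v)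

theorem glMap_twisted (ψ : K ≃+* K) (e : ℕ) {g : GL chevG2.Idx K} (hg : g ∈ twistedG2 K e) :
    glMapEquiv chevG2 ψ g ∈ twistedG2 K e := by
  have hle : Subgroup.closure {g : GL chevG2.Idx K | ∃ w ∈ g2Words K e,
      (g : Matrix chevG2.Idx chevG2.Idx K) = chevG2.wordMat K w} ≤
      (twistedG2 K e).comap (glMapEquiv chevG2 ψ).toMonoidHom := by
    rw [Subgroup.closure_le]
    rintro g ⟨w, hw, hgw⟩
    show glMapEquiv chevG2 ψ g ∈ twistedG2 K e
    apply Subgroup.subset_closure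
    refine ⟨w.map fun p => (p.1, ψ p.2), ?_, glMap_word ψ hgw⟩
    obtain ⟨t, u, v, h | h⟩ := hw
    · exact ⟨ψ t, ψ u, ψ v, Or.inl (by rw [h]; exact reeWordU_map (ψ : K →+* K) e t u v)⟩
    · exact ⟨ψ t, ψ u, ψ v, Or.inr (by rw [h]; exact reeWordV_map (ψ : K →+* K) e t u v)⟩
  exact hle hg

theorem glMap_pos (ψ : K ≃+* K) {g : GL chevG2.Idx K} (hg : g ∈ chevG2.posUnipotent K) :
    glMapEquiv chevG2 ψ g ∈ chevG2.posUnipotent K := by
  have hle : chevG2.posUnipotent K ≤ (chevG2.posUnipotent K).comap (glMapEquiv chevG2 ψ).toMonoidHom := by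
    unfold ChevalleyDatum.posUnipotent
    rw [Subgroup.closure_le]
    rintro g ⟨r, t, hr, hgx⟩
    show glMapEquiv chevG2 ψ g ∈ Subgroup.closure _
    apply Subgroup.subset_closure
    refine ⟨r, ψ t, hr, ?_⟩
    rw [glMapEquiv_val, hgx, x_map_ring]
    rfl
  exact hle hg

theorem hWord_map (ψ : K →+* K) (r : ℕ) (t : K) :
    (chevG2.hWord r t).map (fun p => (p.1, ψ p.2)) = chevG2.hWord r (ψ t) := by
  simp [ChevalleyDatum.hWord, ChevalleyDatum.nWord, map_neg, map_inv₀]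

theorem glMap_diag (ψ : K ≃+* K) {g : GL chevG2.Idx K} (hg : g ∈ chevG2.diagonalSubgroup K) :
    glMapEquiv chevG2 ψ g ∈ chevG2.diagonalSubgroup K := by
  have hle : chevG2.diagonalSubgroup K ≤
      (chevG2.diagonalSubgroup K).comap (glMapEquiv chevG2 ψ).toMonoidHom := by
    unfold ChevalleyDatum.diagonalSubgroup
    rw [Subgroup.closure_le]
    rintro g ⟨r, t, hr, ht, hgx⟩
    show glMapEquiv chevG2 ψ g ∈ Subgroup.closure _
    apply Subgroup.subset_closure
    refine ⟨r, ψ t, hr, ?_, ?_⟩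
    · exact (map_ne_zero ψ).mpr ht
    · unfold ChevalleyDatum.hMat at hgx ⊢
      rw [glMap_word ψ hgx]
      exact congrArg _ (hWord_map (ψ : K →+* K) r t)
  exact hle hg

/-- The field automorphism of the twisted group induced by a ring automorphism of `K`. -/
noncomputable def reeFieldAut (ψ : K ≃+* K) (e : ℕ) : ↥(twistedG2 K e) ≃* ↥(twistedG2 K e) where
  toFun g := ⟨glMapEquiv chevG2 ψ g.1, glMap_twisted ψ e g.2⟩
  invFun g := ⟨glMapEquiv chevG2 ψ.symm g.1, glMap_twisted ψ.symm e g.2⟩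
  left_inv g := Subtype.ext ((glMapEquiv chevG2 ψ).symm_apply_apply g.1)
  right_inv g := Subtype.ext ((glMapEquiv chevG2 ψ).apply_symm_apply g.1)
  map_mul' a b := Subtype.ext (map_mul (glMapEquiv chevG2 ψ) a.1 b.1)

theorem reeFieldAut_coe (ψ : K ≃+* K) (e : ℕ) (g : ↥(twistedG2 K e)) :
    ((reeFieldAut ψ e g : ↥(twistedG2 K e)) : GL chevG2.Idx K) = glMapEquiv chevG2 ψ g.1 := rfl

theorem reeFieldAut_symm_coe (ψ : K ≃+* K) (e : ℕ) (g : ↥(twistedG2 K e)) :
    (((reeFieldAut ψ e).symm g : ↥(twistedG2 K e)) : GL chevG2.Idx K) = glMapEquiv chevG2 ψ.symm g.1 := rfl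

end FieldAut

end Cfsg.Agent.Lib.helper44
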