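import Cfsg.Agent.Lib.helper23.ChevReeO
import Cfsg.Agent.Lib.helper23.ChevReeSimple
import Cfsg.Agent.Lib.helper23.ChevReeT

set_option autoImplicit false
set_option maxRecDepth 100000

/-!
# Generation of the twisted group of type `G₂` by two elements

The entry `(2,0)` (from the lowest root to the root two steps above) of an element `U(t,u,v)` of `U¹` is
`-u^θ`; on `U` it satisfies `s(g g') = s(g) + g₂₁ g'₁₀ + s(g')`.  This gives the `u`-coordinate of cubes and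
commutators in `U¹`, hence: a subgroup containing `H¹` and an element `U(t,u,v)` with `t ≠ 0` contains `U¹`.
-/

namespace Cfsg.Agent.Lib.helper44

open Cfsg Cfsg.Lie Cfsg.Agent.Lib.helper41 Cfsg.Agent.Lib.helper22 Cfsg.Agent.Lib.helper23

theorem chainSec_G2 : ∀ r : Fin 12, 6 ≤ r.val →
    chevG2.chainCoeff r.val 0 2 = (if r.val = 8 then [(1, -1)] else []) := by decide +kernel

section Sec

variable {K : Type*} [Field K]

/-- The entry two steps above the diagonal, from the lowest root. -/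
theorem sec_mul {g g' : GL chevG2.Idx K} (hg : g ∈ chevG2.posUnipotent K)
    (hg' : g' ∈ chevG2.posUnipotent K) :
    ((g * g' : GL chevG2.Idx K) : Matrix chevG2.Idx chevG2.Idx K) (Sum.inr ⟨2, by decide⟩) (Sum.inr ⟨0, by decide⟩) =
      (g : Matrix chevG2.Idx chevG2.Idx K) (Sum.inr ⟨2, by decide⟩) (Sum.inr ⟨0, by decide⟩) +
      (g : Matrix chevG2.Idx chevG2.Idx K) (Sum.inr ⟨2, by decide⟩) (Sum.inr ⟨1, by decide⟩) *
        (g' : Matrix chevG2.Idx chevG2.Idx K) (Sum.inr ⟨1, by decide⟩) (Sum.inr ⟨0, by decide⟩) +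
      (g' : Matrix chevG2.Idx chevG2.Idx K) (Sum.inr ⟨2, by decide⟩) (Sum.inr ⟨0, by decide⟩) := by
  rw [Units.val_mul, Matrix.mul_apply]
  have r0 : rho chevG2 (Sum.inr ⟨0, by decide⟩) = 0 := by decide
  have r2 : rho chevG2 (Sum.inr ⟨2, by decide⟩) = 2 := by decide
  have n20 : (Sum.inr ⟨2, by decide⟩ : chevG2.Idx) ≠ Sum.inr ⟨0, by decide⟩ := by decide
  have n21 : (Sum.inr ⟨2, by decide⟩ : chevG2.Idx) ≠ Sum.inr ⟨1, by decide⟩ := by decide
  have n10 : (Sum.inr ⟨1, by decide⟩ : chevG2.Idx) ≠ Sum.inr ⟨0, by decide⟩ := by decide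
  have key : ∀ k : chevG2.Idx,
      (g : Matrix chevG2.Idx chevG2.Idx K) (Sum.inr ⟨2, by decide⟩) k *
        (g' : Matrix chevG2.Idx chevG2.Idx K) k (Sum.inr ⟨0, by decide⟩) =
      (if k = Sum.inr ⟨0, by decide⟩ then
          (g : Matrix chevG2.Idx chevG2.Idx K) (Sum.inr ⟨2, by decide⟩) (Sum.inr ⟨0, by decide⟩) else 0) +
      (if k = Sum.inr ⟨1, by decide⟩ then
          (g : Matrix chevG2.Idx chevG2.Idx K) (Sum.inr ⟨2, by decide⟩) (Sum.inr ⟨1, by decide⟩) *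
          (g' : Matrix chevG2.Idx chevG2.Idx K) (Sum.inr ⟨1, by decide⟩) (Sum.inr ⟨0, by decide⟩) else 0) +
      (if k = Sum.inr ⟨2, by decide⟩ then
          (g' : Matrix chevG2.Idx chevG2.Idx K) (Sum.inr ⟨2, by decide⟩) (Sum.inr ⟨0, by decide⟩) else 0) := by
    intro k
    by_cases h0 : k = Sum.inr ⟨0, by decide⟩
    · rw [h0, if_pos rfl, if_neg (Ne.symm n10), if_neg (Ne.symm n20), uni_diag hg', mul_one, add_zero, add_zero]
    · by_cases h1 : k = Sum.inr ⟨1, by decide⟩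
      · rw [h1, if_neg n10, if_pos rfl, if_neg (Ne.symm n21), zero_add, add_zero]
      · by_cases h2 : k = Sum.inr ⟨2, by decide⟩
        · rw [h2, if_neg n20, if_neg n21, if_pos rfl, uni_diag hg, one_mul, zero_add, zero_add]
        · rw [if_neg h0, if_neg h1, if_neg h2, add_zero, add_zero]
          by_contra hne'
          obtain ⟨ha, hb⟩ := mul_ne_zero_iff.mp hne'
          have h3 := uni_off hg (Ne.symm h2) ha
          have h4 := uni_off hg' h0 hb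
          exact h1 (rho_eq_one_G2 k (by omega))
  rw [Finset.sum_congr rfl fun k _ => key k, Finset.sum_add_distrib, Finset.sum_add_distrib,
    Finset.sum_ite_eq', Finset.sum_ite_eq', Finset.sum_ite_eq',
    if_pos (Finset.mem_univ _), if_pos (Finset.mem_univ _), if_pos (Finset.mem_univ _)]

/-- The entry `(2,0)` of a positive root element. -/
theorem sec_x {r : ℕ} (hr6 : 6 ≤ r) (hr : r < 12) (c : K) {g : GL chevG2.Idx K}
    (hg : (g : Matrix chevG2.Idx chevG2.Idx K) = chevG2.x K r c) :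
    (g : Matrix chevG2.Idx chevG2.Idx K) (Sum.inr ⟨2, by decide⟩) (Sum.inr ⟨0, by decide⟩) =
      (if r = 8 then -c else 0) := by
  have h1 := chainSec_G2 ⟨r, hr⟩ hr6
  have hn := negStep_G2 ⟨r, hr⟩
  simp only at h1 hn
  rw [hg, x_eq chevG2 K ⟨r, hr⟩, xMat_inr_inr]
  simp only [h1, hn, Fin.mk.injEq]
  interval_cases r <;> simp [Fin.ext_iff]

/-- The entry `(2,0)` of a word in the positive root elements. -/
theorem sec_word6 (a b c d f g' : K) {g : GL chevG2.Idx K}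
    (hg : (g : Matrix chevG2.Idx chevG2.Idx K) =
      chevG2.wordMat K [(7, a), (6, b), (8, c), (9, d), (10, f), (11, g')]) :
    (g : Matrix chevG2.Idx chevG2.Idx K) (Sum.inr ⟨2, by decide⟩) (Sum.inr ⟨0, by decide⟩) = a * b - c := by
  obtain ⟨g7, h7⟩ := exists_x (F := K) stringData_G2 7 (by decide) a
  obtain ⟨g6, h6⟩ := exists_x (F := K) stringData_G2 6 (by decide) b
  obtain ⟨g8, h8⟩ := exists_x (F := K) stringData_G2 8 (by decide) c
  obtain ⟨g9, h9⟩ := exists_x (F := K) stringData_G2 9 (by decide) d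
  obtain ⟨g10, h10⟩ := exists_x (F := K) stringData_G2 10 (by decide) f
  obtain ⟨g11, h11⟩ := exists_x (F := K) stringData_G2 11 (by decide) g'
  have m7 : g7 ∈ chevG2.posUnipotent K := Subgroup.subset_closure ⟨7, a, by decide, h7⟩
  have m6 : g6 ∈ chevG2.posUnipotent K := Subgroup.subset_closure ⟨6, b, by decide, h6⟩
  have m8 : g8 ∈ chevG2.posUnipotent K := Subgroup.subset_closure ⟨8, c, by decide, h8⟩
  have m9 : g9 ∈ chevG2.posUnipotent K := Subgroup.subset_closure ⟨9, d, by decide, h9⟩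
  have m10 : g10 ∈ chevG2.posUnipotent K := Subgroup.subset_closure ⟨10, f, by decide, h10⟩
  have m11 : g11 ∈ chevG2.posUnipotent K := Subgroup.subset_closure ⟨11, g', by decide, h11⟩
  have e1 : g = g7 * g6 * (g8 * g9 * (g10 * g11)) := by
    apply Units.ext
    rw [hg, wordMat_six]
    simp only [Units.val_mul, h7, h6, h8, h9, h10, h11]
  have r10 : rho chevG2 (Sum.inr ⟨1, by decide⟩) = rho chevG2 (Sum.inr ⟨0, by decide⟩) + 1 := by decide
  have r21 : rho chevG2 (Sum.inr ⟨2, by decide⟩) = rho chevG2 (Sum.inr ⟨1, by decide⟩) + 1 := by decide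
  obtain ⟨a7, b7, -⟩ := step_x (by norm_num) (by norm_num) a h7
  obtain ⟨a6, b6, -⟩ := step_x (by norm_num) (by norm_num) b h6
  obtain ⟨a8, b8, -⟩ := step_x (by norm_num) (by norm_num) c h8
  obtain ⟨a9, b9, -⟩ := step_x (by norm_num) (by norm_num) d h9
  obtain ⟨a10, b10, -⟩ := step_x (by norm_num) (by norm_num) f h10
  obtain ⟨a11, b11, -⟩ := step_x (by norm_num) (by norm_num) g' h11
  have s7 := sec_x (by norm_num) (by norm_num) a h7
  have s6 := sec_x (by norm_num) (by norm_num) b h6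
  have s8 := sec_x (by norm_num) (by norm_num) c h8
  have s9 := sec_x (by norm_num) (by norm_num) d h9
  have s10 := sec_x (by norm_num) (by norm_num) f h10
  have s11 := sec_x (by norm_num) (by norm_num) g' h11
  rw [e1, sec_mul (mul_mem m7 m6) (mul_mem (mul_mem m8 m9) (mul_mem m10 m11)), sec_mul m7 m6,
    sec_mul (mul_mem m8 m9) (mul_mem m10 m11), sec_mul m8 m9, sec_mul m10 m11,
    step_mul m7 m6 r21, step_mul (mul_mem m8 m9) (mul_mem m10 m11) r10, step_mul m8 m9 r10,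
    step_mul m10 m11 r10, step_mul m8 m9 r21]
  simp only [a6, a8, a9, a10, a11, b7, b6, b8, b9, b10, s7, s6, s8, s9, s10, s11]
  simp
  ring

end Sec

section Fun

variable {K : Type*} [Field K]

/-- The entry `(2,1)` of a matrix. -/
def reeA (g : GL chevG2.Idx K) : K :=
  (g : Matrix chevG2.Idx chevG2.Idx K) (Sum.inr ⟨2, by decide⟩) (Sum.inr ⟨1, by decide⟩)

/-- The entry `(1,0)` of a matrix. -/
def reeB (g : GL chevG2.Idx K) : K :=
  (g : Matrix chevG2.Idx chevG2.Idx K) (Sum.inr ⟨1, by decide⟩) (Sum.inr ⟨0, by decide⟩)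

/-- The entry `(2,0)` of a matrix. -/
def reeS (g : GL chevG2.Idx K) : K :=
  (g : Matrix chevG2.Idx chevG2.Idx K) (Sum.inr ⟨2, by decide⟩) (Sum.inr ⟨0, by decide⟩)

theorem reeA_mul {g g' : GL chevG2.Idx K} (hg : g ∈ chevG2.posUnipotent K)
    (hg' : g' ∈ chevG2.posUnipotent K) : reeA (g * g') = reeA g + reeA g' :=
  step_mul hg hg' (by decide)

theorem reeB_mul {g g' : GL chevG2.Idx K} (hg : g ∈ chevG2.posUnipotent K)
    (hg' : g' ∈ chevG2.posUnipotent K) : reeB (g * g') = reeB g + reeB g' :=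
  step_mul hg hg' (by decide)

theorem reeS_mul {g g' : GL chevG2.Idx K} (hg : g ∈ chevG2.posUnipotent K)
    (hg' : g' ∈ chevG2.posUnipotent K) : reeS (g * g') = reeS g + reeA g * reeB g' + reeS g' :=
  sec_mul hg hg'

theorem reeA_one : reeA (1 : GL chevG2.Idx K) = 0 := by
  unfold reeA
  rw [Units.val_one, Matrix.one_apply_ne (by decide)]

theorem reeB_one : reeB (1 : GL chevG2.Idx K) = 0 := by
  unfold reeB
  rw [Units.val_one, Matrix.one_apply_ne (by decide)]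

theorem reeS_one : reeS (1 : GL chevG2.Idx K) = 0 := by
  unfold reeS
  rw [Units.val_one, Matrix.one_apply_ne (by decide)]

theorem reeA_inv {g : GL chevG2.Idx K} (hg : g ∈ chevG2.posUnipotent K) : reeA g⁻¹ = -reeA g := by
  have h := reeA_mul hg (inv_mem hg)
  rw [mul_inv_cancel, reeA_one] at h
  linear_combination -h

theorem reeB_inv {g : GL chevG2.Idx K} (hg : g ∈ chevG2.posUnipotent K) : reeB g⁻¹ = -reeB g := by
  have h := reeB_mul hg (inv_mem hg)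
  rw [mul_inv_cancel, reeB_one] at h
  linear_combination -h

theorem reeS_inv {g : GL chevG2.Idx K} (hg : g ∈ chevG2.posUnipotent K) :
    reeS g⁻¹ = -reeS g + reeA g * reeB g := by
  have h := reeS_mul hg (inv_mem hg)
  rw [mul_inv_cancel, reeS_one, reeB_inv hg] at h
  linear_combination -h

/-- The entry `(2,0)` of a commutator in `U`. -/
theorem reeS_comm {x y : GL chevG2.Idx K} (hx : x ∈ chevG2.posUnipotent K)
    (hy : y ∈ chevG2.posUnipotent K) :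
    reeS (x * y * x⁻¹ * y⁻¹) = reeA x * reeB y - reeA y * reeB x := by
  rw [reeS_mul (mul_mem (mul_mem hx hy) (inv_mem hx)) (inv_mem hy),
    reeS_mul (mul_mem hx hy) (inv_mem hx), reeS_mul hx hy,
    reeA_mul (mul_mem hx hy) (inv_mem hx), reeA_mul hx hy, reeA_inv hx,
    reeB_inv hx, reeB_inv hy, reeS_inv hx, reeS_inv hy]
  ring

/-- The entry `(2,0)` of a cube in `U`, in characteristic `3`. -/
theorem reeS_cube [CharP K 3] {x : GL chevG2.Idx K} (hx : x ∈ chevG2.posUnipotent K) :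
    reeS (x * x * x) = 0 := by
  rw [reeS_mul (mul_mem hx hx) hx, reeS_mul hx hx, reeA_mul hx hx]
  linear_combination (reeS x + reeA x * reeB x) * (three_eq_zero : (3 : K) = 0)

/-- The three entries of `U(t,u,v)`. -/
theorem ree_coords {e : ℕ} {t u v : K} {x : GL chevG2.Idx K}
    (hx : (x : Matrix chevG2.Idx chevG2.Idx K) = chevG2.wordMat K (reeWordU e t u v)) :
    reeA x = -t ^ e ∧ reeB x = -t ∧ reeS x = -u ^ e := by
  obtain ⟨s1, s2, -⟩ := step_word6 _ _ _ _ _ _ hx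
  have s3 := sec_word6 _ _ _ _ _ _ hx
  refine ⟨s2, s1, ?_⟩
  unfold reeS
  rw [s3, pow_succ]
  ring

/-- In a finite field of odd order every element is a sum of two squares. -/
theorem exists_sq_add_sq_of_odd {F : Type*} [Field F] [Fintype F] (hodd : Fintype.card F % 2 = 1) (x : F) :
    ∃ a b : F, a ^ 2 + b ^ 2 = x := by
  classical
  obtain ⟨a, b, hab⟩ := FiniteField.exists_root_sum_quadratic (f := (Polynomial.X : Polynomial F) ^ 2)
    (g := Polynomial.X ^ 2 - Polynomial.C x) (Polynomial.degree_X_pow 2)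
    (Polynomial.degree_X_pow_sub_C (by norm_num) x) hodd
  refine ⟨a, b, ?_⟩
  simp only [Polynomial.eval_pow, Polynomial.eval_X, Polynomial.eval_sub, Polynomial.eval_C] at hab
  linear_combination hab

end Fun

section Gen

variable {K : Type*} [Field K] {e : ℕ} (R : ReeData K e)

include R

/-- An element of `H¹` with prescribed character value on the root `b`. -/
theorem ree_torus6 (ν : K) (hν : ν ≠ 0) : ∃ h : GL chevG2.Idx K,
    h ∈ chevG2.diagonalSubgroup K ∧ h ∈ twistedG2 K e ∧ ∃ c : Fin chevG2.rank → K, (∀ i, c i ≠ 0) ∧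
      (h : Matrix chevG2.Idx chevG2.Idx K) = torusMat chevG2 K c ∧ torusChar chevG2 K c 6 = ν := by
  have hne : ν ^ e ≠ 0 := pow_ne_zero _ hν
  obtain ⟨h, hH, hΓ, c, hc, hv, hc1, hc0⟩ := R.exists_torus (ν ^ 2 * (ν ^ e) ^ 3)
    (mul_ne_zero (pow_ne_zero _ hν) (pow_ne_zero _ hne))
  refine ⟨h, hH, hΓ, c, hc, hv, ?_⟩
  have e1 : (ν ^ 2 * (ν ^ e) ^ 3) ^ e = (ν ^ e) ^ 2 * ν := by
    have h1 := R.hφ ν
    calc (ν ^ 2 * (ν ^ e) ^ 3) ^ e = (ν ^ e) ^ 2 * (((ν ^ e) ^ e) ^ 3) := by ring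
      _ = (ν ^ e) ^ 2 * ν := by rw [h1]
  rw [torusChar_6, hc0, hc1, e1]
  simp only [zpow_neg, zpow_ofNat]
  field_simp

/-- An element of `H¹` with a prescribed square as character value on the root `3a+b`. -/
theorem ree_torus10 (ρ : K) (hρ : ρ ≠ 0) : ∃ h : GL chevG2.Idx K,
    h ∈ chevG2.diagonalSubgroup K ∧ h ∈ twistedG2 K e ∧ ∃ c : Fin chevG2.rank → K, (∀ i, c i ≠ 0) ∧
      (h : Matrix chevG2.Idx chevG2.Idx K) = torusMat chevG2 K c ∧ torusChar chevG2 K c 10 = ρ ^ 2 := by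
  have hne : ρ ^ e ≠ 0 := pow_ne_zero _ hρ
  obtain ⟨h, hH, hΓ, c, hc, hv, hc1, hc0⟩ := R.exists_torus (ρ * (ρ ^ e) ^ 3)
    (mul_ne_zero hρ (pow_ne_zero _ hne))
  refine ⟨h, hH, hΓ, c, hc, hv, ?_⟩
  have e1 : (ρ * (ρ ^ e) ^ 3) ^ e = ρ ^ e * ρ := by
    have h1 := R.hφ ρ
    calc (ρ * (ρ ^ e) ^ 3) ^ e = ρ ^ e * (((ρ ^ e) ^ e) ^ 3) := by ring
      _ = ρ ^ e * ρ := by rw [h1]
  rw [torusChar_10, hc0, hc1, e1]
  simp only [zpow_neg, zpow_ofNat]
  field_simp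

/-- A subgroup containing `H¹` and an element `U(t,u,v)` with `t ≠ 0` contains `U¹`. -/
theorem ree_pos_le [Fintype K] (hodd : Fintype.card K % 2 = 1) (hbig : ∃ τ : K, τ ≠ 0 ∧ τ ^ e ≠ τ)
    (L : Subgroup (GL chevG2.Idx K)) (hH : chevG2.diagonalSubgroup K ⊓ twistedG2 K e ≤ L)
    {w : GL chevG2.Idx K} (hwL : w ∈ L) (hwU : w ∈ chevG2.posUnipotent K ⊓ twistedG2 K e)
    (hw0 : eb w ≠ 0) : chevG2.posUnipotent K ⊓ twistedG2 K e ≤ L := by
  have := R.char3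
  have he := R.e_ne_zero
  obtain ⟨t₀, u₀, v₀, hw⟩ := (R.pos_inf_twisted w).mp hwU
  have ht₀ : t₀ ≠ 0 := by
    rw [← eb_reeU _ _ _ hw]
    exact hw0
  have hwU' : w ∈ chevG2.posUnipotent K := (Subgroup.mem_inf.mp hwU).1
  have hconj : ∀ h : GL chevG2.Idx K, h ∈ chevG2.diagonalSubgroup K → h ∈ twistedG2 K e →
      ∀ x ∈ L, h * x * h⁻¹ ∈ L := by
    intro h h1 h2 x hx
    have h3 := hH (Subgroup.mem_inf.mpr ⟨h1, h2⟩)
    exact mul_mem (mul_mem h3 hx) (inv_mem h3)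
  -- every value of `t` occurs
  have step1 : ∀ τ : K, τ ≠ 0 → ∃ y ∈ L, ∃ u v : K,
      (y : Matrix chevG2.Idx chevG2.Idx K) = chevG2.wordMat K (reeWordU e τ u v) := by
    intro τ hτ
    obtain ⟨h, hH', hΓ, c, hc, hv, h6⟩ := ree_torus6 R (τ / t₀) (div_ne_zero hτ ht₀)
    refine ⟨h * w * h⁻¹, hconj h hH' hΓ w hwL, torusChar chevG2 K c 10 * u₀, torusChar chevG2 K c 11 * v₀, ?_⟩
    rw [R.torus_conj_ree hH' (R.twisted_le_fix hΓ) c hc hv t₀ u₀ v₀ hw, h6, div_mul_cancel₀ τ ht₀]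
  -- the cube of `w`
  have hc3L : w * w * w ∈ L := mul_mem (mul_mem hwL hwL) hwL
  have hc3U : w * w * w ∈ chevG2.posUnipotent K ⊓ twistedG2 K e := mul_mem (mul_mem hwU hwU) hwU
  obtain ⟨t₃, u₃, v₃, hc3⟩ := (R.pos_inf_twisted _).mp hc3U
  have ht₃ : t₃ = 0 := by
    rw [← eb_reeU _ _ _ hc3, eb_mul (mul_mem hwU' hwU') hwU', eb_mul hwU' hwU', eb_reeU _ _ _ hw]
    linear_combination t₀ * (three_eq_zero : (3 : K) = 0)
  have hu₃ : u₃ = 0 := by
    have h1 := reeS_cube hwU'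
    rw [(ree_coords hc3).2.2] at h1
    have h2 : u₃ ^ e = 0 := by linear_combination -h1
    exact pow_eq_zero_iff he |>.mp h2
  have hv₃ : v₃ ≠ 0 := by
    intro h0
    rw [ht₃, hu₃, h0, R.wordMat_reeU_zero] at hc3
    have h1 : w * w * w = 1 := Units.ext (by rw [hc3, Units.val_one])
    apply R.cube_ne_one hw ht₀
    rw [pow_succ, pow_two, h1]
  rw [ht₃, hu₃] at hc3
  have step2 : ∀ v : K, ∀ z : GL chevG2.Idx K,
      (z : Matrix chevG2.Idx chevG2.Idx K) = chevG2.wordMat K (reeWordU e 0 0 v) → z ∈ L := by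
    intro v z hz
    by_cases hv0 : v = 0
    · rw [hv0, R.wordMat_reeU_zero] at hz
      have h1 : z = 1 := Units.ext (by rw [hz, Units.val_one])
      rw [h1]
      exact one_mem _
    · obtain ⟨h, hH', hΓ, c, hc, hv, hc1, hc0⟩ := R.exists_torus (v / v₃) (div_ne_zero hv0 hv₃)
      have h1 := R.torus_conj_ree hH' (R.twisted_le_fix hΓ) c hc hv 0 0 v₃ hc3
      rw [mul_zero, mul_zero, torusChar_11, hc1, div_mul_cancel₀ v hv₃] at h1
      have h2 : z = h * (w * w * w) * h⁻¹ := Units.ext (by rw [hz, h1])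
      rw [h2]
      exact hconj h hH' hΓ _ hc3L
  -- a commutator
  obtain ⟨τ, hτ, hτe⟩ := hbig
  obtain ⟨y₁, hy₁L, u₁, v₁, hy₁⟩ := step1 1 one_ne_zero
  obtain ⟨y₂, hy₂L, u₂, v₂, hy₂⟩ := step1 τ hτ
  have hy₁U := reeU_mem_pos R _ _ _ y₁ hy₁
  have hy₂U := reeU_mem_pos R _ _ _ y₂ hy₂
  have hy₁Γ := reeU_mem_twisted _ _ _ y₁ hy₁
  have hy₂Γ := reeU_mem_twisted _ _ _ y₂ hy₂
  have hcL : y₁ * y₂ * y₁⁻¹ * y₂⁻¹ ∈ L :=
    mul_mem (mul_mem (mul_mem hy₁L hy₂L) (inv_mem hy₁L)) (inv_mem hy₂L)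
  have hcU : y₁ * y₂ * y₁⁻¹ * y₂⁻¹ ∈ chevG2.posUnipotent K ⊓ twistedG2 K e :=
    Subgroup.mem_inf.mpr ⟨mul_mem (mul_mem (mul_mem hy₁U hy₂U) (inv_mem hy₁U)) (inv_mem hy₂U),
      mul_mem (mul_mem (mul_mem hy₁Γ hy₂Γ) (inv_mem hy₁Γ)) (inv_mem hy₂Γ)⟩
  obtain ⟨tc, uc, vc, hc⟩ := (R.pos_inf_twisted _).mp hcU
  have htc : tc = 0 := by
    rw [← eb_reeU _ _ _ hc, eb_mul (mul_mem (mul_mem hy₁U hy₂U) (inv_mem hy₁U)) (inv_mem hy₂U),
      eb_mul (mul_mem hy₁U hy₂U) (inv_mem hy₁U), eb_mul hy₁U hy₂U, eb_inv hy₁U, eb_inv hy₂U]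
    ring
  have huc : uc ≠ 0 := by
    intro h0
    have h1 := reeS_comm hy₁U hy₂U
    rw [(ree_coords hc).2.2, (ree_coords hy₁).1, (ree_coords hy₁).2.1, (ree_coords hy₂).1,
      (ree_coords hy₂).2.1, h0, zero_pow he, one_pow] at h1
    apply hτe
    linear_combination h1
  rw [htc, R.reeU_split] at hc
  obtain ⟨w₁, hw₁⟩ := exists_word (reeWordU e (0 : K) uc 0)
  obtain ⟨w₂, hw₂⟩ := exists_word (reeWordU e (0 : K) 0 vc)
  have hw₁L : w₁ ∈ L := by
    have e5 : y₁ * y₂ * y₁⁻¹ * y₂⁻¹ = w₁ * w₂ := Units.ext (by rw [hc, Units.val_mul, hw₁, hw₂])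
    have e6 : w₁ = (y₁ * y₂ * y₁⁻¹ * y₂⁻¹) * w₂⁻¹ := by
      rw [e5]
      group
    rw [e6]
    exact mul_mem hcL (inv_mem (step2 vc w₂ hw₂))
  have hsqm : ∀ a : K, ∀ z : GL chevG2.Idx K,
      (z : Matrix chevG2.Idx chevG2.Idx K) = chevG2.wordMat K (reeWordU e 0 (a ^ 2 * uc) 0) → z ∈ L := by
    intro a z hz
    by_cases ha : a = 0
    · rw [ha, zero_pow two_ne_zero, zero_mul, R.wordMat_reeU_zero] at hz
      have h1 : z = 1 := Units.ext (by rw [hz, Units.val_one])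
      rw [h1]
      exact one_mem _
    · obtain ⟨h, hH', hΓ, c, hc', hv, h10⟩ := ree_torus10 R a ha
      have h1 := R.torus_conj_ree hH' (R.twisted_le_fix hΓ) c hc' hv 0 uc 0 hw₁
      rw [mul_zero, mul_zero, h10] at h1
      have h2 : z = h * w₁ * h⁻¹ := Units.ext (by rw [hz, h1])
      rw [h2]
      exact hconj h hH' hΓ _ hw₁L
  have step3 : ∀ u : K, ∀ z : GL chevG2.Idx K,
      (z : Matrix chevG2.Idx chevG2.Idx K) = chevG2.wordMat K (reeWordU e 0 u 0) → z ∈ L := by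
    intro u z hz
    obtain ⟨a, b, hab⟩ := exists_sq_add_sq_of_odd hodd (u / uc)
    obtain ⟨z₁, hz₁⟩ := exists_word (reeWordU e (0 : K) (a ^ 2 * uc) 0)
    obtain ⟨z₂, hz₂⟩ := exists_word (reeWordU e (0 : K) (b ^ 2 * uc) 0)
    have e7 : a ^ 2 * uc + b ^ 2 * uc = u := by rw [← add_mul, hab, div_mul_cancel₀ u huc]
    have h1 : z = z₁ * z₂ := by
      apply Units.ext
      rw [Units.val_mul, hz, hz₁, hz₂, R.reeU_mid_add, e7]
    rw [h1]
    exact mul_mem (hsqm a z₁ hz₁) (hsqm b z₂ hz₂)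
  have step4 : ∀ u v : K, ∀ z : GL chevG2.Idx K,
      (z : Matrix chevG2.Idx chevG2.Idx K) = chevG2.wordMat K (reeWordU e 0 u v) → z ∈ L := by
    intro u v z hz
    rw [R.reeU_split] at hz
    obtain ⟨z₁, hz₁⟩ := exists_word (reeWordU e (0 : K) u 0)
    obtain ⟨z₂, hz₂⟩ := exists_word (reeWordU e (0 : K) 0 v)
    have h1 : z = z₁ * z₂ := Units.ext (by rw [hz, Units.val_mul, hz₁, hz₂])
    rw [h1]
    exact mul_mem (step3 u z₁ hz₁) (step2 v z₂ hz₂)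
  intro x hx
  obtain ⟨t, u, v, hxv⟩ := (R.pos_inf_twisted x).mp hx
  by_cases ht : t = 0
  · rw [ht] at hxv
    exact step4 u v x hxv
  · obtain ⟨y, hyL, u', v', hy⟩ := step1 t ht
    have hyU := reeU_mem_pos R _ _ _ y hy
    have hyΓ := reeU_mem_twisted _ _ _ y hy
    have hdU : y⁻¹ * x ∈ chevG2.posUnipotent K ⊓ twistedG2 K e :=
      mul_mem (inv_mem (Subgroup.mem_inf.mpr ⟨hyU, hyΓ⟩)) hx
    obtain ⟨t', u'', v'', hd⟩ := (R.pos_inf_twisted _).mp hdU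
    have ht' : t' = 0 := by
      rw [← eb_reeU _ _ _ hd, eb_mul (inv_mem hyU) (Subgroup.mem_inf.mp hx).1, eb_inv hyU,
        eb_reeU _ _ _ hy, eb_reeU _ _ _ hxv]
      ring
    rw [ht'] at hd
    have h1 : x = y * (y⁻¹ * x) := by group
    rw [h1]
    exact mul_mem hyL (step4 u'' v'' _ hd)

/-- A subgroup containing `H¹` and an element `u n` with `u = U(t,u,v)`, `t ≠ 0`, contains `G¹`. -/
theorem ree_gen_le [Fintype K] (hodd : Fintype.card K % 2 = 1) (hbig : ∃ τ : K, τ ≠ 0 ∧ τ ^ e ≠ τ)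
    {n : GL chevG2.Idx K} (hn : ReeW0 e n)
    (L : Subgroup (GL chevG2.Idx K)) (hH : chevG2.diagonalSubgroup K ⊓ twistedG2 K e ≤ L)
    {u₀ : GL chevG2.Idx K} (hu₀ : u₀ ∈ chevG2.posUnipotent K ⊓ twistedG2 K e) (h0 : eb u₀ ≠ 0)
    (hg : u₀ * n ∈ L) : twistedG2 K e ≤ L := by
  have := R.char3
  have I := bnInput_G2 K
  obtain ⟨h', hH', hΓ', c, hc, hv, h6⟩ := ree_torus6 R (-1) (neg_ne_zero.mpr one_ne_zero)
  have hnm : n⁻¹ ∈ chevG2.monomialSubgroup K := inv_mem hn.mono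
  have h1 : n⁻¹ * h' * n ∈ chevG2.diagonalSubgroup K := by
    have h := conj_mem_diag I hnm hH'
    rwa [inv_inv] at h
  have h2 : n⁻¹ * h' * n ∈ twistedG2 K e := mul_mem (mul_mem (inv_mem hn.tw) hΓ') hn.tw
  have h3 : n⁻¹ * h' * n ∈ L := hH (Subgroup.mem_inf.mpr ⟨h1, h2⟩)
  have h4 : h' ∈ L := hH (Subgroup.mem_inf.mpr ⟨hH', hΓ'⟩)
  have h5 : u₀ * h' * u₀⁻¹ * h'⁻¹ ∈ L := by
    have e1 : u₀ * h' * u₀⁻¹ * h'⁻¹ = (u₀ * n) * (n⁻¹ * h' * n) * (u₀ * n)⁻¹ * h'⁻¹ := by group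
    rw [e1]
    exact mul_mem (mul_mem (mul_mem hg h3) (inv_mem hg)) (inv_mem h4)
  have hu₀U : u₀ ∈ chevG2.posUnipotent K := (Subgroup.mem_inf.mp hu₀).1
  have hu₀Γ : u₀ ∈ twistedG2 K e := (Subgroup.mem_inf.mp hu₀).2
  have hNU := (Cfsg.Agent.S1036.result (F := K) chevG2 (by simp)).1
  have hcU' : h' * u₀ * h'⁻¹ ∈ chevG2.posUnipotent K :=
    (Subgroup.mem_normalizer_iff.mp (hNU hH') u₀).mp hu₀U
  have e2 : u₀ * h' * u₀⁻¹ * h'⁻¹ = u₀ * (h' * u₀ * h'⁻¹)⁻¹ := by group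
  have h6' : u₀ * h' * u₀⁻¹ * h'⁻¹ ∈ chevG2.posUnipotent K ⊓ twistedG2 K e := by
    rw [e2]
    exact Subgroup.mem_inf.mpr ⟨mul_mem hu₀U (inv_mem hcU'),
      mul_mem hu₀Γ (inv_mem (mul_mem (mul_mem hΓ' hu₀Γ) (inv_mem hΓ')))⟩
  have h7 : eb (u₀ * h' * u₀⁻¹ * h'⁻¹) ≠ 0 := by
    obtain ⟨t, u, v, hu₀v⟩ := (R.pos_inf_twisted u₀).mp hu₀
    have ht : t ≠ 0 := by
      rw [← eb_reeU _ _ _ hu₀v]
      exact h0
    have h8 := R.torus_conj_ree hH' (R.twisted_le_fix hΓ') c hc hv t u v hu₀v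
    rw [e2, eb_mul hu₀U (inv_mem hcU'), eb_inv hcU', eb_reeU _ _ _ h8, eb_reeU _ _ _ hu₀v, h6]
    intro h9
    apply ht
    linear_combination t * (three_eq_zero : (3 : K) = 0) - h9
  have hUL := ree_pos_le R hodd hbig L hH h5 h6' h7
  have hnL : n ∈ L := by
    have e1 : n = u₀⁻¹ * (u₀ * n) := by group
    rw [e1]
    exact mul_mem (inv_mem (hUL hu₀)) hg
  intro g hgΓ
  rcases R.twisted_cases hn hgΓ with ⟨u, hu, h, hh, rfl⟩ | ⟨u, hu, h, hh, u', hu', rfl⟩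
  · exact mul_mem (hUL hu) (hH hh)
  · exact mul_mem (mul_mem (mul_mem (hUL hu) (hH hh)) hnL) (hUL hu')

/-- The twisted group of type `G₂` over a field with more than three elements is generated by two elements. -/
theorem ree_two_gen [Fintype K] {m : ℕ} (hm : 1 ≤ m) (hK : Fintype.card K = 3 ^ (2 * m + 1)) :
    ∃ a b : ↥(twistedG2 K e), Subgroup.closure ({a, b} : Set ↥(twistedG2 K e)) = ⊤ := by
  have := R.char3
  obtain ⟨n, hn⟩ := R.exists_w0
  obtain ⟨u₀, hu₀⟩ := exists_word (reeWordU e (1 : K) 0 0)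
  have hu₀Γ := reeU_mem_twisted _ _ _ u₀ hu₀
  have hu₀U := reeU_mem_pos R _ _ _ u₀ hu₀
  have hcyc : IsCyclic ↥(chevG2.diagonalSubgroup K ⊓ twistedG2 K e) := R.diag_cyclic
  obtain ⟨γ, hγ⟩ := hcyc.exists_generator
  have hγΓ : (γ : GL chevG2.Idx K) ∈ twistedG2 K e := (Subgroup.mem_inf.mp γ.2).2
  refine ⟨⟨(γ : GL chevG2.Idx K), hγΓ⟩, ⟨u₀ * n, mul_mem hu₀Γ hn.tw⟩, ?_⟩
  have hodd : Fintype.card K % 2 = 1 := by
    rw [hK]
    exact Nat.odd_iff.mp (Odd.pow (by decide))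
  have hbig : ∃ τ : K, τ ≠ 0 ∧ τ ^ e ≠ τ := by
    obtain ⟨μ, hμ, hne⟩ := R.exists_big hm hK
    refine ⟨μ, hμ, fun h => hne ?_⟩
    have h1 := R.hφ μ
    rw [h] at h1
    exact h1
  have hγL : (γ : GL chevG2.Idx K) ∈ (Subgroup.closure ({⟨(γ : GL chevG2.Idx K), hγΓ⟩,
      ⟨u₀ * n, mul_mem hu₀Γ hn.tw⟩} : Set ↥(twistedG2 K e))).map (twistedG2 K e).subtype :=
    ⟨⟨(γ : GL chevG2.Idx K), hγΓ⟩, Subgroup.subset_closure (Set.mem_insert _ _), rfl⟩
  have hgL : u₀ * n ∈ (Subgroup.closure ({⟨(γ : GL chevG2.Idx K), hγΓ⟩,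
      ⟨u₀ * n, mul_mem hu₀Γ hn.tw⟩} : Set ↥(twistedG2 K e))).map (twistedG2 K e).subtype :=
    ⟨⟨u₀ * n, mul_mem hu₀Γ hn.tw⟩, Subgroup.subset_closure (Set.mem_insert_of_mem _ rfl), rfl⟩
  have hH : chevG2.diagonalSubgroup K ⊓ twistedG2 K e ≤ (Subgroup.closure ({⟨(γ : GL chevG2.Idx K), hγΓ⟩,
      ⟨u₀ * n, mul_mem hu₀Γ hn.tw⟩} : Set ↥(twistedG2 K e))).map (twistedG2 K e).subtype := by
    intro h hh
    obtain ⟨k, hk⟩ := Subgroup.mem_zpowers_iff.mp (hγ ⟨h, hh⟩)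
    have h1 : h = (γ : GL chevG2.Idx K) ^ k := by
      have h2 := congrArg Subtype.val hk
      rw [Subgroup.coe_zpow] at h2
      exact h2.symm
    rw [h1]
    exact zpow_mem hγL k
  have hle := ree_gen_le R hodd hbig hn _ hH (Subgroup.mem_inf.mpr ⟨hu₀U, hu₀Γ⟩)
    (by rw [eb_reeU _ _ _ hu₀]; exact one_ne_zero) hgL
  rw [eq_top_iff]
  intro x _
  obtain ⟨y, hy, hyx⟩ := hle x.2
  have h1 : y = x := Subtype.ext hyx
  rw [← h1]
  exact hy

end Gen

end Cfsg.Agent.Lib.helper44
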