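import Cfsg.Agent.Lib.helper44.ReeOutA
import Cfsg.Agent.Lib.helper22.ChevG2Cls

set_option autoImplicit false
set_option maxRecDepth 100000

namespace Cfsg.Agent.Lib.helper44.ReeLS

open Cfsg Cfsg.Lie Cfsg.Agent.Lib.helper41 Cfsg.Agent.Lib.helper22 Cfsg.Agent.Lib.helper23
  Cfsg.Agent.Lib.helper44

def commPairsC : List (ℕ × ℕ) := [(6, 8), (7, 10)]

theorem commTermsC_dvd : ∀ p ∈ commPairsC, p.1 < 12 ∧ p.2 < 12 ∧ p.2 ≠ p.1 ∧ p.2 ≠ chevG2.neg p.1 ∧
    ∀ c ∈ chevG2.commTerms p.1 p.2, c.2.1 % 3 = 0 := by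
  decide +kernel

section Tools

variable {K : Type*} [Field K]

theorem comm_x3c [CharP K 3] (r s : ℕ) (h : (r, s) ∈ commPairsC) (t u : K) :
    Commute (chevG2.x K r t) (chevG2.x K s u) := by
  obtain ⟨η, I⟩ := bnInput_all chevG2 (by simp) K
  obtain ⟨hr, hs, hrs, h1, h2⟩ := commTermsC_dvd (r, s) h
  have e := I.hcomm r s hr hs hrs h1 t u
  have hw : chevG2.wordMat K (chevG2.commWord K r s t u) = 1 := by
    apply wordMat_eq_one I.hSD'
    intro p hp
    unfold ChevalleyDatum.commWord at hp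
    rw [List.mem_map] at hp
    obtain ⟨c, hc, rfl⟩ := hp
    have : ((c.2.1 : ℤ) : K) = 0 :=
      (CharP.intCast_eq_zero_iff K 3 c.2.1).mpr (Int.dvd_of_emod_eq_zero (h2 c hc))
    show (c.2.1 : K) * (-t) ^ c.2.2.1 * u ^ c.2.2.2 = 0
    rw [this, zero_mul, zero_mul]
  rw [hw, mul_one] at e
  exact e.symm

/-- `x_a(s) x_{a+b}(r) = x_{a+b}(r) x_a(s) x_{2a+b}(s r)` in characteristic `3`. -/
theorem swap_7_8 [CharP K 3] (s r : K) :
    chevG2.x K 7 s * chevG2.x K 8 r = chevG2.x K 8 r * (chevG2.x K 7 s * chevG2.x K 9 (s * r)) := by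
  obtain ⟨η, I⟩ := bnInput_all chevG2 (by simp) K
  have h3 : (3 : K) = 0 := three_eq_zero
  have e := I.hcomm 7 8 (by decide) (by decide) (by decide) (by decide) s r
  unfold ChevalleyDatum.commWord at e
  rw [g2_terms_7_8] at e
  simp only [List.map_cons, List.map_nil, wordMat_cons, wordMat_nil, mul_one, Int.cast_neg,
    Int.cast_ofNat, pow_one] at e
  have p1 : (-2 : K) * (-s) * r = -(s * r) := by linear_combination (s * r) * h3
  have p2 : (-3 : K) * (-s) ^ 2 * r = 0 := by linear_combination (-(s ^ 2 * r)) * h3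
  have p3 : (3 : K) * (-s) * r ^ 2 = 0 := by linear_combination (-(s * r ^ 2)) * h3
  rw [p1, p2, p3, x_zero_G2, x_zero_G2, mul_one, mul_one] at e
  -- e : x 8 r * x 7 s = x 7 s * x 8 r * x 9 (-(s r))
  have hc9 : Commute (chevG2.x K 9 (s * r)) (chevG2.x K 7 s) := comm_x9 (s * r) (by decide) s
  calc chevG2.x K 7 s * chevG2.x K 8 r
      = chevG2.x K 7 s * chevG2.x K 8 r * (chevG2.x K 9 (-(s * r)) * chevG2.x K 9 (s * r)) := by
        rw [x_add' stringData_G2, neg_add_cancel, x_zero_G2, mul_one]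
    _ = chevG2.x K 8 r * chevG2.x K 7 s * chevG2.x K 9 (s * r) := by
        rw [← mul_assoc, ← e]
    _ = chevG2.x K 8 r * (chevG2.x K 7 s * chevG2.x K 9 (s * r)) := by rw [mul_assoc]

/-- `x_b(s) x_{3a+b}(r) = x_{3a+b}(r) x_b(s) x_{3a+2b}(s r)`. -/
theorem swap_6_10 [CharP K 3] (s r : K) :
    chevG2.x K 6 s * chevG2.x K 10 r = chevG2.x K 10 r * (chevG2.x K 6 s * chevG2.x K 11 (s * r)) := by
  obtain ⟨η, I⟩ := bnInput_all chevG2 (by simp) K
  have e := I.hcomm 6 10 (by decide) (by decide) (by decide) (by decide) s r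
  unfold ChevalleyDatum.commWord at e
  rw [g2_terms_6_10] at e
  simp only [List.map_cons, List.map_nil, wordMat_cons, wordMat_nil, mul_one, Int.cast_one,
    pow_one, one_mul] at e
  have p1 : (-s) * r = -(s * r) := by ring
  rw [p1] at e
  calc chevG2.x K 6 s * chevG2.x K 10 r
      = chevG2.x K 6 s * chevG2.x K 10 r * (chevG2.x K 11 (-(s * r)) * chevG2.x K 11 (s * r)) := by
        rw [x_add' stringData_G2, neg_add_cancel, x_zero_G2, mul_one]
    _ = chevG2.x K 10 r * chevG2.x K 6 s * chevG2.x K 11 (s * r) := by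
        rw [← mul_assoc, ← e]
    _ = chevG2.x K 10 r * (chevG2.x K 6 s * chevG2.x K 11 (s * r)) := by rw [mul_assoc]

theorem ree_conj_mid_aux [CharP K 3] (p t α β u' v' U u : K) :
    chevG2.x K 7 p * (chevG2.x K 6 t * (chevG2.x K 8 α * (chevG2.x K 9 β * (chevG2.x K 10 u' *
      (chevG2.x K 11 v' * (chevG2.x K 8 U * chevG2.x K 10 u)))))) =
    chevG2.x K 8 U * (chevG2.x K 10 u * (chevG2.x K 9 (p * U) * (chevG2.x K 11 (t * u) *
      (chevG2.x K 7 p * (chevG2.x K 6 t * (chevG2.x K 8 α * (chevG2.x K 9 β * (chevG2.x K 10 u' *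
        chevG2.x K 11 v')))))))) := by
  have pos6 : chevG2.IsPosRoot 6 := (isPos_G2 K 6).mpr ⟨by norm_num, by norm_num⟩
  have pos7 : chevG2.IsPosRoot 7 := (isPos_G2 K 7).mpr ⟨by norm_num, by norm_num⟩
  have pos8 : chevG2.IsPosRoot 8 := (isPos_G2 K 8).mpr ⟨by norm_num, by norm_num⟩
  have pos10 : chevG2.IsPosRoot 10 := (isPos_G2 K 10).mpr ⟨by norm_num, by norm_num⟩
  rw [(comm_x11 v' pos8 U).left_comm]
  rw [(comm_x3 10 8 (by decide) u' U).left_comm]
  rw [(comm_x9 β pos8 U).left_comm]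
  rw [(comm_x_self 8 α U).left_comm]
  rw [(comm_x3c 6 8 (by decide) t U).left_comm]
  rw [← mul_assoc (chevG2.x K 7 p) (chevG2.x K 8 U), swap_7_8, mul_assoc, mul_assoc]
  rw [(comm_x11 v' pos10 u).eq]
  rw [(comm_x_self 10 u' u).left_comm]
  rw [(comm_x9 β pos10 u).left_comm]
  rw [(comm_x3 8 10 (by decide) α u).left_comm]
  rw [← mul_assoc (chevG2.x K 6 t) (chevG2.x K 10 u), swap_6_10, mul_assoc, mul_assoc]
  rw [(comm_x9 (p * U) pos10 u).left_comm]
  rw [(comm_x3c 7 10 (by decide) p u).left_comm]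
  rw [((comm_x9 (p * U) pos7 p).symm).left_comm]
  rw [((comm_x11 (t * u) pos6 t).symm).left_comm]
  rw [((comm_x11 (t * u) pos7 p).symm).left_comm]

end Tools

section Main

variable {K : Type*} [Field K] {e : ℕ} (R : ReeData K e)

include R

/-- `U(t,u',v') U(0,u,0) U(t,u',v')⁻¹ = U(0,u,t u)`. -/
theorem ree_conj_mid :
    ∃ c : K, c ≠ 0 ∧ ∀ (t u' v' u : K) (y a : GL chevG2.Idx K),
      (y : Matrix chevG2.Idx chevG2.Idx K) = chevG2.wordMat K (reeWordU e t u' v') →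
      (a : Matrix chevG2.Idx chevG2.Idx K) = chevG2.wordMat K (reeWordU e 0 u 0) →
      ((y * a * y⁻¹ : GL chevG2.Idx K) : Matrix chevG2.Idx chevG2.Idx K) =
        chevG2.wordMat K (reeWordU e 0 u (c * (t * u))) := by
  refine ⟨1, one_ne_zero, ?_⟩
  intro t u' v' u y a hy ha
  have := R.char3
  have he := R.e_ne_zero
  obtain ⟨z, hz⟩ := exists_word (reeWordU e (0 : K) u (1 * (t * u)))
  suffices h : y * a = z * y by
    have h' : y * a * y⁻¹ = z := by rw [h]; group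
    rw [h', hz]
  apply Units.ext
  rw [Units.val_mul, Units.val_mul, hy, ha, hz, one_mul, R.reeU_split u (t * u), wordMat_reeU_mid he,
    R.wordMat_reeU_top, wordMat_reeU, mul_pow]
  have key := ree_conj_mid_aux (t ^ e) t (t ^ (e + 1) + u' ^ e) (t ^ (2 * e + 1) + v' ^ e) u' v' (u ^ e) u
  unfold ReeSys.reeForm ReeSys.M4
  simp only [mul_assoc]
  exact key

end Main

end Cfsg.Agent.Lib.helper44.ReeLS
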