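import Cfsg.Agent.Lib.helper44.ReeField
import Cfsg.Agent.Lib.helper44.ReeCent4

set_option autoImplicit false
set_option maxRecDepth 100000

/-!
# Coordinates in `U¹` for the twisted group of type `G₂`: tools for the automorphism group

The elements `U(0,0,v)` are central in `U`, `U(t,u,v) U(0,0,w) = U(t,u,v+w)`, the cube of `U(t,u,v)` is
`U(0,0,v₃)` with `v₃^θ = 2 t^{2θ+1}`, and conjugation by the involution of `H¹` is `U(t,u,v) ↦ U(-t,u,-v)`.
-/

namespace Cfsg.Agent.Lib.helper44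

open Cfsg Cfsg.Lie Cfsg.Agent.Lib.helper41 Cfsg.Agent.Lib.helper22 Cfsg.Agent.Lib.helper23

/-- Further pairs of positive roots of `G₂` whose root elements commute in characteristic `3`. -/
def commPairsB : List (ℕ × ℕ) := [(9, 6), (9, 7), (11, 6), (11, 7)]

theorem commTermsB_dvd : ∀ p ∈ commPairsB, p.1 < 12 ∧ p.2 < 12 ∧ p.2 ≠ p.1 ∧ p.2 ≠ chevG2.neg p.1 ∧
    ∀ c ∈ chevG2.commTerms p.1 p.2, c.2.1 % 3 = 0 := by
  decide +kernel

theorem chainThird_G2 : chevG2.chainCoeff 9 0 3 = [(1, 1)] ∧ chevG2.chainCoeff 11 0 3 = [] := by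
  decide +kernel

section Tools

variable {K : Type*} [Field K]

theorem comm_x3b [CharP K 3] (r s : ℕ) (h : (r, s) ∈ commPairsB) (t u : K) :
    Commute (chevG2.x K r t) (chevG2.x K s u) := by
  obtain ⟨η, I⟩ := bnInput_all chevG2 (by simp) K
  obtain ⟨hr, hs, hrs, h1, h2⟩ := commTermsB_dvd (r, s) h
  have e := I.hcomm r s hr hs hrs h1 t u
  have hw : chevG2.wordMat K (chevG2.commWord K r s t u) = 1 := by
    apply wordMat_eq_one I.hSD'
    intro p hp
    unfold ChevalleyDatum.commWord at hp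
    rw [List.mem_map] at hp
    obtain ⟨c, hc, rfl⟩ := hp
    have : ((c.2.1 : ℤ) : K) = 0 :=
      (CharP.intCast_eq_zero_iff K 3 c.2.1).mpr (Int.dvd_of_emod_eq_zero (h2 c hc))
    show (c.2.1 : K) * (-t) ^ c.2.2.1 * u ^ c.2.2.2 = 0
    rw [this, zero_mul, zero_mul]
  rw [hw, mul_one] at e
  exact e.symm

theorem comm_x_self (r : ℕ) (t u : K) : Commute (chevG2.x K r t) (chevG2.x K r u) := by
  show chevG2.x K r t * chevG2.x K r u = chevG2.x K r u * chevG2.x K r t
  rw [x_add' stringData_G2, x_add' stringData_G2, add_comm]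

/-- `x_{2a+b}` commutes with all positive root elements in characteristic `3`. -/
theorem comm_x9 [CharP K 3] (a : K) {r : ℕ} (hr : chevG2.IsPosRoot r) (c : K) :
    Commute (chevG2.x K 9 a) (chevG2.x K r c) := by
  obtain ⟨h6, h12⟩ := (isPos_G2 K r).mp hr
  interval_cases r
  · exact comm_x3b 9 6 (by decide) a c
  · exact comm_x3b 9 7 (by decide) a c
  · exact (comm_x3 8 9 (by decide) c a).symm
  · exact comm_x_self 9 a c
  · exact comm_x3 9 10 (by decide) a c
  · exact comm_x3 9 11 (by decide) a c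

/-- `x_{3a+2b}` commutes with all positive root elements in characteristic `3`. -/
theorem comm_x11 [CharP K 3] (a : K) {r : ℕ} (hr : chevG2.IsPosRoot r) (c : K) :
    Commute (chevG2.x K 11 a) (chevG2.x K r c) := by
  obtain ⟨h6, h12⟩ := (isPos_G2 K r).mp hr
  interval_cases r
  · exact comm_x3b 11 6 (by decide) a c
  · exact comm_x3b 11 7 (by decide) a c
  · exact (comm_x3 8 11 (by decide) c a).symm
  · exact (comm_x3 9 11 (by decide) c a).symm
  · exact (comm_x3 10 11 (by decide) c a).symm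
  · exact comm_x_self 11 a c

/-- The entry three steps above the diagonal, from the lowest root. -/
theorem third_mul {g g' : GL chevG2.Idx K} (hg : g ∈ chevG2.posUnipotent K)
    (hg' : g' ∈ chevG2.posUnipotent K) :
    ((g * g' : GL chevG2.Idx K) : Matrix chevG2.Idx chevG2.Idx K) (Sum.inr ⟨3, by decide⟩) (Sum.inr ⟨0, by decide⟩) =
      (g : Matrix chevG2.Idx chevG2.Idx K) (Sum.inr ⟨3, by decide⟩) (Sum.inr ⟨0, by decide⟩) +
      (g : Matrix chevG2.Idx chevG2.Idx K) (Sum.inr ⟨3, by decide⟩) (Sum.inr ⟨1, by decide⟩) *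
        (g' : Matrix chevG2.Idx chevG2.Idx K) (Sum.inr ⟨1, by decide⟩) (Sum.inr ⟨0, by decide⟩) +
      (g : Matrix chevG2.Idx chevG2.Idx K) (Sum.inr ⟨3, by decide⟩) (Sum.inr ⟨2, by decide⟩) *
        (g' : Matrix chevG2.Idx chevG2.Idx K) (Sum.inr ⟨2, by decide⟩) (Sum.inr ⟨0, by decide⟩) +
      (g' : Matrix chevG2.Idx chevG2.Idx K) (Sum.inr ⟨3, by decide⟩) (Sum.inr ⟨0, by decide⟩) := by
  rw [Units.val_mul, Matrix.mul_apply]
  have r0 : rho chevG2 (Sum.inr ⟨0, by decide⟩) = 0 := by decide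
  have r3 : rho chevG2 (Sum.inr ⟨3, by decide⟩) = 3 := by decide
  have n30 : (Sum.inr ⟨3, by decide⟩ : chevG2.Idx) ≠ Sum.inr ⟨0, by decide⟩ := by decide
  have n31 : (Sum.inr ⟨3, by decide⟩ : chevG2.Idx) ≠ Sum.inr ⟨1, by decide⟩ := by decide
  have n32 : (Sum.inr ⟨3, by decide⟩ : chevG2.Idx) ≠ Sum.inr ⟨2, by decide⟩ := by decide
  have n10 : (Sum.inr ⟨1, by decide⟩ : chevG2.Idx) ≠ Sum.inr ⟨0, by decide⟩ := by decide
  have n20 : (Sum.inr ⟨2, by decide⟩ : chevG2.Idx) ≠ Sum.inr ⟨0, by decide⟩ := by decide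
  have n21 : (Sum.inr ⟨2, by decide⟩ : chevG2.Idx) ≠ Sum.inr ⟨1, by decide⟩ := by decide
  have key : ∀ k : chevG2.Idx,
      (g : Matrix chevG2.Idx chevG2.Idx K) (Sum.inr ⟨3, by decide⟩) k *
        (g' : Matrix chevG2.Idx chevG2.Idx K) k (Sum.inr ⟨0, by decide⟩) =
      (if k = Sum.inr ⟨0, by decide⟩ then
          (g : Matrix chevG2.Idx chevG2.Idx K) (Sum.inr ⟨3, by decide⟩) (Sum.inr ⟨0, by decide⟩) else 0) +
      (if k = Sum.inr ⟨1, by decide⟩ then
          (g : Matrix chevG2.Idx chevG2.Idx K) (Sum.inr ⟨3, by decide⟩) (Sum.inr ⟨1, by decide⟩) *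
          (g' : Matrix chevG2.Idx chevG2.Idx K) (Sum.inr ⟨1, by decide⟩) (Sum.inr ⟨0, by decide⟩) else 0) +
      (if k = Sum.inr ⟨2, by decide⟩ then
          (g : Matrix chevG2.Idx chevG2.Idx K) (Sum.inr ⟨3, by decide⟩) (Sum.inr ⟨2, by decide⟩) *
          (g' : Matrix chevG2.Idx chevG2.Idx K) (Sum.inr ⟨2, by decide⟩) (Sum.inr ⟨0, by decide⟩) else 0) +
      (if k = Sum.inr ⟨3, by decide⟩ then
          (g' : Matrix chevG2.Idx chevG2.Idx K) (Sum.inr ⟨3, by decide⟩) (Sum.inr ⟨0, by decide⟩) else 0) := by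
    intro k
    by_cases h0 : k = Sum.inr ⟨0, by decide⟩
    · rw [h0, if_pos rfl, if_neg (Ne.symm n10), if_neg (Ne.symm n20), if_neg (Ne.symm n30), uni_diag hg',
        mul_one, add_zero, add_zero, add_zero]
    · by_cases h1 : k = Sum.inr ⟨1, by decide⟩
      · rw [h1, if_neg n10, if_pos rfl, if_neg (Ne.symm n21), if_neg (Ne.symm n31), zero_add, add_zero, add_zero]
      · by_cases h2 : k = Sum.inr ⟨2, by decide⟩
        · rw [h2, if_neg n20, if_neg n21, if_pos rfl, if_neg (Ne.symm n32), zero_add, zero_add, add_zero]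
        · by_cases h3 : k = Sum.inr ⟨3, by decide⟩
          · rw [h3, if_neg n30, if_neg n31, if_neg n32, if_pos rfl, uni_diag hg, one_mul, zero_add, zero_add,
              zero_add]
          · rw [if_neg h0, if_neg h1, if_neg h2, if_neg h3, add_zero, add_zero, add_zero]
            by_contra hne'
            obtain ⟨ha, hb⟩ := mul_ne_zero_iff.mp hne'
            have h4 := uni_off hg (Ne.symm h3) ha
            have h5 := uni_off hg' h0 hb
            have h6 : rho chevG2 k = 1 ∨ rho chevG2 k = 2 := by omega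
            rcases h6 with h6 | h6
            · exact h1 (rho_eq_one_G2 k h6)
            · exact h2 (rho_eq_two_G2 k h6)
  rw [Finset.sum_congr rfl fun k _ => key k, Finset.sum_add_distrib, Finset.sum_add_distrib,
    Finset.sum_add_distrib, Finset.sum_ite_eq', Finset.sum_ite_eq', Finset.sum_ite_eq', Finset.sum_ite_eq',
    if_pos (Finset.mem_univ _), if_pos (Finset.mem_univ _), if_pos (Finset.mem_univ _),
    if_pos (Finset.mem_univ _)]

/-- The entry `(3,0)` of the root elements of `2a+b` and `3a+2b`. -/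
theorem third_x (c : K) {g : GL chevG2.Idx K} :
    ((g : Matrix chevG2.Idx chevG2.Idx K) = chevG2.x K 9 c →
      (g : Matrix chevG2.Idx chevG2.Idx K) (Sum.inr ⟨3, by decide⟩) (Sum.inr ⟨0, by decide⟩) = c) ∧
    ((g : Matrix chevG2.Idx chevG2.Idx K) = chevG2.x K 11 c →
      (g : Matrix chevG2.Idx chevG2.Idx K) (Sum.inr ⟨3, by decide⟩) (Sum.inr ⟨0, by decide⟩) = 0) := by
  obtain ⟨h1, -⟩ := chainThird_G2
  have hn9 := negStep_G2 ⟨9, by decide⟩
  have hn11 := negStep_G2 ⟨11, by decide⟩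
  simp only at hn9 hn11
  constructor
  · intro hg
    rw [hg, x_eq chevG2 K ⟨9, by decide⟩, xMat_inr_inr]
    simp [h1, hn9, Fin.ext_iff]
  · intro hg
    rw [hg, x_eq chevG2 K ⟨11, by decide⟩, xMat_inr_inr]
    simp [hn11, Fin.ext_iff]

end Tools

section Coord

variable {K : Type*} [Field K] {e : ℕ} (R : ReeData K e)

include R

/-- The elements `U(0,0,v)` are central in `U`. -/
theorem ree_top_central {z x : GL chevG2.Idx K} {v : K}
    (hz : (z : Matrix chevG2.Idx chevG2.Idx K) = chevG2.wordMat K (reeWordU e 0 0 v))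
    (hx : x ∈ chevG2.posUnipotent K) : z * x = x * z := by
  have := R.char3
  have hle : chevG2.posUnipotent K ≤ Subgroup.centralizer {z} := by
    unfold ChevalleyDatum.posUnipotent
    rw [Subgroup.closure_le]
    rintro g ⟨r, c, hr, hg⟩
    rw [SetLike.mem_coe, Subgroup.mem_centralizer_iff]
    intro y hy
    rw [Set.mem_singleton_iff] at hy
    rw [hy]
    apply Units.ext
    rw [Units.val_mul, Units.val_mul, hz, hg, R.wordMat_reeU_top]
    exact ((comm_x9 (v ^ e) hr c).mul_left (comm_x11 v hr c)).eq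
  have h1 := hle hx
  rw [Subgroup.mem_centralizer_iff] at h1
  exact h1 z rfl

/-- `U(t,u,v) U(0,0,w) = U(t,u,v+w)`. -/
theorem reeU_mul_top (t u v w : K) :
    chevG2.wordMat K (reeWordU e t u v) * chevG2.wordMat K (reeWordU e 0 0 w) =
      chevG2.wordMat K (reeWordU e t u (v + w)) := by
  have := R.char3
  have he := R.e_ne_zero
  rw [wordMat_reeU, wordMat_reeU, wordMat_reeU]
  unfold ReeSys.reeForm
  simp only [zero_pow he, zero_pow (show e + 1 ≠ 0 by omega), zero_pow (show 2 * e + 1 ≠ 0 by omega),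
    ReeSys.zero, one_mul, zero_add]
  rw [mul_assoc, ReeSys.M4_mul, R.hadd, add_zero, add_zero, add_assoc]

/-- Conjugation by the involution of `H¹`. -/
theorem ree_invol_conj {a x : GL chevG2.Idx K} (ha : a ∈ chevG2.diagonalSubgroup K ⊓ twistedG2 K e)
    (hent : (a : Matrix chevG2.Idx chevG2.Idx K) (Sum.inr ⟨11, by decide⟩) (Sum.inr ⟨11, by decide⟩) = -1)
    {t u v : K} (hx : (x : Matrix chevG2.Idx chevG2.Idx K) = chevG2.wordMat K (reeWordU e t u v)) :
    ((a * x * a⁻¹ : GL chevG2.Idx K) : Matrix chevG2.Idx chevG2.Idx K) =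
      chevG2.wordMat K (reeWordU e (-t) u (-v)) := by
  have ha1 := Subgroup.mem_inf.mp ha
  have hfix := R.twisted_le_fix ha1.2
  obtain ⟨c, hc, hv, hc0, hc1⟩ := ree_torus_param R ha1.1 hfix
  rw [hent] at hc1
  rw [← hc1, R.hodd.neg_one_pow] at hc0
  have h1 := R.torus_conj_ree ha1.1 hfix c hc hv t u v hx
  have e6 : torusChar chevG2 K c 6 = -1 := by
    rw [torusChar_6, hc0, ← hc1]
    norm_num [zpow_neg, zpow_ofNat]
  have e10 : torusChar chevG2 K c 10 = 1 := by
    rw [torusChar_10, hc0, ← hc1]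
    norm_num [zpow_neg, zpow_ofNat]
  have e11 : torusChar chevG2 K c 11 = -1 := by
    rw [torusChar_11, ← hc1]
  rw [h1, e6, e10, e11, neg_one_mul, one_mul, neg_one_mul]

/-- The cube of `U(t,u,v)` is `U(0,0,v₃)` with `v₃^θ = 2 t^{2θ+1}`. -/
theorem ree_cube_coord {x : GL chevG2.Idx K} {t u v : K}
    (hx : (x : Matrix chevG2.Idx chevG2.Idx K) = chevG2.wordMat K (reeWordU e t u v)) :
    ∃ v₃ : K, ((x * x * x : GL chevG2.Idx K) : Matrix chevG2.Idx chevG2.Idx K) =
      chevG2.wordMat K (reeWordU e 0 0 v₃) ∧ v₃ ^ e = 2 * (t ^ e * t ^ e * t) := by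
  have := R.char3
  have : Fact (Nat.Prime 3) := ⟨Nat.prime_three⟩
  have : Nonempty chevG2.Idx := ⟨Sum.inr ⟨0, by decide⟩⟩
  have he := R.e_ne_zero
  have hxU := reeU_mem_pos R t u v x hx
  have hxΓ := reeU_mem_twisted t u v x hx
  have hc3U : x * x * x ∈ chevG2.posUnipotent K ⊓ twistedG2 K e :=
    Subgroup.mem_inf.mpr ⟨mul_mem (mul_mem hxU hxU) hxU, mul_mem (mul_mem hxΓ hxΓ) hxΓ⟩
  obtain ⟨t₃, u₃, v₃, hc3⟩ := (R.pos_inf_twisted _).mp hc3U
  have ht₃ : t₃ = 0 := by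
    rw [← eb_reeU _ _ _ hc3, eb_mul (mul_mem hxU hxU) hxU, eb_mul hxU hxU, eb_reeU _ _ _ hx]
    linear_combination t * (three_eq_zero : (3 : K) = 0)
  have hu₃ : u₃ = 0 := by
    have h1 := reeS_cube hxU
    rw [(ree_coords hc3).2.2] at h1
    have h2 : u₃ ^ e = 0 := by linear_combination -h1
    exact pow_eq_zero_iff he |>.mp h2
  rw [ht₃, hu₃] at hc3
  refine ⟨v₃, hc3, ?_⟩
  obtain ⟨s1, s2, s3⟩ := step_word6 _ _ _ _ _ _ hx
  have hc := cube_entry hxU
  have e1 : x * x * x = x ^ 3 := by rw [pow_succ, pow_two]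
  rw [sub_pow_char_of_commute 3 (Commute.one_right _), one_pow, ← Units.val_pow_eq_pow_val, ← e1,
    Matrix.sub_apply, Matrix.one_apply_ne (by decide), sub_zero, s1, s2, s3, hc3, R.wordMat_reeU_top] at hc
  obtain ⟨g9, h9⟩ := exists_x (F := K) stringData_G2 9 (by decide) (v₃ ^ e)
  obtain ⟨g11, h11⟩ := exists_x (F := K) stringData_G2 11 (by decide) v₃
  have m9 : g9 ∈ chevG2.posUnipotent K := Subgroup.subset_closure ⟨9, v₃ ^ e, by decide, h9⟩
  have m11 : g11 ∈ chevG2.posUnipotent K := Subgroup.subset_closure ⟨11, v₃, by decide, h11⟩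
  have h3 := third_mul m9 m11
  rw [Units.val_mul, h9, h11] at h3
  rw [h3] at hc
  obtain ⟨a11, -, -⟩ := step_x (by norm_num) (by norm_num) v₃ h11
  have s11 := sec_x (by norm_num) (by norm_num) v₃ h11
  rw [← h9, ← h11, a11, s11, (third_x (v₃ ^ e)).1 h9, (third_x v₃).2 h11] at hc
  simp only [show ¬ (11 = 6) by decide, show ¬ (11 = 8) by decide, if_false, mul_zero, add_zero] at hc
  rw [hc]
  ring

/-- Elements of `U¹` with the same first coordinate have the same cube. -/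
theorem ree_cube_eq {x y : GL chevG2.Idx K} (hx : x ∈ chevG2.posUnipotent K ⊓ twistedG2 K e)
    (hy : y ∈ chevG2.posUnipotent K ⊓ twistedG2 K e) (h : eb x = eb y) : x * x * x = y * y * y := by
  have := R.char3
  obtain ⟨t, u, v, hxv⟩ := (R.pos_inf_twisted x).mp hx
  obtain ⟨t', u', v', hyv⟩ := (R.pos_inf_twisted y).mp hy
  rw [eb_reeU _ _ _ hxv, eb_reeU _ _ _ hyv] at h
  obtain ⟨v₃, h1, h2⟩ := ree_cube_coord R hxv
  obtain ⟨v₃', h1', h2'⟩ := ree_cube_coord R hyv
  rw [← h, ← h2] at h2'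
  apply Units.ext
  rw [h1, h1', R.pow_e_inj h2']

/-- Every `U(0,0,v)` is the cube of an element of `U¹`. -/
theorem ree_exists_cube (v : K) : ∃ y : GL chevG2.Idx K, y ∈ chevG2.posUnipotent K ⊓ twistedG2 K e ∧
    ((y * y * y : GL chevG2.Idx K) : Matrix chevG2.Idx chevG2.Idx K) = chevG2.wordMat K (reeWordU e 0 0 v) := by
  have := R.char3
  have he := R.e_ne_zero
  obtain ⟨y₁, hy₁⟩ := exists_word (reeWordU e (1 : K) 0 0)
  have hy₁U := reeU_mem_pos R _ _ _ y₁ hy₁
  have hy₁Γ := reeU_mem_twisted _ _ _ y₁ hy₁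
  obtain ⟨v₃, h1, h2⟩ := ree_cube_coord R hy₁
  have h2' : (2 : K) ≠ 0 := by
    intro h
    exact one_ne_zero (α := K) (by linear_combination (three_eq_zero : (3 : K) = 0) - h)
  have hv₃ : v₃ ≠ 0 := by
    intro h0
    rw [h0, zero_pow he, one_pow, mul_one, mul_one, mul_one] at h2
    exact h2' h2.symm
  by_cases hv0 : v = 0
  · refine ⟨1, one_mem _, ?_⟩
    rw [hv0, R.wordMat_reeU_zero, mul_one, mul_one, Units.val_one]
  · obtain ⟨h, hH, hΓ, c, hc, hv, hc1, hc0⟩ := R.exists_torus (v / v₃) (div_ne_zero hv0 hv₃)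
    have hNU := (Cfsg.Agent.S1036.result (F := K) chevG2 (by simp)).1
    refine ⟨h * y₁ * h⁻¹, Subgroup.mem_inf.mpr ⟨(Subgroup.mem_normalizer_iff.mp (hNU hH) y₁).mp hy₁U,
      mul_mem (mul_mem hΓ hy₁Γ) (inv_mem hΓ)⟩, ?_⟩
    have e1 : h * y₁ * h⁻¹ * (h * y₁ * h⁻¹) * (h * y₁ * h⁻¹) = h * (y₁ * y₁ * y₁) * h⁻¹ := by group
    rw [e1, R.torus_conj_ree hH (R.twisted_le_fix hΓ) c hc hv 0 0 v₃ h1, mul_zero, mul_zero, torusChar_11, hc1,
      div_mul_cancel₀ v hv₃]

end Coord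

end Cfsg.Agent.Lib.helper44
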