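import Cfsg.Agent.Lib.helper44.ReeCent3
import Cfsg.Agent.Lib.helper44.ReeOutA
import Cfsg.Agent.Lib.helper44.ReeLSE

set_option autoImplicit false
set_option maxRecDepth 100000

/-!
# The Sylow `3`-subgroup of the Ree group `²G₂(q)`: fusion data for the Landazuri–Seitz bound

`U¹ = {U(t,u,v)}` has centre `Z = {U(0,0,v)}`; every `x ∈ U¹ ∖ Z` is `U¹`-conjugate to `z x` for all
`z ∈ Z`; the non-trivial elements of `Z` are conjugate under `H¹`, and the involution of `H¹` inverts `Z`.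
-/

namespace Cfsg.Agent.Lib.helper44.ReeLS

open Cfsg Cfsg.Lie Cfsg.Agent.Lib.helper41 Cfsg.Agent.Lib.helper22 Cfsg.Agent.Lib.helper23
  Cfsg.Agent.Lib.helper44

section MatLevel

variable {K : Type*} [Field K] {e : ℕ} (R : ReeData K e)

include R

/-- Every `x ∈ U¹ ∖ Z` is `U¹`-conjugate to `z x` for every `z ∈ Z`. -/
theorem ree_fus {x : GL chevG2.Idx K} (hx : x ∈ chevG2.posUnipotent K ⊓ twistedG2 K e)
    (hnt : ∀ v : K, (x : Matrix chevG2.Idx chevG2.Idx K) ≠ chevG2.wordMat K (reeWordU e 0 0 v)) (b : K)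
    {z : GL chevG2.Idx K}
    (hz : (z : Matrix chevG2.Idx chevG2.Idx K) = chevG2.wordMat K (reeWordU e 0 0 b)) :
    ∃ y : GL chevG2.Idx K, y ∈ chevG2.posUnipotent K ⊓ twistedG2 K e ∧ y * x * y⁻¹ = z * x := by
  obtain ⟨c, hc0, hc⟩ := ree_conj_mid R
  obtain ⟨t, u, v, hxv⟩ := (R.pos_inf_twisted x).mp hx
  by_cases ht : t = 0
  · subst ht
    have hu : u ≠ 0 := by
      rintro rfl
      exact hnt v hxv
    obtain ⟨y, hy⟩ := exists_word (reeWordU e (b / (c * u)) 0 0)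
    obtain ⟨a, ha⟩ := exists_word (reeWordU e (0 : K) u 0)
    obtain ⟨w, hw⟩ := exists_word (reeWordU e (0 : K) 0 v)
    have hyU := (R.pos_inf_twisted y).mpr ⟨_, _, _, hy⟩
    have haU := (R.pos_inf_twisted a).mpr ⟨_, _, _, ha⟩
    have hx_eq : x = a * w := Units.ext (by rw [hxv, Units.val_mul, ha, hw, ← R.reeU_split])
    have h1 := hc _ 0 0 u y a hy ha
    have h2 : c * (b / (c * u) * u) = b := by field_simp
    rw [h2, R.reeU_split] at h1
    have h3 : y * a * y⁻¹ = a * z := Units.ext (by rw [h1, Units.val_mul, ha, hz])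
    have hwc : w * y = y * w := ree_top_central R hw hyU.1
    have hzc : z * a = a * z := ree_top_central R hz haU.1
    refine ⟨y, hyU, ?_⟩
    have h4 : y * w * y⁻¹ = w := by rw [← hwc]; group
    calc y * x * y⁻¹ = (y * a * y⁻¹) * (y * w * y⁻¹) := by rw [hx_eq]; group
      _ = a * z * w := by rw [h3, h4]
      _ = z * a * w := by rw [hzc]
      _ = z * x := by rw [hx_eq, mul_assoc]
  · obtain ⟨a, ha⟩ := exists_word (reeWordU e (0 : K) (b / (c * t)) 0)
    have haU := (R.pos_inf_twisted a).mpr ⟨_, _, _, ha⟩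
    have h1 := hc t u v (b / (c * t)) x a hxv ha
    have h2 : c * (t * (b / (c * t))) = b := by field_simp
    rw [h2, R.reeU_split] at h1
    have h3 : x * a * x⁻¹ = a * z := Units.ext (by rw [h1, Units.val_mul, ha, hz])
    refine ⟨a⁻¹, inv_mem haU, ?_⟩
    have h4 : x * a = a * z * x := by rw [← h3]; group
    calc a⁻¹ * x * a⁻¹⁻¹ = a⁻¹ * (x * a) := by group
      _ = a⁻¹ * (a * z * x) := by rw [h4]
      _ = z * x := by group

/-- The non-trivial elements of `Z` are conjugate under `H¹`. -/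
theorem ree_top_conj {b b' : K} (hb : b ≠ 0) (hb' : b' ≠ 0) {z z' : GL chevG2.Idx K}
    (hz : (z : Matrix chevG2.Idx chevG2.Idx K) = chevG2.wordMat K (reeWordU e 0 0 b))
    (hz' : (z' : Matrix chevG2.Idx chevG2.Idx K) = chevG2.wordMat K (reeWordU e 0 0 b')) :
    ∃ h : GL chevG2.Idx K, h ∈ twistedG2 K e ∧ h * z * h⁻¹ = z' := by
  obtain ⟨h, hH, hΓ, c, hc, hv, hc1, hc0⟩ := R.exists_torus (b' / b) (div_ne_zero hb' hb)
  have h1 := R.torus_conj_ree hH (R.twisted_le_fix hΓ) c hc hv 0 0 b hz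
  rw [mul_zero, mul_zero, torusChar_11, hc1, div_mul_cancel₀ b' hb] at h1
  exact ⟨h, hΓ, Units.ext (by rw [h1, hz'])⟩

/-- The involution of `H¹` inverts `Z`. -/
theorem ree_invol_inverts : ∃ s : GL chevG2.Idx K, s ∈ twistedG2 K e ∧ s ≠ 1 ∧ s * s = 1 ∧
    ∀ (v : K) (z z' : GL chevG2.Idx K),
      (z : Matrix chevG2.Idx chevG2.Idx K) = chevG2.wordMat K (reeWordU e 0 0 v) →
      (z' : Matrix chevG2.Idx chevG2.Idx K) = chevG2.wordMat K (reeWordU e 0 0 (-v)) →
      s * z * s⁻¹ = z' := by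
  obtain ⟨h, hH, hΓ, hent⟩ := R.exists_diag_entry (-1) (neg_ne_zero.mpr one_ne_zero)
  have hfix := R.twisted_le_fix hΓ
  refine ⟨h, hΓ, ?_, ?_, ?_⟩
  · rintro rfl
    rw [Units.val_one, Matrix.one_apply_eq] at hent
    exact ree_neg_one_ne_one R hent.symm
  · apply R.fix_diag_inj (mul_mem hH hH) (mul_mem hfix hfix) (one_mem _) (one_mem _)
    rw [diag_entry_mul hH hH, hent, Units.val_one, Matrix.one_apply_eq]
    ring
  · intro v z z' hz hz'
    have h1 := ree_invol_conj R (Subgroup.mem_inf.mpr ⟨hH, hΓ⟩) hent hz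
    rw [neg_zero] at h1
    exact Units.ext (by rw [h1, hz'])

end MatLevel

section Pack

variable {K : Type*} [Field K] [Fintype K] {e : ℕ} (R : ReeData K e)

include R

/-- The data of the Sylow `3`-subgroup of `²G₂(q)` needed for the Landazuri–Seitz bound. -/
theorem ree_ls_pack :
    ∃ (P : Subgroup ↥(twistedG2 K e)) (ζ : K → ↥P) (s : ↥(twistedG2 K e)),
      Function.Injective ζ ∧ (∀ a b : K, ζ (a + b) = ζ a * ζ b) ∧
      (∀ (a : K) (g : ↥P), g * ζ a = ζ a * g) ∧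
      (∀ x : ↥P, (∀ a : K, x ≠ ζ a) → ∀ b : K, ∃ y : ↥P, y * x * y⁻¹ = ζ b * x) ∧
      Nat.card ↥P = Fintype.card K ^ 3 ∧
      (∀ b b' : K, b ≠ 0 → b' ≠ 0 → IsConj (ζ b : ↥(twistedG2 K e)) (ζ b' : ↥(twistedG2 K e))) ∧
      s ≠ 1 ∧ s * s = 1 ∧ ∀ b : K, s * (ζ b : ↥(twistedG2 K e)) * s⁻¹ = (ζ (-b) : ↥(twistedG2 K e)) := by
  classical
  have hex : ∀ v : K, ∃ g : GL chevG2.Idx K,
      (g : Matrix chevG2.Idx chevG2.Idx K) = chevG2.wordMat K (reeWordU e 0 0 v) :=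
    fun v => exists_word (reeWordU e (0 : K) 0 v)
  choose z hz using hex
  have hzU : ∀ v, z v ∈ chevG2.posUnipotent K ⊓ twistedG2 K e :=
    fun v => (R.pos_inf_twisted (z v)).mpr ⟨_, _, _, hz v⟩
  let P : Subgroup ↥(twistedG2 K e) :=
    (chevG2.posUnipotent K ⊓ twistedG2 K e).subgroupOf (twistedG2 K e)
  have hmemP : ∀ x : ↥(twistedG2 K e), x ∈ P ↔ (x : GL chevG2.Idx K) ∈ chevG2.posUnipotent K ⊓ twistedG2 K e :=
    fun x => Subgroup.mem_subgroupOf
  let ζ : K → ↥P := fun v => ⟨⟨z v, (hzU v).2⟩, (hmemP _).mpr (hzU v)⟩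
  have hζv : ∀ v, (((ζ v : ↥P) : ↥(twistedG2 K e)) : GL chevG2.Idx K) = z v := fun v => rfl
  obtain ⟨s₀, hsΓ, hs1, hs2, hsinv⟩ := ree_invol_inverts R
  have hext : ∀ x y : ↥P, ((x : ↥(twistedG2 K e)) : GL chevG2.Idx K) = ((y : ↥(twistedG2 K e)) : GL chevG2.Idx K) →
      x = y := fun x y h => Subtype.ext (Subtype.ext h)
  refine ⟨P, ζ, ⟨s₀, hsΓ⟩, ?_, ?_, ?_, ?_, ?_, ?_, ?_, ?_, ?_⟩
  · intro a b hab
    have h1 : z a = z b := by
      have := congrArg (fun x : ↥P => ((x : ↥(twistedG2 K e)) : GL chevG2.Idx K)) hab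
      simpa [hζv] using this
    have h2 : chevG2.wordMat K (reeWordU e (0 : K) 0 a) = chevG2.wordMat K (reeWordU e (0 : K) 0 b) := by
      rw [← hz a, ← hz b, h1]
    exact (R.reeU_inj h2).2.2
  · intro a b
    apply hext
    show z (a + b) = z a * z b
    apply Units.ext
    rw [Units.val_mul, hz, hz, hz, R.reeU_top_add]
  · intro a g
    apply hext
    show ((g : ↥(twistedG2 K e)) : GL chevG2.Idx K) * z a = z a * ((g : ↥(twistedG2 K e)) : GL chevG2.Idx K)
    exact (ree_top_central R (hz a) ((hmemP _).mp g.2).1).symm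
  · intro x hx b
    have hxU := (hmemP _).mp x.2
    have hnt : ∀ v : K, (((x : ↥(twistedG2 K e)) : GL chevG2.Idx K) : Matrix chevG2.Idx chevG2.Idx K) ≠
        chevG2.wordMat K (reeWordU e 0 0 v) := by
      intro v hv
      apply hx v
      apply hext
      show ((x : ↥(twistedG2 K e)) : GL chevG2.Idx K) = z v
      exact Units.ext (by rw [hv, hz])
    obtain ⟨y, hyU, hy⟩ := ree_fus R hxU hnt b (hz b)
    refine ⟨⟨⟨y, hyU.2⟩, (hmemP _).mpr hyU⟩, ?_⟩
    apply hext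
    exact hy
  · show Nat.card ↥((chevG2.posUnipotent K ⊓ twistedG2 K e).subgroupOf (twistedG2 K e)) = _
    rw [Nat.card_congr (Subgroup.subgroupOfEquivOfLe inf_le_right).toEquiv, R.card_pos_inf_twisted]
  · intro b b' hb hb'
    obtain ⟨h, hΓ, hh⟩ := ree_top_conj R hb hb' (hz b) (hz b')
    rw [isConj_iff]
    refine ⟨⟨h, hΓ⟩, ?_⟩
    apply Subtype.ext
    exact hh
  · intro h
    apply hs1
    exact congrArg Subtype.val h
  · apply Subtype.ext
    exact hs2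
  · intro b
    apply Subtype.ext
    exact hsinv b (z b) (z (-b)) (hz b) (hz (-b))

end Pack

end Cfsg.Agent.Lib.helper44.ReeLS
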