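import Cfsg.Agent.Lib.helper44.ReeOutA

set_option autoImplicit false
set_option maxRecDepth 100000

/-!
# Coordinates on `U¹` and `H¹` inside the twisted group of type `G₂`, as elements of the group itself

`uEl e t u v` is the element `U(t,u,v)`; `ent h` is the distinguished diagonal entry of an element of `H¹`,
which determines it; conjugation by `h` multiplies the coordinates by `k6 (ent h)`, `k10 (ent h)`, `ent h`.
-/

namespace Cfsg.Agent.Lib.helper44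

open Cfsg Cfsg.Lie Cfsg.Agent.Lib.helper41 Cfsg.Agent.Lib.helper22 Cfsg.Agent.Lib.helper23

section Api

variable {K : Type*} [Field K]

/-- The element `U(t,u,v)` of the twisted group. -/
noncomputable def uEl (e : ℕ) (t u v : K) : ↥(twistedG2 K e) :=
  ⟨Classical.choose (exists_word (reeWordU e t u v)),
    reeU_mem_twisted t u v _ (Classical.choose_spec (exists_word (reeWordU e t u v)))⟩

theorem uEl_val (e : ℕ) (t u v : K) :
    (((uEl e t u v : ↥(twistedG2 K e)) : GL chevG2.Idx K) : Matrix chevG2.Idx chevG2.Idx K) =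
      chevG2.wordMat K (reeWordU e t u v) :=
  Classical.choose_spec (exists_word (reeWordU e t u v))

theorem uEl_ext {e : ℕ} {g : ↥(twistedG2 K e)} {t u v : K}
    (h : ((g : GL chevG2.Idx K) : Matrix chevG2.Idx chevG2.Idx K) = chevG2.wordMat K (reeWordU e t u v)) :
    g = uEl e t u v := by
  apply Subtype.ext
  apply Units.ext
  rw [h, uEl_val]

/-- The distinguished diagonal entry. -/
def ent (g : GL chevG2.Idx K) : K :=
  (g : Matrix chevG2.Idx chevG2.Idx K) (Sum.inr ⟨11, by decide⟩) (Sum.inr ⟨11, by decide⟩)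

theorem ent_one : ent (1 : GL chevG2.Idx K) = 1 := by
  unfold ent
  rw [Units.val_one, Matrix.one_apply_eq]

theorem ent_mul {g g' : GL chevG2.Idx K} (hg : g ∈ chevG2.diagonalSubgroup K)
    (hg' : g' ∈ chevG2.diagonalSubgroup K) : ent (g * g') = ent g * ent g' :=
  diag_entry_mul hg hg'

/-- The character of `H¹` on the root `b`, in terms of the distinguished entry. -/
def k6 (e : ℕ) (μ : K) : K := ((μ ^ e) ^ 3)⁻¹ * μ ^ 2

/-- The character of `H¹` on the root `3a+b`, in terms of the distinguished entry. -/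
def k10 (e : ℕ) (μ : K) : K := (μ ^ e) ^ 3 * μ⁻¹

variable {e : ℕ} (R : ReeData K e)

include R

theorem uEl_pos (t u v : K) :
    ((uEl e t u v : ↥(twistedG2 K e)) : GL chevG2.Idx K) ∈ chevG2.posUnipotent K :=
  reeU_mem_pos R t u v _ (uEl_val e t u v)

theorem exists_uEl {g : ↥(twistedG2 K e)} (hg : (g : GL chevG2.Idx K) ∈ chevG2.posUnipotent K) :
    ∃ t u v : K, g = uEl e t u v := by
  obtain ⟨t, u, v, h⟩ := (R.pos_inf_twisted _).mp (Subgroup.mem_inf.mpr ⟨hg, g.2⟩)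
  exact ⟨t, u, v, uEl_ext h⟩

theorem uEl_inj {t u v t' u' v' : K} (h : uEl e t u v = uEl e t' u' v') : t = t' ∧ u = u' ∧ v = v' := by
  apply R.reeU_inj
  rw [← uEl_val, ← uEl_val, h]

theorem uEl_zero : uEl e (0 : K) 0 0 = 1 := by
  symm
  apply uEl_ext
  rw [R.wordMat_reeU_zero]
  rfl

theorem uEl_mul_top (t u v w : K) : uEl e t u v * uEl e 0 0 w = uEl e t u (v + w) := by
  apply uEl_ext
  rw [Subgroup.coe_mul, Units.val_mul, uEl_val, uEl_val, reeU_mul_top R]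

theorem uEl_top_add (v w : K) : uEl e 0 0 v * uEl e 0 0 w = uEl e 0 0 (v + w) :=
  uEl_mul_top R 0 0 v w

theorem uEl_mid_add (u u' : K) : uEl e 0 u 0 * uEl e 0 u' 0 = uEl e 0 (u + u') 0 := by
  apply uEl_ext
  rw [Subgroup.coe_mul, Units.val_mul, uEl_val, uEl_val, R.reeU_mid_add]

theorem uEl_split (u v : K) : uEl e 0 u v = uEl e 0 u 0 * uEl e 0 0 v := by
  have h := uEl_mul_top R 0 u 0 v
  rw [zero_add] at h
  exact h.symm

theorem uEl_top_comm (v : K) {x : ↥(twistedG2 K e)}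
    (hx : (x : GL chevG2.Idx K) ∈ chevG2.posUnipotent K) : uEl e 0 0 v * x = x * uEl e 0 0 v := by
  apply Subtype.ext
  rw [Subgroup.coe_mul, Subgroup.coe_mul]
  exact ree_top_central R (uEl_val e 0 0 v) hx

theorem eb_uEl (t u v : K) : eb ((uEl e t u v : ↥(twistedG2 K e)) : GL chevG2.Idx K) = t := by
  have := R.char3
  exact eb_reeU t u v (uEl_val e t u v)

omit R in
theorem coords_uEl (e : ℕ) (t u v : K) :
    reeA ((uEl e t u v : ↥(twistedG2 K e)) : GL chevG2.Idx K) = -t ^ e ∧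
    reeB ((uEl e t u v : ↥(twistedG2 K e)) : GL chevG2.Idx K) = -t ∧
    reeS ((uEl e t u v : ↥(twistedG2 K e)) : GL chevG2.Idx K) = -u ^ e :=
  ree_coords (uEl_val e t u v)

theorem uEl_cube (t u v : K) : ∃ v₃ : K,
    uEl e t u v * uEl e t u v * uEl e t u v = uEl e 0 0 v₃ ∧ v₃ ^ e = 2 * (t ^ e * t ^ e * t) := by
  obtain ⟨v₃, h1, h2⟩ := ree_cube_coord R (uEl_val e t u v)
  refine ⟨v₃, uEl_ext ?_, h2⟩
  rw [Subgroup.coe_mul, Subgroup.coe_mul, h1]

theorem uEl_cube_eq {x y : ↥(twistedG2 K e)} (hx : (x : GL chevG2.Idx K) ∈ chevG2.posUnipotent K)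
    (hy : (y : GL chevG2.Idx K) ∈ chevG2.posUnipotent K)
    (h : eb (x : GL chevG2.Idx K) = eb (y : GL chevG2.Idx K)) : x * x * x = y * y * y := by
  apply Subtype.ext
  rw [Subgroup.coe_mul, Subgroup.coe_mul, Subgroup.coe_mul, Subgroup.coe_mul]
  exact ree_cube_eq R (Subgroup.mem_inf.mpr ⟨hx, x.2⟩) (Subgroup.mem_inf.mpr ⟨hy, y.2⟩) h

theorem uEl_exists_cube (v : K) : ∃ y : ↥(twistedG2 K e),
    (y : GL chevG2.Idx K) ∈ chevG2.posUnipotent K ∧ y * y * y = uEl e 0 0 v := by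
  obtain ⟨y, hy, h⟩ := ree_exists_cube R v
  have hy' := Subgroup.mem_inf.mp hy
  refine ⟨⟨y, hy'.2⟩, hy'.1, uEl_ext ?_⟩
  rw [Subgroup.coe_mul, Subgroup.coe_mul]
  exact h

theorem uEl_cube_one_iff (t u v : K) : uEl e t u v * uEl e t u v * uEl e t u v = 1 ↔ t = 0 := by
  constructor
  · intro h
    by_contra ht
    apply R.cube_ne_one (uEl_val e t u v) ht
    have h1 := congrArg Subtype.val h
    rw [Subgroup.coe_mul, Subgroup.coe_mul] at h1
    rw [pow_succ, pow_two]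
    exact h1
  · intro ht
    subst ht
    apply Subtype.ext
    rw [Subgroup.coe_mul, Subgroup.coe_mul]
    have h1 := R.cube_eq_one (uEl_val e 0 u v)
    rw [pow_succ, pow_two] at h1
    exact h1

theorem ent_ne_zero {h : ↥(twistedG2 K e)} (hh : (h : GL chevG2.Idx K) ∈ chevG2.diagonalSubgroup K) :
    ent (h : GL chevG2.Idx K) ≠ 0 := by
  obtain ⟨c, hc, hv, hc0, hc1⟩ := ree_torus_param R hh (R.twisted_le_fix h.2)
  unfold ent
  rw [hc1]
  exact hc _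

theorem exists_tor (μ : K) (hμ : μ ≠ 0) : ∃ h : ↥(twistedG2 K e),
    (h : GL chevG2.Idx K) ∈ chevG2.diagonalSubgroup K ∧ ent (h : GL chevG2.Idx K) = μ := by
  obtain ⟨h, hH, hΓ, hent⟩ := R.exists_diag_entry μ hμ
  exact ⟨⟨h, hΓ⟩, hH, hent⟩

theorem tor_inj {h h' : ↥(twistedG2 K e)} (hh : (h : GL chevG2.Idx K) ∈ chevG2.diagonalSubgroup K)
    (hh' : (h' : GL chevG2.Idx K) ∈ chevG2.diagonalSubgroup K)
    (heq : ent (h : GL chevG2.Idx K) = ent (h' : GL chevG2.Idx K)) : h = h' :=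
  Subtype.ext (R.fix_diag_inj hh (R.twisted_le_fix h.2) hh' (R.twisted_le_fix h'.2) heq)

theorem tor_comm {h h' : ↥(twistedG2 K e)} (hh : (h : GL chevG2.Idx K) ∈ chevG2.diagonalSubgroup K)
    (hh' : (h' : GL chevG2.Idx K) ∈ chevG2.diagonalSubgroup K) : h * h' = h' * h := by
  apply tor_inj R (mul_mem hh hh') (mul_mem hh' hh)
  rw [Subgroup.coe_mul, Subgroup.coe_mul, ent_mul hh hh', ent_mul hh' hh, mul_comm]

theorem tor_conj {h : ↥(twistedG2 K e)} (hh : (h : GL chevG2.Idx K) ∈ chevG2.diagonalSubgroup K)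
    (t u v : K) : h * uEl e t u v * h⁻¹ =
      uEl e (k6 e (ent (h : GL chevG2.Idx K)) * t) (k10 e (ent (h : GL chevG2.Idx K)) * u)
        (ent (h : GL chevG2.Idx K) * v) := by
  have hfix := R.twisted_le_fix h.2
  obtain ⟨c, hc, hv, hc0, hc1⟩ := ree_torus_param R hh hfix
  have h1 := R.torus_conj_ree hh hfix c hc hv t u v (uEl_val e t u v)
  apply uEl_ext
  rw [Subgroup.coe_mul, Subgroup.coe_mul, Subgroup.coe_inv, h1, torusChar_6, torusChar_10, torusChar_11, hc0]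
  unfold k6 k10 ent
  rw [hc1]
  simp only [zpow_neg, zpow_ofNat, pow_one]

theorem k6_param (ν : K) : k6 e (ν ^ 2 * (ν ^ e) ^ 3) = ν := by
  by_cases hν : ν = 0
  · unfold k6
    rw [hν]
    simp
  have hne : ν ^ e ≠ 0 := pow_ne_zero _ hν
  have e1 : (ν ^ 2 * (ν ^ e) ^ 3) ^ e = (ν ^ e) ^ 2 * ν := by
    have h1 := R.hφ ν
    calc (ν ^ 2 * (ν ^ e) ^ 3) ^ e = (ν ^ e) ^ 2 * (((ν ^ e) ^ e) ^ 3) := by ring
      _ = (ν ^ e) ^ 2 * ν := by rw [h1]
  unfold k6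
  rw [e1]
  field_simp

theorem k10_param (ρ : K) : k10 e (ρ * (ρ ^ e) ^ 3) = ρ ^ 2 := by
  by_cases hρ : ρ = 0
  · unfold k10
    rw [hρ]
    simp
  have hne : ρ ^ e ≠ 0 := pow_ne_zero _ hρ
  have e1 : (ρ * (ρ ^ e) ^ 3) ^ e = ρ ^ e * ρ := by
    have h1 := R.hφ ρ
    calc (ρ * (ρ ^ e) ^ 3) ^ e = ρ ^ e * (((ρ ^ e) ^ e) ^ 3) := by ring
      _ = ρ ^ e * ρ := by rw [h1]
  unfold k10
  rw [e1]
  field_simp

theorem borel_twisted' {g : ↥(twistedG2 K e)} (hg : (g : GL chevG2.Idx K) ∈ chevG2.borelSubgroup K) :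
    ∃ u h : ↥(twistedG2 K e), (u : GL chevG2.Idx K) ∈ chevG2.posUnipotent K ∧
      (h : GL chevG2.Idx K) ∈ chevG2.diagonalSubgroup K ∧ g = u * h := by
  obtain ⟨u, hu, h, hh, hgu⟩ := R.borel_twisted hg g.2
  have hu' := Subgroup.mem_inf.mp hu
  have hh' := Subgroup.mem_inf.mp hh
  exact ⟨⟨u, hu'.2⟩, ⟨h, hh'.2⟩, hu'.1, hh'.1, Subtype.ext hgu⟩

theorem exists_u_ne_one' : ∃ u : ↥(twistedG2 K e), (u : GL chevG2.Idx K) ∈ chevG2.posUnipotent K ∧ u ≠ 1 := by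
  obtain ⟨u, hu, hne⟩ := R.exists_u_ne_one
  have hu' := Subgroup.mem_inf.mp hu
  exact ⟨⟨u, hu'.2⟩, hu'.1, fun h => hne (congrArg Subtype.val h)⟩

omit R in
theorem diag_conj_pos {h u : ↥(twistedG2 K e)} (hh : (h : GL chevG2.Idx K) ∈ chevG2.diagonalSubgroup K)
    (hu : (u : GL chevG2.Idx K) ∈ chevG2.posUnipotent K) :
    ((h * u * h⁻¹ : ↥(twistedG2 K e)) : GL chevG2.Idx K) ∈ chevG2.posUnipotent K := by
  rw [Subgroup.coe_mul, Subgroup.coe_mul, Subgroup.coe_inv]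
  exact (Subgroup.mem_normalizer_iff.mp ((Cfsg.Agent.S1036.result (F := K) chevG2 (by simp)).1 hh) _).mp hu

omit R in
theorem pos_diag_eq_one {g : ↥(twistedG2 K e)} (hu : (g : GL chevG2.Idx K) ∈ chevG2.posUnipotent K)
    (hh : (g : GL chevG2.Idx K) ∈ chevG2.diagonalSubgroup K) : g = 1 := by
  have h3 : (g : GL chevG2.Idx K) ∈ chevG2.posUnipotent K ⊓ chevG2.diagonalSubgroup K :=
    Subgroup.mem_inf.mpr ⟨hu, hh⟩
  rw [(Cfsg.Agent.S1036.result (F := K) chevG2 (by simp)).2, Subgroup.mem_bot] at h3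
  exact Subtype.ext h3

theorem twisted_cases' {n : ↥(twistedG2 K e)} (hn : ReeW0 e (n : GL chevG2.Idx K)) (g : ↥(twistedG2 K e)) :
    (∃ u h : ↥(twistedG2 K e), (u : GL chevG2.Idx K) ∈ chevG2.posUnipotent K ∧
      (h : GL chevG2.Idx K) ∈ chevG2.diagonalSubgroup K ∧ g = u * h) ∨
    (∃ u h u' : ↥(twistedG2 K e), (u : GL chevG2.Idx K) ∈ chevG2.posUnipotent K ∧
      (h : GL chevG2.Idx K) ∈ chevG2.diagonalSubgroup K ∧
      (u' : GL chevG2.Idx K) ∈ chevG2.posUnipotent K ∧ g = u * h * n * u') := by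
  rcases R.twisted_cases hn g.2 with ⟨u, hu, h, hh, hgu⟩ | ⟨u, hu, h, hh, u', hu', hgu⟩
  · have hu1 := Subgroup.mem_inf.mp hu
    have hh1 := Subgroup.mem_inf.mp hh
    exact Or.inl ⟨⟨u, hu1.2⟩, ⟨h, hh1.2⟩, hu1.1, hh1.1, Subtype.ext hgu⟩
  · have hu1 := Subgroup.mem_inf.mp hu
    have hh1 := Subgroup.mem_inf.mp hh
    have hu1' := Subgroup.mem_inf.mp hu'
    exact Or.inr ⟨⟨u, hu1.2⟩, ⟨h, hh1.2⟩, ⟨u', hu1'.2⟩, hu1.1, hh1.1, hu1'.1, Subtype.ext hgu⟩

theorem exists_w0' : ∃ n : ↥(twistedG2 K e), ReeW0 e (n : GL chevG2.Idx K) := by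
  obtain ⟨n, hn⟩ := R.exists_w0
  exact ⟨⟨n, hn.tw⟩, hn⟩

omit R in
theorem pos_mul' {x y : ↥(twistedG2 K e)} (hx : (x : GL chevG2.Idx K) ∈ chevG2.posUnipotent K)
    (hy : (y : GL chevG2.Idx K) ∈ chevG2.posUnipotent K) :
    ((x * y : ↥(twistedG2 K e)) : GL chevG2.Idx K) ∈ chevG2.posUnipotent K := by
  rw [Subgroup.coe_mul]
  exact mul_mem hx hy

omit R in
theorem pos_inv' {x : ↥(twistedG2 K e)} (hx : (x : GL chevG2.Idx K) ∈ chevG2.posUnipotent K) :
    ((x⁻¹ : ↥(twistedG2 K e)) : GL chevG2.Idx K) ∈ chevG2.posUnipotent K := by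
  rw [Subgroup.coe_inv]
  exact inv_mem hx

omit R in
theorem diag_mul' {x y : ↥(twistedG2 K e)} (hx : (x : GL chevG2.Idx K) ∈ chevG2.diagonalSubgroup K)
    (hy : (y : GL chevG2.Idx K) ∈ chevG2.diagonalSubgroup K) :
    ((x * y : ↥(twistedG2 K e)) : GL chevG2.Idx K) ∈ chevG2.diagonalSubgroup K := by
  rw [Subgroup.coe_mul]
  exact mul_mem hx hy

omit R in
theorem diag_inv' {x : ↥(twistedG2 K e)} (hx : (x : GL chevG2.Idx K) ∈ chevG2.diagonalSubgroup K) :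
    ((x⁻¹ : ↥(twistedG2 K e)) : GL chevG2.Idx K) ∈ chevG2.diagonalSubgroup K := by
  rw [Subgroup.coe_inv]
  exact inv_mem hx

omit R in
theorem eb_mul' {x y : ↥(twistedG2 K e)} (hx : (x : GL chevG2.Idx K) ∈ chevG2.posUnipotent K)
    (hy : (y : GL chevG2.Idx K) ∈ chevG2.posUnipotent K) :
    eb ((x * y : ↥(twistedG2 K e)) : GL chevG2.Idx K) =
      eb (x : GL chevG2.Idx K) + eb (y : GL chevG2.Idx K) := by
  rw [Subgroup.coe_mul]
  exact eb_mul hx hy

omit R in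
theorem eb_inv' {x : ↥(twistedG2 K e)} (hx : (x : GL chevG2.Idx K) ∈ chevG2.posUnipotent K) :
    eb ((x⁻¹ : ↥(twistedG2 K e)) : GL chevG2.Idx K) = -eb (x : GL chevG2.Idx K) := by
  rw [Subgroup.coe_inv]
  exact eb_inv hx

omit R in
theorem reeS_mul' {x y : ↥(twistedG2 K e)} (hx : (x : GL chevG2.Idx K) ∈ chevG2.posUnipotent K)
    (hy : (y : GL chevG2.Idx K) ∈ chevG2.posUnipotent K) :
    reeS ((x * y : ↥(twistedG2 K e)) : GL chevG2.Idx K) =
      reeS (x : GL chevG2.Idx K) + reeA (x : GL chevG2.Idx K) * reeB (y : GL chevG2.Idx K) +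
        reeS (y : GL chevG2.Idx K) := by
  rw [Subgroup.coe_mul]
  exact reeS_mul hx hy

omit R in
theorem reeS_comm' {x y : ↥(twistedG2 K e)} (hx : (x : GL chevG2.Idx K) ∈ chevG2.posUnipotent K)
    (hy : (y : GL chevG2.Idx K) ∈ chevG2.posUnipotent K) :
    reeS ((x * y * x⁻¹ * y⁻¹ : ↥(twistedG2 K e)) : GL chevG2.Idx K) =
      reeA (x : GL chevG2.Idx K) * reeB (y : GL chevG2.Idx K) -
        reeA (y : GL chevG2.Idx K) * reeB (x : GL chevG2.Idx K) := by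
  rw [Subgroup.coe_mul, Subgroup.coe_mul, Subgroup.coe_mul, Subgroup.coe_inv, Subgroup.coe_inv]
  exact reeS_comm hx hy

theorem exists_uEl_eb {g : ↥(twistedG2 K e)} (hg : (g : GL chevG2.Idx K) ∈ chevG2.posUnipotent K) :
    ∃ u v : K, g = uEl e (eb (g : GL chevG2.Idx K)) u v := by
  obtain ⟨t, u, v, h⟩ := exists_uEl R hg
  refine ⟨u, v, ?_⟩
  rw [h, eb_uEl R]

theorem k6_neg_one : k6 e (-1 : K) = -1 := by
  unfold k6
  rw [R.hodd.neg_one_pow]
  norm_num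

theorem k10_neg_one : k10 e (-1 : K) = 1 := by
  unfold k10
  rw [R.hodd.neg_one_pow]
  norm_num

theorem two_ne_zero' : (2 : K) ≠ 0 := by
  have := R.char3
  intro h
  exact one_ne_zero (α := K) (by linear_combination (three_eq_zero : (3 : K) = 0) - h)

end Api

end Cfsg.Agent.Lib.helper44
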