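import Cfsg.Agent.Lib.helper44.ReeOutB

set_option autoImplicit false
set_option maxRecDepth 100000

/-!
# Automorphisms of the twisted group of type `G₂`: reduction to automorphisms fixing `H¹` pointwise

Every automorphism can be composed with an inner automorphism so as to normalise `U¹` and map `H¹` into itself;
its action on `H¹` is then given by a field automorphism.
-/

namespace Cfsg.Agent.Lib.helper44

open Cfsg Cfsg.Lie Cfsg.Agent.Lib.helper41 Cfsg.Agent.Lib.helper22 Cfsg.Agent.Lib.helper23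

open scoped Pointwise

section Aut

variable {K : Type*} [Field K] {e : ℕ}

/-- The automorphism normalises `U¹`. -/
def NormU (α : MulAut ↥(twistedG2 K e)) : Prop :=
  ∀ g : ↥(twistedG2 K e), (g : GL chevG2.Idx K) ∈ chevG2.posUnipotent K ↔
    ((α g : ↥(twistedG2 K e)) : GL chevG2.Idx K) ∈ chevG2.posUnipotent K

/-- The automorphism maps `H¹` into itself. -/
def MapH (α : MulAut ↥(twistedG2 K e)) : Prop :=
  ∀ g : ↥(twistedG2 K e), (g : GL chevG2.Idx K) ∈ chevG2.diagonalSubgroup K →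
    ((α g : ↥(twistedG2 K e)) : GL chevG2.Idx K) ∈ chevG2.diagonalSubgroup K

/-- The automorphism fixes `H¹` pointwise. -/
def FixH (α : MulAut ↥(twistedG2 K e)) : Prop :=
  ∀ g : ↥(twistedG2 K e), (g : GL chevG2.Idx K) ∈ chevG2.diagonalSubgroup K → α g = g

theorem NormU.mul {α β : MulAut ↥(twistedG2 K e)} (hα : NormU α) (hβ : NormU β) : NormU (α * β) :=
  fun g => (hβ g).trans (hα (β g))

theorem normU_conj {b : ↥(twistedG2 K e)}
    (hb : (b : GL chevG2.Idx K) ∈ Subgroup.normalizer (chevG2.posUnipotent K : Set (GL chevG2.Idx K))) :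
    NormU (MulAut.conj b) := by
  intro g
  rw [MulAut.conj_apply, Subgroup.coe_mul, Subgroup.coe_mul, Subgroup.coe_inv]
  exact Subgroup.mem_normalizer_iff.mp hb _

theorem normU_conj_pos {b : ↥(twistedG2 K e)} (hb : (b : GL chevG2.Idx K) ∈ chevG2.posUnipotent K) :
    NormU (MulAut.conj b) :=
  normU_conj (Subgroup.le_normalizer hb)

theorem normU_conj_diag {b : ↥(twistedG2 K e)} (hb : (b : GL chevG2.Idx K) ∈ chevG2.diagonalSubgroup K) :
    NormU (MulAut.conj b) :=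
  normU_conj ((Cfsg.Agent.S1036.result (F := K) chevG2 (by simp)).1 hb)

theorem normU_field (ψ : K ≃+* K) : NormU (reeFieldAut ψ e) := by
  intro g
  constructor
  · intro hg
    rw [reeFieldAut_coe]
    exact glMap_pos ψ hg
  · intro hg
    rw [reeFieldAut_coe] at hg
    have h1 := glMap_pos ψ.symm hg
    have h2 : glMapEquiv chevG2 ψ.symm (glMapEquiv chevG2 ψ (g : GL chevG2.Idx K)) = g :=
      (glMapEquiv chevG2 ψ).symm_apply_apply _
    rw [h2] at h1
    exact h1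

theorem exists_normU [Fintype K] {m : ℕ} (hK : Fintype.card K = 3 ^ (2 * m + 1)) (R : ReeData K e)
    (α : MulAut ↥(twistedG2 K e)) : ∃ g : ↥(twistedG2 K e), NormU (MulAut.conj g * α) := by
  obtain ⟨S₀, hS₀⟩ := R.exists_sylow hK
  have : Fact (Nat.Prime 3) := ⟨Nat.prime_three⟩
  obtain ⟨g, hg⟩ := MulAction.exists_smul_eq ↥(twistedG2 K e) (α • S₀) S₀
  refine ⟨g, fun x => ?_⟩
  rw [← hS₀, ← hS₀]
  have h1 : (MulAut.conj g * α) • (S₀ : Subgroup ↥(twistedG2 K e)) = S₀ := by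
    rw [mul_smul, ← Sylow.pointwise_smul_def, ← Sylow.coe_subgroup_smul, hg]
  have h2 := Subgroup.smul_mem_pointwise_smul_iff (a := MulAut.conj g * α)
    (S := (S₀ : Subgroup ↥(twistedG2 K e))) (x := x)
  rw [h1] at h2
  exact h2.symm

theorem NormU.borel (R : ReeData K e) {n : GL chevG2.Idx K} (hn : ReeW0 e n)
    {α : MulAut ↥(twistedG2 K e)} (hα : NormU α) {g : ↥(twistedG2 K e)}
    (hg : (g : GL chevG2.Idx K) ∈ chevG2.borelSubgroup K) :
    ((α g : ↥(twistedG2 K e)) : GL chevG2.Idx K) ∈ chevG2.borelSubgroup K := by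
  have hUB : chevG2.posUnipotent K ≤ chevG2.borelSubgroup K := le_sup_left
  obtain ⟨u, h, hu, hh, e1⟩ := borel_twisted' R hg
  rw [e1, map_mul, Subgroup.coe_mul]
  apply mul_mem
  · exact hUB ((hα u).mp hu)
  · by_contra hnb
    obtain ⟨u₀, hu₀, hne⟩ := exists_u_ne_one' R
    have hx := (hα u₀).mp hu₀
    have h4 := (hα (h * u₀ * h⁻¹)).mp (diag_conj_pos hh hu₀)
    rw [map_mul, map_mul, map_inv, Subgroup.coe_mul, Subgroup.coe_mul, Subgroup.coe_inv] at h4
    have h5 := R.conj_pos_trivial hn (α h).2 hnb hx h4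
    apply hne
    have h6 : α u₀ = 1 := Subtype.ext h5
    rw [← map_one α] at h6
    exact α.injective h6

theorem exists_mapH [Fintype K] {m : ℕ} (hm : 1 ≤ m) (hK : Fintype.card K = 3 ^ (2 * m + 1))
    (R : ReeData K e) {α : MulAut ↥(twistedG2 K e)} (hα : NormU α) :
    ∃ x : ↥(twistedG2 K e), (x : GL chevG2.Idx K) ∈ chevG2.posUnipotent K ∧ MapH (MulAut.conj x * α) := by
  obtain ⟨n, hn⟩ := R.exists_w0
  obtain ⟨μ, hμ, hbig⟩ := R.exists_big hm hK
  obtain ⟨h₀, hh₀, hent⟩ := exists_tor R μ hμ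
  have hS := Cfsg.Agent.S1036.result (F := K) chevG2 (by simp)
  have hμ2 : μ * μ ≠ 1 := by
    intro h
    have h1 : (μ - 1) * (μ + 1) = 0 := by linear_combination h
    rcases mul_eq_zero.mp h1 with h2 | h2
    · have h3 : μ = 1 := by linear_combination h2
      apply hbig
      rw [h3, one_pow, one_pow]
    · have h3 : μ = -1 := by linear_combination h2
      apply hbig
      rw [h3, R.hodd.neg_one_pow]
      norm_num
  have hh₀2 : h₀ * h₀ ≠ 1 := by
    intro h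
    apply hμ2
    have h1 : ent ((h₀ * h₀ : ↥(twistedG2 K e)) : GL chevG2.Idx K) = 1 := by
      rw [h]
      exact ent_one
    rw [Subgroup.coe_mul, ent_mul hh₀ hh₀, hent] at h1
    exact h1
  have hb := hα.borel R hn (g := h₀)
    ((le_sup_right : chevG2.diagonalSubgroup K ≤ chevG2.borelSubgroup K) hh₀)
  obtain ⟨u₁, hu₁, h₁, hh₁, hbu⟩ := R.borel_twisted hb (α h₀).2
  have hu₁' := Subgroup.mem_inf.mp hu₁
  have hh₁' := Subgroup.mem_inf.mp hh₁
  have hh₁2 : h₁ * h₁ ≠ 1 := by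
    intro h
    apply hh₀2
    have h1 : ((α (h₀ * h₀) : ↥(twistedG2 K e)) : GL chevG2.Idx K) ∈ chevG2.posUnipotent K := by
      rw [map_mul, Subgroup.coe_mul, hbu]
      have e1 : u₁ * h₁ * (u₁ * h₁) = u₁ * (h₁ * u₁ * h₁⁻¹) * (h₁ * h₁) := by group
      rw [e1, h, mul_one]
      exact mul_mem hu₁'.1 ((Subgroup.mem_normalizer_iff.mp (hS.1 hh₁'.1) u₁).mp hu₁'.1)
    have h2 := (hα (h₀ * h₀)).mpr h1
    have h3 : ((h₀ * h₀ : ↥(twistedG2 K e)) : GL chevG2.Idx K) ∈
        chevG2.posUnipotent K ⊓ chevG2.diagonalSubgroup K :=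
      Subgroup.mem_inf.mpr ⟨h2, by rw [Subgroup.coe_mul]; exact mul_mem hh₀ hh₀⟩
    rw [hS.2, Subgroup.mem_bot] at h3
    exact Subtype.ext h3
  have hfin : Finite ↥(chevG2.posUnipotent K ⊓ twistedG2 K e) := inferInstance
  have hL : Function.Injective (fun x : ↥(chevG2.posUnipotent K ⊓ twistedG2 K e) =>
      (⟨(x : GL chevG2.Idx K)⁻¹ * (h₁ * x * h₁⁻¹), Subgroup.mem_inf.mpr
        ⟨mul_mem (inv_mem (Subgroup.mem_inf.mp x.2).1)
          ((Subgroup.mem_normalizer_iff.mp (hS.1 hh₁'.1) _).mp (Subgroup.mem_inf.mp x.2).1),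
        mul_mem (inv_mem (Subgroup.mem_inf.mp x.2).2)
          (mul_mem (mul_mem hh₁'.2 (Subgroup.mem_inf.mp x.2).2) (inv_mem hh₁'.2))⟩⟩ :
        ↥(chevG2.posUnipotent K ⊓ twistedG2 K e))) := by
    intro x y hxy
    have h1 : (x : GL chevG2.Idx K)⁻¹ * (h₁ * x * h₁⁻¹) = (y : GL chevG2.Idx K)⁻¹ * (h₁ * y * h₁⁻¹) :=
      congrArg Subtype.val hxy
    have h2 : h₁ * ((y : GL chevG2.Idx K) * (x : GL chevG2.Idx K)⁻¹) =
        ((y : GL chevG2.Idx K) * (x : GL chevG2.Idx K)⁻¹) * h₁ := by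
      have e1 : h₁ * ((y : GL chevG2.Idx K) * (x : GL chevG2.Idx K)⁻¹) =
          (y : GL chevG2.Idx K) * ((y : GL chevG2.Idx K)⁻¹ * (h₁ * y * h₁⁻¹)) * h₁ *
            (x : GL chevG2.Idx K)⁻¹ := by group
      have e2 : ((y : GL chevG2.Idx K) * (x : GL chevG2.Idx K)⁻¹) * h₁ =
          (y : GL chevG2.Idx K) * ((x : GL chevG2.Idx K)⁻¹ * (h₁ * x * h₁⁻¹)) * h₁ *
            (x : GL chevG2.Idx K)⁻¹ := by group
      rw [e1, e2, h1]
    by_contra hne
    apply hh₁2
    refine ree_sq_eq_one_of_commute R hh₁ (mul_mem y.2 (inv_mem x.2)) (fun h => hne ?_) h2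
    apply Subtype.ext
    have h3 : (y : GL chevG2.Idx K) = x := by
      rw [← mul_one (y : GL chevG2.Idx K), ← inv_mul_cancel (x : GL chevG2.Idx K), ← mul_assoc, h, one_mul]
    exact h3.symm
  obtain ⟨y, hy⟩ := Finite.surjective_of_injective hL ⟨u₁, hu₁⟩
  have hy1 : (y : GL chevG2.Idx K)⁻¹ * (h₁ * y * h₁⁻¹) = u₁ := congrArg Subtype.val hy
  have hy' := Subgroup.mem_inf.mp y.2
  refine ⟨⟨(y : GL chevG2.Idx K), hy'.2⟩, hy'.1, ?_⟩
  have hβ0 : (((MulAut.conj (⟨(y : GL chevG2.Idx K), hy'.2⟩ : ↥(twistedG2 K e)) * α) h₀ :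
      ↥(twistedG2 K e)) : GL chevG2.Idx K) = h₁ := by
    rw [MulAut.mul_apply, MulAut.conj_apply, Subgroup.coe_mul, Subgroup.coe_mul, Subgroup.coe_inv, hbu, ← hy1]
    show (y : GL chevG2.Idx K) * ((y : GL chevG2.Idx K)⁻¹ * (h₁ * y * h₁⁻¹) * h₁) * (y : GL chevG2.Idx K)⁻¹ = h₁
    group
  intro h hh
  have hc : (((MulAut.conj (⟨(y : GL chevG2.Idx K), hy'.2⟩ : ↥(twistedG2 K e)) * α) h :
      ↥(twistedG2 K e)) : GL chevG2.Idx K) * h₁ = h₁ *
      (((MulAut.conj (⟨(y : GL chevG2.Idx K), hy'.2⟩ : ↥(twistedG2 K e)) * α) h :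
      ↥(twistedG2 K e)) : GL chevG2.Idx K) := by
    rw [← hβ0, ← Subgroup.coe_mul, ← Subgroup.coe_mul, ← map_mul, ← map_mul, tor_comm R hh hh₀]
  exact (Subgroup.mem_inf.mp (ree_cent_torus R hh₁ hh₁2
    ((MulAut.conj (⟨(y : GL chevG2.Idx K), hy'.2⟩ : ↥(twistedG2 K e)) * α) h).2 hc)).1

theorem exists_field [Finite K] (R : ReeData K e) {β : MulAut ↥(twistedG2 K e)} (hβ : NormU β)
    (hH : MapH β) :
    ∃ ψ : K ≃+* K, ∀ h : ↥(twistedG2 K e), (h : GL chevG2.Idx K) ∈ chevG2.diagonalSubgroup K →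
      ent ((β h : ↥(twistedG2 K e)) : GL chevG2.Idx K) = ψ (ent (h : GL chevG2.Idx K)) := by
  have hZ : ∀ v : K, ∃ w : K, β (uEl e 0 0 v) = uEl e 0 0 w := by
    intro v
    obtain ⟨y, hy, hyv⟩ := uEl_exists_cube R v
    obtain ⟨t', u', v', hy'⟩ := exists_uEl R ((hβ y).mp hy)
    obtain ⟨v₃, h3, -⟩ := uEl_cube R t' u' v'
    refine ⟨v₃, ?_⟩
    rw [← hyv, map_mul, map_mul, hy', h3]
  choose f hf using hZ
  have hadd : ∀ v w, f (v + w) = f v + f w := by
    intro v w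
    have h1 : uEl e 0 0 (f (v + w)) = uEl e 0 0 (f v + f w) := by
      rw [← hf, ← uEl_top_add R, map_mul, hf, hf, uEl_top_add R]
    exact (uEl_inj R h1).2.2
  have hf0 : f 0 = 0 := by
    have h1 := hadd 0 0
    rw [add_zero] at h1
    linear_combination -h1
  have hinj : ∀ v, f v = 0 → v = 0 := by
    intro v hv
    have h1 := hf v
    rw [hv, uEl_zero R, ← map_one β] at h1
    have h2 := β.injective h1
    rw [← uEl_zero R] at h2
    exact (uEl_inj R h2).2.2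
  have hsemi : ∀ h : ↥(twistedG2 K e), (h : GL chevG2.Idx K) ∈ chevG2.diagonalSubgroup K → ∀ v,
      f (ent (h : GL chevG2.Idx K) * v) = ent ((β h : ↥(twistedG2 K e)) : GL chevG2.Idx K) * f v := by
    intro h hh v
    have h1 : uEl e 0 0 (f (ent (h : GL chevG2.Idx K) * v)) =
        uEl e 0 0 (ent ((β h : ↥(twistedG2 K e)) : GL chevG2.Idx K) * f v) := by
      have e1 := tor_conj R hh 0 0 v
      rw [mul_zero, mul_zero] at e1
      have e2 := tor_conj R (hH h hh) 0 0 (f v)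
      rw [mul_zero, mul_zero] at e2
      rw [← hf, ← e1, map_mul, map_mul, map_inv, hf, e2]
    exact (uEl_inj R h1).2.2
  have hf1 : f 1 ≠ 0 := fun h => one_ne_zero (hinj 1 h)
  have hσ : ∀ h : ↥(twistedG2 K e), (h : GL chevG2.Idx K) ∈ chevG2.diagonalSubgroup K →
      ent ((β h : ↥(twistedG2 K e)) : GL chevG2.Idx K) = f (ent (h : GL chevG2.Idx K)) / f 1 := by
    intro h hh
    have h1 := hsemi h hh 1
    rw [mul_one] at h1
    rw [h1]
    field_simp
  let ψ₀ : K →+* K :=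
    { toFun := fun μ => f μ / f 1
      map_one' := div_self hf1
      map_mul' := by
        intro μ ν
        by_cases hμ : μ = 0
        · rw [hμ, zero_mul, hf0, zero_div, zero_mul]
        · obtain ⟨h, hh, hent⟩ := exists_tor R μ hμ
          have h1 := hsemi h hh ν
          rw [hσ h hh, hent] at h1
          rw [h1]
          ring
      map_zero' := by rw [hf0, zero_div]
      map_add' := by
        intro μ ν
        rw [hadd, add_div] }
  have hinj' : Function.Injective ψ₀ := ψ₀.injective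
  refine ⟨RingEquiv.ofBijective ψ₀ ⟨hinj', Finite.surjective_of_injective hinj'⟩, fun h hh => ?_⟩
  rw [hσ h hh]
  rfl

theorem exists_fixH [Finite K] (R : ReeData K e) {β : MulAut ↥(twistedG2 K e)} (hβ : NormU β)
    (hH : MapH β) : ∃ ψ : K ≃+* K, NormU (reeFieldAut ψ e * β) ∧ FixH (reeFieldAut ψ e * β) := by
  obtain ⟨ψ, hψ⟩ := exists_field R hβ hH
  refine ⟨ψ.symm, (normU_field ψ.symm).mul hβ, fun h hh => ?_⟩
  have hd : (((reeFieldAut ψ.symm e * β) h : ↥(twistedG2 K e)) : GL chevG2.Idx K) ∈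
      chevG2.diagonalSubgroup K := by
    rw [MulAut.mul_apply, reeFieldAut_coe]
    exact glMap_diag ψ.symm (hH h hh)
  apply tor_inj R hd hh
  rw [MulAut.mul_apply, reeFieldAut_coe]
  have h1 := hψ h hh
  unfold ent at h1 ⊢
  rw [glMap_entry, h1]
  exact ψ.symm_apply_apply _

end Aut

end Cfsg.Agent.Lib.helper44
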