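import Cfsg.Agent.Lib.helper44.ReeOutC

set_option autoImplicit false
set_option maxRecDepth 100000

/-!
# Automorphisms of the twisted group of type `G₂` fixing `H¹` pointwise and normalising `U¹`

After composing with conjugation by an element of `H¹`, such an automorphism preserves the first coordinate
of `U¹`.
-/

namespace Cfsg.Agent.Lib.helper44

open Cfsg Cfsg.Lie Cfsg.Agent.Lib.helper41 Cfsg.Agent.Lib.helper22 Cfsg.Agent.Lib.helper23

section AutU

variable {K : Type*} [Field K] {e : ℕ}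

/-- The automorphism preserves the first coordinate on `U¹`. -/
def EbFix (γ : MulAut ↥(twistedG2 K e)) : Prop :=
  ∀ x : ↥(twistedG2 K e), (x : GL chevG2.Idx K) ∈ chevG2.posUnipotent K →
    eb ((γ x : ↥(twistedG2 K e)) : GL chevG2.Idx K) = eb (x : GL chevG2.Idx K)

theorem FixH.conj_eq {γ : MulAut ↥(twistedG2 K e)} (hF : FixH γ) {h : ↥(twistedG2 K e)}
    (hh : (h : GL chevG2.Idx K) ∈ chevG2.diagonalSubgroup K) (x : ↥(twistedG2 K e)) :
    γ (h * x * h⁻¹) = h * γ x * h⁻¹ := by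
  rw [map_mul, map_mul, map_inv, hF h hh]

theorem FixH.conj_mul (R : ReeData K e) {γ : MulAut ↥(twistedG2 K e)} (hF : FixH γ) {h : ↥(twistedG2 K e)}
    (hh : (h : GL chevG2.Idx K) ∈ chevG2.diagonalSubgroup K) : FixH (MulAut.conj h * γ) := by
  intro g hg
  rw [MulAut.mul_apply, MulAut.conj_apply, hF g hg, tor_comm R hh hg, mul_inv_cancel_right]

theorem exists_ebFix (R : ReeData K e) {γ : MulAut ↥(twistedG2 K e)} (hγ : NormU γ) (hF : FixH γ) :
    ∃ h : ↥(twistedG2 K e), (h : GL chevG2.Idx K) ∈ chevG2.diagonalSubgroup K ∧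
      EbFix (MulAut.conj h * γ) := by
  have := R.char3
  have ha : ∀ x : ↥(twistedG2 K e), (x : GL chevG2.Idx K) ∈ chevG2.posUnipotent K →
      eb (x : GL chevG2.Idx K) = 0 → eb ((γ x : ↥(twistedG2 K e)) : GL chevG2.Idx K) = 0 := by
    intro x hx h0
    obtain ⟨u, v, hxu⟩ := exists_uEl_eb R hx
    rw [h0] at hxu
    obtain ⟨u', v', hxu'⟩ := exists_uEl_eb R ((hγ x).mp hx)
    have h1 : γ x * γ x * γ x = 1 := by
      rw [← map_mul, ← map_mul, hxu, (uEl_cube_one_iff R 0 u v).mpr rfl, map_one]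
    rw [hxu'] at h1
    exact (uEl_cube_one_iff R _ u' v').mp h1
  have hb : ∀ x : ↥(twistedG2 K e), (x : GL chevG2.Idx K) ∈ chevG2.posUnipotent K →
      eb ((γ x : ↥(twistedG2 K e)) : GL chevG2.Idx K) =
        eb ((γ (uEl e (eb (x : GL chevG2.Idx K)) 0 0) : ↥(twistedG2 K e)) : GL chevG2.Idx K) := by
    intro x hx
    have hy := uEl_pos R (eb (x : GL chevG2.Idx K)) 0 0
    have h1 := ha (x * (uEl e (eb (x : GL chevG2.Idx K)) 0 0)⁻¹) (pos_mul' hx (pos_inv' hy))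
      (by rw [eb_mul' hx (pos_inv' hy), eb_inv' hy, eb_uEl R]; ring)
    rw [map_mul, map_inv, eb_mul' ((hγ x).mp hx) (pos_inv' ((hγ _).mp hy)), eb_inv' ((hγ _).mp hy)] at h1
    linear_combination h1
  have hT_add : ∀ t t' : K, eb ((γ (uEl e (t + t') 0 0) : ↥(twistedG2 K e)) : GL chevG2.Idx K) =
      eb ((γ (uEl e t 0 0) : ↥(twistedG2 K e)) : GL chevG2.Idx K) +
        eb ((γ (uEl e t' 0 0) : ↥(twistedG2 K e)) : GL chevG2.Idx K) := by
    intro t t'
    have h1 := hb (uEl e t 0 0 * uEl e t' 0 0) (pos_mul' (uEl_pos R t 0 0) (uEl_pos R t' 0 0))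
    rw [eb_mul' (uEl_pos R t 0 0) (uEl_pos R t' 0 0), eb_uEl R, eb_uEl R, map_mul,
      eb_mul' ((hγ _).mp (uEl_pos R t 0 0)) ((hγ _).mp (uEl_pos R t' 0 0))] at h1
    exact h1.symm
  have hT_semi : ∀ h : ↥(twistedG2 K e), (h : GL chevG2.Idx K) ∈ chevG2.diagonalSubgroup K → ∀ t : K,
      eb ((γ (uEl e (k6 e (ent (h : GL chevG2.Idx K)) * t) 0 0) : ↥(twistedG2 K e)) : GL chevG2.Idx K) =
        k6 e (ent (h : GL chevG2.Idx K)) *
          eb ((γ (uEl e t 0 0) : ↥(twistedG2 K e)) : GL chevG2.Idx K) := by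
    intro h hh t
    have e1 := hF.conj_eq hh (uEl e t 0 0)
    obtain ⟨u', v', hu'⟩ := exists_uEl_eb R ((hγ _).mp (uEl_pos R t 0 0))
    rw [tor_conj R hh, hu', tor_conj R hh] at e1
    have e2 := congrArg (fun g : ↥(twistedG2 K e) => eb (g : GL chevG2.Idx K)) e1
    rw [eb_uEl R, hb _ (uEl_pos R _ _ _), eb_uEl R] at e2
    exact e2
  have hT0 : eb ((γ (uEl e 0 0 0) : ↥(twistedG2 K e)) : GL chevG2.Idx K) = 0 := by
    have h1 := hT_add 0 0
    rw [add_zero] at h1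
    linear_combination -h1
  have hT_lin : ∀ ν t : K, eb ((γ (uEl e (ν * t) 0 0) : ↥(twistedG2 K e)) : GL chevG2.Idx K) =
      ν * eb ((γ (uEl e t 0 0) : ↥(twistedG2 K e)) : GL chevG2.Idx K) := by
    intro ν t
    by_cases hν : ν = 0
    · rw [hν, zero_mul, zero_mul, hT0]
    · obtain ⟨h, hh, hent⟩ := exists_tor R (ν ^ 2 * (ν ^ e) ^ 3)
        (mul_ne_zero (pow_ne_zero _ hν) (pow_ne_zero _ (pow_ne_zero _ hν)))
      have h1 := hT_semi h hh t
      rw [hent, k6_param R] at h1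
      exact h1
  have hc1 : eb ((γ (uEl e 1 0 0) : ↥(twistedG2 K e)) : GL chevG2.Idx K) ≠ 0 := by
    intro h0
    obtain ⟨u', v', hu'⟩ := exists_uEl_eb R ((hγ _).mp (uEl_pos R 1 0 0))
    rw [h0] at hu'
    have h1 : γ (uEl e 1 0 0 * uEl e 1 0 0 * uEl e 1 0 0) = γ 1 := by
      rw [map_mul, map_mul, hu', (uEl_cube_one_iff R 0 u' v').mpr rfl, map_one]
    exact one_ne_zero ((uEl_cube_one_iff R (1 : K) 0 0).mp (γ.injective h1))
  obtain ⟨hc, hhc, hent⟩ := exists_tor R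
    ((eb ((γ (uEl e 1 0 0) : ↥(twistedG2 K e)) : GL chevG2.Idx K))⁻¹ ^ 2 *
      ((eb ((γ (uEl e 1 0 0) : ↥(twistedG2 K e)) : GL chevG2.Idx K))⁻¹ ^ e) ^ 3)
    (mul_ne_zero (pow_ne_zero _ (inv_ne_zero hc1)) (pow_ne_zero _ (pow_ne_zero _ (inv_ne_zero hc1))))
  refine ⟨hc, hhc, fun x hx => ?_⟩
  obtain ⟨u', v', hu'⟩ := exists_uEl_eb R ((hγ _).mp hx)
  have h1 := hT_lin (eb (x : GL chevG2.Idx K)) 1
  rw [mul_one] at h1
  rw [MulAut.mul_apply, MulAut.conj_apply, hu', tor_conj R hhc, eb_uEl R, hent, k6_param R, hb x hx, h1]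
  field_simp

theorem fixU_of_ebFix [Fintype K] {m : ℕ} (hm : 1 ≤ m) (hK : Fintype.card K = 3 ^ (2 * m + 1))
    (R : ReeData K e) {γ : MulAut ↥(twistedG2 K e)} (hγ : NormU γ) (hF : FixH γ) (hE : EbFix γ) :
    ∀ x : ↥(twistedG2 K e), (x : GL chevG2.Idx K) ∈ chevG2.posUnipotent K → γ x = x := by
  have := R.char3
  have h2 := two_ne_zero' R
  have hZ : ∀ v : K, γ (uEl e 0 0 v) = uEl e 0 0 v := by
    intro v
    obtain ⟨y, hy, hyv⟩ := uEl_exists_cube R v
    rw [← hyv, map_mul, map_mul]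
    exact uEl_cube_eq R ((hγ y).mp hy) hy (hE y hy)
  obtain ⟨a, ha, haent⟩ := exists_tor R (-1 : K) (neg_ne_zero.mpr one_ne_zero)
  have hconj : ∀ t u v : K, a * uEl e t u v * a⁻¹ = uEl e (-t) u (-v) := by
    intro t u v
    rw [tor_conj R ha, haent, k6_neg_one R, k10_neg_one R, neg_one_mul, one_mul, neg_one_mul]
  have hW : ∀ u : K, ∃ w : K, γ (uEl e 0 u 0) = uEl e 0 w 0 := by
    intro u
    obtain ⟨t', u', v', h1⟩ := exists_uEl R ((hγ _).mp (uEl_pos R 0 u 0))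
    have h3 := hF.conj_eq ha (uEl e 0 u 0)
    rw [hconj, neg_zero, h1, hconj] at h3
    obtain ⟨e1, -, e3⟩ := uEl_inj R h3
    have ht' : t' = 0 := by
      have h4 : 2 * t' = 0 := by linear_combination e1
      exact (mul_eq_zero.mp h4).resolve_left h2
    have hv' : v' = 0 := by
      have h4 : 2 * v' = 0 := by linear_combination e3
      exact (mul_eq_zero.mp h4).resolve_left h2
    exact ⟨u', by rw [h1, ht', hv']⟩
  choose g hg using hW
  have hg_add : ∀ u u' : K, g (u + u') = g u + g u' := by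
    intro u u'
    have h1 : uEl e 0 (g (u + u')) 0 = uEl e 0 (g u + g u') 0 := by
      rw [← hg, ← uEl_mid_add R, map_mul, hg, hg, uEl_mid_add R]
    exact (uEl_inj R h1).2.1
  have hg0 : g 0 = 0 := by
    have h1 := hg_add 0 0
    rw [add_zero] at h1
    linear_combination -h1
  have hg_semi : ∀ h : ↥(twistedG2 K e), (h : GL chevG2.Idx K) ∈ chevG2.diagonalSubgroup K → ∀ u : K,
      g (k10 e (ent (h : GL chevG2.Idx K)) * u) = k10 e (ent (h : GL chevG2.Idx K)) * g u := by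
    intro h hh u
    have e1 := hF.conj_eq hh (uEl e 0 u 0)
    rw [tor_conj R hh, hg, tor_conj R hh, mul_zero, mul_zero, hg] at e1
    exact (uEl_inj R e1).2.1
  have hg_sq : ∀ ρ u : K, g (ρ ^ 2 * u) = ρ ^ 2 * g u := by
    intro ρ u
    by_cases hρ : ρ = 0
    · rw [hρ, zero_pow (by norm_num), zero_mul, zero_mul, hg0]
    · obtain ⟨h, hh, hent⟩ := exists_tor R (ρ * (ρ ^ e) ^ 3)
        (mul_ne_zero hρ (pow_ne_zero _ (pow_ne_zero _ hρ)))
      have h1 := hg_semi h hh u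
      rw [hent, k10_param R] at h1
      exact h1
  have hodd : Fintype.card K % 2 = 1 := by
    rw [hK]
    exact Nat.odd_iff.mp (Odd.pow (by decide))
  have hg_lin : ∀ x u : K, g (x * u) = x * g u := by
    intro x u
    obtain ⟨p, q, hpq⟩ := exists_sq_add_sq_of_odd hodd x
    rw [← hpq, add_mul, hg_add, hg_sq, hg_sq]
    ring
  obtain ⟨μ, hμ, hbig⟩ := R.exists_big hm hK
  have hμe : μ ^ e ≠ μ := by
    intro h
    apply hbig
    have h1 := R.hφ μ
    rw [h] at h1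
    exact h1
  have hgid : ∀ u : K, g u = u := by
    have hx := uEl_pos R (1 : K) 0 0
    have hy := uEl_pos R μ 0 0
    have hγx := (hγ _).mp hx
    have hγy := (hγ _).mp hy
    have hcpos : ((uEl e (1 : K) 0 0 * uEl e μ 0 0 * (uEl e (1 : K) 0 0)⁻¹ * (uEl e μ 0 0)⁻¹ :
        ↥(twistedG2 K e)) : GL chevG2.Idx K) ∈ chevG2.posUnipotent K :=
      pos_mul' (pos_mul' (pos_mul' hx hy) (pos_inv' hx)) (pos_inv' hy)
    obtain ⟨uc, vc, hc⟩ := exists_uEl_eb R hcpos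
    rw [eb_mul' (pos_mul' (pos_mul' hx hy) (pos_inv' hx)) (pos_inv' hy),
      eb_mul' (pos_mul' hx hy) (pos_inv' hx), eb_mul' hx hy, eb_inv' hx, eb_inv' hy, eb_uEl R, eb_uEl R] at hc
    have h0 : (1 : K) + μ + -1 + -μ = 0 := by ring
    rw [h0] at hc
    have hS1 := reeS_comm' hx hy
    rw [hc, (coords_uEl e 0 uc vc).2.2, (coords_uEl e (1 : K) 0 0).1, (coords_uEl e (1 : K) 0 0).2.1,
      (coords_uEl e μ 0 0).1, (coords_uEl e μ 0 0).2.1] at hS1
    obtain ⟨u₁, v₁, hγx'⟩ := exists_uEl_eb R hγx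
    obtain ⟨u₂, v₂, hγy'⟩ := exists_uEl_eb R hγy
    rw [hE _ hx, eb_uEl R] at hγx'
    rw [hE _ hy, eb_uEl R] at hγy'
    have hS2 := reeS_comm' hγx hγy
    rw [← map_inv, ← map_inv, ← map_mul, ← map_mul, ← map_mul, hc] at hS2
    rw [uEl_split R, map_mul, hg, hZ, ← uEl_split R, (coords_uEl e 0 (g uc) vc).2.2] at hS2
    rw [hγx', hγy', (coords_uEl e (1 : K) u₁ v₁).1, (coords_uEl e (1 : K) u₁ v₁).2.1,
      (coords_uEl e μ u₂ v₂).1, (coords_uEl e μ u₂ v₂).2.1] at hS2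
    have h3 : g uc ^ e = uc ^ e := by linear_combination hS1 - hS2
    have h4 := R.pow_e_inj h3
    have huc : uc ≠ 0 := by
      intro h
      rw [h, zero_pow R.e_ne_zero, one_pow] at hS1
      apply hμe
      linear_combination hS1
    have h5 := hg_lin uc 1
    rw [mul_one, h4] at h5
    have hg1 : g 1 = 1 := by
      have h6 : uc * (g 1 - 1) = 0 := by linear_combination -h5
      rcases mul_eq_zero.mp h6 with h | h
      · exact absurd h huc
      · linear_combination h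
    intro u
    have h6 := hg_lin u 1
    rw [mul_one, hg1, mul_one] at h6
    exact h6
  have hmid : ∀ u v : K, γ (uEl e 0 u v) = uEl e 0 u v := by
    intro u v
    rw [uEl_split R, map_mul, hg, hZ, hgid]
  have hfix0 : ∀ z : ↥(twistedG2 K e), (z : GL chevG2.Idx K) ∈ chevG2.posUnipotent K →
      eb (z : GL chevG2.Idx K) = 0 → γ z = z := by
    intro z hz h0
    obtain ⟨u, v, hzu⟩ := exists_uEl_eb R hz
    rw [h0] at hzu
    rw [hzu, hmid]
  have hu : ∀ t u v : K, ∃ w : K, γ (uEl e t u v) = uEl e t u w := by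
    intro t u v
    have hx := uEl_pos R t u v
    have hxa := uEl_pos R (-t) u (-v)
    obtain ⟨u', v', h1⟩ := exists_uEl_eb R ((hγ _).mp hx)
    rw [hE _ hx, eb_uEl R] at h1
    have hq := hfix0 (uEl e t u v * uEl e (-t) u (-v)) (pos_mul' hx hxa)
      (by rw [eb_mul' hx hxa, eb_uEl R, eb_uEl R]; ring)
    rw [map_mul, ← hconj, hF.conj_eq ha, h1, hconj, hconj] at hq
    have e2 := congrArg (fun g : ↥(twistedG2 K e) => reeS (g : GL chevG2.Idx K)) hq
    rw [reeS_mul' (uEl_pos R t u' v') (uEl_pos R (-t) u' (-v')), reeS_mul' hx hxa,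
      (coords_uEl e t u' v').2.2, (coords_uEl e t u' v').1, (coords_uEl e (-t) u' (-v')).2.1,
      (coords_uEl e (-t) u' (-v')).2.2, (coords_uEl e t u v).2.2, (coords_uEl e t u v).1,
      (coords_uEl e (-t) u (-v)).2.1, (coords_uEl e (-t) u (-v)).2.2] at e2
    have e3 : 2 * (u' ^ e - u ^ e) = 0 := by linear_combination -e2
    have e4 : u' ^ e = u ^ e := by
      have e5 := (mul_eq_zero.mp e3).resolve_left h2
      linear_combination e5
    exact ⟨v', by rw [h1, R.pow_e_inj e4]⟩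
  choose Δ hΔ using hu
  have hD : ∀ t u v : K, γ (uEl e t u v) = uEl e t u v * uEl e 0 0 (Δ t 0 0) := by
    intro t u v
    have hx := uEl_pos R t u v
    have hy := uEl_pos R t 0 0
    have hz := hfix0 ((uEl e t 0 0)⁻¹ * uEl e t u v) (pos_mul' (pos_inv' hy) hx)
      (by rw [eb_mul' (pos_inv' hy) hx, eb_inv' hy, eb_uEl R, eb_uEl R]; ring)
    have e1 : uEl e t u v = uEl e t 0 0 * ((uEl e t 0 0)⁻¹ * uEl e t u v) := by group
    have e2 : γ (uEl e t u v) = γ (uEl e t 0 0) * γ ((uEl e t 0 0)⁻¹ * uEl e t u v) := by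
      rw [← map_mul, ← e1]
    have e3 : uEl e t 0 (Δ t 0 0) = uEl e t 0 0 * uEl e 0 0 (Δ t 0 0) := by
      rw [uEl_mul_top R, zero_add]
    rw [e2, hz, hΔ t 0 0, e3, mul_assoc, uEl_top_comm R _ (pos_mul' (pos_inv' hy) hx)]
    group
  have hD_add : ∀ t t' : K, Δ (t + t') 0 0 = Δ t 0 0 + Δ t' 0 0 := by
    intro t t'
    have hx := uEl_pos R t 0 0
    have hy := uEl_pos R t' 0 0
    obtain ⟨u'', v'', hp⟩ := exists_uEl_eb R (pos_mul' hx hy)
    rw [eb_mul' hx hy, eb_uEl R, eb_uEl R] at hp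
    have e1 : γ (uEl e t 0 0 * uEl e t' 0 0) =
        uEl e (t + t') u'' v'' * uEl e 0 0 (Δ (t + t') 0 0) := by
      rw [hp, hD]
    have e2 : γ (uEl e t 0 0 * uEl e t' 0 0) =
        uEl e (t + t') u'' v'' * uEl e 0 0 (Δ t 0 0 + Δ t' 0 0) := by
      rw [map_mul, hD, hD, ← hp, ← uEl_top_add R]
      have e3 := uEl_top_comm R (Δ t 0 0) hy
      calc uEl e t 0 0 * uEl e 0 0 (Δ t 0 0) * (uEl e t' 0 0 * uEl e 0 0 (Δ t' 0 0))
          = uEl e t 0 0 * (uEl e 0 0 (Δ t 0 0) * uEl e t' 0 0) * uEl e 0 0 (Δ t' 0 0) := by group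
        _ = uEl e t 0 0 * uEl e t' 0 0 * (uEl e 0 0 (Δ t 0 0) * uEl e 0 0 (Δ t' 0 0)) := by
          rw [e3]
          group
    rw [e1] at e2
    exact (uEl_inj R (mul_left_cancel e2)).2.2
  have hD_semi : ∀ h : ↥(twistedG2 K e), (h : GL chevG2.Idx K) ∈ chevG2.diagonalSubgroup K → ∀ t : K,
      Δ (k6 e (ent (h : GL chevG2.Idx K)) * t) 0 0 = ent (h : GL chevG2.Idx K) * Δ t 0 0 := by
    intro h hh t
    have e1 := hF.conj_eq hh (uEl e t 0 0)
    rw [tor_conj R hh, hΔ t 0 0, tor_conj R hh, mul_zero, mul_zero, hΔ] at e1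
    exact (uEl_inj R e1).2.2
  have hD_N : ∀ ν : K, ν ≠ 0 → ∀ t : K, Δ (ν * t) 0 0 = ν ^ 2 * (ν ^ e) ^ 3 * Δ t 0 0 := by
    intro ν hν t
    obtain ⟨h, hh, hent⟩ := exists_tor R (ν ^ 2 * (ν ^ e) ^ 3)
      (mul_ne_zero (pow_ne_zero _ hν) (pow_ne_zero _ (pow_ne_zero _ hν)))
    have h1 := hD_semi h hh t
    rw [hent, k6_param R] at h1
    exact h1
  have hμ1 : μ + 1 ≠ 0 := by
    intro h
    have h3 : μ = -1 := by linear_combination h
    apply hbig
    rw [h3, R.hodd.neg_one_pow]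
    norm_num
  have hD1 : Δ 1 0 0 = 0 := by
    have e1 := hD_add μ 1
    have e2 := hD_N μ hμ 1
    have e3 := hD_N (μ + 1) hμ1 1
    rw [mul_one] at e2 e3
    rw [e2, e3, R.hadd, one_pow] at e1
    have e4 : (μ - 1) * (μ - (μ ^ e) ^ 3) * Δ 1 0 0 = 0 := by
      linear_combination e1 - (μ * (μ ^ e) ^ 3 + μ + μ ^ 2 * (μ ^ e) ^ 2 + μ ^ 2 * μ ^ e +
        2 * μ * (μ ^ e) ^ 2 + 2 * μ * μ ^ e + (μ ^ e) ^ 2 + μ ^ e) * Δ 1 0 0 *
        (three_eq_zero : (3 : K) = 0)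
    rcases mul_eq_zero.mp e4 with h | h
    · exfalso
      rcases mul_eq_zero.mp h with h' | h'
      · apply hbig
        have h3 : μ = 1 := by linear_combination h'
        rw [h3, one_pow, one_pow]
      · apply hbig
        linear_combination -h'
    · exact h
  have hDz : ∀ t : K, Δ t 0 0 = 0 := by
    intro t
    by_cases ht : t = 0
    · have h1 := hD_add 0 0
      rw [add_zero] at h1
      rw [ht]
      linear_combination -h1
    · have h1 := hD_N t ht 1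
      rw [mul_one, hD1, mul_zero] at h1
      exact h1
  intro x hx
  obtain ⟨t, u, v, rfl⟩ := exists_uEl R hx
  rw [hD, hDz, uEl_mul_top R, add_zero]

theorem exists_fixU [Fintype K] {m : ℕ} (hm : 1 ≤ m) (hK : Fintype.card K = 3 ^ (2 * m + 1))
    (R : ReeData K e) {γ : MulAut ↥(twistedG2 K e)} (hγ : NormU γ) (hF : FixH γ) :
    ∃ h : ↥(twistedG2 K e), (h : GL chevG2.Idx K) ∈ chevG2.diagonalSubgroup K ∧
      FixH (MulAut.conj h * γ) ∧
      ∀ x : ↥(twistedG2 K e), (x : GL chevG2.Idx K) ∈ chevG2.posUnipotent K →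
        (MulAut.conj h * γ) x = x := by
  obtain ⟨h, hh, hE⟩ := exists_ebFix R hγ hF
  exact ⟨h, hh, hF.conj_mul R hh,
    fixU_of_ebFix hm hK R ((normU_conj_diag hh).mul hγ) (hF.conj_mul R hh) hE⟩

end AutU

end Cfsg.Agent.Lib.helper44
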