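import Cfsg.Agent.Lib.helper44.ReeOutD
import Cfsg.Prelude.Def_KGroupFacts

set_option autoImplicit false
set_option maxRecDepth 100000

/-!
# The outer automorphism group of the twisted group of type `G₂`

Every automorphism is the product of an inner automorphism and a field automorphism, and a field automorphism
is inner only if it is trivial; hence the outer automorphism group is in bijection with the automorphism group
of the field.
-/

namespace Cfsg.Agent.Lib.helper44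

open Cfsg Cfsg.Lie Cfsg.Agent.Lib.helper41 Cfsg.Agent.Lib.helper22 Cfsg.Agent.Lib.helper23

/-- The number of automorphisms of a field with `3 ^ n` elements. -/
theorem card_ringAut_three {K : Type*} [Field K] [Fintype K] [CharP K 3] {n : ℕ}
    (hK : Fintype.card K = 3 ^ n) : Nat.card (K ≃+* K) = n := by
  have : Fact (Nat.Prime 3) := ⟨Nat.prime_three⟩
  let _ : Algebra (ZMod 3) K := ZMod.algebra K 3
  have hfr : Module.finrank (ZMod 3) K = n := by
    have h1 := Module.card_eq_pow_finrank (K := ZMod 3) (V := K)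
    rw [hK, ZMod.card] at h1
    exact (Nat.pow_right_injective (by norm_num : 2 ≤ 3) h1).symm
  have h2 : Nat.card (K ≃ₐ[ZMod 3] K) = Module.finrank (ZMod 3) K :=
    IsGalois.card_aut_eq_finrank (ZMod 3) K
  rw [← hfr, ← h2]
  apply Nat.card_congr
  exact
    { toFun := fun ψ => AlgEquiv.ofRingEquiv (f := ψ) (fun x => by
        have h3 : ((ψ : K →+* K).comp (algebraMap (ZMod 3) K)) = algebraMap (ZMod 3) K :=
          Subsingleton.elim _ _
        exact RingHom.congr_fun h3 x)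
      invFun := fun φ => φ.toRingEquiv
      left_inv := fun ψ => by
        ext x
        rfl
      right_inv := fun φ => by
        ext x
        rfl }

section Out

variable {K : Type*} [Field K] {e : ℕ}

theorem exists_tor_big [Fintype K] {m : ℕ} (hm : 1 ≤ m) (hK : Fintype.card K = 3 ^ (2 * m + 1))
    (R : ReeData K e) : ∃ h₀ : ↥(twistedG2 K e), (h₀ : GL chevG2.Idx K) ∈ chevG2.diagonalSubgroup K ∧
      (h₀ : GL chevG2.Idx K) * (h₀ : GL chevG2.Idx K) ≠ 1 := by
  obtain ⟨μ, hμ, hbig⟩ := R.exists_big hm hK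
  obtain ⟨h₀, hh₀, hent⟩ := exists_tor R μ hμ
  refine ⟨h₀, hh₀, fun h => ?_⟩
  have h1 : ent ((h₀ : GL chevG2.Idx K) * (h₀ : GL chevG2.Idx K)) = 1 := by
    rw [h]
    exact ent_one
  rw [ent_mul hh₀ hh₀, hent] at h1
  have h2 : (μ - 1) * (μ + 1) = 0 := by linear_combination h1
  rcases mul_eq_zero.mp h2 with h3 | h3
  · apply hbig
    have h4 : μ = 1 := by linear_combination h3
    rw [h4, one_pow, one_pow]
  · apply hbig
    have h4 : μ = -1 := by linear_combination h3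
    rw [h4, R.hodd.neg_one_pow]
    norm_num

/-- An automorphism fixing `U¹` and `H¹` pointwise is trivial. -/
theorem aut_eq_one [Fintype K] {m : ℕ} (hm : 1 ≤ m) (hK : Fintype.card K = 3 ^ (2 * m + 1))
    (R : ReeData K e) {δ : MulAut ↥(twistedG2 K e)} (hH : FixH δ)
    (hU : ∀ x : ↥(twistedG2 K e), (x : GL chevG2.Idx K) ∈ chevG2.posUnipotent K → δ x = x) : δ = 1 := by
  obtain ⟨n, hn⟩ := exists_w0' R
  obtain ⟨h₀, hh₀, hh₀2⟩ := exists_tor_big hm hK R
  have hS := Cfsg.Agent.S1037.result (F := K) chevG2 (by simp)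
  have hnd : ∀ h : ↥(twistedG2 K e), (h : GL chevG2.Idx K) ∈ chevG2.diagonalSubgroup K →
      ((n * h * n⁻¹ : ↥(twistedG2 K e)) : GL chevG2.Idx K) ∈ chevG2.diagonalSubgroup K := by
    intro h hh
    rw [Subgroup.coe_mul, Subgroup.coe_mul, Subgroup.coe_inv]
    exact conj_mem_diag (bnInput_G2 K) hn.mono hh
  have hcomm : ∀ h : ↥(twistedG2 K e), (h : GL chevG2.Idx K) ∈ chevG2.diagonalSubgroup K →
      n⁻¹ * δ n * h = h * (n⁻¹ * δ n) := by
    intro h hh
    have h3 := hH _ (hnd h hh)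
    rw [map_mul, map_mul, map_inv, hH h hh] at h3
    calc n⁻¹ * δ n * h = n⁻¹ * (δ n * h * (δ n)⁻¹) * δ n := by group
      _ = n⁻¹ * (n * h * n⁻¹) * δ n := by rw [h3]
      _ = h * (n⁻¹ * δ n) := by group
  have hcH : ((n⁻¹ * δ n : ↥(twistedG2 K e)) : GL chevG2.Idx K) ∈ chevG2.diagonalSubgroup K := by
    have h1 := congrArg Subtype.val (hcomm h₀ hh₀)
    rw [Subgroup.coe_mul, Subgroup.coe_mul] at h1
    exact (Subgroup.mem_inf.mp
      (ree_cent_torus R (Subgroup.mem_inf.mpr ⟨hh₀, h₀.2⟩) hh₀2 (n⁻¹ * δ n).2 h1)).1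
  have hz := uEl_pos R (0 : K) 0 1
  have hz1 : uEl e (0 : K) 0 1 ≠ 1 := by
    intro h
    rw [← uEl_zero R] at h
    exact one_ne_zero (uEl_inj R h).2.2
  have hc1 : n⁻¹ * δ n = 1 := by
    generalize hc : n⁻¹ * δ n = c at hcH
    have hδn : δ n = n * c := by
      rw [← hc]
      group
    rcases twisted_cases' R hn (n * uEl e 0 0 1 * n⁻¹) with
      ⟨u, h, hu, hh, hg⟩ | ⟨u₁, h₁, u₂, hu₁, hh₁, hu₂, hg⟩
    · exfalso
      have h1 : ((n * uEl e 0 0 1 * n⁻¹ : ↥(twistedG2 K e)) : GL chevG2.Idx K) ∈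
          chevG2.borelSubgroup K ⊓ chevG2.negUnipotent K := by
        refine Subgroup.mem_inf.mpr ⟨?_, ?_⟩
        · rw [hg, Subgroup.coe_mul]
          exact mul_mem (Subgroup.mem_sup_left hu) (Subgroup.mem_sup_right hh)
        · rw [Subgroup.coe_mul, Subgroup.coe_mul, Subgroup.coe_inv]
          exact hn.conj_pos _ hz
      rw [hS.1, Subgroup.mem_bot] at h1
      apply hz1
      have h2 : n * uEl e 0 0 1 * n⁻¹ = 1 := Subtype.ext h1
      calc uEl e (0 : K) 0 1 = n⁻¹ * (n * uEl e 0 0 1 * n⁻¹) * n := by group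
        _ = 1 := by
          rw [h2]
          group
    · have h1 := congrArg δ hg
      rw [map_mul, map_mul, map_mul, map_mul, map_mul, map_inv, hU _ hz, hU _ hu₁, hU _ hu₂, hH _ hh₁,
        hδn] at h1
      have hz' := diag_conj_pos hcH hz
      have hkey : ((n * (c * uEl e 0 0 1 * c⁻¹ * (uEl e 0 0 1)⁻¹) * n⁻¹ : ↥(twistedG2 K e)) :
          GL chevG2.Idx K) ∈ chevG2.borelSubgroup K ⊓ chevG2.negUnipotent K := by
        refine Subgroup.mem_inf.mpr ⟨?_, ?_⟩
        · have e1 : n * (c * uEl e 0 0 1 * c⁻¹ * (uEl e 0 0 1)⁻¹) * n⁻¹ =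
              (n * c * uEl e 0 0 1 * (n * c)⁻¹) * (n * uEl e 0 0 1 * n⁻¹)⁻¹ := by group
          rw [e1, h1, hg]
          have e2 : u₁ * h₁ * (n * c) * u₂ * (u₁ * h₁ * n * u₂)⁻¹ =
              u₁ * h₁ * (n * c * n⁻¹) * h₁⁻¹ * u₁⁻¹ := by group
          rw [e2, Subgroup.coe_mul, Subgroup.coe_mul, Subgroup.coe_mul, Subgroup.coe_mul]
          exact mul_mem (mul_mem (mul_mem (mul_mem (Subgroup.mem_sup_left hu₁) (Subgroup.mem_sup_right hh₁))
            (Subgroup.mem_sup_right (hnd c hcH))) (Subgroup.mem_sup_right (diag_inv' hh₁)))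
            (Subgroup.mem_sup_left (pos_inv' hu₁))
        · rw [Subgroup.coe_mul, Subgroup.coe_mul, Subgroup.coe_inv]
          exact hn.conj_pos _ (pos_mul' hz' (pos_inv' hz))
      rw [hS.1, Subgroup.mem_bot] at hkey
      have h2 : n * (c * uEl e 0 0 1 * c⁻¹ * (uEl e 0 0 1)⁻¹) * n⁻¹ = 1 := Subtype.ext hkey
      have h3 : c * uEl e 0 0 1 = uEl e 0 0 1 * c := by
        calc c * uEl e 0 0 1
            = n⁻¹ * (n * (c * uEl e 0 0 1 * c⁻¹ * (uEl e 0 0 1)⁻¹) * n⁻¹) * n * uEl e 0 0 1 * c := by group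
          _ = uEl e 0 0 1 * c := by
            rw [h2]
            group
      have h4 := congrArg Subtype.val h3
      rw [Subgroup.coe_mul, Subgroup.coe_mul] at h4
      exact Subtype.ext (ree_eq_one_of_commute R (Subgroup.mem_inf.mpr ⟨hcH, c.2⟩) one_ne_zero
        (uEl_val e 0 0 1) h4)
  have hδn : δ n = n := by
    calc δ n = n * (n⁻¹ * δ n) := by group
      _ = n := by rw [hc1, mul_one]
  apply MulEquiv.ext
  intro g
  show δ g = g
  rcases twisted_cases' R hn g with ⟨u, h, hu, hh, hg⟩ | ⟨u₁, h₁, u₂, hu₁, hh₁, hu₂, hg⟩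
  · rw [hg, map_mul, hU _ hu, hH _ hh]
  · rw [hg, map_mul, map_mul, map_mul, hU _ hu₁, hU _ hu₂, hH _ hh₁, hδn]

theorem field_mul_symm (ψ : K ≃+* K) : reeFieldAut ψ.symm e * reeFieldAut ψ e = 1 := by
  apply MulEquiv.ext
  intro g
  apply Subtype.ext
  show glMapEquiv chevG2 ψ.symm (glMapEquiv chevG2 ψ (g : GL chevG2.Idx K)) = g
  exact (glMapEquiv chevG2 ψ).symm_apply_apply _

/-- Every automorphism is a field automorphism modulo inner automorphisms. -/
theorem ree_aut_exists [Fintype K] {m : ℕ} (hm : 1 ≤ m) (hK : Fintype.card K = 3 ^ (2 * m + 1))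
    (R : ReeData K e) (α : MulAut ↥(twistedG2 K e)) :
    ∃ ψ : K ≃+* K, (QuotientGroup.mk α : Cfsg.Out ↥(twistedG2 K e)) =
      QuotientGroup.mk (reeFieldAut ψ e) := by
  obtain ⟨g₁, h1⟩ := exists_normU hK R α
  obtain ⟨x, hx, h2⟩ := exists_mapH hm hK R h1
  obtain ⟨ψ, h3, h4⟩ := exists_fixH R ((normU_conj_pos hx).mul h1) h2
  obtain ⟨h, hh, h5, h6⟩ := exists_fixU hm hK R h3 h4
  have h7 := aut_eq_one hm hK R h5 h6
  refine ⟨ψ.symm, ?_⟩
  have hinn : ∀ y : ↥(twistedG2 K e),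
      (QuotientGroup.mk (MulAut.conj y) : Cfsg.Out ↥(twistedG2 K e)) = 1 :=
    fun y => (QuotientGroup.eq_one_iff _).mpr (MonoidHom.mem_range.mpr ⟨y, rfl⟩)
  have h8 := congrArg (QuotientGroup.mk : MulAut ↥(twistedG2 K e) → Cfsg.Out ↥(twistedG2 K e)) h7
  rw [QuotientGroup.mk_mul, QuotientGroup.mk_mul, QuotientGroup.mk_mul, QuotientGroup.mk_mul, hinn, hinn,
    hinn, one_mul, one_mul, one_mul, QuotientGroup.mk_one] at h8
  have h9 := congrArg (QuotientGroup.mk : MulAut ↥(twistedG2 K e) → Cfsg.Out ↥(twistedG2 K e))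
    (field_mul_symm (e := e) ψ)
  rw [QuotientGroup.mk_mul, QuotientGroup.mk_one] at h9
  calc (QuotientGroup.mk α : Cfsg.Out ↥(twistedG2 K e))
      = (QuotientGroup.mk (reeFieldAut ψ.symm e) * QuotientGroup.mk (reeFieldAut ψ e)) *
          QuotientGroup.mk α := by rw [h9, one_mul]
    _ = QuotientGroup.mk (reeFieldAut ψ.symm e) * (QuotientGroup.mk (reeFieldAut ψ e) *
          QuotientGroup.mk α) := mul_assoc _ _ _
    _ = QuotientGroup.mk (reeFieldAut ψ.symm e) := by rw [h8, mul_one]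

/-- A field automorphism which differs from another one by an inner automorphism is equal to it. -/
theorem field_inner_eq [Fintype K] {m : ℕ} (hm : 1 ≤ m) (hK : Fintype.card K = 3 ^ (2 * m + 1))
    (R : ReeData K e) {ψ ψ' : K ≃+* K} {g : ↥(twistedG2 K e)}
    (h : reeFieldAut ψ' e = reeFieldAut ψ e * MulAut.conj g) : ψ' = ψ := by
  obtain ⟨n, hn⟩ := R.exists_w0
  have hS := Cfsg.Agent.S1036.result (F := K) chevG2 (by simp)
  have h1 : MulAut.conj g = reeFieldAut ψ.symm e * reeFieldAut ψ' e := by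
    rw [h, ← mul_assoc, field_mul_symm, one_mul]
  have hN : NormU (MulAut.conj g) := by
    rw [h1]
    exact (normU_field ψ.symm).mul (normU_field ψ')
  have hM : MapH (MulAut.conj g) := by
    rw [h1]
    intro x hx
    rw [MulAut.mul_apply, reeFieldAut_coe, reeFieldAut_coe]
    exact glMap_diag ψ.symm (glMap_diag ψ' hx)
  have hgB : (g : GL chevG2.Idx K) ∈ chevG2.borelSubgroup K := by
    by_contra hnb
    obtain ⟨u₀, hu₀, hne⟩ := exists_u_ne_one' R
    have h2 := (hN u₀).mp hu₀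
    rw [MulAut.conj_apply, Subgroup.coe_mul, Subgroup.coe_mul, Subgroup.coe_inv] at h2
    exact hne (Subtype.ext (R.conj_pos_trivial hn g.2 hnb hu₀ h2))
  obtain ⟨u, t, hu, ht, hgut⟩ := borel_twisted' R hgB
  obtain ⟨h₀, hh₀, hh₀2⟩ := exists_tor_big hm hK R
  have hu1 : u = 1 := by
    by_contra hne
    apply hh₀2
    have h3 := hM h₀ hh₀
    rw [MulAut.conj_apply, hgut] at h3
    have e1 : u * t * h₀ * (u * t)⁻¹ = u * h₀ * u⁻¹ := by
      calc u * t * h₀ * (u * t)⁻¹ = u * (t * h₀) * t⁻¹ * u⁻¹ := by group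
        _ = u * (h₀ * t) * t⁻¹ * u⁻¹ := by rw [tor_comm R ht hh₀]
        _ = u * h₀ * u⁻¹ := by group
    rw [e1] at h3
    have e2 : (u : GL chevG2.Idx K) * (h₀ : GL chevG2.Idx K) =
        ((u * h₀ * u⁻¹ : ↥(twistedG2 K e)) : GL chevG2.Idx K) * (u : GL chevG2.Idx K) *
          ((u * h₀ * u⁻¹ : ↥(twistedG2 K e)) : GL chevG2.Idx K)⁻¹ *
          ((u * h₀ * u⁻¹ : ↥(twistedG2 K e)) : GL chevG2.Idx K) := by
      rw [Subgroup.coe_mul, Subgroup.coe_mul, Subgroup.coe_inv]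
      group
    have e3 := uh_unique hu ((Subgroup.mem_normalizer_iff.mp (hS.1 h3) _).mp hu) hh₀ h3 e2
    have e4 : (h₀ : GL chevG2.Idx K) * (u : GL chevG2.Idx K) =
        (u : GL chevG2.Idx K) * (h₀ : GL chevG2.Idx K) := by
      have e5 := e3.2
      rw [Subgroup.coe_mul, Subgroup.coe_mul, Subgroup.coe_inv] at e5
      calc (h₀ : GL chevG2.Idx K) * (u : GL chevG2.Idx K)
          = ((u : GL chevG2.Idx K) * (h₀ : GL chevG2.Idx K) * (u : GL chevG2.Idx K)⁻¹) *
              (u : GL chevG2.Idx K) := by rw [← e5]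
        _ = (u : GL chevG2.Idx K) * (h₀ : GL chevG2.Idx K) := by group
    exact ree_sq_eq_one_of_commute R (Subgroup.mem_inf.mpr ⟨hh₀, h₀.2⟩) (Subgroup.mem_inf.mpr ⟨hu, u.2⟩)
      (fun h => hne (Subtype.ext h)) e4
  rw [hu1, one_mul] at hgut
  apply RingEquiv.ext
  intro μ
  by_cases hμ : μ = 0
  · rw [hμ, map_zero, map_zero]
  · obtain ⟨h', hh', hent⟩ := exists_tor R μ hμ
    have h5 : ent ((reeFieldAut ψ' e h' : ↥(twistedG2 K e)) : GL chevG2.Idx K) =
        ent (((reeFieldAut ψ e * MulAut.conj g) h' : ↥(twistedG2 K e)) : GL chevG2.Idx K) := by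
      rw [h]
    rw [MulAut.mul_apply, MulAut.conj_apply, hgut, tor_comm R ht hh', mul_inv_cancel_right, reeFieldAut_coe,
      reeFieldAut_coe] at h5
    unfold ent at h5 hent
    rw [glMap_entry, glMap_entry, hent] at h5
    exact h5

/-- The outer automorphism group of `²G₂(3^(2m+1))`, `m ≥ 1`, has order `2m+1`. -/
theorem card_out_ree [Fintype K] {m : ℕ} (hm : 1 ≤ m) (hK : Fintype.card K = 3 ^ (2 * m + 1)) :
    Nat.card (Cfsg.Out ↥(twistedG2 K (3 ^ m))) = 2 * m + 1 := by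
  obtain ⟨R⟩ := exists_reeData hK
  have := R.char3
  rw [← card_ringAut_three hK]
  symm
  apply Nat.card_congr
  refine Equiv.ofBijective (fun ψ : K ≃+* K =>
    (QuotientGroup.mk (reeFieldAut ψ (3 ^ m)) : Cfsg.Out ↥(twistedG2 K (3 ^ m)))) ⟨?_, ?_⟩
  · intro ψ ψ' h
    have h1 := QuotientGroup.eq.mp h
    obtain ⟨g, hg⟩ := MonoidHom.mem_range.mp h1
    have h2 : reeFieldAut ψ' (3 ^ m) = reeFieldAut ψ (3 ^ m) * MulAut.conj g := by
      rw [hg, mul_inv_cancel_left]
    exact (field_inner_eq hm hK R h2).symm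
  · intro o
    obtain ⟨α, rfl⟩ := QuotientGroup.mk_surjective o
    obtain ⟨ψ, hψ⟩ := ree_aut_exists hm hK R α
    exact ⟨ψ, hψ.symm⟩

end Out

end Cfsg.Agent.Lib.helper44
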