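import Cfsg.Agent.Lib.helper44.ReeTori
import Cfsg.Agent.Lib.helper23.ChevReeSimple
import Cfsg.Agent.Lib.helper44.LinSix

set_option autoImplicit false
set_option maxRecDepth 100000

/-!
# The 7-dimensional quotient of the adjoint module of `G₂` in characteristic 3

In characteristic 3 the span of `h₁` and of the short root vectors is invariant under all root elements
`x_r(t)`; the small Ree group acts faithfully on the 7-dimensional quotient (coordinates `h₂` and the long
root vectors).  Consequences for elements of prime order `p` dividing `q² - q + 1`.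
-/

namespace Cfsg.Agent.Lib.helper44

open Cfsg Cfsg.Lie Cfsg.Agent.Lib.helper41 Cfsg.Agent.Lib.helper22 Cfsg.Agent.Lib.helper23

section Seven

/-- long-type root indices -/
def longR (u : ℕ) : Prop := u = 0 ∨ u = 1 ∨ u = 5 ∨ u = 6 ∨ u = 10 ∨ u = 11

instance : DecidablePred longR := fun u => by unfold longR; infer_instance

/-- long-type coordinates: `h₂` and the long root vectors -/
def longIdx : chevG2.Idx → Prop
  | Sum.inl i => i.val = 1
  | Sum.inr u => longR u.val

instance : DecidablePred longIdx := fun i => by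
  cases i with
  | inl i => unfold longIdx; infer_instance
  | inr u => unfold longIdx; infer_instance

theorem g2_tab1 : ∀ r : Fin chevG2.nroots, longR r.val → ∀ i : Fin chevG2.rank, i.val ≠ 1 →
    (3 : ℤ) ∣ (chevG2.cartanSR.getD i.val #[]).getD r.val 0 := by decide

theorem g2_tab2 : ∀ r s : Fin chevG2.nroots, ¬ longR s.val → s.val = chevG2.negIdx.getD r.val 0 →
    (¬ longR r.val) ∧ ∀ i : Fin chevG2.rank, i.val = 1 → (3 : ℤ) ∣ (chevG2.coroot.getD r.val #[]).getD i.val 0 := by
  decide

theorem g2_tab3 : ∀ r s u : Fin chevG2.nroots, ¬ longR s.val → longR u.val →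
    ∀ km ∈ chevG2.chainCoeff r.val s.val u.val, (3 : ℤ) ∣ km.2 := by decide

variable {K : Type*} [Field K]

/-- Matrices preserving the span of `h₁` and the short root vectors. -/
def BlockTri (M : Matrix chevG2.Idx chevG2.Idx K) : Prop :=
  ∀ i j, longIdx i → ¬ longIdx j → M i j = 0

theorem blockTri_one : BlockTri (1 : Matrix chevG2.Idx chevG2.Idx K) := by
  intro i j hi hj
  apply Matrix.one_apply_ne
  rintro rfl
  exact hj hi

theorem blockTri_mul {M N : Matrix chevG2.Idx chevG2.Idx K} (hM : BlockTri M) (hN : BlockTri N) :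
    BlockTri (M * N) := by
  intro i j hi hj
  rw [Matrix.mul_apply]
  apply Finset.sum_eq_zero
  intro k _
  by_cases hk : longIdx k
  · rw [hN k j hk hj, mul_zero]
  · rw [hM i k hi hk, zero_mul]

theorem blockTri_pow {M : Matrix chevG2.Idx chevG2.Idx K} (hM : BlockTri M) (n : ℕ) : BlockTri (M ^ n) := by
  induction n with
  | zero => rw [pow_zero]; exact blockTri_one
  | succ n ih => rw [pow_succ]; exact blockTri_mul ih hM

theorem blockTri_xMat [CharP K 3] (r : Fin chevG2.nroots) (t : K) : BlockTri (chevG2.xMat K r t) := by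
  have h3 : (3 : K) = 0 := by exact_mod_cast CharP.cast_eq_zero K 3
  have hz : ∀ n : ℤ, (3 : ℤ) ∣ n → (n : K) = 0 := by
    rintro n ⟨c, rfl⟩
    rw [Int.cast_mul, Int.cast_ofNat, h3, zero_mul]
  intro i j hi hj
  unfold ChevalleyDatum.xMat
  rw [Matrix.of_apply]
  rcases j with i₀ | s
  · rcases i with i' | u
    · dsimp only
      rw [if_neg]
      rintro rfl
      exact hj hi
    · dsimp only
      split_ifs with hur
      · subst hur
        rw [hz _ (g2_tab1 u hi i₀ hj), neg_zero, zero_mul]
      · rfl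
  · dsimp only
    split_ifs with hsr hneg
    · subst hsr
      rcases i with i' | u
      · rfl
      · dsimp only
        rw [if_neg]
        rintro rfl
        exact hj hi
    · obtain ⟨hrs, hco⟩ := g2_tab2 r s hj hneg
      rcases i with i' | u
      · dsimp only
        rw [hz _ (hco i' hi), zero_mul]
      · dsimp only
        rw [if_neg, if_neg]
        · rintro rfl
          exact hrs hi
        · rintro rfl
          exact hj hi
    · rcases i with i' | u
      · rfl
      · dsimp only
        rw [if_neg, zero_add]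
        · apply List.sum_eq_zero
          intro x hx
          rw [List.mem_map] at hx
          obtain ⟨km, hkm, rfl⟩ := hx
          rw [hz _ (g2_tab3 r s u hj hi km hkm), zero_mul]
        · rintro rfl
          exact hj hi

theorem blockTri_x [CharP K 3] (r : ℕ) (t : K) : BlockTri (chevG2.x K r t) := by
  unfold ChevalleyDatum.x
  split_ifs with h
  · exact blockTri_xMat ⟨r, h⟩ t
  · exact blockTri_one

theorem blockTri_wordMat [CharP K 3] (w : List (ℕ × K)) : BlockTri (chevG2.wordMat K w) := by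
  induction w with
  | nil =>
    unfold ChevalleyDatum.wordMat
    rw [List.map_nil, List.prod_nil]
    exact blockTri_one
  | cons p w ih =>
    unfold ChevalleyDatum.wordMat at ih ⊢
    rw [List.map_cons, List.prod_cons]
    exact blockTri_mul (blockTri_x _ _) ih

theorem blockTri_of_mem [CharP K 3] [Finite K] {e : ℕ} {g : GL chevG2.Idx K} (hg : g ∈ twistedG2 K e) :
    BlockTri (g : Matrix chevG2.Idx chevG2.Idx K) := by
  unfold twistedG2 ChevalleyDatum.genSubgroup at hg
  induction hg using Subgroup.closure_induction with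
  | mem x hx =>
    obtain ⟨w, -, hw⟩ := hx
    rw [hw]
    exact blockTri_wordMat w
  | one => exact blockTri_one
  | mul x y _ _ hx hy =>
    rw [Units.val_mul]
    exact blockTri_mul hx hy
  | inv x _ hx =>
    have hpos : 0 < orderOf x := orderOf_pos x
    have h1 : x ^ (orderOf x - 1) * x = 1 := by
      rw [← pow_succ, Nat.sub_add_cancel hpos, pow_orderOf_eq_one]
    have h2 : x⁻¹ = x ^ (orderOf x - 1) := (eq_inv_of_mul_eq_one_left h1).symm
    rw [h2, Units.val_pow_eq_pow_val]
    exact blockTri_pow hx _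

/-- The long-type coordinates. -/
abbrev LongT : Type := {i : chevG2.Idx // longIdx i}

theorem card_longT : Fintype.card LongT = 7 := by decide

/-- The block of a matrix on the long-type coordinates. -/
def longBlock (M : Matrix chevG2.Idx chevG2.Idx K) : Matrix LongT LongT K :=
  M.submatrix Subtype.val Subtype.val

theorem longBlock_one : longBlock (1 : Matrix chevG2.Idx chevG2.Idx K) = 1 := by
  unfold longBlock
  exact Matrix.submatrix_one _ Subtype.val_injective

theorem longBlock_mul {M N : Matrix chevG2.Idx chevG2.Idx K} (hM : BlockTri M) :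
    longBlock (M * N) = longBlock M * longBlock N := by
  ext i j
  unfold longBlock
  rw [Matrix.submatrix_apply, Matrix.mul_apply, Matrix.mul_apply,
    ← Fintype.sum_subtype_add_sum_subtype (fun k => longIdx k) (fun k => M i.1 k * N k j.1)]
  have h0 : ∑ k : {k // ¬ longIdx k}, M i.1 k.1 * N k.1 j.1 = 0 :=
    Finset.sum_eq_zero fun k _ => by rw [hM i.1 k.1 i.2 k.2, zero_mul]
  rw [h0, add_zero]
  rfl

/-- The action of the small Ree group on the 7-dimensional quotient. -/
noncomputable def reeRho [CharP K 3] [Finite K] (e : ℕ) : ↥(twistedG2 K e) →* Module.End K (LongT → K) where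
  toFun g := Matrix.toLin' (longBlock ((g : GL chevG2.Idx K) : Matrix chevG2.Idx chevG2.Idx K))
  map_one' := by
    show Matrix.toLin' (longBlock (((1 : GL chevG2.Idx K)) : Matrix chevG2.Idx chevG2.Idx K)) = 1
    rw [Units.val_one, longBlock_one, Matrix.toLin'_one]
    rfl
  map_mul' g h := by
    show Matrix.toLin' (longBlock (((g : GL chevG2.Idx K) * (h : GL chevG2.Idx K) : GL chevG2.Idx K) :
      Matrix chevG2.Idx chevG2.Idx K)) = _
    rw [Units.val_mul, longBlock_mul (blockTri_of_mem g.2), Matrix.toLin'_mul]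
    rfl

theorem reeRho_apply [CharP K 3] [Finite K] (e : ℕ) (g : ↥(twistedG2 K e)) :
    reeRho e g = Matrix.toLin' (longBlock ((g : GL chevG2.Idx K) : Matrix chevG2.Idx chevG2.Idx K)) := rfl

theorem finrank_longT : Module.finrank K (LongT → K) = 7 := by
  rw [Module.finrank_fintype_fun_eq_card, card_longT]

theorem reeRho_injective [Fintype K] {e : ℕ} (R : ReeData K e) [CharP K 3]
    (hbig : ∃ μ : K, μ ≠ 0 ∧ (μ ^ e) ^ 3 ≠ μ) : Function.Injective (reeRho (K := K) e) := by
  have hs : IsSimpleGroup ↥(twistedG2 K e) := (R.simple hbig).1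
  rcases (MonoidHom.normal_ker (reeRho (K := K) e)).eq_bot_or_eq_top with h | h
  · exact (MonoidHom.ker_eq_bot_iff _).mp h
  · exfalso
    obtain ⟨a, -, haΓ, hent⟩ := R.exists_diag_entry (-1) (neg_ne_zero.mpr one_ne_zero)
    have hmem : (⟨a, haΓ⟩ : ↥(twistedG2 K e)) ∈ (reeRho (K := K) e).ker := by
      rw [h]
      exact Subgroup.mem_top _
    rw [MonoidHom.mem_ker, reeRho_apply] at hmem
    have h1 : longBlock (a : Matrix chevG2.Idx chevG2.Idx K) = 1 := by
      apply Matrix.toLin'.injective
      rw [hmem, Matrix.toLin'_one]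
      rfl
    have h2 := congrFun (congrFun h1 ⟨Sum.inr ⟨11, by decide⟩, by decide⟩) ⟨Sum.inr ⟨11, by decide⟩, by decide⟩
    rw [Matrix.one_apply_eq] at h2
    have h3 : (a : Matrix chevG2.Idx chevG2.Idx K) (Sum.inr ⟨11, by decide⟩) (Sum.inr ⟨11, by decide⟩) = 1 := h2
    rw [hent] at h3
    exact ree_neg_one_ne_one R h3

end Seven

section NT6

/-- For a prime `p` dividing `q² - q + 1` (`q = 8t + 3` divisible by 3), `q` has order 6 modulo `p`. -/
theorem ree_ord_six {p t : ℕ} (hp : p.Prime) (h : p ∣ 64 * t ^ 2 + 40 * t + 7) (h3q : 3 ∣ 8 * t + 3) :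
    p ≠ 2 ∧ p ≠ 3 ∧ ¬ p ∣ 8 * t + 3 ∧ ∀ i : ℕ, p ∣ (8 * t + 3) ^ i - 1 → 6 ∣ i := by
  have hpF : Fact p.Prime := ⟨hp⟩
  have hu : ((8 * t + 3 : ℕ) : ZMod p) ^ 2 - ((8 * t + 3 : ℕ) : ZMod p) + 1 = 0 := by
    have h1 : ((64 * t ^ 2 + 40 * t + 7 : ℕ) : ZMod p) = 0 := (ZMod.natCast_eq_zero_iff _ _).mpr h
    push_cast at h1 ⊢
    linear_combination h1
  have hp2 : p ≠ 2 := by
    rintro rfl
    have h1 : (64 * t ^ 2 + 40 * t + 7) % 2 = 1 := by
      generalize t ^ 2 = s
      omega
    omega
  have hnq : ¬ p ∣ 8 * t + 3 := by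
    intro hd
    have h1 : ((8 * t + 3 : ℕ) : ZMod p) = 0 := (ZMod.natCast_eq_zero_iff _ _).mpr hd
    rw [h1] at hu
    norm_num at hu
  have hp3 : p ≠ 3 := by
    rintro rfl
    exact hnq h3q
  refine ⟨hp2, hp3, hnq, ?_⟩
  intro i hi
  have hq1 : 1 ≤ (8 * t + 3) ^ i := Nat.one_le_pow _ _ (by omega)
  have hui : ((8 * t + 3 : ℕ) : ZMod p) ^ i = 1 := by
    have h1 : (((8 * t + 3) ^ i - 1 : ℕ) : ZMod p) = 0 := (ZMod.natCast_eq_zero_iff _ _).mpr hi
    rw [Nat.cast_sub hq1, Nat.cast_pow, Nat.cast_one] at h1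
    exact sub_eq_zero.mp h1
  generalize ((8 * t + 3 : ℕ) : ZMod p) = u at hu hui
  have hu3 : u ^ 3 = -1 := by linear_combination (u + 1) * hu
  have hu6 : u ^ 6 = 1 := by
    have e : u ^ 6 = (u ^ 3) ^ 2 := by ring
    rw [e, hu3]
    ring
  have ho6 : orderOf u ∣ 6 := orderOf_dvd_of_pow_eq_one hu6
  have hoi : orderOf u ∣ i := orderOf_dvd_of_pow_eq_one hui
  have h2ne : (2 : ZMod p) ≠ 0 := by
    intro h2
    have h2' : ((2 : ℕ) : ZMod p) = 0 := by exact_mod_cast h2
    exact hp2 ((Nat.prime_dvd_prime_iff_eq hp Nat.prime_two).mp ((ZMod.natCast_eq_zero_iff 2 p).mp h2'))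
  have h3ne : (3 : ZMod p) ≠ 0 := by
    intro h3
    have h3' : ((3 : ℕ) : ZMod p) = 0 := by exact_mod_cast h3
    exact hp3 ((Nat.prime_dvd_prime_iff_eq hp Nat.prime_three).mp ((ZMod.natCast_eq_zero_iff 3 p).mp h3'))
  have hmem : orderOf u ∈ Nat.divisors 6 := Nat.mem_divisors.mpr ⟨ho6, by norm_num⟩
  have hd : Nat.divisors 6 = {1, 2, 3, 6} := by decide
  rw [hd] at hmem
  simp only [Finset.mem_insert, Finset.mem_singleton] at hmem
  rcases hmem with h1 | h1 | h1 | h1
  · exfalso
    have e1 : u = 1 := orderOf_eq_one_iff.mp h1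
    rw [e1] at hu
    norm_num at hu
  · exfalso
    have e1 : u ^ 2 = 1 := by rw [← h1]; exact pow_orderOf_eq_one u
    have e2 : u = 2 := by linear_combination -hu + e1
    rw [e2] at e1
    apply h3ne
    linear_combination e1
  · exfalso
    have e1 : u ^ 3 = 1 := by rw [← h1]; exact pow_orderOf_eq_one u
    apply h2ne
    linear_combination hu3 - e1
  · rw [h1] at hoi
    exact hoi

end NT6

end Cfsg.Agent.Lib.helper44
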