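import Cfsg.Agent.Lib.helper44.ReeSolvA

set_option autoImplicit false
set_option maxRecDepth 100000

/-!
# Local subgroups of the small Ree groups

* `ree_invol_data`: the centralizer of an arbitrary involution;
* `ree_four_norm`: the normalizer of a four-group normalizes a cyclic subgroup of order `(q + 1) / 4`;
* `ree_two_not_comm`: a subgroup of order 2 normalized by `S` is not contained in the commutator subgroup
  of `S`;
* `ree_odd_local`: the normalizer of a non-trivial subgroup of odd prime exponent normalizes a Sylow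
  3-subgroup or a cyclic torus;
* `ree_sylow_two_card`: the Sylow 2-subgroups have order 8.
-/

namespace Cfsg.Agent.Lib.helper44

open Cfsg Cfsg.Lie Cfsg.Agent.Lib.helper41 Cfsg.Agent.Lib.helper22 Cfsg.Agent.Lib.helper23

variable {K : Type*} [Field K] [Fintype K] {m : ℕ}

/-- The centralizer of an arbitrary involution `z`: a homomorphism `φ : SL₂(q) → G` with kernel the centre
such that `C(z) = φ(SL₂) ∪ z φ(SL₂)` and `z ∉ φ(SL₂)`. -/
theorem ree_invol_data (hm : 1 ≤ m) (hK : Fintype.card K = 3 ^ (2 * m + 1)) (R : ReeData K (3 ^ m))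
    (t : ℕ) (ht : 3 ^ (2 * m + 1) = 8 * t + 3)
    (z : ↥(twistedG2 K (3 ^ m))) (hz1 : z ≠ 1) (hz2 : z * z = 1) :
    ∃ φ : Matrix.SpecialLinearGroup (Fin 2) K →* ↥(twistedG2 K (3 ^ m)),
      (∀ s, φ s = 1 ↔ s ∈ Subgroup.center (Matrix.SpecialLinearGroup (Fin 2) K)) ∧
      (∀ g : ↥(twistedG2 K (3 ^ m)), g * z = z * g ↔ g ∈ φ.range ∨ z * g ∈ φ.range) ∧ z ∉ φ.range := by
  obtain ⟨B, Z, a, b, φG, -, -, -, -, -, -, -, -, -, -, -, -, -, hker, hcent, haφ, hinv⟩ :=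
    ree_pack hm hK R t ht
  obtain ⟨c, hc⟩ := hinv z hz1 hz2
  obtain ⟨φ', hφ'⟩ : ∃ φ' : Matrix.SpecialLinearGroup (Fin 2) K →* ↥(twistedG2 K (3 ^ m)),
      ∀ u, φ' u = c * φG u * c⁻¹ := ⟨(MulAut.conj c).toMonoidHom.comp φG, fun u => rfl⟩
  have hrange : ∀ v : ↥(twistedG2 K (3 ^ m)), v ∈ φ'.range ↔ c⁻¹ * v * c ∈ φG.range := by
    intro v
    constructor
    · rintro ⟨u, rfl⟩
      rw [hφ']
      exact ⟨u, by group⟩
    · rintro ⟨u, hu⟩
      exact ⟨u, by rw [hφ', hu]; group⟩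
  refine ⟨φ', ?_, ?_, ?_⟩
  · intro s
    rw [hφ', ← hker]
    constructor
    · intro h
      calc φG s = c⁻¹ * (c * φG s * c⁻¹) * c := by group
        _ = 1 := by rw [h]; group
    · intro h
      rw [h]
      group
  · intro g
    rw [hrange, hrange, ← hc]
    have e1 : c⁻¹ * (c * a * c⁻¹ * g) * c = a * (c⁻¹ * g * c) := by group
    rw [e1, ← hcent]
    constructor
    · intro h
      calc c⁻¹ * g * c * a = c⁻¹ * (g * (c * a * c⁻¹)) * c := by group
        _ = c⁻¹ * ((c * a * c⁻¹) * g) * c := by rw [h]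
        _ = a * (c⁻¹ * g * c) := by group
    · intro h
      calc g * (c * a * c⁻¹) = c * ((c⁻¹ * g * c) * a) * c⁻¹ := by group
        _ = c * (a * (c⁻¹ * g * c)) * c⁻¹ := by rw [h]
        _ = c * a * c⁻¹ * g := by group
  · rw [hrange, ← hc]
    have e : c⁻¹ * (c * a * c⁻¹) * c = a := by group
    rw [e]
    exact haφ

/-- The normalizer of a four-group normalizes a cyclic subgroup of order `(q + 1) / 4`. -/
theorem ree_four_norm (hm : 1 ≤ m) (hK : Fintype.card K = 3 ^ (2 * m + 1)) (R : ReeData K (3 ^ m))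
    (t : ℕ) (ht : 3 ^ (2 * m + 1) = 8 * t + 3)
    (D : Subgroup ↥(twistedG2 K (3 ^ m))) (hD : Nat.card D = 4) :
    ∃ A : Subgroup ↥(twistedG2 K (3 ^ m)), IsCyclic A ∧ Nat.card A = 2 * t + 1 ∧
      Subgroup.normalizer (D : Set ↥(twistedG2 K (3 ^ m))) ≤
        Subgroup.normalizer (A : Set ↥(twistedG2 K (3 ^ m))) := by
  obtain ⟨hfin, hG⟩ := ree_finite hK R t ht
  have hKt : Fintype.card K = 8 * t + 3 := hK.trans ht
  have hsqK : ∀ y : K, y * y ≠ -1 := ree_sq_ne_neg_one R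
  have h2K : (2 : K) ≠ 0 := by
    intro h
    apply ree_neg_one_ne_one R
    linear_combination (-1 : K) * h
  have h2F : Fact (Nat.Prime 2) := ⟨Nat.prime_two⟩
  obtain ⟨z, hz⟩ := exists_prime_orderOf_dvd_card' (G := ↥D) 2 (by rw [hD]; norm_num)
  have hz1 : (z : ↥(twistedG2 K (3 ^ m))) ≠ 1 := by
    intro h
    have h1 : z = 1 := Subtype.ext h
    rw [h1, orderOf_one] at hz
    omega
  have hz2 : (z : ↥(twistedG2 K (3 ^ m))) * z = 1 := by
    have h := pow_orderOf_eq_one z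
    rw [hz, pow_two] at h
    exact congrArg Subtype.val h
  obtain ⟨φ, hker, hcent, hzφ⟩ := ree_invol_data hm hK R t ht z.1 hz1 hz2
  exact four_norm_abs hsqK h2K t hKt φ hker z.1 hz2 hcent hzφ D hD z.2

/-- A subgroup of order 2 normalized by `S` is not contained in the commutator subgroup of `S`. -/
theorem ree_two_not_comm (hm : 1 ≤ m) (hK : Fintype.card K = 3 ^ (2 * m + 1)) (R : ReeData K (3 ^ m))
    (t : ℕ) (ht : 3 ^ (2 * m + 1) = 8 * t + 3)
    (D S : Subgroup ↥(twistedG2 K (3 ^ m))) (hD : Nat.card D = 2)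
    (hSD : S ≤ Subgroup.normalizer (D : Set ↥(twistedG2 K (3 ^ m)))) (hDS : D ≤ ⁅S, S⁆) : False := by
  obtain ⟨hfin, hG⟩ := ree_finite hK R t ht
  have h2F : Fact (Nat.Prime 2) := ⟨Nat.prime_two⟩
  obtain ⟨z, hz⟩ := exists_prime_orderOf_dvd_card' (G := ↥D) 2 (by rw [hD])
  have hz1 : (z : ↥(twistedG2 K (3 ^ m))) ≠ 1 := by
    intro h
    have h1 : z = 1 := Subtype.ext h
    rw [h1, orderOf_one] at hz
    omega
  have hz2 : (z : ↥(twistedG2 K (3 ^ m))) * z = 1 := by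
    have h := pow_orderOf_eq_one z
    rw [hz, pow_two] at h
    exact congrArg Subtype.val h
  obtain ⟨φ, hker, hcent, hzφ⟩ := ree_invol_data hm hK R t ht z.1 hz1 hz2
  have hS : ∀ x ∈ S, x * z.1 = z.1 * x := by
    intro x hx
    have hmem : x * z.1 * x⁻¹ ∈ D := (Subgroup.mem_normalizer_iff.mp (hSD hx) z.1).mp z.2
    obtain ⟨w, hw, huniq⟩ := (Nat.card_eq_two_iff' (1 : ↥D)).mp hD
    have h1 : (⟨x * z.1 * x⁻¹, hmem⟩ : ↥D) = w := by
      apply huniq
      intro h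
      apply hz1
      exact conj_eq_one_iff.mp (congrArg Subtype.val h)
    have h2 : z = w := huniq _ (fun h => hz1 (congrArg Subtype.val h))
    have h3 : x * z.1 * x⁻¹ = z.1 := congrArg Subtype.val (h1.trans h2.symm)
    calc x * z.1 = (x * z.1 * x⁻¹) * x := by group
      _ = z.1 * x := by rw [h3]
  exact invol_not_mem_commutator φ z.1 hz2 hcent hzφ S hS (hDS z.2)

/-- The Sylow 2-subgroups have order 8. -/
theorem ree_sylow_two_card (hK : Fintype.card K = 3 ^ (2 * m + 1)) (R : ReeData K (3 ^ m))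
    (t : ℕ) (ht : 3 ^ (2 * m + 1) = 8 * t + 3) (Q : Sylow 2 ↥(twistedG2 K (3 ^ m))) :
    Nat.card ↥(Q : Subgroup ↥(twistedG2 K (3 ^ m))) = 8 := by
  obtain ⟨hfin, hG⟩ := ree_finite hK R t ht
  have hk : Odd ((8 * t + 3) ^ 3 * ((2 * t + 1) * (64 * t ^ 2 + 40 * t + 7)) * (4 * t + 1)) :=
    Odd.mul (Odd.mul (Odd.pow ⟨4 * t + 1, by ring⟩) (Odd.mul ⟨t, rfl⟩ ⟨32 * t ^ 2 + 20 * t + 3, by ring⟩))
      ⟨2 * t, by ring⟩
  have e : (8 * t + 3) ^ 3 * ((8 * t + 3) ^ 3 + 1) * (8 * t + 2) =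
      8 * ((8 * t + 3) ^ 3 * ((2 * t + 1) * (64 * t ^ 2 + 40 * t + 7)) * (4 * t + 1)) := by ring
  have h2F : Fact (Nat.Prime 2) := ⟨Nat.prime_two⟩
  rw [Sylow.card_eq_multiplicity, hG, e, factorization_two_eight_mul hk]
  norm_num

/-- The normalizer of a non-trivial subgroup of odd prime exponent normalizes a Sylow 3-subgroup or a cyclic
subgroup of order `(q - 1) / 2`, `(q + 1) / 4` or `q ± r + 1`. -/
theorem ree_odd_local (hm : 1 ≤ m) (hK : Fintype.card K = 3 ^ (2 * m + 1)) (R : ReeData K (3 ^ m))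
    (t : ℕ) (ht : 3 ^ (2 * m + 1) = 8 * t + 3) (p : ℕ) (hp : p.Prime) (hp2 : p ≠ 2)
    (E : Subgroup ↥(twistedG2 K (3 ^ m))) (hE1 : E ≠ ⊥) (hEp : ∀ y ∈ E, y ^ p = 1) :
    ∃ A : Subgroup ↥(twistedG2 K (3 ^ m)),
      Subgroup.normalizer (E : Set ↥(twistedG2 K (3 ^ m))) ≤
        Subgroup.normalizer (A : Set ↥(twistedG2 K (3 ^ m))) ∧
      ((∃ P : Sylow 3 ↥(twistedG2 K (3 ^ m)), A = P) ∨
       (IsCyclic A ∧ (Nat.card A = 4 * t + 1 ∨ Nat.card A = 2 * t + 1 ∨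
          Nat.card A = 8 * t + 3 + 1 - 3 ^ (m + 1) ∨ Nat.card A = 8 * t + 3 + 1 + 3 ^ (m + 1)))) := by
  obtain ⟨hfin, hG⟩ := ree_finite hK R t ht
  have hpF : Fact p.Prime := ⟨hp⟩
  have hEpg : IsPGroup p ↥E := by
    intro y
    refine ⟨1, ?_⟩
    rw [pow_one]
    exact Subtype.ext (hEp y.1 y.2)
  obtain ⟨e, heE, he1⟩ : ∃ e ∈ E, e ≠ 1 := by
    by_contra hcon
    apply hE1
    rw [Subgroup.eq_bot_iff_forall]
    intro x hx
    by_contra hx1
    exact hcon ⟨x, hx, hx1⟩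
  by_cases hp3 : p = 3
  · subst hp3
    obtain ⟨Q, hQ⟩ := hEpg.exists_le_sylow
    refine ⟨Q, ?_, Or.inl ⟨Q, rfl⟩⟩
    intro n hn
    by_contra hnQ
    have hne : n • Q ≠ Q := fun h => hnQ (Sylow.smul_eq_iff_mem_normalizer.mp h)
    have hti := R.sylow_ti hK (n • Q) Q hne
    have hmem : n * e * n⁻¹ ∈ ((n • Q : Sylow 3 ↥(twistedG2 K (3 ^ m))) : Subgroup ↥(twistedG2 K (3 ^ m))) := by
      rw [Sylow.coe_subgroup_smul, Subgroup.mem_pointwise_smul_iff_inv_smul_mem, MulAut.smul_def,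
        MulAut.conj_inv_apply]
      have e' : n⁻¹ * (n * e * n⁻¹) * n = e := by group
      rw [e']
      exact hQ heE
    have hmem2 : n * e * n⁻¹ ∈ (Q : Subgroup ↥(twistedG2 K (3 ^ m))) :=
      hQ ((Subgroup.mem_normalizer_iff.mp hn e).mp heE)
    have hbot : n * e * n⁻¹ ∈ (⊥ : Subgroup ↥(twistedG2 K (3 ^ m))) := by
      rw [← hti]
      exact Subgroup.mem_inf.mpr ⟨hmem, hmem2⟩
    exact he1 (conj_eq_one_iff.mp (Subgroup.mem_bot.mp hbot))
  · have hp5 : 3 < p := by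
      have h2 := hp.two_le
      rcases Nat.lt_or_ge 3 p with h | h
      · exact h
      · exfalso
        have h' : p = 2 ∨ p = 3 := by omega
        rcases h' with h' | h'
        · exact hp2 h'
        · exact hp3 h'
    obtain ⟨P, hP⟩ := hEpg.exists_le_sylow
    have hPcyc := ree_sylow_cyclic hm hK hp5 P
    have hEcyc : IsCyclic ↥E := by
      have h1 : IsCyclic ↥(E.subgroupOf (P : Subgroup ↥(twistedG2 K (3 ^ m)))) := by
        have := hPcyc
        infer_instance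
      exact isCyclic_of_surjective _ (Subgroup.subgroupOfEquivOfLe hP).surjective
    have hEcard : Nat.card ↥E = p := by
      obtain ⟨g, hg⟩ := hEcyc.exists_generator
      have hgo : orderOf g = Nat.card ↥E := orderOf_eq_card_of_forall_mem_zpowers hg
      have hg1 : g ≠ 1 := by
        intro h
        have h' : (⟨e, heE⟩ : ↥E) ∈ Subgroup.zpowers g := hg _
        rw [h, Subgroup.zpowers_one_eq_bot, Subgroup.mem_bot] at h'
        exact he1 (congrArg Subtype.val h')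
      rw [← hgo]
      exact orderOf_eq_prime (Subtype.ext (hEp g.1 g.2)) hg1
    have hpG : p ∣ (8 * t + 3) ^ 3 * ((8 * t + 3) ^ 3 + 1) * (8 * t + 2) := by
      rw [← hG, ← hEcard]
      exact Subgroup.card_subgroup_dvd_card E
    -- arithmetic
    have hrle : 3 ^ (m + 1) ≤ 8 * t + 3 := by
      rw [← ht]
      exact Nat.pow_le_pow_right (by norm_num) (by omega)
    have hr : 3 ^ (m + 1) * 3 ^ (m + 1) = 3 * (8 * t + 3) := by
      rw [← ht]
      ring
    obtain ⟨a, ha⟩ : ∃ a, 8 * t + 3 + 1 = a + 3 ^ (m + 1) := ⟨8 * t + 3 + 1 - 3 ^ (m + 1), by omega⟩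
    have ea : 8 * t + 3 + 1 - 3 ^ (m + 1) = a := by omega
    have eb : 8 * t + 3 + 1 + 3 ^ (m + 1) = a + 3 ^ (m + 1) + 3 ^ (m + 1) := by omega
    have hab : a * (a + 3 ^ (m + 1) + 3 ^ (m + 1)) = 64 * t ^ 2 + 40 * t + 7 := by
      have h1 : a * (a + 3 ^ (m + 1) + 3 ^ (m + 1)) + 3 ^ (m + 1) * 3 ^ (m + 1) =
          (a + 3 ^ (m + 1)) * (a + 3 ^ (m + 1)) := by ring
      have h3 : (a + 3 ^ (m + 1)) * (a + 3 ^ (m + 1)) = (8 * t + 3 + 1) * (8 * t + 3 + 1) := by rw [← ha]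
      have h2 : (8 * t + 3 + 1) * (8 * t + 3 + 1) = 64 * t ^ 2 + 40 * t + 7 + 3 * (8 * t + 3) := by ring
      linarith
    have hp_ne3 : ¬ p ∣ 8 * t + 3 := by
      intro h
      rw [← ht] at h
      have h3 := (Nat.prime_dvd_prime_iff_eq hp Nat.prime_three).mp (hp.dvd_of_dvd_pow h)
      exact hp3 h3
    have hp_ne2 : ¬ p ∣ 2 := fun h => hp2 ((Nat.prime_dvd_prime_iff_eq hp Nat.prime_two).mp h)
    have hcases : p ∣ 4 * t + 1 ∨ p ∣ 2 * t + 1 ∨ p ∣ a ∨ p ∣ a + 3 ^ (m + 1) + 3 ^ (m + 1) := by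
      have e1 : (8 * t + 3) ^ 3 * ((8 * t + 3) ^ 3 + 1) * (8 * t + 2) =
          (8 * t + 3) ^ 3 * ((2 * 2) * (2 * t + 1) * (64 * t ^ 2 + 40 * t + 7)) * (2 * (4 * t + 1)) := by ring
      rw [e1] at hpG
      rcases (Nat.Prime.dvd_mul hp).mp hpG with h | h
      · rcases (Nat.Prime.dvd_mul hp).mp h with h | h
        · exact absurd (hp.dvd_of_dvd_pow h) hp_ne3
        · rcases (Nat.Prime.dvd_mul hp).mp h with h | h
          · rcases (Nat.Prime.dvd_mul hp).mp h with h | h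
            · rcases (Nat.Prime.dvd_mul hp).mp h with h | h
              · exact absurd h hp_ne2
              · exact absurd h hp_ne2
            · exact Or.inr (Or.inl h)
          · rw [← hab] at h
            rcases (Nat.Prime.dvd_mul hp).mp h with h | h
            · exact Or.inr (Or.inr (Or.inl h))
            · exact Or.inr (Or.inr (Or.inr h))
      · rcases (Nat.Prime.dvd_mul hp).mp h with h | h
        · exact absurd h hp_ne2
        · exact Or.inl h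
    have e1 : (3 ^ (2 * m + 1) - 1) / 2 = 4 * t + 1 := by
      rw [ht]
      omega
    have e2 : (3 ^ (2 * m + 1) + 1) / 4 = 2 * t + 1 := by
      rw [ht]
      omega
    have e3 : 3 ^ (2 * m + 1) - 3 ^ (m + 1) + 1 = a := by
      rw [ht]
      omega
    have e4 : 3 ^ (2 * m + 1) + 3 ^ (m + 1) + 1 = a + 3 ^ (m + 1) + 3 ^ (m + 1) := by
      rw [ht]
      omega
    -- the common final step
    have fin : ∀ T : Subgroup ↥(twistedG2 K (3 ^ m)), IsCyclic ↥T → p ∣ Nat.card ↥T →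
        (∀ A₀ : Subgroup ↥(twistedG2 K (3 ^ m)), A₀ ≤ T → A₀ ≠ ⊥ →
          Subgroup.normalizer (A₀ : Set ↥(twistedG2 K (3 ^ m))) =
            Subgroup.normalizer (T : Set ↥(twistedG2 K (3 ^ m)))) →
        (p ∣ (3 ^ (2 * m + 1) - 1) / 2 ∨ p ∣ (3 ^ (2 * m + 1) + 1) / 4 ∨
          p ∣ 3 ^ (2 * m + 1) - 3 ^ (m + 1) + 1 ∨ p ∣ 3 ^ (2 * m + 1) + 3 ^ (m + 1) + 1) →
        ∃ A : Subgroup ↥(twistedG2 K (3 ^ m)),
          Subgroup.normalizer (E : Set ↥(twistedG2 K (3 ^ m))) ≤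
            Subgroup.normalizer (A : Set ↥(twistedG2 K (3 ^ m))) ∧ IsCyclic ↥A ∧
          Nat.card ↥A = Nat.card ↥T := by
      intro T hTcyc hpT hN hd
      obtain ⟨x, hxT, hxo⟩ := exists_orderOf_eq_of_cyclic T hTcyc p hpT
      have hle : Subgroup.zpowers x ≤ T := (Subgroup.zpowers_le).mpr hxT
      have hc : Nat.card ↥(Subgroup.zpowers x) = p := by rw [Nat.card_zpowers, hxo]
      have hne : Subgroup.zpowers x ≠ ⊥ := by
        intro h
        rw [h, Subgroup.card_bot] at hc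
        exact hp.one_lt.ne hc
      obtain ⟨g, hg⟩ := ree_cyclic_conj hm hK p hd (Subgroup.zpowers x) E inferInstance hEcyc hc hEcard
      refine ⟨T.map (MulAut.conj g).toMonoidHom, ?_, isCyclic_map_conj T g hTcyc,
        Subgroup.card_map_of_injective (MulAut.conj g).injective⟩
      rw [hg]
      exact normalizer_map_conj_le _ _ g (le_of_eq (hN _ hle hne))
    rcases hcases with h | h | h | h
    · obtain ⟨T, hTcyc, hTcard, -, hN⟩ := ree_norm_split hm hK R t ht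
      obtain ⟨A, hA1, hA2, hA3⟩ := fin T hTcyc (by rw [hTcard]; exact h) hN (Or.inl (by rw [e1]; exact h))
      exact ⟨A, hA1, Or.inr ⟨hA2, Or.inl (hA3.trans hTcard)⟩⟩
    · obtain ⟨T, hTcyc, hTcard, -, hN⟩ := ree_norm_quarter hm hK R t ht
      obtain ⟨A, hA1, hA2, hA3⟩ := fin T hTcyc (by rw [hTcard]; exact h) hN
        (Or.inr (Or.inl (by rw [e2]; exact h)))
      exact ⟨A, hA1, Or.inr ⟨hA2, Or.inr (Or.inl (hA3.trans hTcard))⟩⟩
    · obtain ⟨T₁, T₂, hcyc1, hcyc2, hc1, hc2, -, -, hN1, hN2, -⟩ := ree_tori hm hK R t ht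
      obtain ⟨A, hA1, hA2, hA3⟩ := fin T₁ hcyc1 (by rw [hc1, ea]; exact h) hN1
        (Or.inr (Or.inr (Or.inl (by rw [e3]; exact h))))
      exact ⟨A, hA1, Or.inr ⟨hA2, Or.inr (Or.inr (Or.inl (hA3.trans hc1)))⟩⟩
    · obtain ⟨T₁, T₂, hcyc1, hcyc2, hc1, hc2, -, -, hN1, hN2, -⟩ := ree_tori hm hK R t ht
      obtain ⟨A, hA1, hA2, hA3⟩ := fin T₂ hcyc2 (by rw [hc2, eb]; exact h) hN2
        (Or.inr (Or.inr (Or.inr (by rw [e4]; exact h))))
      exact ⟨A, hA1, Or.inr ⟨hA2, Or.inr (Or.inr (Or.inr (hA3.trans hc2)))⟩⟩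

end Cfsg.Agent.Lib.helper44
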