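import Cfsg.Agent.Lib.helper44.ReeSeven

set_option autoImplicit false
set_option maxRecDepth 100000

/-!
# Sylow `p`-subgroups (`p > 3`) of the small Ree groups are cyclic; conjugacy of cyclic subgroups of torus order
-/

namespace Cfsg.Agent.Lib.helper44

open Cfsg Cfsg.Lie Cfsg.Agent.Lib.helper41 Cfsg.Agent.Lib.helper22 Cfsg.Agent.Lib.helper23

section AbsSyl

open scoped Pointwise

variable {G : Type*} [Group G]

/-- A commutative subgroup `T` containing Sylow subgroups and the centralizers of its elements of prime order,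
for the primes dividing `N`. -/
structure TorusData (T : Subgroup G) (N : ℕ) : Prop where
  comm : ∀ x ∈ T, ∀ y ∈ T, x * y = y * x
  cent : ∀ p : ℕ, p.Prime → p ∣ N → ∀ t ∈ T, orderOf t = p → ∀ x : G, x * t = t * x → x ∈ T
  syl : ∀ p : ℕ, p.Prime → p ∣ N → ¬ p ∣ T.index

/-- A subgroup of a cyclic subgroup is cyclic. -/
theorem isCyclic_of_le_cyclic {H Z : Subgroup G} (hZ : IsCyclic ↥Z) (h : H ≤ Z) : IsCyclic ↥H := by
  have := hZ
  have h1 : IsCyclic ↥(H.subgroupOf Z) := inferInstance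
  exact (MulEquiv.isCyclic (Subgroup.subgroupOfEquivOfLe h)).mp h1

/-- If `T` has index prime to `p` and its `p`-elements lie in a cyclic subgroup, the Sylow `p`-subgroups are
cyclic. -/
theorem sylow_cyclic_of_torus [Finite G] {p : ℕ} [hp : Fact p.Prime] (T : Subgroup G) (hidx : ¬ p ∣ T.index)
    (Z : Subgroup G) (hZ : IsCyclic ↥Z) (hTZ : ∀ x ∈ T, (∃ k : ℕ, orderOf x = p ^ k) → x ∈ Z)
    (P : Sylow p G) : IsCyclic ↥(P : Subgroup G) := by
  obtain ⟨P₀⟩ : Nonempty (Sylow p ↥T) := inferInstance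
  have hP₁ : IsPGroup p ↥((P₀ : Subgroup ↥T).map T.subtype) := P₀.2.map T.subtype
  have hidx' : ¬ p ∣ ((P₀ : Subgroup ↥T).map T.subtype).index := by
    rw [Subgroup.index_map_subtype]
    intro hdvd
    rcases (Nat.Prime.dvd_mul hp.out).mp hdvd with h | h
    · exact P₀.not_dvd_index h
    · exact hidx h
  obtain ⟨g, hg⟩ := MulAction.exists_smul_eq G (hP₁.toSylow hidx') P
  have hle : (P₀ : Subgroup ↥T).map T.subtype ≤ Z := by
    intro x hx
    obtain ⟨y, -, hy⟩ := Subgroup.mem_map.mp hx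
    apply hTZ
    · rw [← hy]
      exact y.2
    · obtain ⟨k, hk⟩ := (IsPGroup.iff_orderOf.mp hP₁) ⟨x, hx⟩
      exact ⟨k, by rw [← hk, Subgroup.orderOf_mk]⟩
  have hc1 : IsCyclic ↥((P₀ : Subgroup ↥T).map T.subtype) := isCyclic_of_le_cyclic hZ hle
  have e : (P : Subgroup G) = MulAut.conj g • ((P₀ : Subgroup ↥T).map T.subtype) := by
    rw [← hg, Sylow.coe_subgroup_smul, IsPGroup.toSylow_coe]
  rw [e]
  exact (MulEquiv.isCyclic (Subgroup.equivSMul (MulAut.conj g) ((P₀ : Subgroup ↥T).map T.subtype))).mp hc1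

/-- For a prime `p ∣ N`, the centralizer of an element of order `p` is commutative. -/
theorem cent_comm_of_torus [Finite G] {T : Subgroup G} {N : ℕ} (hT : TorusData T N) {p : ℕ} (hp : p.Prime)
    (hpN : p ∣ N) {x : G} (hx : orderOf x = p) {c₁ c₂ : G} (h₁ : c₁ * x = x * c₁) (h₂ : c₂ * x = x * c₂) :
    c₁ * c₂ = c₂ * c₁ := by
  obtain ⟨g, hg⟩ := exists_conj_mem_of_prime_order T hp (hT.syl p hp hpN) hx
  have hto : orderOf (g⁻¹ * x * g) = p := by
    have h1 := (MulAut.conj g⁻¹).orderOf_eq x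
    rw [MulAut.conj_apply, inv_inv] at h1
    rw [h1, hx]
  have key : ∀ c : G, c * x = x * c → g⁻¹ * c * g ∈ T := by
    intro c hc
    apply hT.cent p hp hpN _ hg hto
    calc g⁻¹ * c * g * (g⁻¹ * x * g) = g⁻¹ * (c * x) * g := by group
      _ = g⁻¹ * (x * c) * g := by rw [hc]
      _ = g⁻¹ * x * g * (g⁻¹ * c * g) := by group
  have h3 := hT.comm _ (key c₁ h₁) _ (key c₂ h₂)
  calc c₁ * c₂ = g * ((g⁻¹ * c₁ * g) * (g⁻¹ * c₂ * g)) * g⁻¹ := by group
    _ = g * ((g⁻¹ * c₂ * g) * (g⁻¹ * c₁ * g)) * g⁻¹ := by rw [h3]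
    _ = c₂ * c₁ := by group

/-- Two cyclic subgroups of the same order `d` are conjugate, if the Sylow subgroups for the primes dividing
`d` are cyclic and the centralizers of the elements of order `p` are commutative for some prime `p ∣ d`. -/
theorem conj_of_cyclic_of_abelian_cent [Finite G] (d : ℕ)
    (hsyl : ∀ (r : ℕ) [Fact r.Prime], r ∣ d → ∀ P : Sylow r G, IsCyclic ↥(P : Subgroup G))
    {p : ℕ} (hp : p.Prime) (hpd : p ∣ d)
    (hcent : ∀ x : G, orderOf x = p → ∀ c₁ c₂ : G, c₁ * x = x * c₁ → c₂ * x = x * c₂ → c₁ * c₂ = c₂ * c₁)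
    (A B : Subgroup G) (hA : IsCyclic ↥A) (hB : IsCyclic ↥B) (hAd : Nat.card ↥A = d) (hBd : Nat.card ↥B = d) :
    ∃ g : G, B = A.map (MulAut.conj g).toMonoidHom := by
  have hpF : Fact p.Prime := ⟨hp⟩
  have hd0 : 0 < d := by
    rw [← hAd]
    exact Nat.card_pos
  have hAcomm : ∀ u ∈ A, ∀ v ∈ A, u * v = v * u := by
    intro u hu v hv
    have e1 := isMulCommutative_iff.mp (IsCyclic.isMulCommutative (α := ↥A)) ⟨u, hu⟩ ⟨v, hv⟩
    exact congrArg Subtype.val e1
  have hBcomm : ∀ u ∈ B, ∀ v ∈ B, u * v = v * u := by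
    intro u hu v hv
    have e1 := isMulCommutative_iff.mp (IsCyclic.isMulCommutative (α := ↥B)) ⟨u, hu⟩ ⟨v, hv⟩
    exact congrArg Subtype.val e1
  obtain ⟨x', hx'⟩ := exists_prime_orderOf_dvd_card' (G := ↥A) p (by rw [hAd]; exact hpd)
  obtain ⟨x, hxA, hxo⟩ : ∃ x : G, x ∈ A ∧ orderOf x = p :=
    ⟨x'.1, x'.2, by rw [Subgroup.orderOf_coe]; exact hx'⟩
  obtain ⟨y', hy'⟩ := exists_prime_orderOf_dvd_card' (G := ↥B) p (by rw [hBd]; exact hpd)
  obtain ⟨y, hyB, hyo⟩ : ∃ y : G, y ∈ B ∧ orderOf y = p :=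
    ⟨y'.1, y'.2, by rw [Subgroup.orderOf_coe]; exact hy'⟩
  have hzx : IsPGroup p ↥(Subgroup.zpowers x) :=
    IsPGroup.of_card (n := 1) (by rw [Nat.card_zpowers, hxo, pow_one])
  have hzy : IsPGroup p ↥(Subgroup.zpowers y) :=
    IsPGroup.of_card (n := 1) (by rw [Nat.card_zpowers, hyo, pow_one])
  obtain ⟨P, hP⟩ := hzx.exists_le_sylow
  obtain ⟨P', hP'⟩ := hzy.exists_le_sylow
  obtain ⟨g, hg⟩ := MulAction.exists_smul_eq G P P'
  have hgx : g * x * g⁻¹ ∈ (P' : Subgroup G) := by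
    rw [← hg, Sylow.coe_subgroup_smul, Subgroup.mem_pointwise_smul_iff_inv_smul_mem, MulAut.smul_def,
      MulAut.conj_inv_apply]
    have e1 : g⁻¹ * (g * x * g⁻¹) * g = x := by group
    rw [e1]
    exact hP (Subgroup.mem_zpowers x)
  have hxo' : orderOf (g * x * g⁻¹) = p := by
    have h1 := (MulAut.conj g).orderOf_eq x
    rw [MulAut.conj_apply] at h1
    rw [h1, hxo]
  have heqz : Subgroup.zpowers (g * x * g⁻¹) = Subgroup.zpowers y :=
    eq_of_card_eq_of_le_cyclic (P' : Subgroup G) (hsyl p hpd P') _ _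
      (by rw [Subgroup.zpowers_le]; exact hgx)
      (by rw [Subgroup.zpowers_le]; exact hP' (Subgroup.mem_zpowers y))
      (by rw [Nat.card_zpowers, Nat.card_zpowers, hxo', hyo])
  obtain ⟨x₁, hx₁⟩ : ∃ x₁ : G, x₁ = g * x * g⁻¹ := ⟨_, rfl⟩
  rw [← hx₁] at hxo' heqz
  obtain ⟨A₁, hA₁⟩ : ∃ A₁ : Subgroup G, A₁ = A.map (MulAut.conj g).toMonoidHom := ⟨_, rfl⟩
  have hA₁card : Nat.card ↥A₁ = d := by
    rw [hA₁, Subgroup.card_map_of_injective (MulAut.conj g).injective, hAd]
  have hA₁x : ∀ u ∈ A₁, u * x₁ = x₁ * u := by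
    intro u hu
    rw [hA₁] at hu
    obtain ⟨u', hu', rfl⟩ := Subgroup.mem_map.mp hu
    have h1 := hAcomm u' hu' x hxA
    rw [hx₁]
    show g * u' * g⁻¹ * (g * x * g⁻¹) = g * x * g⁻¹ * (g * u' * g⁻¹)
    calc g * u' * g⁻¹ * (g * x * g⁻¹) = g * (u' * x) * g⁻¹ := by group
      _ = g * (x * u') * g⁻¹ := by rw [h1]
      _ = g * x * g⁻¹ * (g * u' * g⁻¹) := by group
  have hBx : ∀ u ∈ B, u * x₁ = x₁ * u := by
    intro u hu
    have hmem : x₁ ∈ Subgroup.zpowers y := by
      rw [← heqz]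
      exact Subgroup.mem_zpowers x₁
    obtain ⟨k, rfl⟩ := Subgroup.mem_zpowers_iff.mp hmem
    exact ((show Commute u y from hBcomm u hu y hyB).zpow_right k).eq
  -- the subgroup of the elements commuting with `x₁` of order dividing `d`
  let E : Subgroup G :=
    { carrier := {u | u * x₁ = x₁ * u ∧ u ^ d = 1}
      one_mem' := ⟨by rw [one_mul, mul_one], one_pow d⟩
      mul_mem' := by
        rintro u v ⟨hu, hud⟩ ⟨hv, hvd⟩
        refine ⟨?_, ?_⟩
        · calc u * v * x₁ = u * (v * x₁) := by rw [mul_assoc]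
            _ = u * (x₁ * v) := by rw [hv]
            _ = (u * x₁) * v := by rw [mul_assoc]
            _ = x₁ * u * v := by rw [hu]
            _ = x₁ * (u * v) := by rw [mul_assoc]
        · rw [(show Commute u v from hcent x₁ hxo' u v hu hv).mul_pow, hud, hvd, one_mul]
      inv_mem' := by
        rintro u ⟨hu, hud⟩
        refine ⟨?_, ?_⟩
        · calc u⁻¹ * x₁ = u⁻¹ * (x₁ * u) * u⁻¹ := by group
            _ = u⁻¹ * (u * x₁) * u⁻¹ := by rw [hu]
            _ = x₁ * u⁻¹ := by group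
        · rw [inv_pow, hud, inv_one] }
  have hEmem : ∀ u : G, u ∈ E ↔ u * x₁ = x₁ * u ∧ u ^ d = 1 := fun u => Iff.rfl
  have hpowA : ∀ u ∈ A₁, u ^ d = 1 := by
    intro u hu
    have h3 : (⟨u, hu⟩ : ↥A₁) ^ Nat.card ↥A₁ = 1 := pow_card_eq_one'
    rw [hA₁card] at h3
    have h4 := congrArg Subtype.val h3
    rw [Subgroup.coe_pow] at h4
    exact h4
  have hpowB : ∀ u ∈ B, u ^ d = 1 := by
    intro u hu
    have h3 : (⟨u, hu⟩ : ↥B) ^ Nat.card ↥B = 1 := pow_card_eq_one'
    rw [hBd] at h3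
    have h4 := congrArg Subtype.val h3
    rw [Subgroup.coe_pow] at h4
    exact h4
  have hME : A₁ ⊔ B ≤ E :=
    sup_le (fun u hu => (hEmem u).mpr ⟨hA₁x u hu, hpowA u hu⟩) (fun u hu => (hEmem u).mpr ⟨hBx u hu, hpowB u hu⟩)
  obtain ⟨M, hM⟩ : ∃ M : Subgroup G, M = A₁ ⊔ B := ⟨_, rfl⟩
  have hMx : ∀ u ∈ M, u * x₁ = x₁ * u ∧ u ^ d = 1 := by
    intro u hu
    rw [hM] at hu
    exact (hEmem u).mp (hME hu)
  have hMcomm : ∀ u ∈ M, ∀ v ∈ M, u * v = v * u :=
    fun u hu v hv => hcent x₁ hxo' u v (hMx u hu).1 (hMx v hv).1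
  -- `M` is a Z-group
  have hZG : IsZGroup ↥M := by
    refine ⟨fun r hr Q => ?_⟩
    have hrF : Fact r.Prime := ⟨hr⟩
    by_cases hrd : r ∣ d
    · have hQ₁ : IsPGroup r ↥((Q : Subgroup ↥M).map M.subtype) := Q.2.map M.subtype
      obtain ⟨S, hS⟩ := hQ₁.exists_le_sylow
      have hc1 : IsCyclic ↥((Q : Subgroup ↥M).map M.subtype) := isCyclic_of_le_cyclic (hsyl r hrd S) hS
      exact (MulEquiv.isCyclic ((Q : Subgroup ↥M).equivMapOfInjective M.subtype M.subtype_injective)).mpr hc1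
    · have hbot : ∀ u : ↥(Q : Subgroup ↥M), u = 1 := by
        intro u
        obtain ⟨k, hk⟩ := (IsPGroup.iff_orderOf.mp Q.2) u
        have h1 : orderOf u ∣ d := by
          apply orderOf_dvd_of_pow_eq_one
          apply Subtype.ext
          apply Subtype.ext
          rw [Subgroup.coe_pow, Subgroup.coe_pow]
          exact (hMx u.1.1 u.1.2).2
        rw [hk] at h1
        rcases Nat.eq_zero_or_pos k with rfl | hkpos
        · rw [pow_zero] at hk
          exact orderOf_eq_one_iff.mp hk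
        · exact absurd ((dvd_pow_self r hkpos.ne').trans h1) hrd
      have hsub : Subsingleton ↥(Q : Subgroup ↥M) := ⟨fun u v => by rw [hbot u, hbot v]⟩
      exact isCyclic_of_subsingleton
  let instM : CommGroup ↥M :=
    { (inferInstance : Group ↥M) with
      mul_comm := fun u v => Subtype.ext (hMcomm u.1 u.2 v.1 v.2) }
  have hnil : Group.IsNilpotent ↥M := @CommGroup.isNilpotent ↥M instM
  have hMcyc : IsCyclic ↥M := inferInstance
  have hfinM : Finite ↥M := inferInstance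
  have heq : A₁ = B := eq_of_card_eq_of_le_cyclic M hMcyc A₁ B (by rw [hM]; exact le_sup_left)
    (by rw [hM]; exact le_sup_right) (by rw [hA₁card, hBd])
  exact ⟨g, by rw [← hA₁, heq]⟩

end AbsSyl

section ReeSyl

/-- The circle subgroup of `SL₂(K)` is cyclic when `-1` is not a square. -/
theorem circleSL_isCyclic {K : Type*} [Field K] [Finite K] (hsq : ∀ y : K, y * y ≠ -1) :
    IsCyclic ↥(circleSL K) := by
  have hfact : Fact (∀ r : K, r ^ 2 ≠ (-1 : K) + 0 * r) :=
    ⟨fun r h => hsq r (by rw [← pow_two, h]; ring)⟩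
  let f : ↥(circleSL K) →* QuadraticAlgebra K (-1 : K) 0 :=
    { toFun := fun g => ⟨g.1.val 0 0, g.1.val 1 0⟩
      map_one' := by
        ext
        · show (1 : Matrix (Fin 2) (Fin 2) K) 0 0 = 1
          simp
        · show (1 : Matrix (Fin 2) (Fin 2) K) 1 0 = 0
          simp
      map_mul' := by
        intro g h
        obtain ⟨hg1, hg2⟩ := g.2
        ext
        · show (g.1.val * h.1.val) 0 0 = g.1.val 0 0 * h.1.val 0 0 + (-1) * g.1.val 1 0 * h.1.val 1 0
          rw [Matrix.mul_apply, Fin.sum_univ_two, hg2]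
          ring
        · show (g.1.val * h.1.val) 1 0 = g.1.val 0 0 * h.1.val 1 0 + g.1.val 1 0 * h.1.val 0 0 +
            0 * g.1.val 1 0 * h.1.val 1 0
          rw [Matrix.mul_apply, Fin.sum_univ_two, ← hg1]
          ring }
  have hf : Function.Injective f := by
    intro g h hgh
    obtain ⟨hg1, hg2⟩ := g.2
    obtain ⟨hh1, hh2⟩ := h.2
    have e1 : g.1.val 0 0 = h.1.val 0 0 := congrArg QuadraticAlgebra.re hgh
    have e2 : g.1.val 1 0 = h.1.val 1 0 := congrArg QuadraticAlgebra.im hgh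
    apply Subtype.ext
    apply Subtype.ext
    ext i j
    fin_cases i <;> fin_cases j
    · exact e1
    · show g.1.val 0 1 = h.1.val 0 1
      rw [hg2, hh2, e2]
    · exact e2
    · show g.1.val 1 1 = h.1.val 1 1
      rw [← hg1, ← hh1, e1]
  exact isCyclic_of_injective_ringHom f hf


variable {K : Type*} [Field K] [Fintype K] {m : ℕ}

/-- The split torus of the small Ree group. -/
theorem ree_split_data (hm : 1 ≤ m) (hK : Fintype.card K = 3 ^ (2 * m + 1)) (R : ReeData K (3 ^ m))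
    (t : ℕ) (ht : 3 ^ (2 * m + 1) = 8 * t + 3) :
    ∃ T : Subgroup ↥(twistedG2 K (3 ^ m)), IsCyclic ↥T ∧ TorusData T (4 * t + 1) := by
  have ht3 : 3 ≤ t := by
    have h27 : 3 ^ 3 ≤ 3 ^ (2 * m + 1) := Nat.pow_le_pow_right (by norm_num) (by omega)
    norm_num at h27
    omega
  have hG := R.card_twisted
  have e81 : 8 * t + 3 - 1 = 8 * t + 2 := by omega
  rw [hK, ht, e81] at hG
  have hfin : Finite ↥(twistedG2 K (3 ^ m)) := Nat.finite_of_card_ne_zero (by rw [hG]; positivity)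
  obtain ⟨T, hT⟩ : ∃ T : Subgroup ↥(twistedG2 K (3 ^ m)), T =
      (chevG2.diagonalSubgroup K ⊓ twistedG2 K (3 ^ m)).subgroupOf (twistedG2 K (3 ^ m)) := ⟨_, rfl⟩
  have hTmem : ∀ x : ↥(twistedG2 K (3 ^ m)), x ∈ T ↔
      (x : GL chevG2.Idx K) ∈ chevG2.diagonalSubgroup K ⊓ twistedG2 K (3 ^ m) := by
    intro x
    rw [hT]
    exact Subgroup.mem_subgroupOf
  have hcyc := R.diag_cyclic
  have eT : ↥T ≃* ↥(chevG2.diagonalSubgroup K ⊓ twistedG2 K (3 ^ m)) := by
    rw [hT]
    exact Subgroup.subgroupOfEquivOfLe inf_le_right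
  have hTcyc : IsCyclic ↥T := (MulEquiv.isCyclic eT).mpr hcyc
  have hTcard : Nat.card ↥T = 8 * t + 2 := by
    rw [Nat.card_congr eT.toEquiv, R.card_diag_inf_twisted, hK, ht]
    omega
  have hTcomm : ∀ x ∈ T, ∀ y ∈ T, x * y = y * x := by
    intro x hx y hy
    have e1 := isMulCommutative_iff.mp (IsCyclic.isMulCommutative (α := ↥T)) ⟨x, hx⟩ ⟨y, hy⟩
    exact congrArg Subtype.val e1
  have hcent : ∀ p : ℕ, p.Prime → p ∣ 4 * t + 1 → ∀ t' ∈ T, orderOf t' = p →
      ∀ x : ↥(twistedG2 K (3 ^ m)), x * t' = t' * x → x ∈ T := by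
    intro p hp hpN t' ht' hto x hx
    obtain ⟨hp2, -⟩ := ree_nt_split t p hp hpN
    rw [hTmem] at ht' ⊢
    apply ree_cent_torus R ht' _ x.2 (congrArg Subtype.val hx)
    intro hsq
    have h1 : t' ^ 2 = 1 := by
      apply Subtype.ext
      rw [pow_two]
      exact hsq
    have h2 : orderOf t' ∣ 2 := orderOf_dvd_of_pow_eq_one h1
    rw [hto] at h2
    exact hp2 ((Nat.prime_dvd_prime_iff_eq hp Nat.prime_two).mp h2)
  have hidx : T.index = (8 * t + 3) ^ 3 * ((8 * t + 3) ^ 3 + 1) := by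
    have h1 := Subgroup.card_mul_index T
    rw [hTcard, hG] at h1
    apply Nat.eq_of_mul_eq_mul_left (by omega : 0 < 8 * t + 2)
    rw [h1]
    ring
  have hsyl : ∀ p : ℕ, p.Prime → p ∣ 4 * t + 1 → ¬ p ∣ T.index := by
    intro p hp hpN
    rw [hidx]
    exact (ree_nt_split t p hp hpN).2
  exact ⟨T, hTcyc, ⟨hTcomm, hcent, hsyl⟩⟩

/-- The torus of order `q + 1` of the small Ree group, and the cyclic subgroup of its elements of odd order. -/
theorem ree_quarter_data (hm : 1 ≤ m) (hK : Fintype.card K = 3 ^ (2 * m + 1)) (R : ReeData K (3 ^ m))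
    (t : ℕ) (ht : 3 ^ (2 * m + 1) = 8 * t + 3) :
    ∃ A₀ Z : Subgroup ↥(twistedG2 K (3 ^ m)), IsCyclic ↥Z ∧ (∀ x ∈ A₀, Odd (orderOf x) → x ∈ Z) ∧
      TorusData A₀ (2 * t + 1) := by
  have ht3 : 3 ≤ t := by
    have h27 : 3 ^ 3 ≤ 3 ^ (2 * m + 1) := Nat.pow_le_pow_right (by norm_num) (by omega)
    norm_num at h27
    omega
  have hG := R.card_twisted
  have e81 : 8 * t + 3 - 1 = 8 * t + 2 := by omega
  rw [hK, ht, e81] at hG
  have hfin : Finite ↥(twistedG2 K (3 ^ m)) := Nat.finite_of_card_ne_zero (by rw [hG]; positivity)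
  have hKt : Fintype.card K = 8 * t + 3 := hK.trans ht
  have h3t : ¬ 3 ∣ 8 * t + 4 := by
    intro h
    have h1 : 3 ∣ 8 * t + 3 := by
      rw [← ht, pow_succ]
      exact Dvd.intro_left _ rfl
    omega
  have conj_comm' : ∀ (ω y z : ↥(twistedG2 K (3 ^ m))), y * z = z * y →
      (ω⁻¹ * y * ω) * (ω⁻¹ * z * ω) = (ω⁻¹ * z * ω) * (ω⁻¹ * y * ω) := by
    intro ω y z h
    calc (ω⁻¹ * y * ω) * (ω⁻¹ * z * ω) = ω⁻¹ * (y * z) * ω := by group
      _ = ω⁻¹ * (z * y) * ω := by rw [h]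
      _ = (ω⁻¹ * z * ω) * (ω⁻¹ * y * ω) := by group
  -- the involution and `φ`
  obtain ⟨a₀, haH, ha1', ha2'⟩ := ree_exists_invol2 R
  have hcomm := ree_invol_comm' R haH ha1' ha2'
  have hne : ∀ g : Matrix.SpecialLinearGroup (Fin 2) K, a₀ * (ree_phi R) g ≠ 1 := by
    intro g h
    apply ree_invol_not_phi R haH ha1' ha2' g⁻¹
    rw [map_inv]
    exact eq_inv_of_mul_eq_one_left h
  obtain ⟨φG, hφG⟩ : ∃ φG : Matrix.SpecialLinearGroup (Fin 2) K →* ↥(twistedG2 K (3 ^ m)),
      ∀ g, ((φG g : ↥(twistedG2 K (3 ^ m))) : GL chevG2.Idx K) = (ree_phi R) g :=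
    ⟨(ree_phi R).codRestrict _ (ree_phi_mem R), fun g => rfl⟩
  obtain ⟨a, haa⟩ : ∃ a : ↥(twistedG2 K (3 ^ m)), (a : GL chevG2.Idx K) = a₀ :=
    ⟨⟨a₀, (Subgroup.mem_inf.mp haH).2⟩, rfl⟩
  have ha1 : a ≠ 1 := by
    intro h
    apply ha1'
    rw [← haa, h]
    rfl
  have ha2 : a * a = 1 := by
    apply Subtype.ext
    show (a : GL chevG2.Idx K) * (a : GL chevG2.Idx K) = 1
    rw [haa]
    exact ha2'
  have hcommG : ∀ g : Matrix.SpecialLinearGroup (Fin 2) K, a * φG g = φG g * a := by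
    intro g
    apply Subtype.ext
    show (a : GL chevG2.Idx K) * (φG g : GL chevG2.Idx K) = (φG g : GL chevG2.Idx K) * (a : GL chevG2.Idx K)
    rw [haa, hφG]
    exact (hcomm g).eq
  have haH0 : (a : GL chevG2.Idx K) ∈ chevG2.diagonalSubgroup K := by
    rw [haa]
    exact (Subgroup.mem_inf.mp haH).1
  -- the circle subgroup
  have hsqK : ∀ y : K, y * y ≠ -1 := ree_sq_ne_neg_one R
  have h2K : (2 : K) ≠ 0 := by
    intro h
    apply ree_neg_one_ne_one R
    linear_combination (-1 : K) * h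
  have hcircle : Nat.card ↥(circleSL K) = 8 * t + 4 := by rw [card_circleSL hsqK h2K, hKt]
  have hidxc : (circleSL K).index = (8 * t + 3) * (8 * t + 2) := by
    rw [index_circleSL hsqK h2K, hKt, e81]
  have hqzc : (qz : Matrix.SpecialLinearGroup (Fin 2) K) ∈ circleSL K := by
    constructor
    · show (-1 : K) = (-1 : K)⁻¹
      rw [inv_neg_one]
    · show (0 : K) = -0
      rw [neg_zero]
  have hqic : (qi : Matrix.SpecialLinearGroup (Fin 2) K) ∈ circleSL K := by
    constructor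
    · rfl
    · show (1 : K) = -(-(1 : K)⁻¹)
      rw [neg_neg, inv_one]
  -- the abelian subgroup `A₀ = ⟨a⟩ φ(circle)`
  obtain ⟨ψ, hψ⟩ : ∃ ψ : ↥(circleSL K) →* ↥(twistedG2 K (3 ^ m)), ∀ s, ψ s = φG s.1 :=
    ⟨φG.comp (circleSL K).subtype, fun s => rfl⟩
  have hΘex : ∃ Θ : Multiplicative (ZMod 2) × ↥(circleSL K) →* ↥(twistedG2 K (3 ^ m)),
      ∀ i s, Θ (i, s) = invHom a ha2 i * ψ s :=
    ⟨MonoidHom.noncommCoprod (invHom a ha2) ψ (fun i s => by
      show Commute (a ^ _) _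
      rw [hψ]
      exact (show Commute a (φG s.1) from hcommG s.1).pow_left _), fun _ _ => rfl⟩
  obtain ⟨Θ, hΘ⟩ := hΘex
  obtain ⟨A₀, hA₀⟩ : ∃ A₀ : Subgroup ↥(twistedG2 K (3 ^ m)), A₀ = Θ.range := ⟨_, rfl⟩
  have hA₀mem : ∀ x : ↥(twistedG2 K (3 ^ m)), x ∈ A₀ ↔ ∃ g ∈ circleSL K, x = φG g ∨ x = a * φG g := by
    intro x
    rw [hA₀, MonoidHom.mem_range]
    constructor
    · rintro ⟨⟨i, s⟩, rfl⟩
      refine ⟨s.1, s.2, ?_⟩
      rw [hΘ, hψ]
      rcases mulZMod2_cases i with rfl | rfl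
      · left
        rw [map_one, one_mul]
      · right
        rw [invHom_gen]
    · rintro ⟨g, hg, rfl | rfl⟩
      · exact ⟨(1, ⟨g, hg⟩), by rw [hΘ, hψ, map_one, one_mul]⟩
      · exact ⟨(Multiplicative.ofAdd 1, ⟨g, hg⟩), by rw [hΘ, hψ, invHom_gen]⟩
  have hker2 : Nat.card ↥Θ.ker = 2 := by
    have hz : ((1 : Multiplicative (ZMod 2)), (⟨qz, hqzc⟩ : ↥(circleSL K))) ∈ Θ.ker := by
      rw [MonoidHom.mem_ker, hΘ, hψ, map_one, one_mul]
      apply Subtype.ext
      rw [hφG]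
      exact ree_phi_center R qz_mem_center
    rw [Nat.card_eq_two_iff]
    refine ⟨1, ⟨_, hz⟩, ?_, ?_⟩
    · intro h
      have h1 : (1 : Matrix.SpecialLinearGroup (Fin 2) K) = qz :=
        congrArg (fun x : ↥Θ.ker => (x.1.2 : Matrix.SpecialLinearGroup (Fin 2) K)) h
      exact qz_ne_one (ree_neg_one_ne_one R) h1.symm
    · ext ⟨⟨i, s⟩, hx⟩
      simp only [Set.mem_univ, iff_true, Set.mem_insert_iff, Set.mem_singleton_iff]
      rw [MonoidHom.mem_ker, hΘ, hψ] at hx
      rcases mulZMod2_cases i with rfl | rfl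
      · rw [map_one, one_mul] at hx
        have h1 : (ree_phi R) s.1 = 1 := by
          rw [← hφG, hx]
          rfl
        rcases sl2_center_cases (ree_phi_ker R h1).1 with h | h
        · left
          apply Subtype.ext
          exact Prod.ext rfl (Subtype.ext h)
        · right
          apply Subtype.ext
          exact Prod.ext rfl (Subtype.ext h)
      · exfalso
        rw [invHom_gen] at hx
        apply hne s.1
        rw [← haa, ← hφG]
        exact congrArg Subtype.val hx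
  have hA₀card : Nat.card ↥A₀ = 8 * t + 4 := by
    have h1 := Subgroup.card_mul_index Θ.ker
    rw [Subgroup.index_ker, hker2, Nat.card_prod, card_mulZMod2, hcircle, ← hA₀] at h1
    omega
  have hA₀comm : ∀ x ∈ A₀, ∀ y ∈ A₀, x * y = y * x := by
    rw [hA₀]
    rintro x ⟨⟨i, s⟩, rfl⟩ y ⟨⟨j, s'⟩, rfl⟩
    rw [← map_mul, ← map_mul]
    congr 1
    exact Prod.ext (mul_comm i j) (Subtype.ext (circleSL_comm s.2 s'.2))
  -- the centralizer of `a` and of an element of odd order of `φ(circle)`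
  have hα₀ : ∀ s₀ ∈ circleSL K, ∀ p : ℕ, Odd p → s₀ ^ p = 1 → s₀ ≠ 1 →
      ∀ x : ↥(twistedG2 K (3 ^ m)), x * a = a * x → x * φG s₀ = φG s₀ * x → x ∈ A₀ := by
    intro s₀ hs₀ p hp hs₀p hs₀1 x hxa hxs
    have hs0 : s₀.val 1 0 ≠ 0 := by
      intro h0
      have hsq := circleSL_sq_of_zero hs₀ h0
      apply hs₀1
      obtain ⟨j, rfl⟩ := hp
      rw [pow_succ, pow_mul, pow_two, hsq, one_pow, one_mul] at hs₀p
      exact hs₀p
    rw [hA₀mem]
    have hxa' : a₀ * (x : GL chevG2.Idx K) = (x : GL chevG2.Idx K) * a₀ := by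
      rw [← haa]
      exact congrArg Subtype.val hxa.symm
    obtain ⟨g, hg⟩ := ree_cent_cases R haH ha1' ha2' x.2 hxa'
    have hxs' : (x : GL chevG2.Idx K) * (ree_phi R) s₀ = (ree_phi R) s₀ * (x : GL chevG2.Idx K) := by
      rw [← hφG]
      exact congrArg Subtype.val hxs
    have hc : (ree_phi R) g * (ree_phi R) s₀ = (ree_phi R) s₀ * (ree_phi R) g := by
      rcases hg with h | h
      · rw [← h]
        exact hxs'
      · have e1 : (ree_phi R) g = a₀ * (x : GL chevG2.Idx K) := by rw [h, ← mul_assoc, ha2', one_mul]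
        rw [e1]
        calc a₀ * (x : GL chevG2.Idx K) * (ree_phi R) s₀
            = a₀ * ((x : GL chevG2.Idx K) * (ree_phi R) s₀) := by rw [mul_assoc]
          _ = a₀ * ((ree_phi R) s₀ * (x : GL chevG2.Idx K)) := by rw [hxs']
          _ = (a₀ * (ree_phi R) s₀) * (x : GL chevG2.Idx K) := by rw [mul_assoc]
          _ = ((ree_phi R) s₀ * a₀) * (x : GL chevG2.Idx K) := by rw [(hcomm s₀).eq]
          _ = (ree_phi R) s₀ * (a₀ * (x : GL chevG2.Idx K)) := by rw [mul_assoc]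
    have hgs := ree_phi_comm_lift R hp hs₀p hc
    refine ⟨g, mem_circleSL_of_commute hs₀ hs0 hgs, ?_⟩
    rcases hg with h | h
    · left
      apply Subtype.ext
      rw [hφG]
      exact h
    · right
      apply Subtype.ext
      show (x : GL chevG2.Idx K) = (a : GL chevG2.Idx K) * (φG g : GL chevG2.Idx K)
      rw [haa, hφG]
      exact h
  -- all involutions are conjugate
  have hinv : ∀ v : ↥(twistedG2 K (3 ^ m)), v * v = 1 → v ≠ 1 → ∃ γ : ↥(twistedG2 K (3 ^ m)), γ * a * γ⁻¹ = v := by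
    intro v hv2 hv1
    have h2 : Fact (Nat.Prime 2) := ⟨Nat.prime_two⟩
    have hzv : IsPGroup 2 ↥(Subgroup.zpowers v) := by
      apply IsPGroup.of_card (n := 1)
      rw [Nat.card_zpowers, pow_one]
      exact orderOf_eq_prime (by rw [pow_two]; exact hv2) hv1
    have hza : IsPGroup 2 ↥(Subgroup.zpowers a) := by
      apply IsPGroup.of_card (n := 1)
      rw [Nat.card_zpowers, pow_one]
      exact orderOf_eq_prime (by rw [pow_two]; exact ha2) ha1
    obtain ⟨P, hP⟩ := hzv.exists_le_sylow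
    obtain ⟨P', hP'⟩ := hza.exists_le_sylow
    obtain ⟨g, hg⟩ := MulAction.exists_smul_eq ↥(twistedG2 K (3 ^ m)) P' P
    have hgaP : g * a * g⁻¹ ∈ (P : Subgroup ↥(twistedG2 K (3 ^ m))) := by
      rw [← hg, Sylow.coe_subgroup_smul, Subgroup.mem_pointwise_smul_iff_inv_smul_mem, MulAut.smul_def,
        MulAut.conj_inv_apply]
      have e1 : g⁻¹ * (g * a * g⁻¹) * g = a := by group
      rw [e1]
      exact hP' (Subgroup.mem_zpowers a)
    have hvP : v ∈ (P : Subgroup ↥(twistedG2 K (3 ^ m))) := hP (Subgroup.mem_zpowers v)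
    obtain ⟨h8, -⟩ := (Cfsg.Agent.S1152.result hK a haH0 ha1 ha2).2 P
    obtain ⟨hC, hN⟩ := Cfsg.Agent.S1157.result hm hK P
    have hga1 : g * a * g⁻¹ ≠ 1 := by
      intro h
      apply ha1
      calc a = g⁻¹ * (g * a * g⁻¹) * g := by group
        _ = 1 := by rw [h]; group
    obtain ⟨g', hg'⟩ := conj_of_normalizer_168 (P : Subgroup ↥(twistedG2 K (3 ^ m))) h8 hC hN hgaP hvP hga1 hv1
    refine ⟨g' * g, ?_⟩
    rw [← hg']
    group
  -- the involution `b = φ(i)`
  obtain ⟨b, hb⟩ : ∃ b : ↥(twistedG2 K (3 ^ m)), b = φG qi := ⟨_, rfl⟩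
  have hbA : b ∈ A₀ := (hA₀mem b).mpr ⟨qi, hqic, Or.inl hb⟩
  have haA : a ∈ A₀ := (hA₀mem a).mpr ⟨1, one_mem _, Or.inr (by rw [map_one, mul_one])⟩
  have hb2 : b * b = 1 := by
    rw [hb, ← map_mul, qi_mul_qi]
    apply Subtype.ext
    rw [hφG]
    exact ree_phi_center R qz_mem_center
  have hb1 : b ≠ 1 := by
    intro h
    have h1 : (ree_phi R) qi = 1 := by
      rw [← hφG, ← hb, h]
      rfl
    have h2 := (ree_phi_ker R h1).2
    exact one_ne_zero (show (1 : K) = 0 from h2)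
  have hab : a ≠ b := by
    intro h
    apply ree_invol_not_phi R haH ha1' ha2' qi
    rw [← haa, ← hφG, ← hb, h]
  have hba : a * b = b * a := by
    rw [hb]
    exact hcommG qi
  have hab2 : (a * b) * (a * b) = 1 := by
    calc a * b * (a * b) = a * (b * a) * b := by group
      _ = a * (a * b) * b := by rw [hba]
      _ = (a * a) * (b * b) := by group
      _ = 1 := by rw [ha2, hb2, one_mul]
  have hab1 : a * b ≠ 1 := by
    intro h
    apply hab
    calc a = a * (b * b) := by rw [hb2, mul_one]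
      _ = (a * b) * b := by rw [mul_assoc]
      _ = b := by rw [h, one_mul]
  -- centralizers of the elements of prime order of `A₀`
  have hcent : ∀ p : ℕ, p.Prime → p ∣ 2 * t + 1 → ∀ t' ∈ A₀, orderOf t' = p →
      ∀ x : ↥(twistedG2 K (3 ^ m)), x * t' = t' * x → x ∈ A₀ := by
    intro p hp hpN t' ht'A hto
    obtain ⟨hp2, hpq, hpq1, -⟩ := ree_nt_quarter t p hp hpN h3t
    have hpodd : Odd p := hp.odd_of_ne_two hp2
    have hpF : Fact p.Prime := ⟨hp⟩
    have htp : t' ^ p = 1 := by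
      rw [← hto]
      exact pow_orderOf_eq_one t'
    have ht1 : t' ≠ 1 := by
      rintro rfl
      rw [orderOf_one] at hto
      exact hp.ne_one hto.symm
    have hα : ∀ v : ↥(twistedG2 K (3 ^ m)), v = a ∨ v = b ∨ v = a * b → ∀ x : ↥(twistedG2 K (3 ^ m)), x * t' = t' * x → x * v = v * x → x ∈ A₀ := by
      intro v hv x hxt hxv
      have hvA : v ∈ A₀ := by
        rcases hv with rfl | rfl | rfl
        · exact haA
        · exact hbA
        · exact mul_mem haA hbA
      have hv2 : v * v = 1 := by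
        rcases hv with rfl | rfl | rfl
        · exact ha2
        · exact hb2
        · exact hab2
      have hv1 : v ≠ 1 := by
        rcases hv with rfl | rfl | rfl
        · exact ha1
        · exact hb1
        · exact hab1
      obtain ⟨γ, hγ⟩ := hinv v hv2 hv1
      have hvt : v * t' = t' * v := hA₀comm v hvA t' ht'A
      have haγ : a = γ⁻¹ * v * γ := by
        rw [← hγ]
        group
      have ht₁a : a * (γ⁻¹ * t' * γ) = (γ⁻¹ * t' * γ) * a := by
        rw [haγ]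
        exact conj_comm' γ v t' hvt
      have ht₁p : (γ⁻¹ * t' * γ) ^ p = 1 := by
        have e2 := conj_pow (a := γ⁻¹) (b := t') (i := p)
        rw [inv_inv] at e2
        rw [e2, htp]
        group
      have ht₁a' : a₀ * ((γ⁻¹ * t' * γ : ↥(twistedG2 K (3 ^ m))) : GL chevG2.Idx K) =
          ((γ⁻¹ * t' * γ : ↥(twistedG2 K (3 ^ m))) : GL chevG2.Idx K) * a₀ := by
        rw [← haa]
        exact congrArg Subtype.val ht₁a
      obtain ⟨s', hs', hs'p⟩ := ree_lift_odd R haH ha1' ha2' (γ⁻¹ * t' * γ).2 ht₁a' hpodd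
        (congrArg Subtype.val ht₁p)
      have hs'G : γ⁻¹ * t' * γ = φG s' := by
        apply Subtype.ext
        rw [hφG]
        exact hs'
      have hs'1 : s' ≠ 1 := by
        rintro rfl
        rw [map_one] at hs'G
        apply ht1
        calc t' = γ * (γ⁻¹ * t' * γ) * γ⁻¹ := by group
          _ = 1 := by rw [hs'G]; group
      have hs'o : orderOf s' = p := orderOf_eq_prime hs'p hs'1
      have hidx' : ¬ p ∣ (circleSL K).index := by
        rw [hidxc]
        intro hdvd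
        rcases (Nat.Prime.dvd_mul hp).mp hdvd with h | h
        · exact (Nat.Prime.coprime_iff_not_dvd hp).mp hpq h
        · exact (Nat.Prime.coprime_iff_not_dvd hp).mp hpq1 h
      obtain ⟨h, hh⟩ := exists_conj_mem_of_prime_order (circleSL K) hp hidx' hs'o
      have hs₀p : (h⁻¹ * s' * h) ^ p = 1 := by
        have e2 := conj_pow (a := h⁻¹) (b := s') (i := p)
        rw [inv_inv] at e2
        rw [e2, hs'p]
        group
      have hs₀1 : h⁻¹ * s' * h ≠ 1 := by
        intro h1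
        apply hs'1
        calc s' = h * (h⁻¹ * s' * h) * h⁻¹ := by group
          _ = 1 := by rw [h1]; group
      have hωa : a = (γ * φG h)⁻¹ * v * (γ * φG h) := by
        rw [← hγ]
        calc a = (φG h)⁻¹ * (φG h * a) := by group
          _ = (φG h)⁻¹ * (a * φG h) := by rw [hcommG h]
          _ = (γ * φG h)⁻¹ * (γ * a * γ⁻¹) * (γ * φG h) := by group
      have hωt : φG (h⁻¹ * s' * h) = (γ * φG h)⁻¹ * t' * (γ * φG h) := by
        rw [map_mul, map_mul, map_inv, ← hs'G]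
        group
      have key : ∀ y : ↥(twistedG2 K (3 ^ m)), y * t' = t' * y → y * v = v * y →
          (γ * φG h)⁻¹ * y * (γ * φG h) ∈ A₀ := by
        intro y hyt hyv
        apply hα₀ (h⁻¹ * s' * h) hh p hpodd hs₀p hs₀1
        · have e3 := conj_comm' (γ * φG h) y v hyv
          rw [← hωa] at e3
          exact e3
        · rw [hωt]
          exact conj_comm' (γ * φG h) y t' hyt
      have hle : A₀ ≤ A₀.map (MulAut.conj (γ * φG h)).toMonoidHom := by
        intro y hy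
        refine Subgroup.mem_map.mpr ⟨(γ * φG h)⁻¹ * y * (γ * φG h),
          key y (hA₀comm y hy t' ht'A) (hA₀comm y hy v hvA), ?_⟩
        show (γ * φG h) * ((γ * φG h)⁻¹ * y * (γ * φG h)) * (γ * φG h)⁻¹ = y
        group
      have heq : A₀ = A₀.map (MulAut.conj (γ * φG h)).toMonoidHom :=
        Subgroup.eq_of_le_of_card_ge hle
          (by rw [Subgroup.card_map_of_injective (MulAut.conj (γ * φG h)).injective])
      rw [heq]
      refine Subgroup.mem_map.mpr ⟨(γ * φG h)⁻¹ * x * (γ * φG h), key x hxt hxv, ?_⟩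
      show (γ * φG h) * ((γ * φG h)⁻¹ * x * (γ * φG h)) * (γ * φG h)⁻¹ = x
      group
    have hβ : ∀ y : ↥(twistedG2 K (3 ^ m)), y * y * y = 1 → y * t' = t' * y → y = 1 := by
      intro y hy3 hyt
      by_contra hy1
      apply ht1
      apply Subtype.ext
      exact ree_three_cent R hK y.2 t'.2 (congrArg Subtype.val hy3) (fun h => hy1 (Subtype.ext h))
        (congrArg Subtype.val hyt) (k := p) (congrArg Subtype.val htp) (by rw [hKt]; exact hpq)
        (by rw [hKt, e81]; exact hpq1)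
    exact cent_le_of_four A₀ hA₀comm (2 * t + 1) ⟨t, rfl⟩ (by rw [hA₀card]; ring) t' a b ht'A haA hbA
      ha1 hb1 hab ha2 hb2 hα hβ
  have hidx : A₀.index = (8 * t + 3) ^ 3 * (8 * t + 2) * (64 * t ^ 2 + 40 * t + 7) := by
    have h1 := Subgroup.card_mul_index A₀
    rw [hA₀card, hG] at h1
    apply Nat.eq_of_mul_eq_mul_left (by omega : 0 < 8 * t + 4)
    rw [h1]
    ring
  have hsyl : ∀ p : ℕ, p.Prime → p ∣ 2 * t + 1 → ¬ p ∣ A₀.index := by
    intro p hp hpN
    rw [hidx]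
    exact (ree_nt_quarter t p hp hpN h3t).2.2.2
  have hcycC : IsCyclic ↥(circleSL K) := circleSL_isCyclic hsqK
  have hZcyc : IsCyclic ↥ψ.range := by
    have := hcycC
    exact isCyclic_of_surjective ψ.rangeRestrict ψ.rangeRestrict_surjective
  have hodd : ∀ x ∈ A₀, Odd (orderOf x) → x ∈ ψ.range := by
    intro x hx hxo
    obtain ⟨g, hg, hxg | hxg⟩ := (hA₀mem x).mp hx
    · exact ⟨⟨g, hg⟩, by rw [hψ, hxg]⟩
    · exfalso
      obtain ⟨k, hk⟩ := hxo
      have h1 : x ^ (2 * k + 1) = 1 := by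
        rw [← hk]
        exact pow_orderOf_eq_one x
      rw [hxg, (show Commute a (φG g) from hcommG g).mul_pow, ← map_pow] at h1
      have ha_pow : a ^ (2 * k + 1) = a := by
        rw [pow_succ, pow_mul, pow_two, ha2, one_pow, one_mul]
      rw [ha_pow] at h1
      apply hne (g ^ (2 * k + 1))
      rw [← haa, ← hφG]
      exact congrArg Subtype.val h1
  exact ⟨A₀, ψ.range, hZcyc, hodd, ⟨hA₀comm, hcent, hsyl⟩⟩

/-- The centralizer of an element of prime order `p` with `ord_p(q) = 6` is commutative. -/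
theorem ree_seven_cent (hm : 1 ≤ m) (hK : Fintype.card K = 3 ^ (2 * m + 1)) (R : ReeData K (3 ^ m))
    {p : ℕ} [hp : Fact p.Prime] (hq : ¬ p ∣ Fintype.card K)
    (hord : ∀ i : ℕ, p ∣ Fintype.card K ^ i - 1 → 6 ∣ i)
    {x : ↥(twistedG2 K (3 ^ m))} (hx : x ^ p = 1) (hx1 : x ≠ 1)
    {c₁ c₂ : ↥(twistedG2 K (3 ^ m))} (h₁ : c₁ * x = x * c₁) (h₂ : c₂ * x = x * c₂) : c₁ * c₂ = c₂ * c₁ := by
  have hc3 := R.char3
  have hinj := reeRho_injective R (R.exists_big hm hK)
  apply hinj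
  rw [map_mul, map_mul]
  have hx' : (reeRho (K := K) (3 ^ m) x) ^ p = 1 := by rw [← map_pow, hx, map_one]
  have hx1' : reeRho (K := K) (3 ^ m) x ≠ 1 := fun h => hx1 (hinj (by rw [h, map_one]))
  have hc₁ : Commute (reeRho (K := K) (3 ^ m) c₁) (reeRho (K := K) (3 ^ m) x) := by
    show _ * _ = _ * _
    rw [← map_mul, ← map_mul, h₁]
  have hc₂ : Commute (reeRho (K := K) (3 ^ m) c₂) (reeRho (K := K) (3 ^ m) x) := by
    show _ * _ = _ * _
    rw [← map_mul, ← map_mul, h₂]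
  exact (lin_commute hq hord finrank_longT hx' hx1' hc₁ hc₂).eq

/-- Two commuting elements of prime order `p` with `ord_p(q) = 6` generate a cyclic group. -/
theorem ree_seven_pow (hm : 1 ≤ m) (hK : Fintype.card K = 3 ^ (2 * m + 1)) (R : ReeData K (3 ^ m))
    {p : ℕ} [hp : Fact p.Prime] (hq : ¬ p ∣ Fintype.card K)
    (hord : ∀ i : ℕ, p ∣ Fintype.card K ^ i - 1 → 6 ∣ i)
    {y z : ↥(twistedG2 K (3 ^ m))} (hy : y ^ p = 1) (hz : z ^ p = 1) (hy1 : y ≠ 1) (hyz : y * z = z * y) :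
    ∃ a : ℕ, y ^ a * z = 1 := by
  have hc3 := R.char3
  have hinj := reeRho_injective R (R.exists_big hm hK)
  obtain ⟨a, ha⟩ := lin_pow_of_commute hq hord finrank_longT (y := reeRho (K := K) (3 ^ m) y)
    (z := reeRho (K := K) (3 ^ m) z) (by rw [← map_pow, hy, map_one]) (by rw [← map_pow, hz, map_one])
    (fun h => hy1 (hinj (by rw [h, map_one])))
    (by show _ * _ = _ * _; rw [← map_mul, ← map_mul, hyz])
  exact ⟨a, hinj (by rw [map_mul, map_pow, ha, map_one])⟩

/-- The Sylow `p`-subgroups of the small Ree groups are cyclic for `p > 3`. -/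
theorem ree_sylow_cyclic (hm : 1 ≤ m) (hK : Fintype.card K = 3 ^ (2 * m + 1)) {p : ℕ} [hp : Fact p.Prime]
    (hp3 : 3 < p) (P : Sylow p ↥(twistedG2 K (3 ^ m))) :
    IsCyclic ↥(P : Subgroup ↥(twistedG2 K (3 ^ m))) := by
  obtain ⟨R⟩ := exists_reeData hK
  obtain ⟨t, ht⟩ := ree_q_form m
  have hG := R.card_twisted
  have e81 : 8 * t + 3 - 1 = 8 * t + 2 := by omega
  rw [hK, ht, e81] at hG
  have hfin : Finite ↥(twistedG2 K (3 ^ m)) := Nat.finite_of_card_ne_zero (by rw [hG]; positivity)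
  have h3q : 3 ∣ 8 * t + 3 := by
    rw [← ht, pow_succ]
    exact Dvd.intro_left _ rfl
  have hp2 : p ≠ 2 := by omega
  have hpq : ¬ p ∣ 8 * t + 3 := by
    rw [← ht]
    intro h
    have h1 := hp.out.dvd_of_dvd_pow h
    have h2 := (Nat.prime_dvd_prime_iff_eq hp.out Nat.prime_three).mp h1
    omega
  by_cases hpG : p ∣ Nat.card ↥(twistedG2 K (3 ^ m))
  · rw [hG] at hpG
    have e1 : (8 * t + 3) ^ 3 + 1 = 2 * 2 * (2 * t + 1) * (64 * t ^ 2 + 40 * t + 7) := by ring
    have e2 : 8 * t + 2 = 2 * (4 * t + 1) := by ring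
    rw [e1, e2] at hpG
    have h2' : ¬ p ∣ 2 := fun h => hp2 ((Nat.prime_dvd_prime_iff_eq hp.out Nat.prime_two).mp h)
    have hcases : p ∣ 4 * t + 1 ∨ p ∣ 2 * t + 1 ∨ p ∣ 64 * t ^ 2 + 40 * t + 7 := by
      rcases (Nat.Prime.dvd_mul hp.out).mp hpG with h | h
      · rcases (Nat.Prime.dvd_mul hp.out).mp h with h' | h'
        · exact absurd (hp.out.dvd_of_dvd_pow h') hpq
        · rcases (Nat.Prime.dvd_mul hp.out).mp h' with h'' | h''
          · exact absurd h'' h2'
          · exact Or.inl h''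
      · rcases (Nat.Prime.dvd_mul hp.out).mp h with h' | h'
        · rcases (Nat.Prime.dvd_mul hp.out).mp h' with h'' | h''
          · rcases (Nat.Prime.dvd_mul hp.out).mp h'' with h3 | h3
            · exact absurd h3 h2'
            · exact absurd h3 h2'
          · exact Or.inr (Or.inl h'')
        · exact Or.inr (Or.inr h')
    rcases hcases with h | h | h
    · obtain ⟨T, hTcyc, hT⟩ := ree_split_data hm hK R t ht
      exact sylow_cyclic_of_torus T (hT.syl p hp.out h) T hTcyc (fun x hx _ => hx) P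
    · obtain ⟨A₀, Z, hZcyc, hodd, hT⟩ := ree_quarter_data hm hK R t ht
      refine sylow_cyclic_of_torus A₀ (hT.syl p hp.out h) Z hZcyc (fun x hx hk => hodd x hx ?_) P
      obtain ⟨k, hk⟩ := hk
      rw [hk]
      exact (hp.out.odd_of_ne_two hp2).pow
    · obtain ⟨-, -, -, hord⟩ := ree_ord_six hp.out h h3q
      have hqK : ¬ p ∣ Fintype.card K := by
        rw [hK, ht]
        exact hpq
      have hordK : ∀ i : ℕ, p ∣ Fintype.card K ^ i - 1 → 6 ∣ i := by
        rw [hK, ht]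
        exact hord
      by_cases hbot : (P : Subgroup ↥(twistedG2 K (3 ^ m))) = ⊥
      · rw [hbot]
        exact isCyclic_of_subsingleton
      · have hnt : Nontrivial ↥(P : Subgroup ↥(twistedG2 K (3 ^ m))) :=
          (Subgroup.nontrivial_iff_ne_bot _).mpr hbot
        have hcn : Nontrivial ↥(Subgroup.center ↥(P : Subgroup ↥(twistedG2 K (3 ^ m)))) :=
          IsPGroup.center_nontrivial P.2
        have hcp : IsPGroup p ↥(Subgroup.center ↥(P : Subgroup ↥(twistedG2 K (3 ^ m)))) := P.2.to_subgroup _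
        obtain ⟨k, hk⟩ := IsPGroup.iff_card.mp hcp
        have hk0 : k ≠ 0 := by
          rintro rfl
          rw [pow_zero] at hk
          have hsub := (Nat.card_eq_one_iff_unique.mp hk).1
          exact not_subsingleton _ hsub
        obtain ⟨z, hz⟩ := exists_prime_orderOf_dvd_card'
          (G := ↥(Subgroup.center ↥(P : Subgroup ↥(twistedG2 K (3 ^ m))))) p
          (by rw [hk]; exact dvd_pow_self p hk0)
        obtain ⟨x, hxP, hxo, hxc⟩ : ∃ x : ↥(twistedG2 K (3 ^ m)), x ∈ (P : Subgroup ↥(twistedG2 K (3 ^ m))) ∧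
            orderOf x = p ∧ ∀ u ∈ (P : Subgroup ↥(twistedG2 K (3 ^ m))), u * x = x * u := by
          refine ⟨z.1.1, z.1.2, ?_, ?_⟩
          · rw [Subgroup.orderOf_coe, Subgroup.orderOf_coe]
            exact hz
          · intro u hu
            have h1 := Subgroup.mem_center_iff.mp z.2 ⟨u, hu⟩
            exact congrArg Subtype.val h1
        have hxp : x ^ p = 1 := by
          rw [← hxo]
          exact pow_orderOf_eq_one x
        have hx1 : x ≠ 1 := by
          rintro rfl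
          rw [orderOf_one] at hxo
          exact hp.out.one_lt.ne hxo
        apply isCyclic_of_comm_of_pow_le p (P : Subgroup ↥(twistedG2 K (3 ^ m))) P.2 _ x hxp _
        · intro u hu v hv
          exact ree_seven_cent hm hK R hqK hordK hxp hx1 (hxc u hu) (hxc v hv)
        · intro y hy hyp
          obtain ⟨a, ha⟩ := ree_seven_pow hm hK R hqK hordK hxp hyp hx1 (hxc y hy).symm
          have e : y = (x ^ a)⁻¹ := eq_inv_of_mul_eq_one_right ha
          rw [e]
          exact inv_mem (pow_mem (Subgroup.mem_zpowers x) a)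
  · have hbot : ∀ u : ↥(P : Subgroup ↥(twistedG2 K (3 ^ m))), u = 1 := by
      intro u
      obtain ⟨k, hk⟩ := (IsPGroup.iff_orderOf.mp P.2) u
      rcases Nat.eq_zero_or_pos k with rfl | hkpos
      · rw [pow_zero] at hk
        exact orderOf_eq_one_iff.mp hk
      · exfalso
        apply hpG
        have h1 : orderOf (u : ↥(twistedG2 K (3 ^ m))) ∣ Nat.card ↥(twistedG2 K (3 ^ m)) :=
          orderOf_dvd_natCard _
        rw [Subgroup.orderOf_coe, hk] at h1
        exact (dvd_pow_self p hkpos.ne').trans h1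
    have hsub : Subsingleton ↥(P : Subgroup ↥(twistedG2 K (3 ^ m))) := ⟨fun u v => by rw [hbot u, hbot v]⟩
    exact isCyclic_of_subsingleton

/-- Cyclic subgroups of the same order dividing the order of a torus are conjugate. -/
theorem ree_cyclic_conj (hm : 1 ≤ m) (hK : Fintype.card K = 3 ^ (2 * m + 1)) (d : ℕ)
    (hd : d ∣ (3 ^ (2 * m + 1) - 1) / 2 ∨ d ∣ (3 ^ (2 * m + 1) + 1) / 4 ∨
      d ∣ 3 ^ (2 * m + 1) - 3 ^ (m + 1) + 1 ∨ d ∣ 3 ^ (2 * m + 1) + 3 ^ (m + 1) + 1)
    (A B : Subgroup ↥(twistedG2 K (3 ^ m))) (hA : IsCyclic ↥A) (hB : IsCyclic ↥B)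
    (hAd : Nat.card ↥A = d) (hBd : Nat.card ↥B = d) :
    ∃ g : ↥(twistedG2 K (3 ^ m)), B = A.map (MulAut.conj g).toMonoidHom := by
  obtain ⟨R⟩ := exists_reeData hK
  obtain ⟨t, ht⟩ := ree_q_form m
  have hG := R.card_twisted
  have e81 : 8 * t + 3 - 1 = 8 * t + 2 := by omega
  rw [hK, ht, e81] at hG
  have hfin : Finite ↥(twistedG2 K (3 ^ m)) := Nat.finite_of_card_ne_zero (by rw [hG]; positivity)
  have h3q : 3 ∣ 8 * t + 3 := by
    rw [← ht, pow_succ]
    exact Dvd.intro_left _ rfl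
  by_cases hd1 : d = 1
  · refine ⟨1, ?_⟩
    have hA' : A = ⊥ := Subgroup.card_eq_one.mp (hAd.trans hd1)
    have hB' : B = ⊥ := Subgroup.card_eq_one.mp (hBd.trans hd1)
    rw [hA', hB', Subgroup.map_bot]
  obtain ⟨p, hp, hpd⟩ := Nat.exists_prime_and_dvd hd1
  have hprod : (3 ^ (2 * m + 1) - 3 ^ (m + 1) + 1) * (3 ^ (2 * m + 1) + 3 ^ (m + 1) + 1) =
      64 * t ^ 2 + 40 * t + 7 := by
    have hs2 : 3 ^ (m + 1) * 3 ^ (m + 1) = 3 * 3 ^ (2 * m + 1) := by
      rw [← pow_add, ← pow_succ']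
      congr 1
      omega
    have hsq : 3 ^ (m + 1) ≤ 3 ^ (2 * m + 1) := Nat.pow_le_pow_right (by norm_num) (by omega)
    rw [ht] at hs2 hsq ⊢
    generalize 3 ^ (m + 1) = s at hs2 hsq ⊢
    obtain ⟨a, ha⟩ := Nat.exists_eq_add_of_le hsq
    have e1 : 8 * t + 3 - s + 1 = a + 1 := by omega
    rw [e1]
    have hs2' : (s : ℤ) * s = 3 * (8 * t + 3) := by exact_mod_cast hs2
    have ha' : (8 * (t : ℤ) + 3) = s + a := by exact_mod_cast ha
    have h1 : ((a : ℤ) + 1) * (8 * t + 3 + s + 1) = 64 * t ^ 2 + 40 * t + 7 := by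
      linear_combination (-1 : ℤ) * hs2' - (8 * (t : ℤ) + 3 + s + 1) * ha'
    exact_mod_cast h1
  have hd' : d ∣ 4 * t + 1 ∨ d ∣ 2 * t + 1 ∨ d ∣ 64 * t ^ 2 + 40 * t + 7 := by
    rcases hd with h | h | h | h
    · left
      have e : (3 ^ (2 * m + 1) - 1) / 2 = 4 * t + 1 := by
        rw [ht]
        omega
      rw [e] at h
      exact h
    · right; left
      have e : (3 ^ (2 * m + 1) + 1) / 4 = 2 * t + 1 := by
        rw [ht]
        omega
      rw [e] at h
      exact h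
    · right; right
      rw [← hprod]
      exact Dvd.dvd.mul_right h _
    · right; right
      rw [← hprod]
      exact Dvd.dvd.mul_left h _
  have hr3 : ∀ r : ℕ, r.Prime → r ∣ d → 3 < r := by
    intro r hr hrd
    have h23 : r ≠ 2 ∧ r ≠ 3 := by
      rcases hd' with h | h | h
      · have h1 := hrd.trans h
        constructor
        · rintro rfl
          omega
        · rintro rfl
          omega
      · have h1 := hrd.trans h
        constructor
        · rintro rfl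
          omega
        · rintro rfl
          omega
      · obtain ⟨a, b, -, -⟩ := ree_ord_six hr (hrd.trans h) h3q
        exact ⟨a, b⟩
    have h2le := hr.two_le
    by_contra hle
    have h4 : r = 2 ∨ r = 3 := by omega
    rcases h4 with h4 | h4
    · exact h23.1 h4
    · exact h23.2 h4
  have hsyl : ∀ (r : ℕ) [Fact r.Prime], r ∣ d →
      ∀ P : Sylow r ↥(twistedG2 K (3 ^ m)), IsCyclic ↥(P : Subgroup ↥(twistedG2 K (3 ^ m))) :=
    fun r hrF hrd P => ree_sylow_cyclic hm hK (hr3 r hrF.out hrd) P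
  apply conj_of_cyclic_of_abelian_cent d hsyl hp hpd _ A B hA hB hAd hBd
  intro x hxo c₁ c₂ h₁ h₂
  rcases hd' with h | h | h
  · obtain ⟨T, -, hT⟩ := ree_split_data hm hK R t ht
    exact cent_comm_of_torus hT hp (hpd.trans h) hxo h₁ h₂
  · obtain ⟨A₀, Z, -, -, hT⟩ := ree_quarter_data hm hK R t ht
    exact cent_comm_of_torus hT hp (hpd.trans h) hxo h₁ h₂
  · obtain ⟨-, -, hpq, hord⟩ := ree_ord_six hp (hpd.trans h) h3q
    have hpF : Fact p.Prime := ⟨hp⟩
    have hxp : x ^ p = 1 := by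
      rw [← hxo]
      exact pow_orderOf_eq_one x
    have hx1 : x ≠ 1 := by
      rintro rfl
      rw [orderOf_one] at hxo
      exact hp.one_lt.ne hxo
    exact ree_seven_cent hm hK R (by rw [hK, ht]; exact hpq) (by rw [hK, ht]; exact hord) hxp hx1 h₁ h₂

end ReeSyl

end Cfsg.Agent.Lib.helper44
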