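import Cfsg.Agent.Lib.helper44.ReeCent4
import Cfsg.Agent.Lib.helper44.CentAbs
import Cfsg.Agent.Lib.helper44.Circle
import Cfsg.Agent.S1152
import Cfsg.Agent.S1157

set_option autoImplicit false
set_option maxRecDepth 100000

/-!
# Centralizers of the cyclic subgroups of orders `(q - 1) / 2` and `(q + 1) / 4` of the small Ree groups
-/

namespace Cfsg.Agent.Lib.helper44

open Cfsg Cfsg.Lie Cfsg.Agent.Lib.helper41 Cfsg.Agent.Lib.helper22 Cfsg.Agent.Lib.helper23

section NT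

theorem ree_q_form (m : ℕ) : ∃ t : ℕ, 3 ^ (2 * m + 1) = 8 * t + 3 := by
  have h9 : 9 ^ m % 8 = 1 := by
    rw [Nat.pow_mod]
    norm_num
  have h : 3 ^ (2 * m + 1) = 3 * 9 ^ m := by
    rw [pow_succ, pow_mul]
    norm_num [mul_comm]
  exact ⟨(3 ^ (2 * m + 1) - 3) / 8, by omega⟩

theorem ree_nt_split (t p : ℕ) (hp : p.Prime) (hpN : p ∣ 4 * t + 1) :
    p ≠ 2 ∧ ¬ p ∣ (8 * t + 3) ^ 3 * ((8 * t + 3) ^ 3 + 1) := by
  have hp2 : p ≠ 2 := by
    rintro rfl
    omega
  refine ⟨hp2, ?_⟩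
  have h1 : p ∣ 8 * t + 2 := by
    have e : 8 * t + 2 = 2 * (4 * t + 1) := by ring
    rw [e]
    exact Dvd.dvd.mul_left hpN 2
  intro hdvd
  rcases (Nat.Prime.dvd_mul hp).mp hdvd with h | h
  · have h2 := hp.dvd_of_dvd_pow h
    have h3 := Nat.dvd_sub h2 h1
    have e : 8 * t + 3 - (8 * t + 2) = 1 := by omega
    rw [e] at h3
    exact hp.ne_one (Nat.dvd_one.mp h3)
  · have e : (8 * t + 3) ^ 3 + 1 = (8 * t + 2) * ((8 * t + 3) ^ 2 + (8 * t + 3) + 1) + 2 := by ring
    rw [e] at h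
    have h2 : p ∣ 2 := (Nat.dvd_add_right (Dvd.dvd.mul_right h1 _)).mp h
    exact hp2 ((Nat.prime_dvd_prime_iff_eq hp Nat.prime_two).mp h2)

theorem ree_nt_quarter (t p : ℕ) (hp : p.Prime) (hpN : p ∣ 2 * t + 1) (h3 : ¬ 3 ∣ 8 * t + 4) :
    p ≠ 2 ∧ Nat.Coprime p (8 * t + 3) ∧ Nat.Coprime p (8 * t + 2) ∧
      ¬ p ∣ (8 * t + 3) ^ 3 * (8 * t + 2) * (64 * t ^ 2 + 40 * t + 7) := by
  have hp2 : p ≠ 2 := by
    rintro rfl
    omega
  have h1 : p ∣ 8 * t + 4 := by
    have e : 8 * t + 4 = 4 * (2 * t + 1) := by ring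
    rw [e]
    exact Dvd.dvd.mul_left hpN 4
  have hq : ¬ p ∣ 8 * t + 3 := by
    intro h2
    have h4 := Nat.dvd_sub h1 h2
    have e : 8 * t + 4 - (8 * t + 3) = 1 := by omega
    rw [e] at h4
    exact hp.ne_one (Nat.dvd_one.mp h4)
  have hq1 : ¬ p ∣ 8 * t + 2 := by
    intro h2
    have h4 := Nat.dvd_sub h1 h2
    have e : 8 * t + 4 - (8 * t + 2) = 2 := by omega
    rw [e] at h4
    exact hp2 ((Nat.prime_dvd_prime_iff_eq hp Nat.prime_two).mp h4)
  refine ⟨hp2, (Nat.Prime.coprime_iff_not_dvd hp).mpr hq, (Nat.Prime.coprime_iff_not_dvd hp).mpr hq1, ?_⟩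
  intro hdvd
  rcases (Nat.Prime.dvd_mul hp).mp hdvd with h | h
  · rcases (Nat.Prime.dvd_mul hp).mp h with h' | h'
    · exact hq (hp.dvd_of_dvd_pow h')
    · exact hq1 h'
  · have e : 64 * t ^ 2 + 40 * t + 7 = (8 * t + 4) * (8 * t + 1) + 3 := by ring
    rw [e] at h
    have h2 : p ∣ 3 := (Nat.dvd_add_right (Dvd.dvd.mul_right h1 _)).mp h
    have h4 : p = 3 := (Nat.prime_dvd_prime_iff_eq hp Nat.prime_three).mp h2
    rw [h4] at h1
    exact h3 h1

end NT

section Tori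

variable {K : Type*} [Field K] [Fintype K] {m : ℕ}

/-- A cyclic (abelian) subgroup of order `(q - 1) / 2` of the small Ree group has cyclic centralizer of order
`q - 1`, which is also the centralizer of each of its non-trivial subgroups. -/
theorem ree_split_torus (hm : 1 ≤ m) (hK : Fintype.card K = 3 ^ (2 * m + 1)) (R : ReeData K (3 ^ m))
    (H : Subgroup ↥(twistedG2 K (3 ^ m))) (hH : ∀ x ∈ H, ∀ y ∈ H, x * y = y * x)
    (hcard : Nat.card H = (3 ^ (2 * m + 1) - 1) / 2) :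
    IsCyclic ↥(Subgroup.centralizer (H : Set ↥(twistedG2 K (3 ^ m)))) ∧
    Nat.card ↥(Subgroup.centralizer (H : Set ↥(twistedG2 K (3 ^ m)))) = 3 ^ (2 * m + 1) - 1 ∧
    ∀ A : Subgroup ↥(twistedG2 K (3 ^ m)), A ≤ H → A ≠ ⊥ →
      Subgroup.centralizer (A : Set ↥(twistedG2 K (3 ^ m))) = Subgroup.centralizer (H : Set ↥(twistedG2 K (3 ^ m))) := by
  obtain ⟨t, ht⟩ := ree_q_form m
  have ht3 : 3 ≤ t := by
    have h27 : 3 ^ 3 ≤ 3 ^ (2 * m + 1) := Nat.pow_le_pow_right (by norm_num) (by omega)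
    norm_num at h27
    omega
  have hG := R.card_twisted
  have e81 : 8 * t + 3 - 1 = 8 * t + 2 := by omega
  rw [hK, ht, e81] at hG
  have hfin : Finite ↥(twistedG2 K (3 ^ m)) := Nat.finite_of_card_ne_zero (by rw [hG]; positivity)
  obtain ⟨T, hT⟩ : ∃ T : Subgroup ↥(twistedG2 K (3 ^ m)), T =
      (chevG2.diagonalSubgroup K ⊓ twistedG2 K (3 ^ m)).subgroupOf (twistedG2 K (3 ^ m)) := ⟨_, rfl⟩
  have hTmem : ∀ x : ↥(twistedG2 K (3 ^ m)), x ∈ T ↔
      (x : GL chevG2.Idx K) ∈ chevG2.diagonalSubgroup K ⊓ twistedG2 K (3 ^ m) := by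
    intro x
    rw [hT]
    exact Subgroup.mem_subgroupOf
  have hcyc := R.diag_cyclic
  have eT : ↥T ≃* ↥(chevG2.diagonalSubgroup K ⊓ twistedG2 K (3 ^ m)) := by
    rw [hT]
    exact Subgroup.subgroupOfEquivOfLe inf_le_right
  have hTcyc : IsCyclic ↥T := (MulEquiv.isCyclic eT).mpr hcyc
  have hTcard : Nat.card ↥T = 8 * t + 2 := by
    rw [Nat.card_congr eT.toEquiv, R.card_diag_inf_twisted, hK, ht]
    omega
  have hTcomm : ∀ x ∈ T, ∀ y ∈ T, x * y = y * x := by
    intro x hx y hy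
    have e1 := isMulCommutative_iff.mp (IsCyclic.isMulCommutative (α := ↥T)) ⟨x, hx⟩ ⟨y, hy⟩
    exact congrArg Subtype.val e1
  have hN : (3 ^ (2 * m + 1) - 1) / 2 = 4 * t + 1 := by
    rw [ht]
    omega
  rw [hN] at hcard
  have hcent : ∀ p : ℕ, p.Prime → p ∣ 4 * t + 1 → ∀ t' ∈ T, orderOf t' = p →
      ∀ x : ↥(twistedG2 K (3 ^ m)), x * t' = t' * x → x ∈ T := by
    intro p hp hpN t' ht' hto x hx
    obtain ⟨hp2, -⟩ := ree_nt_split t p hp hpN
    rw [hTmem] at ht' ⊢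
    apply ree_cent_torus R ht' _ x.2 (congrArg Subtype.val hx)
    intro hsq
    have h1 : t' ^ 2 = 1 := by
      apply Subtype.ext
      rw [pow_two]
      exact hsq
    have h2 : orderOf t' ∣ 2 := orderOf_dvd_of_pow_eq_one h1
    rw [hto] at h2
    exact hp2 ((Nat.prime_dvd_prime_iff_eq hp Nat.prime_two).mp h2)
  have hidx : T.index = (8 * t + 3) ^ 3 * ((8 * t + 3) ^ 3 + 1) := by
    have h1 := Subgroup.card_mul_index T
    rw [hTcard, hG] at h1
    apply Nat.eq_of_mul_eq_mul_left (by omega : 0 < 8 * t + 2)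
    rw [h1]
    ring
  have hsyl : ∀ p : ℕ, p.Prime → p ∣ 4 * t + 1 → ¬ p ∣ T.index := by
    intro p hp hpN
    rw [hidx]
    exact (ree_nt_split t p hp hpN).2
  have hmain := fun A hAH hA => cent_eq_conj_of_torus T hTcomm (4 * t + 1) hcent hsyl H hH hcard A hAH hA
  have hHbot : H ≠ ⊥ := by
    rintro rfl
    rw [Subgroup.card_bot] at hcard
    omega
  obtain ⟨g, -, hg⟩ := hmain H le_rfl hHbot
  have hinj : Function.Injective (MulAut.conj g).toMonoidHom := (MulAut.conj g).injective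
  refine ⟨?_, ?_, ?_⟩
  · rw [hg]
    exact (MulEquiv.isCyclic (T.equivMapOfInjective _ hinj)).mp hTcyc
  · rw [hg, Subgroup.card_map_of_injective hinj, hTcard, ht]
    omega
  · intro A hAH hA
    obtain ⟨g', h1, h2⟩ := hmain A hAH hA
    rw [h1, h2]

/-- A cyclic (abelian) subgroup of order `(q + 1) / 4` of the small Ree group has abelian centralizer of order
`q + 1`, which is also the centralizer of each of its non-trivial subgroups. -/
theorem ree_quarter_torus (hm : 1 ≤ m) (hK : Fintype.card K = 3 ^ (2 * m + 1)) (R : ReeData K (3 ^ m))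
    (H : Subgroup ↥(twistedG2 K (3 ^ m))) (hH : ∀ x ∈ H, ∀ y ∈ H, x * y = y * x)
    (hcard : Nat.card H = (3 ^ (2 * m + 1) + 1) / 4) :
    (∀ x ∈ Subgroup.centralizer (H : Set ↥(twistedG2 K (3 ^ m))), ∀ y ∈ Subgroup.centralizer (H : Set ↥(twistedG2 K (3 ^ m))), x * y = y * x) ∧
    Nat.card ↥(Subgroup.centralizer (H : Set ↥(twistedG2 K (3 ^ m)))) = 3 ^ (2 * m + 1) + 1 ∧
    ∀ A : Subgroup ↥(twistedG2 K (3 ^ m)), A ≤ H → A ≠ ⊥ →
      Subgroup.centralizer (A : Set ↥(twistedG2 K (3 ^ m))) = Subgroup.centralizer (H : Set ↥(twistedG2 K (3 ^ m))) := by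
  obtain ⟨t, ht⟩ := ree_q_form m
  have ht3 : 3 ≤ t := by
    have h27 : 3 ^ 3 ≤ 3 ^ (2 * m + 1) := Nat.pow_le_pow_right (by norm_num) (by omega)
    norm_num at h27
    omega
  have hG := R.card_twisted
  have e81 : 8 * t + 3 - 1 = 8 * t + 2 := by omega
  rw [hK, ht, e81] at hG
  have hfin : Finite ↥(twistedG2 K (3 ^ m)) := Nat.finite_of_card_ne_zero (by rw [hG]; positivity)
  have hKt : Fintype.card K = 8 * t + 3 := hK.trans ht
  have h3t : ¬ 3 ∣ 8 * t + 4 := by
    intro h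
    have h1 : 3 ∣ 8 * t + 3 := by
      rw [← ht, pow_succ]
      exact Dvd.intro_left _ rfl
    omega
  have conj_comm' : ∀ (ω y z : ↥(twistedG2 K (3 ^ m))), y * z = z * y →
      (ω⁻¹ * y * ω) * (ω⁻¹ * z * ω) = (ω⁻¹ * z * ω) * (ω⁻¹ * y * ω) := by
    intro ω y z h
    calc (ω⁻¹ * y * ω) * (ω⁻¹ * z * ω) = ω⁻¹ * (y * z) * ω := by group
      _ = ω⁻¹ * (z * y) * ω := by rw [h]
      _ = (ω⁻¹ * z * ω) * (ω⁻¹ * y * ω) := by group
  -- the involution and `φ`
  obtain ⟨a₀, haH, ha1', ha2'⟩ := ree_exists_invol2 R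
  have hcomm := ree_invol_comm' R haH ha1' ha2'
  have hne : ∀ g : Matrix.SpecialLinearGroup (Fin 2) K, a₀ * (ree_phi R) g ≠ 1 := by
    intro g h
    apply ree_invol_not_phi R haH ha1' ha2' g⁻¹
    rw [map_inv]
    exact eq_inv_of_mul_eq_one_left h
  obtain ⟨φG, hφG⟩ : ∃ φG : Matrix.SpecialLinearGroup (Fin 2) K →* ↥(twistedG2 K (3 ^ m)),
      ∀ g, ((φG g : ↥(twistedG2 K (3 ^ m))) : GL chevG2.Idx K) = (ree_phi R) g :=
    ⟨(ree_phi R).codRestrict _ (ree_phi_mem R), fun g => rfl⟩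
  obtain ⟨a, haa⟩ : ∃ a : ↥(twistedG2 K (3 ^ m)), (a : GL chevG2.Idx K) = a₀ :=
    ⟨⟨a₀, (Subgroup.mem_inf.mp haH).2⟩, rfl⟩
  have ha1 : a ≠ 1 := by
    intro h
    apply ha1'
    rw [← haa, h]
    rfl
  have ha2 : a * a = 1 := by
    apply Subtype.ext
    show (a : GL chevG2.Idx K) * (a : GL chevG2.Idx K) = 1
    rw [haa]
    exact ha2'
  have hcommG : ∀ g : Matrix.SpecialLinearGroup (Fin 2) K, a * φG g = φG g * a := by
    intro g
    apply Subtype.ext
    show (a : GL chevG2.Idx K) * (φG g : GL chevG2.Idx K) = (φG g : GL chevG2.Idx K) * (a : GL chevG2.Idx K)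
    rw [haa, hφG]
    exact (hcomm g).eq
  have haH0 : (a : GL chevG2.Idx K) ∈ chevG2.diagonalSubgroup K := by
    rw [haa]
    exact (Subgroup.mem_inf.mp haH).1
  -- the circle subgroup
  have hsqK : ∀ y : K, y * y ≠ -1 := ree_sq_ne_neg_one R
  have h2K : (2 : K) ≠ 0 := by
    intro h
    apply ree_neg_one_ne_one R
    linear_combination (-1 : K) * h
  have hcircle : Nat.card ↥(circleSL K) = 8 * t + 4 := by rw [card_circleSL hsqK h2K, hKt]
  have hidxc : (circleSL K).index = (8 * t + 3) * (8 * t + 2) := by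
    rw [index_circleSL hsqK h2K, hKt, e81]
  have hqzc : (qz : Matrix.SpecialLinearGroup (Fin 2) K) ∈ circleSL K := by
    constructor
    · show (-1 : K) = (-1 : K)⁻¹
      rw [inv_neg_one]
    · show (0 : K) = -0
      rw [neg_zero]
  have hqic : (qi : Matrix.SpecialLinearGroup (Fin 2) K) ∈ circleSL K := by
    constructor
    · rfl
    · show (1 : K) = -(-(1 : K)⁻¹)
      rw [neg_neg, inv_one]
  -- the abelian subgroup `A₀ = ⟨a⟩ φ(circle)`
  obtain ⟨ψ, hψ⟩ : ∃ ψ : ↥(circleSL K) →* ↥(twistedG2 K (3 ^ m)), ∀ s, ψ s = φG s.1 :=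
    ⟨φG.comp (circleSL K).subtype, fun s => rfl⟩
  have hΘex : ∃ Θ : Multiplicative (ZMod 2) × ↥(circleSL K) →* ↥(twistedG2 K (3 ^ m)),
      ∀ i s, Θ (i, s) = invHom a ha2 i * ψ s :=
    ⟨MonoidHom.noncommCoprod (invHom a ha2) ψ (fun i s => by
      show Commute (a ^ _) _
      rw [hψ]
      exact (show Commute a (φG s.1) from hcommG s.1).pow_left _), fun _ _ => rfl⟩
  obtain ⟨Θ, hΘ⟩ := hΘex
  obtain ⟨A₀, hA₀⟩ : ∃ A₀ : Subgroup ↥(twistedG2 K (3 ^ m)), A₀ = Θ.range := ⟨_, rfl⟩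
  have hA₀mem : ∀ x : ↥(twistedG2 K (3 ^ m)), x ∈ A₀ ↔ ∃ g ∈ circleSL K, x = φG g ∨ x = a * φG g := by
    intro x
    rw [hA₀, MonoidHom.mem_range]
    constructor
    · rintro ⟨⟨i, s⟩, rfl⟩
      refine ⟨s.1, s.2, ?_⟩
      rw [hΘ, hψ]
      rcases mulZMod2_cases i with rfl | rfl
      · left
        rw [map_one, one_mul]
      · right
        rw [invHom_gen]
    · rintro ⟨g, hg, rfl | rfl⟩
      · exact ⟨(1, ⟨g, hg⟩), by rw [hΘ, hψ, map_one, one_mul]⟩
      · exact ⟨(Multiplicative.ofAdd 1, ⟨g, hg⟩), by rw [hΘ, hψ, invHom_gen]⟩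
  have hker2 : Nat.card ↥Θ.ker = 2 := by
    have hz : ((1 : Multiplicative (ZMod 2)), (⟨qz, hqzc⟩ : ↥(circleSL K))) ∈ Θ.ker := by
      rw [MonoidHom.mem_ker, hΘ, hψ, map_one, one_mul]
      apply Subtype.ext
      rw [hφG]
      exact ree_phi_center R qz_mem_center
    rw [Nat.card_eq_two_iff]
    refine ⟨1, ⟨_, hz⟩, ?_, ?_⟩
    · intro h
      have h1 : (1 : Matrix.SpecialLinearGroup (Fin 2) K) = qz :=
        congrArg (fun x : ↥Θ.ker => (x.1.2 : Matrix.SpecialLinearGroup (Fin 2) K)) h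
      exact qz_ne_one (ree_neg_one_ne_one R) h1.symm
    · ext ⟨⟨i, s⟩, hx⟩
      simp only [Set.mem_univ, iff_true, Set.mem_insert_iff, Set.mem_singleton_iff]
      rw [MonoidHom.mem_ker, hΘ, hψ] at hx
      rcases mulZMod2_cases i with rfl | rfl
      · rw [map_one, one_mul] at hx
        have h1 : (ree_phi R) s.1 = 1 := by
          rw [← hφG, hx]
          rfl
        rcases sl2_center_cases (ree_phi_ker R h1).1 with h | h
        · left
          apply Subtype.ext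
          exact Prod.ext rfl (Subtype.ext h)
        · right
          apply Subtype.ext
          exact Prod.ext rfl (Subtype.ext h)
      · exfalso
        rw [invHom_gen] at hx
        apply hne s.1
        rw [← haa, ← hφG]
        exact congrArg Subtype.val hx
  have hA₀card : Nat.card ↥A₀ = 8 * t + 4 := by
    have h1 := Subgroup.card_mul_index Θ.ker
    rw [Subgroup.index_ker, hker2, Nat.card_prod, card_mulZMod2, hcircle, ← hA₀] at h1
    omega
  have hA₀comm : ∀ x ∈ A₀, ∀ y ∈ A₀, x * y = y * x := by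
    rw [hA₀]
    rintro x ⟨⟨i, s⟩, rfl⟩ y ⟨⟨j, s'⟩, rfl⟩
    rw [← map_mul, ← map_mul]
    congr 1
    exact Prod.ext (mul_comm i j) (Subtype.ext (circleSL_comm s.2 s'.2))
  -- the centralizer of `a` and of an element of odd order of `φ(circle)`
  have hα₀ : ∀ s₀ ∈ circleSL K, ∀ p : ℕ, Odd p → s₀ ^ p = 1 → s₀ ≠ 1 →
      ∀ x : ↥(twistedG2 K (3 ^ m)), x * a = a * x → x * φG s₀ = φG s₀ * x → x ∈ A₀ := by
    intro s₀ hs₀ p hp hs₀p hs₀1 x hxa hxs
    have hs0 : s₀.val 1 0 ≠ 0 := by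
      intro h0
      have hsq := circleSL_sq_of_zero hs₀ h0
      apply hs₀1
      obtain ⟨j, rfl⟩ := hp
      rw [pow_succ, pow_mul, pow_two, hsq, one_pow, one_mul] at hs₀p
      exact hs₀p
    rw [hA₀mem]
    have hxa' : a₀ * (x : GL chevG2.Idx K) = (x : GL chevG2.Idx K) * a₀ := by
      rw [← haa]
      exact congrArg Subtype.val hxa.symm
    obtain ⟨g, hg⟩ := ree_cent_cases R haH ha1' ha2' x.2 hxa'
    have hxs' : (x : GL chevG2.Idx K) * (ree_phi R) s₀ = (ree_phi R) s₀ * (x : GL chevG2.Idx K) := by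
      rw [← hφG]
      exact congrArg Subtype.val hxs
    have hc : (ree_phi R) g * (ree_phi R) s₀ = (ree_phi R) s₀ * (ree_phi R) g := by
      rcases hg with h | h
      · rw [← h]
        exact hxs'
      · have e1 : (ree_phi R) g = a₀ * (x : GL chevG2.Idx K) := by rw [h, ← mul_assoc, ha2', one_mul]
        rw [e1]
        calc a₀ * (x : GL chevG2.Idx K) * (ree_phi R) s₀
            = a₀ * ((x : GL chevG2.Idx K) * (ree_phi R) s₀) := by rw [mul_assoc]
          _ = a₀ * ((ree_phi R) s₀ * (x : GL chevG2.Idx K)) := by rw [hxs']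
          _ = (a₀ * (ree_phi R) s₀) * (x : GL chevG2.Idx K) := by rw [mul_assoc]
          _ = ((ree_phi R) s₀ * a₀) * (x : GL chevG2.Idx K) := by rw [(hcomm s₀).eq]
          _ = (ree_phi R) s₀ * (a₀ * (x : GL chevG2.Idx K)) := by rw [mul_assoc]
    have hgs := ree_phi_comm_lift R hp hs₀p hc
    refine ⟨g, mem_circleSL_of_commute hs₀ hs0 hgs, ?_⟩
    rcases hg with h | h
    · left
      apply Subtype.ext
      rw [hφG]
      exact h
    · right
      apply Subtype.ext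
      show (x : GL chevG2.Idx K) = (a : GL chevG2.Idx K) * (φG g : GL chevG2.Idx K)
      rw [haa, hφG]
      exact h
  -- all involutions are conjugate
  have hinv : ∀ v : ↥(twistedG2 K (3 ^ m)), v * v = 1 → v ≠ 1 → ∃ γ : ↥(twistedG2 K (3 ^ m)), γ * a * γ⁻¹ = v := by
    intro v hv2 hv1
    have h2 : Fact (Nat.Prime 2) := ⟨Nat.prime_two⟩
    have hzv : IsPGroup 2 ↥(Subgroup.zpowers v) := by
      apply IsPGroup.of_card (n := 1)
      rw [Nat.card_zpowers, pow_one]
      exact orderOf_eq_prime (by rw [pow_two]; exact hv2) hv1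
    have hza : IsPGroup 2 ↥(Subgroup.zpowers a) := by
      apply IsPGroup.of_card (n := 1)
      rw [Nat.card_zpowers, pow_one]
      exact orderOf_eq_prime (by rw [pow_two]; exact ha2) ha1
    obtain ⟨P, hP⟩ := hzv.exists_le_sylow
    obtain ⟨P', hP'⟩ := hza.exists_le_sylow
    obtain ⟨g, hg⟩ := MulAction.exists_smul_eq ↥(twistedG2 K (3 ^ m)) P' P
    have hgaP : g * a * g⁻¹ ∈ (P : Subgroup ↥(twistedG2 K (3 ^ m))) := by
      rw [← hg, Sylow.coe_subgroup_smul, Subgroup.mem_pointwise_smul_iff_inv_smul_mem, MulAut.smul_def,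
        MulAut.conj_inv_apply]
      have e1 : g⁻¹ * (g * a * g⁻¹) * g = a := by group
      rw [e1]
      exact hP' (Subgroup.mem_zpowers a)
    have hvP : v ∈ (P : Subgroup ↥(twistedG2 K (3 ^ m))) := hP (Subgroup.mem_zpowers v)
    obtain ⟨h8, -⟩ := (Cfsg.Agent.S1152.result hK a haH0 ha1 ha2).2 P
    obtain ⟨hC, hN⟩ := Cfsg.Agent.S1157.result hm hK P
    have hga1 : g * a * g⁻¹ ≠ 1 := by
      intro h
      apply ha1
      calc a = g⁻¹ * (g * a * g⁻¹) * g := by group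
        _ = 1 := by rw [h]; group
    obtain ⟨g', hg'⟩ := conj_of_normalizer_168 (P : Subgroup ↥(twistedG2 K (3 ^ m))) h8 hC hN hgaP hvP hga1 hv1
    refine ⟨g' * g, ?_⟩
    rw [← hg']
    group
  -- the involution `b = φ(i)`
  obtain ⟨b, hb⟩ : ∃ b : ↥(twistedG2 K (3 ^ m)), b = φG qi := ⟨_, rfl⟩
  have hbA : b ∈ A₀ := (hA₀mem b).mpr ⟨qi, hqic, Or.inl hb⟩
  have haA : a ∈ A₀ := (hA₀mem a).mpr ⟨1, one_mem _, Or.inr (by rw [map_one, mul_one])⟩
  have hb2 : b * b = 1 := by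
    rw [hb, ← map_mul, qi_mul_qi]
    apply Subtype.ext
    rw [hφG]
    exact ree_phi_center R qz_mem_center
  have hb1 : b ≠ 1 := by
    intro h
    have h1 : (ree_phi R) qi = 1 := by
      rw [← hφG, ← hb, h]
      rfl
    have h2 := (ree_phi_ker R h1).2
    exact one_ne_zero (show (1 : K) = 0 from h2)
  have hab : a ≠ b := by
    intro h
    apply ree_invol_not_phi R haH ha1' ha2' qi
    rw [← haa, ← hφG, ← hb, h]
  have hba : a * b = b * a := by
    rw [hb]
    exact hcommG qi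
  have hab2 : (a * b) * (a * b) = 1 := by
    calc a * b * (a * b) = a * (b * a) * b := by group
      _ = a * (a * b) * b := by rw [hba]
      _ = (a * a) * (b * b) := by group
      _ = 1 := by rw [ha2, hb2, one_mul]
  have hab1 : a * b ≠ 1 := by
    intro h
    apply hab
    calc a = a * (b * b) := by rw [hb2, mul_one]
      _ = (a * b) * b := by rw [mul_assoc]
      _ = b := by rw [h, one_mul]
  -- centralizers of the elements of prime order of `A₀`
  have hcent : ∀ p : ℕ, p.Prime → p ∣ 2 * t + 1 → ∀ t' ∈ A₀, orderOf t' = p →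
      ∀ x : ↥(twistedG2 K (3 ^ m)), x * t' = t' * x → x ∈ A₀ := by
    intro p hp hpN t' ht'A hto
    obtain ⟨hp2, hpq, hpq1, -⟩ := ree_nt_quarter t p hp hpN h3t
    have hpodd : Odd p := hp.odd_of_ne_two hp2
    have hpF : Fact p.Prime := ⟨hp⟩
    have htp : t' ^ p = 1 := by
      rw [← hto]
      exact pow_orderOf_eq_one t'
    have ht1 : t' ≠ 1 := by
      rintro rfl
      rw [orderOf_one] at hto
      exact hp.ne_one hto.symm
    have hα : ∀ v : ↥(twistedG2 K (3 ^ m)), v = a ∨ v = b ∨ v = a * b → ∀ x : ↥(twistedG2 K (3 ^ m)), x * t' = t' * x → x * v = v * x → x ∈ A₀ := by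
      intro v hv x hxt hxv
      have hvA : v ∈ A₀ := by
        rcases hv with rfl | rfl | rfl
        · exact haA
        · exact hbA
        · exact mul_mem haA hbA
      have hv2 : v * v = 1 := by
        rcases hv with rfl | rfl | rfl
        · exact ha2
        · exact hb2
        · exact hab2
      have hv1 : v ≠ 1 := by
        rcases hv with rfl | rfl | rfl
        · exact ha1
        · exact hb1
        · exact hab1
      obtain ⟨γ, hγ⟩ := hinv v hv2 hv1
      have hvt : v * t' = t' * v := hA₀comm v hvA t' ht'A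
      have haγ : a = γ⁻¹ * v * γ := by
        rw [← hγ]
        group
      have ht₁a : a * (γ⁻¹ * t' * γ) = (γ⁻¹ * t' * γ) * a := by
        rw [haγ]
        exact conj_comm' γ v t' hvt
      have ht₁p : (γ⁻¹ * t' * γ) ^ p = 1 := by
        have e2 := conj_pow (a := γ⁻¹) (b := t') (i := p)
        rw [inv_inv] at e2
        rw [e2, htp]
        group
      have ht₁a' : a₀ * ((γ⁻¹ * t' * γ : ↥(twistedG2 K (3 ^ m))) : GL chevG2.Idx K) =
          ((γ⁻¹ * t' * γ : ↥(twistedG2 K (3 ^ m))) : GL chevG2.Idx K) * a₀ := by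
        rw [← haa]
        exact congrArg Subtype.val ht₁a
      obtain ⟨s', hs', hs'p⟩ := ree_lift_odd R haH ha1' ha2' (γ⁻¹ * t' * γ).2 ht₁a' hpodd
        (congrArg Subtype.val ht₁p)
      have hs'G : γ⁻¹ * t' * γ = φG s' := by
        apply Subtype.ext
        rw [hφG]
        exact hs'
      have hs'1 : s' ≠ 1 := by
        rintro rfl
        rw [map_one] at hs'G
        apply ht1
        calc t' = γ * (γ⁻¹ * t' * γ) * γ⁻¹ := by group
          _ = 1 := by rw [hs'G]; group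
      have hs'o : orderOf s' = p := orderOf_eq_prime hs'p hs'1
      have hidx' : ¬ p ∣ (circleSL K).index := by
        rw [hidxc]
        intro hdvd
        rcases (Nat.Prime.dvd_mul hp).mp hdvd with h | h
        · exact (Nat.Prime.coprime_iff_not_dvd hp).mp hpq h
        · exact (Nat.Prime.coprime_iff_not_dvd hp).mp hpq1 h
      obtain ⟨h, hh⟩ := exists_conj_mem_of_prime_order (circleSL K) hp hidx' hs'o
      have hs₀p : (h⁻¹ * s' * h) ^ p = 1 := by
        have e2 := conj_pow (a := h⁻¹) (b := s') (i := p)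
        rw [inv_inv] at e2
        rw [e2, hs'p]
        group
      have hs₀1 : h⁻¹ * s' * h ≠ 1 := by
        intro h1
        apply hs'1
        calc s' = h * (h⁻¹ * s' * h) * h⁻¹ := by group
          _ = 1 := by rw [h1]; group
      have hωa : a = (γ * φG h)⁻¹ * v * (γ * φG h) := by
        rw [← hγ]
        calc a = (φG h)⁻¹ * (φG h * a) := by group
          _ = (φG h)⁻¹ * (a * φG h) := by rw [hcommG h]
          _ = (γ * φG h)⁻¹ * (γ * a * γ⁻¹) * (γ * φG h) := by group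
      have hωt : φG (h⁻¹ * s' * h) = (γ * φG h)⁻¹ * t' * (γ * φG h) := by
        rw [map_mul, map_mul, map_inv, ← hs'G]
        group
      have key : ∀ y : ↥(twistedG2 K (3 ^ m)), y * t' = t' * y → y * v = v * y →
          (γ * φG h)⁻¹ * y * (γ * φG h) ∈ A₀ := by
        intro y hyt hyv
        apply hα₀ (h⁻¹ * s' * h) hh p hpodd hs₀p hs₀1
        · have e3 := conj_comm' (γ * φG h) y v hyv
          rw [← hωa] at e3
          exact e3
        · rw [hωt]
          exact conj_comm' (γ * φG h) y t' hyt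
      have hle : A₀ ≤ A₀.map (MulAut.conj (γ * φG h)).toMonoidHom := by
        intro y hy
        refine Subgroup.mem_map.mpr ⟨(γ * φG h)⁻¹ * y * (γ * φG h),
          key y (hA₀comm y hy t' ht'A) (hA₀comm y hy v hvA), ?_⟩
        show (γ * φG h) * ((γ * φG h)⁻¹ * y * (γ * φG h)) * (γ * φG h)⁻¹ = y
        group
      have heq : A₀ = A₀.map (MulAut.conj (γ * φG h)).toMonoidHom :=
        Subgroup.eq_of_le_of_card_ge hle
          (by rw [Subgroup.card_map_of_injective (MulAut.conj (γ * φG h)).injective])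
      rw [heq]
      refine Subgroup.mem_map.mpr ⟨(γ * φG h)⁻¹ * x * (γ * φG h), key x hxt hxv, ?_⟩
      show (γ * φG h) * ((γ * φG h)⁻¹ * x * (γ * φG h)) * (γ * φG h)⁻¹ = x
      group
    have hβ : ∀ y : ↥(twistedG2 K (3 ^ m)), y * y * y = 1 → y * t' = t' * y → y = 1 := by
      intro y hy3 hyt
      by_contra hy1
      apply ht1
      apply Subtype.ext
      exact ree_three_cent R hK y.2 t'.2 (congrArg Subtype.val hy3) (fun h => hy1 (Subtype.ext h))
        (congrArg Subtype.val hyt) (k := p) (congrArg Subtype.val htp) (by rw [hKt]; exact hpq)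
        (by rw [hKt, e81]; exact hpq1)
    exact cent_le_of_four A₀ hA₀comm (2 * t + 1) ⟨t, rfl⟩ (by rw [hA₀card]; ring) t' a b ht'A haA hbA
      ha1 hb1 hab ha2 hb2 hα hβ
  have hidx : A₀.index = (8 * t + 3) ^ 3 * (8 * t + 2) * (64 * t ^ 2 + 40 * t + 7) := by
    have h1 := Subgroup.card_mul_index A₀
    rw [hA₀card, hG] at h1
    apply Nat.eq_of_mul_eq_mul_left (by omega : 0 < 8 * t + 4)
    rw [h1]
    ring
  have hsyl : ∀ p : ℕ, p.Prime → p ∣ 2 * t + 1 → ¬ p ∣ A₀.index := by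
    intro p hp hpN
    rw [hidx]
    exact (ree_nt_quarter t p hp hpN h3t).2.2.2
  have hN : (3 ^ (2 * m + 1) + 1) / 4 = 2 * t + 1 := by
    rw [ht]
    omega
  rw [hN] at hcard
  have hmain := fun A hAH hA => cent_eq_conj_of_torus A₀ hA₀comm (2 * t + 1) hcent hsyl H hH hcard A hAH hA
  have hHbot : H ≠ ⊥ := by
    rintro rfl
    rw [Subgroup.card_bot] at hcard
    omega
  obtain ⟨g, -, hg⟩ := hmain H le_rfl hHbot
  have hinj : Function.Injective (MulAut.conj g).toMonoidHom := (MulAut.conj g).injective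
  refine ⟨?_, ?_, ?_⟩
  · rw [hg]
    rintro x ⟨x', hx', rfl⟩ y ⟨y', hy', rfl⟩
    rw [← map_mul, ← map_mul, hA₀comm x' hx' y' hy']
  · rw [hg, Subgroup.card_map_of_injective hinj, hA₀card, ht]
  · intro A hAH hA
    obtain ⟨g', h1, h2⟩ := hmain A hAH hA
    rw [h1, h2]

end Tori

end Cfsg.Agent.Lib.helper44
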