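import Cfsg.Agent.Lib.helper23.ChevReeSyl

set_option autoImplicit false
set_option maxRecDepth 100000

/-!
# The action of the torus `H¹` on `U¹` in the twisted group of type `G₂` (small Ree groups)

Built on helper23's `ChevRee*` files.  A torus element with parameters `c` scales the coordinate of the
root `r` by the character `torusChar c r`; for an element of `H¹` the value `μ` at the highest root determines
all characters, and an element of `H¹` commuting with a non-identity element of `U¹` has `μ ^ 2 = 1`.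
-/

namespace Cfsg.Agent.Lib.helper44

open Cfsg Cfsg.Lie Cfsg.Agent.Lib.helper41 Cfsg.Agent.Lib.helper22 Cfsg.Agent.Lib.helper23

section Torus

variable {K : Type*} [Field K]

/-- A torus element moves through a word of root elements, scaling the parameters by the characters. -/
theorem torusMat_mul_word (c : Fin chevG2.rank → K) (hc : ∀ i, c i ≠ 0) (w : List (ℕ × K))
    (hw : ∀ p ∈ w, p.1 < 12) :
    torusMat chevG2 K c * chevG2.wordMat K w =
      chevG2.wordMat K (w.map fun p => (p.1, torusChar chevG2 K c p.1 * p.2)) * torusMat chevG2 K c := by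
  induction w with
  | nil => rw [List.map_nil, Cfsg.Agent.Lib.helper22.wordMat_nil, mul_one, one_mul]
  | cons p w ih =>
    rw [List.map_cons, Cfsg.Agent.Lib.helper22.wordMat_cons, Cfsg.Agent.Lib.helper22.wordMat_cons, ← mul_assoc,
      torusMat_mul_x c hc p.1 (hw p List.mem_cons_self) p.2, mul_assoc,
      ih fun q hq => hw q (List.mem_cons_of_mem _ hq), ← mul_assoc]

/-- The same for the ordered product over the positive roots. -/
theorem torusMat_mul_std (c : Fin chevG2.rank → K) (hc : ∀ i, c i ≠ 0) (a : ℕ → K) :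
    torusMat chevG2 K c * chevG2.wordMat K (chevG2.posRoots.map fun r => (r, a r)) =
      chevG2.wordMat K (chevG2.posRoots.map fun r => (r, torusChar chevG2 K c r * a r)) *
        torusMat chevG2 K c := by
  rw [torusMat_mul_word c hc, List.map_map]
  · rfl
  · intro p hp
    rw [posRoots_G2] at hp
    simp only [List.map_cons, List.map_nil, List.mem_cons, List.not_mem_nil, or_false] at hp
    rcases hp with rfl | rfl | rfl | rfl | rfl | rfl <;> norm_num

/-- A torus element `h` commutes with the element of `U` with coordinates `a` iff its characters fix the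
coordinates. -/
theorem commute_torus_iff {h x : GL chevG2.Idx K} (c : Fin chevG2.rank → K) (hc : ∀ i, c i ≠ 0)
    (hv : (h : Matrix chevG2.Idx chevG2.Idx K) = torusMat chevG2 K c) (hxU : x ∈ chevG2.posUnipotent K)
    (a : ℕ → K) (ha : ∀ r, ¬ chevG2.IsPosRoot r → a r = 0)
    (hxa : (x : Matrix chevG2.Idx chevG2.Idx K) =
      chevG2.wordMat K (chevG2.posRoots.map fun r => (r, a r))) :
    h * x = x * h ↔ ∀ r, torusChar chevG2 K c r * a r = a r := by
  obtain ⟨η, I⟩ := bnInput_all chevG2 (by simp) K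
  have key : (h : Matrix chevG2.Idx chevG2.Idx K) * (x : Matrix chevG2.Idx chevG2.Idx K) =
      chevG2.wordMat K (chevG2.posRoots.map fun r => (r, torusChar chevG2 K c r * a r)) *
        (h : Matrix chevG2.Idx chevG2.Idx K) := by
    rw [hv, hxa, torusMat_mul_std c hc]
  constructor
  · intro hcomm
    have e1 : chevG2.wordMat K (chevG2.posRoots.map fun r => (r, torusChar chevG2 K c r * a r)) =
        (x : Matrix chevG2.Idx chevG2.Idx K) := by
      have e2 := congrArg (fun g : GL chevG2.Idx K => (g : Matrix chevG2.Idx chevG2.Idx K)) hcomm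
      simp only [Units.val_mul] at e2
      rw [key] at e2
      have e3 := congrArg (fun M => M * ((h⁻¹ : GL chevG2.Idx K) : Matrix chevG2.Idx chevG2.Idx K)) e2
      simp only [mul_assoc, gl_mul_inv_val, mul_one] at e3
      exact e3
    obtain ⟨a₀, -, huniq⟩ := (posUnipotent_ordProd I.hSD' I.hU I.hcomm).1 x hxU
    have h1 := huniq a ⟨ha, hxa⟩
    have h2 := huniq (fun r => torusChar chevG2 K c r * a r)
      ⟨fun r hr => by show torusChar chevG2 K c r * a r = 0; rw [ha r hr, mul_zero], e1.symm⟩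
    intro r
    exact congrFun (h2.trans h1.symm) r
  · intro hfix
    apply Units.ext
    rw [Units.val_mul, Units.val_mul, key]
    have e1 : (fun r => (r, torusChar chevG2 K c r * a r)) = fun r => (r, a r) := by
      funext r
      rw [hfix r]
    rw [e1, ← hxa]

theorem cartan_G2_vals :
    cartanZ chevG2 0 6 = -3 ∧ cartanZ chevG2 1 6 = 2 ∧ cartanZ chevG2 0 7 = 2 ∧ cartanZ chevG2 1 7 = -1 ∧
    cartanZ chevG2 0 8 = -1 ∧ cartanZ chevG2 1 8 = 1 ∧ cartanZ chevG2 0 9 = 1 ∧ cartanZ chevG2 1 9 = 0 ∧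
    cartanZ chevG2 0 10 = 3 ∧ cartanZ chevG2 1 10 = -1 ∧ cartanZ chevG2 0 11 = 0 ∧ cartanZ chevG2 1 11 = 1 := by
  decide

end Torus

section Ree

variable {K : Type*} [Field K] {e : ℕ} (R : ReeData K e)

include R

/-- The parameters of an element of `H` fixed by `σ`: `c₀ = c₁ ^ θ`, and `c₁` is the entry at the highest
root. -/
theorem ree_torus_param {h : GL chevG2.Idx K} (hh : h ∈ chevG2.diagonalSubgroup K) (hfix : h ∈ R.fix) :
    ∃ c : Fin chevG2.rank → K, (∀ i, c i ≠ 0) ∧
      (h : Matrix chevG2.Idx chevG2.Idx K) = torusMat chevG2 K c ∧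
      c ⟨0, by decide⟩ = c ⟨1, by decide⟩ ^ e ∧
      (h : Matrix chevG2.Idx chevG2.Idx K) (Sum.inr ⟨11, by decide⟩) (Sum.inr ⟨11, by decide⟩) =
        c ⟨1, by decide⟩ := by
  have I := bnInput_G2 K
  obtain ⟨c, hc, hv⟩ := diagonalSubgroup_le_torus I.hSD' hh
  have h2 := R.fix_torus hfix c hc hv 11 (by decide)
  have r1 : isoRtG2.getD 11 0 = 9 := by decide
  have r2 : isoLmG2.getD 11 1 = 1 := by decide
  rw [r1, r2, torusChar_9, torusChar_11, one_pow, one_pow, mul_one, mul_one, pow_one] at h2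
  exact ⟨c, hc, hv, h2, by rw [hv, torusMat_entry, torusChar_11]⟩

/-- The coordinates of a generator of `U¹` in the standard order of the positive roots. -/
theorem ree_std (t u v : K) :
    chevG2.wordMat K (reeWordU e t u v) = chevG2.wordMat K (chevG2.posRoots.map fun r =>
      (r, coord6 t (t ^ e) (u ^ e) (v ^ e) ((t ^ e) ^ 3 * t + u) ((t ^ e) ^ 3 * t ^ 2 + v) r)) := by
  have := R.char3
  rw [wordMat_coord6, wordMat_reeU, (posSys K).ree_eq_std]
  rfl

theorem ree_zero : chevG2.wordMat K (reeWordU e (0 : K) 0 0) = 1 := by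
  have I := bnInput_G2 K
  apply Cfsg.Agent.Lib.helper22.wordMat_eq_one I.hSD'
  intro p hp
  unfold reeWordU at hp
  simp only [List.mem_cons, List.not_mem_nil, or_false] at hp
  have he := R.e_ne_zero
  rcases hp with rfl | rfl | rfl | rfl | rfl | rfl <;> simp [he]

/-- An element of `H¹` commuting with a generator `U(t, u, v)`: its entry `μ` at the highest root is `1`
if `t ≠ 0` or `v ≠ 0`, and `μ ^ 2 = 1` if `u ≠ 0`. -/
theorem ree_commute_imp {h x : GL chevG2.Idx K} (hh : h ∈ chevG2.diagonalSubgroup K) (hfix : h ∈ R.fix)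
    {t u v : K} (hx : (x : Matrix chevG2.Idx chevG2.Idx K) = chevG2.wordMat K (reeWordU e t u v))
    (hcomm : h * x = x * h) :
    (t ≠ 0 ∨ v ≠ 0 →
      (h : Matrix chevG2.Idx chevG2.Idx K) (Sum.inr ⟨11, by decide⟩) (Sum.inr ⟨11, by decide⟩) = 1) ∧
    (u ≠ 0 →
      (h : Matrix chevG2.Idx chevG2.Idx K) (Sum.inr ⟨11, by decide⟩) (Sum.inr ⟨11, by decide⟩) *
        (h : Matrix chevG2.Idx chevG2.Idx K) (Sum.inr ⟨11, by decide⟩) (Sum.inr ⟨11, by decide⟩) = 1) := by
  obtain ⟨c, hc, hv, hc0, hμ⟩ := ree_torus_param R hh hfix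
  have hxU := reeU_mem_pos R t u v x hx
  have hxa := hx.trans (ree_std R t u v)
  have hall := (commute_torus_iff c hc hv hxU _ (fun r hr => coord6_zero _ _ _ _ _ _ r hr) hxa).mp hcomm
  obtain ⟨k6a, k6b, -, -, k8a, k8b, -, -, -, -, -, -⟩ := cartan_G2_vals
  rw [hμ]
  obtain ⟨μ, hc1⟩ : ∃ μ : K, c ⟨1, by decide⟩ = μ := ⟨_, rfl⟩
  rw [hc1] at hc0 ⊢
  have hμ0 : μ ≠ 0 := by
    rw [← hc1]
    exact hc _
  have hφ := R.hφ μ
  have h6 : torusChar chevG2 K c 6 * t = t := hall 6
  have h8 : torusChar chevG2 K c 8 * u ^ e = u ^ e := hall 8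
  have h9 : torusChar chevG2 K c 9 * v ^ e = v ^ e := hall 9
  rw [torusChar_two, k6a, k6b, hc0, hc1] at h6
  rw [torusChar_two, k8a, k8b, hc0, hc1] at h8
  rw [torusChar_9, hc0] at h9
  have hμe0 : μ ^ e ≠ 0 := pow_ne_zero _ hμ0
  constructor
  · rintro (ht | hv0)
    · have e0 : (μ ^ e) ^ (-3 : ℤ) * μ ^ (2 : ℤ) = 1 := by
        have := mul_right_cancel₀ ht (h6.trans (one_mul t).symm)
        exact this
      have e1 : μ ^ 2 = (μ ^ e) ^ 3 := by
        rw [zpow_neg, zpow_ofNat, zpow_ofNat] at e0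
        field_simp at e0
        exact e0
      have e2 : (μ ^ e) ^ 2 = μ := by
        calc (μ ^ e) ^ 2 = (μ ^ 2) ^ e := by rw [← pow_mul, ← pow_mul, mul_comm]
          _ = ((μ ^ e) ^ 3) ^ e := by rw [e1]
          _ = ((μ ^ e) ^ e) ^ 3 := R.pow_e_cube _
          _ = μ := hφ
      have e3 : μ * μ = μ * μ ^ e := by
        calc μ * μ = μ ^ 2 := (sq μ).symm
          _ = (μ ^ e) ^ 3 := e1
          _ = (μ ^ e) ^ 2 * μ ^ e := pow_succ _ 2
          _ = μ * μ ^ e := by rw [e2]
      have e4 : μ = μ ^ e := mul_left_cancel₀ hμ0 e3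
      rw [← e4] at e2
      have e5 : μ * μ = μ * 1 := by rw [mul_one, ← sq]; exact e2
      exact mul_left_cancel₀ hμ0 e5
    · have hve : v ^ e ≠ 0 := pow_ne_zero _ hv0
      have e0 : μ ^ e = 1 := mul_right_cancel₀ hve (h9.trans (one_mul _).symm)
      exact R.pow_e_inj (e0.trans (one_pow e).symm)
  · intro hu
    have hue : u ^ e ≠ 0 := pow_ne_zero _ hu
    have e0 : (μ ^ e) ^ (-1 : ℤ) * μ ^ (1 : ℤ) = 1 := mul_right_cancel₀ hue (h8.trans (one_mul _).symm)
    have e1 : μ = μ ^ e := by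
      rw [zpow_neg, zpow_one, zpow_one] at e0
      field_simp at e0
      exact e0
    rw [← e1, ← e1] at hφ
    have e2 : μ * (μ * μ) = μ * 1 := by rw [mul_one]; nth_rewrite 4 [← hφ]; ring
    exact mul_left_cancel₀ hμ0 e2

/-- An element of `H¹` whose entry `μ` at the highest root has `μ ^ 2 = 1` commutes with `U(0, u, 0)`. -/
theorem ree_commute_of_sq {h x : GL chevG2.Idx K} (hh : h ∈ chevG2.diagonalSubgroup K) (hfix : h ∈ R.fix)
    {u : K} (hx : (x : Matrix chevG2.Idx chevG2.Idx K) = chevG2.wordMat K (reeWordU e 0 u 0))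
    (hsq : (h : Matrix chevG2.Idx chevG2.Idx K) (Sum.inr ⟨11, by decide⟩) (Sum.inr ⟨11, by decide⟩) *
        (h : Matrix chevG2.Idx chevG2.Idx K) (Sum.inr ⟨11, by decide⟩) (Sum.inr ⟨11, by decide⟩) = 1) :
    h * x = x * h := by
  obtain ⟨c, hc, hv, hc0, hμ⟩ := ree_torus_param R hh hfix
  have hxU := reeU_mem_pos R 0 u 0 x hx
  have hxa := hx.trans (ree_std R 0 u 0)
  refine (commute_torus_iff c hc hv hxU _ (fun r hr => coord6_zero _ _ _ _ _ _ r hr) hxa).mpr ?_
  obtain ⟨-, -, -, -, k8a, k8b, -, -, k10a, k10b, -, -⟩ := cartan_G2_vals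
  rw [hμ] at hsq
  obtain ⟨μ, hc1⟩ : ∃ μ : K, c ⟨1, by decide⟩ = μ := ⟨_, rfl⟩
  rw [hc1] at hc0 hsq
  have hμ0 : μ ≠ 0 := by
    rintro rfl
    rw [mul_zero] at hsq
    exact zero_ne_one hsq
  have hμe : μ ^ e = μ := by
    obtain ⟨j, hj⟩ := R.hodd
    rw [hj, pow_succ, pow_mul, sq, hsq, one_pow, one_mul]
  have he := R.e_ne_zero
  intro r
  unfold coord6
  split_ifs with h1 h2 h3 h4 h5 h6
  · rw [mul_zero]
  · rw [zero_pow he, mul_zero]
  · subst h3
    rw [torusChar_two, k8a, k8b, hc0, hc1, hμe, zpow_neg, zpow_one, inv_mul_cancel₀ hμ0, one_mul]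
  · rw [zero_pow he, mul_zero]
  · subst h5
    rw [torusChar_two, k10a, k10b, hc0, hc1, hμe, zpow_neg, zpow_one, zpow_ofNat, zero_pow he,
      zero_pow (by norm_num : 3 ≠ 0), zero_mul, zero_add]
    have : μ ^ 3 * μ⁻¹ = 1 := by
      have e1 : μ ^ 3 = μ * μ * μ := by ring
      rw [e1, hsq, one_mul, mul_inv_cancel₀ hμ0]
    rw [this, one_mul]
  · rw [zero_pow he, zero_pow (by norm_num : 3 ≠ 0), zero_mul, zero_add, mul_zero]
  · rw [mul_zero]

/-- An element of `H¹` commuting with a non-identity element of `U¹` has square `1`. -/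
theorem ree_sq_eq_one_of_commute {h x : GL chevG2.Idx K}
    (hh : h ∈ chevG2.diagonalSubgroup K ⊓ twistedG2 K e)
    (hx : x ∈ chevG2.posUnipotent K ⊓ twistedG2 K e) (hx1 : x ≠ 1) (hcomm : h * x = x * h) : h * h = 1 := by
  have hh1 := Subgroup.mem_inf.mp hh
  have hfix := R.twisted_le_fix hh1.2
  obtain ⟨t, u, v, hxw⟩ := (R.pos_inf_twisted x).mp hx
  obtain ⟨hA, hB⟩ := ree_commute_imp R hh1.1 hfix hxw hcomm
  have hμμ : (h : Matrix chevG2.Idx chevG2.Idx K) (Sum.inr ⟨11, by decide⟩) (Sum.inr ⟨11, by decide⟩) *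
      (h : Matrix chevG2.Idx chevG2.Idx K) (Sum.inr ⟨11, by decide⟩) (Sum.inr ⟨11, by decide⟩) = 1 := by
    by_cases ht : t ≠ 0 ∨ v ≠ 0
    · rw [hA ht, mul_one]
    · by_cases hu : u ≠ 0
      · exact hB hu
      · exfalso
        apply hx1
        have ht0 : t = 0 := by
          by_contra h0
          exact ht (Or.inl h0)
        have hv0 : v = 0 := by
          by_contra h0
          exact ht (Or.inr h0)
        have hu0 : u = 0 := by
          by_contra h0
          exact hu h0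
        apply Units.ext
        rw [hxw, ht0, hu0, hv0, Units.val_one]
        exact ree_zero R
  apply R.fix_diag_inj (mul_mem hh1.1 hh1.1) (mul_mem hfix hfix) (one_mem _) (one_mem _)
  rw [diag_entry_mul hh1.1 hh1.1, hμμ, Units.val_one, Matrix.one_apply_eq]

/-- An element of `H¹` commuting with `U(0, 0, v)`, `v ≠ 0`, is trivial. -/
theorem ree_eq_one_of_commute {h x : GL chevG2.Idx K}
    (hh : h ∈ chevG2.diagonalSubgroup K ⊓ twistedG2 K e) {t u v : K} (hv0 : v ≠ 0)
    (hx : (x : Matrix chevG2.Idx chevG2.Idx K) = chevG2.wordMat K (reeWordU e t u v))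
    (hcomm : h * x = x * h) : h = 1 := by
  have hh1 := Subgroup.mem_inf.mp hh
  have hfix := R.twisted_le_fix hh1.2
  obtain ⟨hA, -⟩ := ree_commute_imp R hh1.1 hfix hx hcomm
  apply R.fix_diag_inj hh1.1 hfix (one_mem _) (one_mem _)
  rw [hA (Or.inr hv0), Units.val_one, Matrix.one_apply_eq]

/-- The involution of `H¹`: it commutes with every `U(0, u, 0)`. -/
theorem ree_exists_invol : ∃ h : GL chevG2.Idx K, h ∈ chevG2.diagonalSubgroup K ⊓ twistedG2 K e ∧
    h ≠ 1 ∧ ∀ (x : GL chevG2.Idx K) (u : K),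
      (x : Matrix chevG2.Idx chevG2.Idx K) = chevG2.wordMat K (reeWordU e 0 u 0) → h * x = x * h := by
  obtain ⟨h, hH, hΓ, hent⟩ := R.exists_diag_entry (-1) (neg_ne_zero.mpr one_ne_zero)
  refine ⟨h, Subgroup.mem_inf.mpr ⟨hH, hΓ⟩, ?_, fun x u hx => ?_⟩
  · rintro rfl
    rw [Units.val_one, Matrix.one_apply_eq] at hent
    have := R.char3
    have h2 : ((2 : ℕ) : K) = 0 := by
      have : (1 : K) + 1 = 0 := by nth_rewrite 1 [hent]; ring
      rw [← this]
      norm_num
    have h3 := (CharP.cast_eq_zero_iff K 3 2).mp h2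
    omega
  · apply ree_commute_of_sq R hH (R.twisted_le_fix hΓ) hx
    rw [hent]
    ring

end Ree

end Cfsg.Agent.Lib.helper44
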