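import Mathlib
import Cfsg.Agent.Lib.helper44.Norm168

set_option autoImplicit false

/-!
# Counting lemmas for Ward's analysis of the small Ree groups (abstract part)

Elementary counting tools: pairs with constant fibres, splitting a subtype by a predicate, transport of
counts under conjugation, and elements with two coprime exponents.
-/

namespace Cfsg.Agent.Lib.helper44

section Tools

open Classical in
/-- Counting pairs by the first coordinate when the fibres have constant size on a set and are empty
outside of it. -/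
theorem card_pairs_fiber {α β : Type*} [Finite α] [Finite β] (R : α → β → Prop) (S : Set α) (n : ℕ)
    (hin : ∀ a ∈ S, Nat.card {b : β // R a b} = n) (hout : ∀ a, a ∉ S → ∀ b, ¬ R a b) :
    Nat.card {p : α × β // R p.1 p.2} = Nat.card ↥S * n := by
  have : Fintype α := Fintype.ofFinite α
  rw [Nat.card_congr (Equiv.subtypeProdEquivSigmaSubtype R), Nat.card_sigma,
    ← Finset.sum_filter_add_sum_filter_not Finset.univ (fun a => a ∈ S)]
  have h1 : ∑ a ∈ Finset.univ.filter (fun a => a ∈ S), Nat.card {b : β // R a b} =
      (Finset.univ.filter (fun a => a ∈ S)).card * n := by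
    rw [Finset.sum_congr rfl (fun a ha => hin a (Finset.mem_filter.mp ha).2), Finset.sum_const, smul_eq_mul]
  have h2 : ∑ a ∈ Finset.univ.filter (fun a => ¬ a ∈ S), Nat.card {b : β // R a b} = 0 := by
    apply Finset.sum_eq_zero
    intro a ha
    have : IsEmpty {b : β // R a b} := ⟨fun b => hout a (Finset.mem_filter.mp ha).2 b.1 b.2⟩
    exact Nat.card_of_isEmpty
  rw [h1, h2, add_zero, Nat.card_eq_fintype_card, Fintype.card_subtype]

/-- The same count, by the second coordinate. -/
theorem card_pairs_fiber' {α β : Type*} [Finite α] [Finite β] (R : α → β → Prop) (S : Set β) (n : ℕ)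
    (hin : ∀ b ∈ S, Nat.card {a : α // R a b} = n) (hout : ∀ b, b ∉ S → ∀ a, ¬ R a b) :
    Nat.card {p : α × β // R p.1 p.2} = Nat.card ↥S * n := by
  rw [← card_pairs_fiber (fun b a => R a b) S n hin hout]
  exact Nat.card_congr ((Equiv.prodComm α β).subtypeEquiv (fun p => Iff.rfl))

open Classical in
/-- Splitting a finite subtype along a predicate. -/
theorem card_split_and {α : Type*} [Finite α] (p q : α → Prop) :
    Nat.card {x : α // p x} = Nat.card {x : α // p x ∧ q x} + Nat.card {x : α // p x ∧ ¬ q x} := by
  have : Fintype α := Fintype.ofFinite α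
  rw [Nat.card_eq_fintype_card, Nat.card_eq_fintype_card, Nat.card_eq_fintype_card, Fintype.card_subtype,
    Fintype.card_subtype, Fintype.card_subtype, ← Finset.filter_filter, ← Finset.filter_filter,
    Finset.card_filter_add_card_filter_not]

/-- Subtypes with equivalent predicates have the same cardinality. -/
theorem card_congr_iff {α : Type*} {p q : α → Prop} (h : ∀ x, p x ↔ q x) :
    Nat.card {x : α // p x} = Nat.card {x : α // q x} :=
  Nat.card_congr (Equiv.subtypeEquivRight h)

variable {G : Type*} [Group G]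

/-- Conjugation transports counts. -/
theorem card_conj_transport (c : G) (p q : G → Prop) (h : ∀ g, p (c * g * c⁻¹) ↔ q g) :
    Nat.card {g : G // p g} = Nat.card {g : G // q g} := by
  symm
  refine Nat.card_congr ⟨fun g => ⟨c * g.1 * c⁻¹, (h g.1).mpr g.2⟩,
    fun g => ⟨c⁻¹ * g.1 * c, (h _).mp (by
      have e : c * (c⁻¹ * g.1 * c) * c⁻¹ = g.1 := by group
      rw [e]
      exact g.2)⟩, fun g => ?_, fun g => ?_⟩
  · apply Subtype.ext
    show c⁻¹ * (c * g.1 * c⁻¹) * c = g.1
    group
  · apply Subtype.ext
    show c * (c⁻¹ * g.1 * c) * c⁻¹ = g.1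
    group

theorem orderOf_conj' (c g : G) : orderOf (c * g * c⁻¹) = orderOf g := by
  have h := (MulAut.conj c).orderOf_eq g
  rwa [MulAut.conj_apply] at h

theorem conj_pow' (c g : G) (n : ℕ) : (c * g * c⁻¹) ^ n = c * g ^ n * c⁻¹ := by
  have h := map_pow (MulAut.conj c) g n
  rw [MulAut.conj_apply, MulAut.conj_apply] at h
  exact h.symm

/-- An element killed by two coprime exponents is trivial. -/
theorem eq_one_of_pow_coprime {g : G} {m n : ℕ} (hm : g ^ m = 1) (hn : g ^ n = 1) (h : Nat.Coprime m n) :
    g = 1 := by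
  have h1 : orderOf g ∣ Nat.gcd m n := Nat.dvd_gcd (orderOf_dvd_of_pow_eq_one hm) (orderOf_dvd_of_pow_eq_one hn)
  rw [h, Nat.dvd_one] at h1
  exact orderOf_eq_one_iff.mp h1

theorem odd_orderOf_of_pow {g : G} {n : ℕ} (hn : Odd n) (h : g ^ n = 1) : Odd (orderOf g) :=
  Odd.of_dvd_nat hn (orderOf_dvd_of_pow_eq_one h)

end Tools

end Cfsg.Agent.Lib.helper44
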