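import Mathlib
import Cfsg.Agent.Lib.helper44.WardA

set_option autoImplicit false

/-!
# Ward's counting argument (abstract form)

A finite group `G` with one class of involutions, an involution `a` whose centralizer is `L ∪ aL` for a
subgroup `L` whose elements have order dividing `3`, `4t+1` or `4t+2`: the elements of `G` are counted by
type, and the number of elements of order dividing `q² - q + 1` (`q = 8t+3`) is obtained.
-/

namespace Cfsg.Agent.Lib.helper44

section WardB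

variable {G : Type*} [Group G]

/-- The hypotheses on the involution `a` and the subgroup `L`. -/
structure WardData (t : ℕ) (a : G) (L : Subgroup G) : Prop where
  ha1 : a ≠ 1
  ha2 : a * a = 1
  conj : ∀ z : G, z ≠ 1 → z * z = 1 → ∃ c : G, c * a * c⁻¹ = z
  cent : ∀ g : G, g * a = a * g ↔ g ∈ L ∨ a * g ∈ L
  notMem : a ∉ L
  cases3 : ∀ l ∈ L, l ^ 3 = 1 ∨ l ^ (4 * t + 1) = 1 ∨ l ^ (4 * t + 2) = 1

omit [Group G] in
theorem card_eq_one_subtype (x : G) : Nat.card {l : G // l = x} = 1 :=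
  Nat.card_eq_one_iff_unique.mpr ⟨⟨fun a b => Subtype.ext (a.2.trans b.2.symm)⟩, ⟨⟨x, rfl⟩⟩⟩

theorem card_pow_eq_one_split [Finite G] (L : Subgroup G) (k : ℕ) :
    Nat.card {l : G // l ∈ L ∧ l ^ k = 1} = Nat.card {l : G // l ∈ L ∧ l ≠ 1 ∧ l ^ k = 1} + 1 := by
  rw [card_split_and (fun l : G => l ∈ L ∧ l ^ k = 1) (fun l => l = 1), add_comm]
  congr 1
  · exact card_congr_iff (fun l => ⟨fun h => ⟨h.1.1, h.2, h.1.2⟩, fun h => ⟨⟨h.1, h.2.2⟩, h.2.1⟩⟩)
  · rw [← card_eq_one_subtype (1 : G)]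
    exact card_congr_iff (fun l => ⟨fun h => h.2, fun h => ⟨⟨by rw [h]; exact L.one_mem, by rw [h, one_pow]⟩, h⟩⟩)

/-- Elements of odd order divisible by 3 are 3-elements, when elements of order 3 commute with no element of
order prime to 6. -/
theorem three_elt_iff [Finite G]
    (h3cent : ∀ y g : G, y ≠ 1 → y ^ 3 = 1 → y * g = g * y → Nat.Coprime (orderOf g) 6 → g = 1) (g : G) :
    ((g ≠ 1 ∧ ¬ Even (orderOf g)) ∧ 3 ∣ orderOf g) ↔ (g ≠ 1 ∧ ∃ k : ℕ, g ^ (3 ^ k) = 1) := by
  constructor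
  · rintro ⟨⟨hg1, hodd⟩, h3⟩
    refine ⟨hg1, ?_⟩
    have ho0 : orderOf g ≠ 0 := (orderOf_pos g).ne'
    obtain ⟨k, n', hn', ho⟩ := Nat.exists_eq_pow_mul_and_not_dvd ho0 3 (by norm_num)
    have hk : k ≠ 0 := by
      rintro rfl
      rw [pow_zero, one_mul] at ho
      rw [ho] at h3
      exact hn' h3
    have hn0 : n' ≠ 0 := by
      rintro rfl
      exact hn' (dvd_zero 3)
    have hodd' : Odd (orderOf g) := Nat.not_even_iff_odd.mp hodd
    have hn'odd : Odd n' := Odd.of_dvd_nat hodd' ⟨3 ^ k, by rw [ho, mul_comm]⟩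
    have hord : orderOf (g ^ 3 ^ k) = n' := by
      rw [orderOf_pow_of_dvd (pow_ne_zero k (by norm_num)) ⟨n', ho⟩, ho,
        Nat.mul_div_cancel_left _ (pow_pos (by norm_num) k)]
    have hcop : Nat.Coprime (orderOf (g ^ 3 ^ k)) 6 := by
      rw [hord]
      exact Nat.Coprime.mul_right (Nat.coprime_two_right.mpr hn'odd)
        ((Nat.Prime.coprime_iff_not_dvd Nat.prime_three).mpr hn').symm
    have hy1 : g ^ (3 ^ (k - 1) * n') ≠ 1 := by
      apply pow_ne_one_of_lt_orderOf
      · exact Nat.mul_ne_zero (pow_ne_zero _ (by norm_num)) hn0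
      · rw [ho]
        apply Nat.mul_lt_mul_of_pos_right _ (Nat.pos_of_ne_zero hn0)
        exact Nat.pow_lt_pow_right (by norm_num) (by omega)
    have hy3 : (g ^ (3 ^ (k - 1) * n')) ^ 3 = 1 := by
      rw [← pow_mul]
      have e : 3 ^ (k - 1) * n' * 3 = orderOf g := by
        rw [ho]
        obtain ⟨j, rfl⟩ := Nat.exists_eq_succ_of_ne_zero hk
        rw [Nat.succ_sub_one, pow_succ]
        ring
      rw [e, pow_orderOf_eq_one]
    exact ⟨k, h3cent _ _ hy1 hy3 ((Commute.refl g).pow_pow _ _).eq hcop⟩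
  · rintro ⟨hg1, k, hk⟩
    obtain ⟨j, -, hj⟩ := (Nat.dvd_prime_pow Nat.prime_three).mp (orderOf_dvd_of_pow_eq_one hk)
    have hj0 : j ≠ 0 := by
      rintro rfl
      rw [pow_zero] at hj
      exact hg1 (orderOf_eq_one_iff.mp hj)
    refine ⟨⟨hg1, ?_⟩, ?_⟩
    · rw [hj, Nat.not_even_iff_odd]
      exact Odd.pow (by decide)
    · rw [hj]
      exact dvd_pow_self 3 hj0

namespace WardData

variable {t : ℕ} {a : G} {L : Subgroup G} (W : WardData t a L)
include W

theorem comm_of_mem {l : G} (hl : l ∈ L) : l * a = a * l := (W.cent l).mpr (Or.inl hl)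

theorem orderOf_a : orderOf a = 2 := orderOf_eq_prime (by rw [pow_two]; exact W.ha2) W.ha1

theorem a_pow_odd {k : ℕ} (hk : Odd k) : a ^ k = a := by
  obtain ⟨j, rfl⟩ := hk
  rw [pow_succ, pow_mul, pow_two, W.ha2, one_pow, one_mul]

theorem a_pow_even {k : ℕ} (hk : Even k) : a ^ k = 1 := by
  obtain ⟨j, rfl⟩ := hk
  rw [← two_mul, pow_mul, pow_two, W.ha2, one_pow]

theorem mul_pow_a {l : G} (hl : l ∈ L) (k : ℕ) : (a * l) ^ k = a ^ k * l ^ k :=
  Commute.mul_pow (show Commute a l from (W.comm_of_mem hl).symm) k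

/-- An element of odd order commuting with `a` lies in `L`. -/
theorem mem_of_comm_of_pow {g : G} (hc : g * a = a * g) {k : ℕ} (hk : Odd k) (hg : g ^ k = 1) : g ∈ L := by
  rcases (W.cent g).mp hc with h | h
  · exact h
  · exfalso
    have e : g = a * (a * g) := by rw [← mul_assoc, W.ha2, one_mul]
    have h1 : (a * (a * g)) ^ k = a * (a * g) ^ k := by rw [W.mul_pow_a h, W.a_pow_odd hk]
    rw [← e, hg] at h1
    apply W.notMem
    have h2 : a = ((a * g) ^ k)⁻¹ := eq_inv_of_mul_eq_one_left h1.symm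
    rw [h2]
    exact L.inv_mem (L.pow_mem h k)

/-- The elements of even order whose involution is `a` correspond to the elements of odd order of `L`. -/
theorem card_fiber_a :
    Nat.card {g : G // Even (orderOf g) ∧ g ^ (orderOf g / 2) = a} =
      Nat.card {l : G // l ∈ L ∧ Odd (orderOf l)} := by
  have key : ∀ g : G, Even (orderOf g) → g ^ (orderOf g / 2) = a → a * g ∈ L ∧ Odd (orderOf (a * g)) := by
    intro g hev hpow
    have hc : g * a = a * g := by
      rw [← hpow]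
      exact (pow_mul_comm' _ _).symm
    have hgL : g ∉ L := by
      intro h
      apply W.notMem
      rw [← hpow]
      exact L.pow_mem h _
    have hl : a * g ∈ L := by
      rcases (W.cent g).mp hc with h | h
      · exact absurd h hgL
      · exact h
    refine ⟨hl, ?_⟩
    have e : g = a * (a * g) := by rw [← mul_assoc, W.ha2, one_mul]
    have h1 : a ^ (orderOf g / 2) * (a * g) ^ (orderOf g / 2) = a := by
      rw [← W.mul_pow_a hl, ← e]
      exact hpow
    rcases Nat.even_or_odd (orderOf g / 2) with h2 | h2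
    · exfalso
      rw [W.a_pow_even h2, one_mul] at h1
      apply W.notMem
      rw [← h1]
      exact L.pow_mem hl _
    · rw [W.a_pow_odd h2] at h1
      exact odd_orderOf_of_pow h2 (mul_eq_left.mp h1)
  refine Nat.card_congr ⟨fun g => ⟨a * g.1, key g.1 g.2.1 g.2.2⟩, fun l => ⟨a * l.1, ?_⟩, fun g => ?_, fun l => ?_⟩
  · obtain ⟨hl, hodd⟩ := l.2
    have hco : Nat.Coprime (orderOf a) (orderOf l.1) := by
      rw [W.orderOf_a]
      exact Nat.coprime_two_left.mpr hodd
    have ho : orderOf (a * l.1) = 2 * orderOf l.1 := by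
      rw [(show Commute a l.1 from (W.comm_of_mem hl).symm).orderOf_mul_eq_mul_orderOf_of_coprime hco,
        W.orderOf_a]
    refine ⟨by rw [ho]; exact even_two_mul _, ?_⟩
    rw [ho, Nat.mul_div_cancel_left _ (by norm_num : 0 < 2), W.mul_pow_a hl, pow_orderOf_eq_one, mul_one,
      W.a_pow_odd hodd]
  · apply Subtype.ext
    show a * (a * g.1) = g.1
    rw [← mul_assoc, W.ha2, one_mul]
  · apply Subtype.ext
    show a * (a * l.1) = l.1
    rw [← mul_assoc, W.ha2, one_mul]

/-- The elements of odd order of `L`. -/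
theorem card_odd_L [Finite G] (ht3 : 3 ∣ t) :
    Nat.card {l : G // l ∈ L ∧ Odd (orderOf l)} =
      Nat.card {l : G // l ∈ L ∧ l ^ 3 = 1} + Nat.card {l : G // l ∈ L ∧ l ≠ 1 ∧ l ^ (4 * t + 1) = 1} +
        Nat.card {l : G // l ∈ L ∧ l ≠ 1 ∧ l ^ (2 * t + 1) = 1} := by
  have c3a : Nat.Coprime 3 (4 * t + 1) := (Nat.Prime.coprime_iff_not_dvd Nat.prime_three).mpr (by omega)
  have c3b : Nat.Coprime 3 (2 * t + 1) := (Nat.Prime.coprime_iff_not_dvd Nat.prime_three).mpr (by omega)
  have cab : Nat.Coprime (4 * t + 1) (2 * t + 1) := by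
    apply Nat.isCoprime_iff_coprime.mp
    exact ⟨-1, 2, by push_cast; ring⟩
  have hoA : Odd (4 * t + 1) := ⟨2 * t, by ring⟩
  have hoB : Odd (2 * t + 1) := ⟨t, rfl⟩
  rw [card_split_and (fun l : G => l ∈ L ∧ Odd (orderOf l)) (fun l => l ^ 3 = 1),
    card_split_and (fun l : G => (l ∈ L ∧ Odd (orderOf l)) ∧ ¬ l ^ 3 = 1) (fun l => l ^ (4 * t + 1) = 1),
    ← add_assoc]
  congr 1
  · congr 1
    · exact card_congr_iff (fun l => ⟨fun h => ⟨h.1.1, h.2⟩,
        fun h => ⟨⟨h.1, odd_orderOf_of_pow (by decide) h.2⟩, h.2⟩⟩)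
    · refine card_congr_iff (fun l => ⟨fun h => ⟨h.1.1.1, ?_, h.2⟩, fun h => ⟨⟨⟨h.1, odd_orderOf_of_pow hoA h.2.2⟩, ?_⟩, h.2.2⟩⟩)
      · rintro rfl
        exact h.1.2 (one_pow 3)
      · intro h3
        exact h.2.1 (eq_one_of_pow_coprime h3 h.2.2 c3a)
  · refine card_congr_iff (fun l => ⟨fun h => ?_, fun h => ⟨⟨⟨h.1, odd_orderOf_of_pow hoB h.2.2⟩, ?_⟩, ?_⟩⟩)
    · obtain ⟨⟨⟨hl, hodd⟩, h3⟩, hA⟩ := h
      refine ⟨hl, ?_, ?_⟩
      · rintro rfl
        exact h3 (one_pow 3)
      · rcases W.cases3 l hl with h | h | h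
        · exact absurd h h3
        · exact absurd h hA
        · have h1 : orderOf l ∣ 2 * (2 * t + 1) := by
            have := orderOf_dvd_of_pow_eq_one h
            rwa [show 4 * t + 2 = 2 * (2 * t + 1) by ring] at this
          have h2 : orderOf l ∣ 2 * t + 1 :=
            (Nat.Coprime.dvd_mul_left (Nat.coprime_two_right.mpr hodd)).mp h1
          exact orderOf_dvd_iff_pow_eq_one.mp h2
    · intro h3
      exact h.2.1 (eq_one_of_pow_coprime h3 h.2.2 c3b)
    · intro hA
      exact h.2.1 (eq_one_of_pow_coprime hA h.2.2 cab)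

/-- The number of involutions. -/
theorem card_invol [Finite G] :
    Nat.card {z : G // z ≠ 1 ∧ z * z = 1} * (2 * Nat.card L) = Nat.card G := by
  have h := card_conjOrb (⊤ : Subgroup G) a
  rw [top_inf_eq, Subgroup.card_top] at h
  have h1 : Nat.card {z : G // z ≠ 1 ∧ z * z = 1} = (conjOrb (⊤ : Subgroup G) a).ncard := by
    rw [← Nat.card_coe_set_eq]
    refine card_congr_iff (fun z => ⟨fun hz => ?_, fun hz => ?_⟩)
    · obtain ⟨c, hc⟩ := W.conj z hz.1 hz.2
      exact ⟨c, Subgroup.mem_top c, hc⟩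
    · obtain ⟨c, -, rfl⟩ := hz
      refine ⟨fun h0 => W.ha1 (conj_eq_one_iff.mp h0), ?_⟩
      rw [conj_mul, W.ha2]
      group
  have h2 : Nat.card ↥(Subgroup.centralizer ({a} : Set G)) = 2 * Nat.card L := by
    have e1 : Nat.card ↥(Subgroup.centralizer ({a} : Set G)) = Nat.card {g : G // g * a = a * g} :=
      card_congr_iff (fun g => Subgroup.mem_centralizer_singleton_iff)
    rw [e1, card_split_and (fun g : G => g * a = a * g) (fun g => g ∈ L), two_mul]
    congr 1
    · exact card_congr_iff (fun g => ⟨fun h => h.2, fun h => ⟨W.comm_of_mem h, h⟩⟩)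
    · have e2 : Nat.card {g : G // g * a = a * g ∧ ¬ g ∈ L} = Nat.card {g : G // a * g ∈ L} := by
        refine card_congr_iff (fun g => ⟨fun h => ?_, fun h => ⟨(W.cent g).mpr (Or.inr h), ?_⟩⟩)
        · rcases (W.cent g).mp h.1 with h' | h'
          · exact absurd h' h.2
          · exact h'
        · intro hg
          apply W.notMem
          have e : a = a * g * g⁻¹ := by group
          rw [e]
          exact L.mul_mem h (L.inv_mem hg)
      rw [e2]
      exact Nat.card_congr ((Equiv.mulLeft a).subtypeEquiv (fun g => Iff.rfl))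
  rw [h1, ← h2]
  exact h

/-- The number of elements of even order. -/
theorem card_even [Finite G] :
    Nat.card {g : G // Even (orderOf g)} =
      Nat.card {z : G // z ≠ 1 ∧ z * z = 1} * Nat.card {l : G // l ∈ L ∧ Odd (orderOf l)} := by
  have h1 := card_pairs_fiber' (fun z g : G => Even (orderOf g) ∧ g ^ (orderOf g / 2) = z)
    {g : G | Even (orderOf g)} 1 (by
      intro g hg
      exact Nat.card_eq_one_iff_unique.mpr ⟨⟨fun z₁ z₂ => Subtype.ext (z₁.2.2.symm.trans z₂.2.2)⟩,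
        ⟨⟨g ^ (orderOf g / 2), hg, rfl⟩⟩⟩) (fun g hg z h => hg h.1)
  have h2 := card_pairs_fiber (fun z g : G => Even (orderOf g) ∧ g ^ (orderOf g / 2) = z)
    {z : G | z ≠ 1 ∧ z * z = 1} (Nat.card {l : G // l ∈ L ∧ Odd (orderOf l)}) (by
      intro z hz
      obtain ⟨c, rfl⟩ := W.conj z hz.1 hz.2
      rw [← W.card_fiber_a]
      apply card_conj_transport c
      intro g
      rw [orderOf_conj', conj_pow', mul_left_inj, mul_right_inj]) (by
      rintro z hz g ⟨hev, rfl⟩
      apply hz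
      have hpos := orderOf_pos g
      obtain ⟨j, hj⟩ := hev
      have e : orderOf g / 2 = j := by omega
      refine ⟨pow_ne_one_of_lt_orderOf (by omega) (by omega), ?_⟩
      rw [e, ← pow_add, ← hj, pow_orderOf_eq_one])
  rw [mul_one] at h1
  exact h1.symm.trans h2

/-- Double counting of commuting pairs (involution, element of odd order `k`). -/
theorem card_comm_class [Finite G] {k : ℕ} (hk : Odd k) (f : ℕ)
    (hf : ∀ g : G, g ≠ 1 → g ^ k = 1 → Nat.card {z : G // z ≠ 1 ∧ z * z = 1 ∧ z * g = g * z} = f) :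
    Nat.card {g : G // g ≠ 1 ∧ g ^ k = 1} * f =
      Nat.card {z : G // z ≠ 1 ∧ z * z = 1} * Nat.card {l : G // l ∈ L ∧ l ≠ 1 ∧ l ^ k = 1} := by
  have h1 := card_pairs_fiber' (fun z g : G => (z ≠ 1 ∧ z * z = 1 ∧ z * g = g * z) ∧ (g ≠ 1 ∧ g ^ k = 1))
    {g : G | g ≠ 1 ∧ g ^ k = 1} f (by
      intro g hg
      rw [← hf g hg.1 hg.2]
      exact card_congr_iff (fun z => and_iff_left hg)) (fun g hg z h => hg h.2)
  have h2 := card_pairs_fiber (fun z g : G => (z ≠ 1 ∧ z * z = 1 ∧ z * g = g * z) ∧ (g ≠ 1 ∧ g ^ k = 1))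
    {z : G | z ≠ 1 ∧ z * z = 1} (Nat.card {l : G // l ∈ L ∧ l ≠ 1 ∧ l ^ k = 1}) (by
      intro z hz
      obtain ⟨c, rfl⟩ := W.conj z hz.1 hz.2
      have e1 : Nat.card {g : G // (c * a * c⁻¹ ≠ 1 ∧ c * a * c⁻¹ * (c * a * c⁻¹) = 1 ∧
          c * a * c⁻¹ * g = g * (c * a * c⁻¹)) ∧ (g ≠ 1 ∧ g ^ k = 1)} =
          Nat.card {g : G // a * g = g * a ∧ (g ≠ 1 ∧ g ^ k = 1)} := by
        apply card_conj_transport c
        intro g
        constructor
        · rintro ⟨⟨-, -, h3⟩, h4, h5⟩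
          refine ⟨?_, fun h0 => h4 (by rw [h0]; group), ?_⟩
          · have e : c * (a * g) * c⁻¹ = c * (g * a) * c⁻¹ := by
              rw [← conj_mul, ← conj_mul]
              exact h3
            exact mul_left_cancel (mul_right_cancel e)
          · rw [conj_pow'] at h5
            exact conj_eq_one_iff.mp h5
        · rintro ⟨h3, h4, h5⟩
          refine ⟨⟨hz.1, hz.2, ?_⟩, fun h0 => h4 (conj_eq_one_iff.mp h0), ?_⟩
          · rw [conj_mul, conj_mul, h3]
          · rw [conj_pow', h5]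
            group
      rw [e1]
      exact card_congr_iff (fun g => ⟨fun h => ⟨W.mem_of_comm_of_pow h.1.symm hk h.2.2, h.2⟩,
        fun h => ⟨(W.comm_of_mem h.1).symm, h.2⟩⟩)) (fun z hz g h => hz ⟨h.1.1, h.1.2.1⟩)
  exact h1.symm.trans h2

end WardData

end WardB

end Cfsg.Agent.Lib.helper44
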