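import Mathlib
import Cfsg.Agent.Lib.helper44.WardB

set_option autoImplicit false

/-!
# Ward's counting argument: the number of elements of order dividing `q² - q + 1`
-/

namespace Cfsg.Agent.Lib.helper44

section WardC

variable {G : Type*} [Group G] [Finite G]

theorem ward_coprime_facts (t : ℕ) (ht3 : 3 ∣ t) :
    Odd (4 * t + 1) ∧ Odd (2 * t + 1) ∧ Odd (64 * t ^ 2 + 40 * t + 7) ∧
    ¬ 3 ∣ 4 * t + 1 ∧ ¬ 3 ∣ 2 * t + 1 ∧ ¬ 3 ∣ 64 * t ^ 2 + 40 * t + 7 ∧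
    Nat.Coprime (4 * t + 1) (2 * t + 1) ∧ Nat.Coprime (64 * t ^ 2 + 40 * t + 7) (4 * t + 1) ∧
    Nat.Coprime (64 * t ^ 2 + 40 * t + 7) (2 * t + 1) := by
  obtain ⟨j, rfl⟩ := ht3
  refine ⟨⟨2 * (3 * j), by ring⟩, ⟨3 * j, rfl⟩, ⟨32 * (3 * j) ^ 2 + 20 * (3 * j) + 3, by ring⟩, by omega, by omega, ?_, ?_, ?_, ?_⟩
  · intro h
    have e : 64 * (3 * j) ^ 2 + 40 * (3 * j) + 7 = 3 * (192 * j ^ 2 + 40 * j + 2) + 1 := by ring
    omega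
  · apply Nat.isCoprime_iff_coprime.mp
    exact ⟨-1, 2, by push_cast; ring⟩
  · apply Nat.isCoprime_iff_coprime.mp
    exact ⟨1, -(16 * (3 * j) + 6), by push_cast; ring⟩
  · apply Nat.isCoprime_iff_coprime.mp
    refine ⟨-(2 * j), 192 * j ^ 2 + 8 * j + 1, by push_cast; ring⟩

/-- **Ward's count.** -/
theorem WardData.count {t : ℕ} {a : G} {L : Subgroup G} (W : WardData t a L) (ht3 : 3 ∣ t)
    (hG : Nat.card G = (8 * t + 3) ^ 3 * ((8 * t + 3) ^ 3 + 1) * (8 * t + 2))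
    (hLcard : 2 * Nat.card L = (8 * t + 3) * (8 * t + 2) * (8 * t + 4))
    (hN1 : Nat.card {l : G // l ∈ L ∧ l ^ 3 = 1} = (8 * t + 3) ^ 2)
    (hN2 : Nat.card {l : G // l ∈ L ∧ l ^ (4 * t + 1) = 1} = 1 + (8 * t + 3) * (2 * t + 1) * (8 * t))
    (hN3 : Nat.card {l : G // l ∈ L ∧ l ^ (2 * t + 1) = 1} = 1 + (8 * t + 3) * (4 * t + 1) * (2 * t))
    (h3count : Nat.card {g : G // g ≠ 1 ∧ ∃ k : ℕ, g ^ (3 ^ k) = 1} + 1 = (8 * t + 3) ^ 6)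
    (h3cent : ∀ y g : G, y ≠ 1 → y ^ 3 = 1 → y * g = g * y → Nat.Coprime (orderOf g) 6 → g = 1)
    (hH1 : ∀ g : G, g ≠ 1 → g ^ (4 * t + 1) = 1 →
      Nat.card {z : G // z ≠ 1 ∧ z * z = 1 ∧ z * g = g * z} = 1)
    (hA3 : ∀ g : G, g ≠ 1 → g ^ (2 * t + 1) = 1 →
      Nat.card {z : G // z ≠ 1 ∧ z * z = 1 ∧ z * g = g * z} = 3)
    (hX : ∀ g : G, g ≠ 1 → Nat.Coprime (orderOf g) 6 →
      g ^ (4 * t + 1) = 1 ∨ g ^ (2 * t + 1) = 1 ∨ g ^ (64 * t ^ 2 + 40 * t + 7) = 1) :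
    3 * Nat.card {g : G // g ≠ 1 ∧ g ^ (64 * t ^ 2 + 40 * t + 7) = 1} =
        (8 * t + 3) ^ 4 * ((8 * t + 2) * (8 * t + 4)) * (8 * t + 1) ∧
    Nat.card {g : G // g ≠ 1 ∧ g ^ (4 * t + 1) = 1} =
        (8 * t + 3) ^ 2 * (64 * t ^ 2 + 40 * t + 7) * ((8 * t + 3) * (2 * t + 1) * (8 * t)) ∧
    3 * Nat.card {g : G // g ≠ 1 ∧ g ^ (2 * t + 1) = 1} =
        (8 * t + 3) ^ 2 * (64 * t ^ 2 + 40 * t + 7) * ((8 * t + 3) * (4 * t + 1) * (2 * t)) := by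
  obtain ⟨hoA, hoB, hoP, h3A, h3B, h3P, cAB, cPA, cPB⟩ := ward_coprime_facts t ht3
  -- the number of involutions
  have hinv : Nat.card {z : G // z ≠ 1 ∧ z * z = 1} = (8 * t + 3) ^ 2 * (64 * t ^ 2 + 40 * t + 7) := by
    have h := W.card_invol
    rw [hLcard, hG] at h
    apply Nat.eq_of_mul_eq_mul_right (show 0 < (8 * t + 3) * (8 * t + 2) * (8 * t + 4) by positivity)
    rw [h]
    ring
  -- the classes of `L`
  have hn2 := card_pow_eq_one_split L (4 * t + 1)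
  have hn3 := card_pow_eq_one_split L (2 * t + 1)
  rw [hN2] at hn2
  rw [hN3] at hn3
  have hn2' : Nat.card {l : G // l ∈ L ∧ l ≠ 1 ∧ l ^ (4 * t + 1) = 1} = (8 * t + 3) * (2 * t + 1) * (8 * t) := by
    omega
  have hn3' : Nat.card {l : G // l ∈ L ∧ l ≠ 1 ∧ l ^ (2 * t + 1) = 1} = (8 * t + 3) * (4 * t + 1) * (2 * t) := by
    omega
  have hodd := W.card_odd_L ht3
  rw [hN1, hn2', hn3'] at hodd
  have hEv := W.card_even
  rw [hinv, hodd] at hEv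
  have hH := W.card_comm_class hoA 1 hH1
  rw [mul_one, hinv, hn2'] at hH
  have hA := W.card_comm_class hoB 3 hA3
  rw [hinv, hn3'] at hA
  -- the partition
  have p1 := card_split_and (fun _ : G => True) (fun g => g = 1)
  have p2 := card_split_and (fun g : G => True ∧ ¬ g = 1) (fun g => Even (orderOf g))
  have p3 := card_split_and (fun g : G => (True ∧ ¬ g = 1) ∧ ¬ Even (orderOf g)) (fun g => 3 ∣ orderOf g)
  have p4 := card_split_and (fun g : G => ((True ∧ ¬ g = 1) ∧ ¬ Even (orderOf g)) ∧ ¬ 3 ∣ orderOf g)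
    (fun g => g ^ (4 * t + 1) = 1)
  have p5 := card_split_and (fun g : G => (((True ∧ ¬ g = 1) ∧ ¬ Even (orderOf g)) ∧ ¬ 3 ∣ orderOf g) ∧
    ¬ g ^ (4 * t + 1) = 1) (fun g => g ^ (2 * t + 1) = 1)
  have q0 : Nat.card {g : G // True} = Nat.card G := Nat.card_congr (Equiv.subtypeUnivEquiv (fun _ => trivial))
  have q1 : Nat.card {g : G // True ∧ g = 1} = 1 := by
    rw [← card_eq_one_subtype (1 : G)]
    exact card_congr_iff (fun g => ⟨fun h => h.2, fun h => ⟨trivial, h⟩⟩)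
  have q2 : Nat.card {g : G // (True ∧ ¬ g = 1) ∧ Even (orderOf g)} = Nat.card {g : G // Even (orderOf g)} := by
    refine card_congr_iff (fun g => ⟨fun h => h.2, fun h => ⟨⟨trivial, ?_⟩, h⟩⟩)
    rintro rfl
    rw [orderOf_one] at h
    exact absurd h (by decide)
  have q3 : Nat.card {g : G // ((True ∧ ¬ g = 1) ∧ ¬ Even (orderOf g)) ∧ 3 ∣ orderOf g} =
      Nat.card {g : G // g ≠ 1 ∧ ∃ k : ℕ, g ^ (3 ^ k) = 1} := by
    refine card_congr_iff (fun g => ?_)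
    rw [← three_elt_iff h3cent g]
    exact ⟨fun h => ⟨⟨h.1.1.2, h.1.2⟩, h.2⟩, fun h => ⟨⟨⟨trivial, h.1.1⟩, h.1.2⟩, h.2⟩⟩
  have q4 : Nat.card {g : G // (((True ∧ ¬ g = 1) ∧ ¬ Even (orderOf g)) ∧ ¬ 3 ∣ orderOf g) ∧
      g ^ (4 * t + 1) = 1} = Nat.card {g : G // g ≠ 1 ∧ g ^ (4 * t + 1) = 1} := by
    refine card_congr_iff (fun g => ⟨fun h => ⟨h.1.1.1.2, h.2⟩, fun h => ⟨⟨⟨⟨trivial, h.1⟩, ?_⟩, ?_⟩, h.2⟩⟩)
    · rw [Nat.not_even_iff_odd]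
      exact odd_orderOf_of_pow hoA h.2
    · intro h3
      exact h3A (h3.trans (orderOf_dvd_of_pow_eq_one h.2))
  have q5 : Nat.card {g : G // ((((True ∧ ¬ g = 1) ∧ ¬ Even (orderOf g)) ∧ ¬ 3 ∣ orderOf g) ∧
      ¬ g ^ (4 * t + 1) = 1) ∧ g ^ (2 * t + 1) = 1} = Nat.card {g : G // g ≠ 1 ∧ g ^ (2 * t + 1) = 1} := by
    refine card_congr_iff (fun g => ⟨fun h => ⟨h.1.1.1.1.2, h.2⟩,
      fun h => ⟨⟨⟨⟨⟨trivial, h.1⟩, ?_⟩, ?_⟩, ?_⟩, h.2⟩⟩)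
    · rw [Nat.not_even_iff_odd]
      exact odd_orderOf_of_pow hoB h.2
    · intro h3
      exact h3B (h3.trans (orderOf_dvd_of_pow_eq_one h.2))
    · intro hA'
      exact h.1 (eq_one_of_pow_coprime hA' h.2 cAB)
  have q6 : Nat.card {g : G // ((((True ∧ ¬ g = 1) ∧ ¬ Even (orderOf g)) ∧ ¬ 3 ∣ orderOf g) ∧
      ¬ g ^ (4 * t + 1) = 1) ∧ ¬ g ^ (2 * t + 1) = 1} =
      Nat.card {g : G // g ≠ 1 ∧ g ^ (64 * t ^ 2 + 40 * t + 7) = 1} := by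
    refine card_congr_iff (fun g => ⟨fun h => ⟨h.1.1.1.1.2, ?_⟩,
      fun h => ⟨⟨⟨⟨⟨trivial, h.1⟩, ?_⟩, ?_⟩, ?_⟩, ?_⟩⟩)
    · obtain ⟨⟨⟨⟨⟨-, hg1⟩, hev⟩, h3⟩, hA'⟩, hB'⟩ := h
      have hcop : Nat.Coprime (orderOf g) 6 :=
        Nat.Coprime.mul_right (Nat.coprime_two_right.mpr (Nat.not_even_iff_odd.mp hev))
          ((Nat.Prime.coprime_iff_not_dvd Nat.prime_three).mpr h3).symm
      rcases hX g hg1 hcop with h | h | h
      · exact absurd h hA'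
      · exact absurd h hB'
      · exact h
    · rw [Nat.not_even_iff_odd]
      exact odd_orderOf_of_pow hoP h.2
    · intro h3
      exact h3P (h3.trans (orderOf_dvd_of_pow_eq_one h.2))
    · intro hA'
      exact h.1 (eq_one_of_pow_coprime h.2 hA' cPA)
    · intro hB'
      exact h.1 (eq_one_of_pow_coprime h.2 hB' cPB)
  rw [q0, q1] at p1
  rw [q2] at p2
  rw [q3] at p3
  rw [q4] at p4
  rw [q5, q6] at p5
  rw [hG] at p1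
  rw [hEv] at p2
  have hHH := hH
  refine ⟨?_, hH, by rw [mul_comm]; exact hA⟩
  have id : 3 * ((8 * t + 3) ^ 3 * ((8 * t + 3) ^ 3 + 1) * (8 * t + 2)) + 3 =
      3 + 3 * ((8 * t + 3) ^ 2 * (64 * t ^ 2 + 40 * t + 7) * ((8 * t + 3) ^ 2 + (8 * t + 3) * (2 * t + 1) * (8 * t) +
        (8 * t + 3) * (4 * t + 1) * (2 * t))) + 3 * (8 * t + 3) ^ 6 +
      3 * ((8 * t + 3) ^ 2 * (64 * t ^ 2 + 40 * t + 7) * ((8 * t + 3) * (2 * t + 1) * (8 * t))) +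
      (8 * t + 3) ^ 2 * (64 * t ^ 2 + 40 * t + 7) * ((8 * t + 3) * (4 * t + 1) * (2 * t)) +
      (8 * t + 3) ^ 4 * ((8 * t + 2) * (8 * t + 4)) * (8 * t + 1) := by
    ring
  omega

end WardC

end Cfsg.Agent.Lib.helper44
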