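import Cfsg.Agent.Lib.helper44.ReeWardA
import Cfsg.Agent.Lib.helper44.WardC
import Cfsg.Agent.Lib.helper32.WardGHI

set_option autoImplicit false
set_option maxRecDepth 100000

/-!
# Ward's counting data in the small Ree groups: the involution centralizer
-/

namespace Cfsg.Agent.Lib.helper44

open Cfsg Cfsg.Lie Cfsg.Agent.Lib.helper41 Cfsg.Agent.Lib.helper22 Cfsg.Agent.Lib.helper23

/-- In characteristic `≠ 2`, an element of `SL₂` with square `1` is central. -/
theorem sl2_mem_center_of_sq {K : Type*} [Field K] (h2 : (2 : K) ≠ 0)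
    {s : Matrix.SpecialLinearGroup (Fin 2) K} (hs : s * s = 1) :
    s ∈ Subgroup.center (Matrix.SpecialLinearGroup (Fin 2) K) := by
  rw [Matrix.SpecialLinearGroup.mem_center_iff]
  have hdet := s.2
  rw [Matrix.det_fin_two] at hdet
  have hm : s.1 * s.1 = 1 := congrArg Subtype.val hs
  have e00 := congrFun (congrFun hm 0) 0
  have e01 := congrFun (congrFun hm 0) 1
  have e10 := congrFun (congrFun hm 1) 0
  simp only [Matrix.mul_apply, Fin.sum_univ_two, Matrix.one_apply_eq] at e00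
  rw [Matrix.mul_apply, Fin.sum_univ_two, Matrix.one_apply_ne (by decide)] at e01 e10
  have htr : s.1 0 0 * (s.1 0 0 + s.1 1 1) = 2 := by linear_combination e00 + hdet
  have hne : s.1 0 0 + s.1 1 1 ≠ 0 := by
    intro h
    rw [h, mul_zero] at htr
    exact h2 htr.symm
  have hb : s.1 0 1 = 0 := by
    have h : s.1 0 1 * (s.1 0 0 + s.1 1 1) = 0 := by linear_combination e01
    exact (mul_eq_zero.mp h).resolve_right hne
  have hc : s.1 1 0 = 0 := by
    have h : s.1 1 0 * (s.1 0 0 + s.1 1 1) = 0 := by linear_combination e10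
    exact (mul_eq_zero.mp h).resolve_right hne
  have ha2 : s.1 0 0 * s.1 0 0 = 1 := by
    rw [hb, zero_mul, add_zero] at e00
    exact e00
  have hadd : s.1 0 0 * s.1 1 1 = 1 := by
    rw [hb, zero_mul, sub_zero] at hdet
    exact hdet
  have ha0 : s.1 0 0 ≠ 0 := by
    intro h
    rw [h, zero_mul] at ha2
    exact zero_ne_one ha2
  have had : s.1 0 0 = s.1 1 1 := mul_left_cancel₀ ha0 (ha2.trans hadd.symm)
  refine ⟨s.1 0 0, by rw [Fintype.card_fin, sq]; exact ha2, ?_⟩
  ext i j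
  fin_cases i <;> fin_cases j
  · simp
  · simpa using hb.symm
  · simpa using hc.symm
  · simpa using had

variable {K : Type*} [Field K] [Fintype K] {m : ℕ}

/-- The involution `a`, the subgroup `L = φ(SL₂(q))` and the counts of its elements. -/
theorem ree_ward_data (hm : 1 ≤ m) (hK : Fintype.card K = 3 ^ (2 * m + 1)) (R : ReeData K (3 ^ m))
    (t : ℕ) (ht : 3 ^ (2 * m + 1) = 8 * t + 3)
    (hpc : ∀ s : Matrix.SpecialLinearGroup (Fin 2) K,
      s ^ 6 = 1 ∨ s ^ (Fintype.card K - 1) = 1 ∨ s ^ (Fintype.card K + 1) = 1)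
    (h6 : Nat.card {s : Matrix.SpecialLinearGroup (Fin 2) K // s ^ 6 = 1} = 2 * Fintype.card K ^ 2)
    (hsp : 2 * Nat.card {s : Matrix.SpecialLinearGroup (Fin 2) K // s ^ (Fintype.card K - 1) = 1} =
      4 + Fintype.card K * (Fintype.card K + 1) * (Fintype.card K - 3))
    (hns : 4 * Nat.card {s : Matrix.SpecialLinearGroup (Fin 2) K // s ^ ((Fintype.card K + 1) / 2) = 1} =
      8 + Fintype.card K * (Fintype.card K - 1) * (Fintype.card K - 3)) :
    ∃ (a : ↥(twistedG2 K (3 ^ m))) (L : Subgroup ↥(twistedG2 K (3 ^ m))), WardData t a L ∧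
      2 * Nat.card ↥L = (8 * t + 3) * (8 * t + 2) * (8 * t + 4) ∧
      Nat.card {l : ↥(twistedG2 K (3 ^ m)) // l ∈ L ∧ l ^ 3 = 1} = (8 * t + 3) ^ 2 ∧
      Nat.card {l : ↥(twistedG2 K (3 ^ m)) // l ∈ L ∧ l ^ (4 * t + 1) = 1} =
        1 + (8 * t + 3) * (2 * t + 1) * (8 * t) ∧
      Nat.card {l : ↥(twistedG2 K (3 ^ m)) // l ∈ L ∧ l ^ (2 * t + 1) = 1} =
        1 + (8 * t + 3) * (4 * t + 1) * (2 * t) := by
  obtain ⟨A₀, Z, a, b, φG, -, -, -, -, -, -, ha1, -, -, ha2, -, -, -, hk1, hk2, hk3, hconj⟩ :=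
    ree_pack hm hK R t ht
  have hKt : Fintype.card K = 8 * t + 3 := hK.trans ht
  have h2K : (2 : K) ≠ 0 := by
    intro h
    apply ree_neg_one_ne_one R
    linear_combination (-1 : K) * h
  have hpow : ∀ (s : Matrix.SpecialLinearGroup (Fin 2) K) (k : ℕ), (φG s) ^ k = 1 ↔ s ^ (2 * k) = 1 := by
    intro s k
    rw [← map_pow, hk1]
    constructor
    · intro h
      rcases sl2_center_cases h with h1 | h1
      · rw [pow_mul', h1, one_pow]
      · rw [pow_mul', h1, pow_two, qz_mul_qz]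
    · intro h
      apply sl2_mem_center_of_sq h2K
      rw [← pow_two, ← pow_mul']
      exact h
  have hker : Nat.card ↥φG.ker = 2 := by
    rw [Nat.card_eq_two_iff]
    refine ⟨1, ⟨qz, (hk1 qz).mpr qz_mem_center⟩, ?_, ?_⟩
    · intro h
      have h1 : (1 : Matrix.SpecialLinearGroup (Fin 2) K) = qz :=
        congrArg (fun x : ↥φG.ker => (x.1 : Matrix.SpecialLinearGroup (Fin 2) K)) h
      exact qz_ne_one (ree_neg_one_ne_one R) h1.symm
    · ext ⟨s, hs⟩
      simp only [Set.mem_univ, iff_true, Set.mem_insert_iff, Set.mem_singleton_iff]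
      rcases sl2_center_cases ((hk1 s).mp hs) with h | h
      · left
        exact Subtype.ext h
      · right
        exact Subtype.ext h
  have e1 : 8 * t + 3 - 1 = 8 * t + 2 := by omega
  have e3 : 8 * t + 3 - 3 = 8 * t := by omega
  have e2 : (8 * t + 3 + 1) / 2 = 4 * t + 2 := by omega
  refine ⟨a, φG.range, ⟨ha1, ha2, hconj, hk2, hk3, ?_⟩, ?_, ?_, ?_, ?_⟩
  · rintro l ⟨s, rfl⟩
    rcases hpc s with h | h | h
    · left
      exact (hpow s 3).mpr h
    · right
      left
      rw [hpow]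
      rw [hKt, e1] at h
      rw [show 2 * (4 * t + 1) = 8 * t + 2 by ring]
      exact h
    · right
      right
      rw [hpow]
      rw [hKt] at h
      rw [show 2 * (4 * t + 2) = 8 * t + 3 + 1 by ring]
      exact h
  · have h1 := Subgroup.card_mul_index φG.ker
    rw [Subgroup.index_ker, hker, card_SL2, hKt, e1] at h1
    exact h1
  · have h1 := Cfsg.Agent.Lib.helper32.card_range_pred φG (fun l => l ^ 3 = 1)
    rw [hker, card_congr_iff (fun s => hpow s 3)] at h1
    have h6' : Nat.card {s : Matrix.SpecialLinearGroup (Fin 2) K // s ^ (2 * 3) = 1} = 2 * Fintype.card K ^ 2 := h6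
    rw [h6', hKt] at h1
    omega
  · have h1 := Cfsg.Agent.Lib.helper32.card_range_pred φG (fun l => l ^ (4 * t + 1) = 1)
    rw [hker, card_congr_iff (fun s => hpow s (4 * t + 1))] at h1
    rw [hKt, e1, e3] at hsp
    rw [show 2 * (4 * t + 1) = 8 * t + 2 by ring] at h1
    rw [h1] at hsp
    have e : (8 * t + 3) * (8 * t + 3 + 1) * (8 * t) = 4 * ((8 * t + 3) * (2 * t + 1) * (8 * t)) := by ring
    omega
  · have h1 := Cfsg.Agent.Lib.helper32.card_range_pred φG (fun l => l ^ (2 * t + 1) = 1)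
    rw [hker, card_congr_iff (fun s => hpow s (2 * t + 1))] at h1
    rw [hKt, e1, e2, e3] at hns
    rw [show 2 * (2 * t + 1) = 4 * t + 2 by ring] at h1
    rw [h1] at hns
    have e : (8 * t + 3) * (8 * t + 2) * (8 * t) = 8 * ((8 * t + 3) * (4 * t + 1) * (2 * t)) := by ring
    omega

end Cfsg.Agent.Lib.helper44
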