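import Cfsg.Agent.Lib.helper44.ReeWardB

set_option autoImplicit false
set_option maxRecDepth 100000

/-!
# Ward's counting data in the small Ree groups: 3-elements, tori, and the count
-/

namespace Cfsg.Agent.Lib.helper44

open Cfsg Cfsg.Lie Cfsg.Agent.Lib.helper41 Cfsg.Agent.Lib.helper22 Cfsg.Agent.Lib.helper23

section AbsTorus

variable {G : Type*} [Group G] [Finite G]

/-- If a prime `s ∣ N` divides the order of `g`, the centralizer of `g` is conjugate into the torus `T`. -/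
theorem exists_conj_cent_mem {T : Subgroup G} {N : ℕ} (hT : TorusData T N) {g : G} {s : ℕ} (hs : s.Prime)
    (hsN : s ∣ N) (hso : s ∣ orderOf g) : ∃ c : G, ∀ z : G, z * g = g * z → c⁻¹ * z * c ∈ T := by
  have ho0 : orderOf g ≠ 0 := (orderOf_pos g).ne'
  have hord : orderOf (g ^ (orderOf g / s)) = s := orderOf_pow_orderOf_div ho0 hso
  obtain ⟨c, hc⟩ := exists_conj_mem_of_prime_order T hs (hT.syl s hs hsN) hord
  have hco : orderOf (c⁻¹ * g ^ (orderOf g / s) * c) = s := by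
    have h1 := (MulAut.conj c⁻¹).orderOf_eq (g ^ (orderOf g / s))
    rw [MulAut.conj_apply, inv_inv] at h1
    rw [h1, hord]
  refine ⟨c, fun z hz => hT.cent s hs hsN _ hc hco _ ?_⟩
  have h2 : z * g ^ (orderOf g / s) = g ^ (orderOf g / s) * z := ((show Commute z g from hz).pow_right _).eq
  calc c⁻¹ * z * c * (c⁻¹ * g ^ (orderOf g / s) * c) = c⁻¹ * (z * g ^ (orderOf g / s)) * c := by group
    _ = c⁻¹ * (g ^ (orderOf g / s) * z) * c := by rw [h2]
    _ = c⁻¹ * g ^ (orderOf g / s) * c * (c⁻¹ * z * c) := by group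

/-- The involutions commuting with an element whose order has a prime factor dividing `N` correspond to
the involutions of the torus. -/
theorem card_invol_comm_of_torus {T : Subgroup G} {N : ℕ} (hT : TorusData T N) {g : G} {s : ℕ} (hs : s.Prime)
    (hsN : s ∣ N) (hso : s ∣ orderOf g) :
    Nat.card {z : G // z ≠ 1 ∧ z * z = 1 ∧ z * g = g * z} = Nat.card {z : G // z ∈ T ∧ z ≠ 1 ∧ z * z = 1} := by
  obtain ⟨c, hc⟩ := exists_conj_cent_mem hT hs hsN hso
  have hgT : c⁻¹ * g * c ∈ T := hc g rfl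
  apply card_conj_transport c
  intro z
  constructor
  · rintro ⟨h1, h2, h3⟩
    refine ⟨?_, fun h0 => h1 (by rw [h0]; group), ?_⟩
    · have e : z = c⁻¹ * (c * z * c⁻¹) * c := by group
      rw [e]
      exact hc _ h3
    · have e : c * (z * z) * c⁻¹ = 1 := by rw [← conj_mul]; exact h2
      exact conj_eq_one_iff.mp e
  · rintro ⟨h1, h2, h3⟩
    refine ⟨fun h0 => h2 (conj_eq_one_iff.mp h0), by rw [conj_mul, h3]; group, ?_⟩
    have e := hT.comm z h1 _ hgT
    calc c * z * c⁻¹ * g = c * (z * (c⁻¹ * g * c)) * c⁻¹ := by group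
      _ = c * ((c⁻¹ * g * c) * z) * c⁻¹ := by rw [e]
      _ = g * (c * z * c⁻¹) := by group

/-- An element whose order has a prime factor dividing `N` is killed by the order of the torus. -/
theorem pow_card_of_torus {T : Subgroup G} {N : ℕ} (hT : TorusData T N) {g : G} {s : ℕ} (hs : s.Prime)
    (hsN : s ∣ N) (hso : s ∣ orderOf g) : g ^ Nat.card ↥T = 1 := by
  obtain ⟨c, hc⟩ := exists_conj_cent_mem hT hs hsN hso
  have hgT : c⁻¹ * g * c ∈ T := hc g rfl
  have h1 : (⟨c⁻¹ * g * c, hgT⟩ : ↥T) ^ Nat.card ↥T = 1 := pow_card_eq_one'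
  have h2 : (c⁻¹ * g * c) ^ Nat.card ↥T = 1 := congrArg Subtype.val h1
  have h3 := conj_pow' c⁻¹ g (Nat.card ↥T)
  rw [inv_inv] at h3
  rw [h3] at h2
  have e : g ^ Nat.card ↥T = c * (c⁻¹ * g ^ Nat.card ↥T * c) * c⁻¹ := by group
  rw [e, h2]
  group

end AbsTorus

variable {K : Type*} [Field K] [Fintype K] {m : ℕ}

/-- The number of non-trivial 3-elements of the small Ree group is `q⁶ - 1`. -/
theorem ree_card_three_elts (hK : Fintype.card K = 3 ^ (2 * m + 1)) (R : ReeData K (3 ^ m))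
    (t : ℕ) (ht : 3 ^ (2 * m + 1) = 8 * t + 3) :
    Nat.card {g : ↥(twistedG2 K (3 ^ m)) // g ≠ 1 ∧ ∃ k : ℕ, g ^ (3 ^ k) = 1} + 1 = (8 * t + 3) ^ 6 := by
  have hKt : Fintype.card K = 8 * t + 3 := hK.trans ht
  have e1 : 8 * t + 3 - 1 = 8 * t + 2 := by omega
  have hG := R.card_twisted
  rw [hKt, e1] at hG
  have hfin : Finite ↥(twistedG2 K (3 ^ m)) := Nat.finite_of_card_ne_zero (by rw [hG]; positivity)
  have h3 : Fact (Nat.Prime 3) := ⟨Nat.prime_three⟩
  obtain ⟨n, hn⟩ := R.exists_w0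
  obtain ⟨S₀, hS₀⟩ := R.exists_sylow hK
  have hBU := borel_normalizes_pos K
  have hUB : chevG2.posUnipotent K ≤ chevG2.borelSubgroup K := le_sup_left
  have hHB : chevG2.diagonalSubgroup K ≤ chevG2.borelSubgroup K := le_sup_right
  -- the order of the Sylow subgroup
  have hS₀card : Nat.card ↥(S₀ : Subgroup ↥(twistedG2 K (3 ^ m))) = (8 * t + 3) ^ 3 := by
    have e : (S₀ : Subgroup ↥(twistedG2 K (3 ^ m))) =
        (chevG2.posUnipotent K ⊓ twistedG2 K (3 ^ m)).subgroupOf (twistedG2 K (3 ^ m)) := by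
      ext x
      rw [Subgroup.mem_subgroupOf, Subgroup.mem_inf]
      exact ⟨fun h => ⟨(hS₀ x).mp h, x.2⟩, fun h => (hS₀ x).mpr h.1⟩
    rw [e, R.card_pos_sub, hKt]
  -- the normalizer is the Borel subgroup
  have hNmem : ∀ g : ↥(twistedG2 K (3 ^ m)),
      g ∈ Subgroup.normalizer ((S₀ : Subgroup ↥(twistedG2 K (3 ^ m))) : Set ↥(twistedG2 K (3 ^ m))) ↔
        (g : GL chevG2.Idx K) ∈ chevG2.borelSubgroup K := by
    intro g
    constructor
    · intro hg
      by_contra hgB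
      obtain ⟨u, hu, hu1⟩ := R.exists_u_ne_one
      have hu' := Subgroup.mem_inf.mp hu
      have h1 : (⟨u, hu'.2⟩ : ↥(twistedG2 K (3 ^ m))) ∈ S₀ := (hS₀ _).mpr hu'.1
      have h2 := (Subgroup.mem_normalizer_iff.mp hg _).mp h1
      exact hu1 (R.conj_pos_trivial hn g.2 hgB hu'.1 ((hS₀ _).mp h2))
    · intro hgB
      rw [Subgroup.mem_normalizer_iff]
      intro h
      have h1 := Subgroup.mem_normalizer_iff.mp (hBU hgB) (h : GL chevG2.Idx K)
      exact ⟨fun hh => (hS₀ _).mpr (h1.mp ((hS₀ h).mp hh)), fun hh => (hS₀ h).mpr (h1.mpr ((hS₀ _).mp hh))⟩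
  have hNcard : Nat.card ↥(Subgroup.normalizer ((S₀ : Subgroup ↥(twistedG2 K (3 ^ m))) : Set ↥(twistedG2 K (3 ^ m)))) =
      (8 * t + 3) ^ 3 * (8 * t + 2) := by
    have e0 : Nat.card ↥(Subgroup.normalizer ((S₀ : Subgroup ↥(twistedG2 K (3 ^ m))) : Set ↥(twistedG2 K (3 ^ m)))) =
        Nat.card {g : ↥(twistedG2 K (3 ^ m)) // (g : GL chevG2.Idx K) ∈ chevG2.borelSubgroup K} :=
      card_congr_iff hNmem
    rw [e0]
    let f : ↥(chevG2.posUnipotent K ⊓ twistedG2 K (3 ^ m)) × ↥(chevG2.diagonalSubgroup K ⊓ twistedG2 K (3 ^ m)) →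
        {g : ↥(twistedG2 K (3 ^ m)) // (g : GL chevG2.Idx K) ∈ chevG2.borelSubgroup K} := fun p =>
      ⟨⟨p.1.1 * p.2.1, mul_mem p.1.2.2 p.2.2.2⟩, mul_mem (hUB p.1.2.1) (hHB p.2.2.1)⟩
    have hf : Function.Bijective f := by
      constructor
      · rintro ⟨u, h⟩ ⟨u', h'⟩ hxy
        have e2 : (u : GL chevG2.Idx K) * h = u' * h' :=
          congrArg (fun x : {g : ↥(twistedG2 K (3 ^ m)) // (g : GL chevG2.Idx K) ∈ chevG2.borelSubgroup K} =>
            ((x : ↥(twistedG2 K (3 ^ m))) : GL chevG2.Idx K)) hxy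
        obtain ⟨e3, e4⟩ := uh_unique u.2.1 u'.2.1 h.2.1 h'.2.1 e2
        rw [Subtype.ext e3, Subtype.ext e4]
      · rintro ⟨b, hb⟩
        obtain ⟨u, hu, h, hh, e2⟩ := R.borel_twisted hb b.2
        exact ⟨(⟨u, hu⟩, ⟨h, hh⟩), Subtype.ext (Subtype.ext e2.symm)⟩
    rw [← Nat.card_congr (Equiv.ofBijective f hf), Nat.card_prod, R.card_pos_inf_twisted,
      R.card_diag_inf_twisted, hKt, e1]
  have hn3 : Nat.card (Sylow 3 ↥(twistedG2 K (3 ^ m))) = (8 * t + 3) ^ 3 + 1 := by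
    rw [Sylow.card_eq_index_normalizer S₀]
    have h1 := Subgroup.card_mul_index
      (Subgroup.normalizer ((S₀ : Subgroup ↥(twistedG2 K (3 ^ m))) : Set ↥(twistedG2 K (3 ^ m))))
    rw [hNcard, hG] at h1
    exact Nat.eq_of_mul_eq_mul_left (by positivity : 0 < (8 * t + 3) ^ 3 * (8 * t + 2)) h1
  have hI := Cfsg.Agent.Lib.helper32.card_p_elements_of_ti 3 (fun P Q hPQ => R.sylow_ti hK P Q hPQ) S₀
  rw [hn3, hS₀card] at hI
  have e : ((8 * t + 3) ^ 3 + 1) * (8 * t + 3) ^ 3 = (8 * t + 3) ^ 6 + (8 * t + 3) ^ 3 := by ring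
  omega

end Cfsg.Agent.Lib.helper44
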