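import Cfsg.Agent.Lib.helper44.ReeWardC

set_option autoImplicit false
set_option maxRecDepth 100000

/-!
# Ward's count in the small Ree groups

The number of elements of order dividing `q² - q + 1`, `(q - 1) / 2` and `(q + 1) / 4`.
-/

namespace Cfsg.Agent.Lib.helper44

open Cfsg Cfsg.Lie Cfsg.Agent.Lib.helper41 Cfsg.Agent.Lib.helper22 Cfsg.Agent.Lib.helper23

variable {K : Type*} [Field K] [Fintype K] {m : ℕ}

theorem ree_three_dvd (t : ℕ) (ht : 3 ^ (2 * m + 1) = 8 * t + 3) : 3 ∣ 8 * t + 3 ∧ 3 ∣ t := by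
  have h1 : 3 ∣ 8 * t + 3 := by
    rw [← ht, pow_succ]
    exact Dvd.intro_left _ rfl
  exact ⟨h1, by omega⟩

theorem ree_finite (hK : Fintype.card K = 3 ^ (2 * m + 1)) (R : ReeData K (3 ^ m))
    (t : ℕ) (ht : 3 ^ (2 * m + 1) = 8 * t + 3) :
    Finite ↥(twistedG2 K (3 ^ m)) ∧
      Nat.card ↥(twistedG2 K (3 ^ m)) = (8 * t + 3) ^ 3 * ((8 * t + 3) ^ 3 + 1) * (8 * t + 2) := by
  have hKt : Fintype.card K = 8 * t + 3 := hK.trans ht
  have e1 : 8 * t + 3 - 1 = 8 * t + 2 := by omega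
  have hG := R.card_twisted
  rw [hKt, e1] at hG
  have hG' : Nat.card ↥(twistedG2 K (3 ^ m)) = (8 * t + 3) ^ 3 * ((8 * t + 3) ^ 3 + 1) * (8 * t + 2) := by
    rw [hG]
    ring
  exact ⟨Nat.finite_of_card_ne_zero (by rw [hG]; positivity), hG'⟩

/-- An element of order 3 commutes with no non-trivial element of order prime to 6. -/
theorem ree_three_cent' (hm : 1 ≤ m) (hK : Fintype.card K = 3 ^ (2 * m + 1)) (R : ReeData K (3 ^ m))
    (t : ℕ) (ht : 3 ^ (2 * m + 1) = 8 * t + 3) (y g : ↥(twistedG2 K (3 ^ m))) (hy1 : y ≠ 1)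
    (hy3 : y ^ 3 = 1) (hc : y * g = g * y) (hcop : Nat.Coprime (orderOf g) 6) : g = 1 := by
  have hKt : Fintype.card K = 8 * t + 3 := hK.trans ht
  have e1 : 8 * t + 3 - 1 = 8 * t + 2 := by omega
  obtain ⟨hfin, hG⟩ := ree_finite hK R t ht
  obtain ⟨h3q, h3t⟩ := ree_three_dvd t ht
  by_contra hg1
  have ho1 : orderOf g ≠ 1 := fun h => hg1 (orderOf_eq_one_iff.mp h)
  obtain ⟨s, hs, hso⟩ := Nat.exists_prime_and_dvd ho1
  have ho0 : orderOf g ≠ 0 := (orderOf_pos g).ne'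
  have hord : orderOf (g ^ (orderOf g / s)) = s := orderOf_pow_orderOf_div ho0 hso
  have hs6 : Nat.Coprime s 6 := Nat.Coprime.coprime_dvd_left hso hcop
  have hs2 : s ≠ 2 := by
    rintro rfl
    exact absurd hs6 (by decide)
  have hs3 : s ≠ 3 := by
    rintro rfl
    exact absurd hs6 (by decide)
  have hcg : y * g ^ (orderOf g / s) = g ^ (orderOf g / s) * y := ((show Commute y g from hc).pow_right _).eq
  have hg's : (g ^ (orderOf g / s)) ^ s = 1 := by
    have h := pow_orderOf_eq_one (g ^ (orderOf g / s))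
    rwa [hord] at h
  have hg'1 : g ^ (orderOf g / s) ≠ 1 := by
    intro h
    rw [h, orderOf_one] at hord
    exact hs.ne_one hord.symm
  by_cases hs4 : s ∣ 4 * t + 1
  · obtain ⟨T, hTcyc, hTcard, hT⟩ := ree_split_data' hm hK R t ht
    obtain ⟨c, hcT⟩ := exists_conj_cent_mem hT hs hs4 (by rw [hord] : s ∣ orderOf (g ^ (orderOf g / s)))
    have hyT : c⁻¹ * y * c ∈ T := hcT y hcg
    have hyo : orderOf (c⁻¹ * y * c) = 3 := by
      have h1 := (MulAut.conj c⁻¹).orderOf_eq y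
      rw [MulAut.conj_apply, inv_inv] at h1
      rw [h1]
      exact orderOf_eq_prime hy3 hy1
    have h3T : 3 ∣ Nat.card ↥T := by
      have h := Subgroup.orderOf_dvd_natCard T hyT
      rwa [hyo] at h
    rw [hTcard] at h3T
    omega
  · apply hg'1
    apply Subtype.ext
    have hy3' : y * y * y = 1 := by
      rw [← pow_three']
      exact hy3
    apply ree_three_cent R hK y.2 (g ^ (orderOf g / s)).2 (congrArg Subtype.val hy3')
      (fun h => hy1 (Subtype.ext h)) (congrArg Subtype.val hcg) (k := s) (congrArg Subtype.val hg's)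
    · rw [hKt, ← ht]
      exact Nat.Coprime.pow_right _ ((Nat.coprime_primes hs Nat.prime_three).mpr hs3)
    · rw [hKt, e1, show 8 * t + 2 = 2 * (4 * t + 1) by ring]
      exact Nat.Coprime.mul_right ((Nat.coprime_primes hs Nat.prime_two).mpr hs2)
        ((Nat.Prime.coprime_iff_not_dvd hs).mpr hs4)

/-- Exactly one involution commutes with a non-trivial element of order dividing `(q - 1) / 2`. -/
theorem ree_invol_split (hm : 1 ≤ m) (hK : Fintype.card K = 3 ^ (2 * m + 1)) (R : ReeData K (3 ^ m))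
    (t : ℕ) (ht : 3 ^ (2 * m + 1) = 8 * t + 3) (g : ↥(twistedG2 K (3 ^ m))) (hg1 : g ≠ 1)
    (hg : g ^ (4 * t + 1) = 1) :
    Nat.card {z : ↥(twistedG2 K (3 ^ m)) // z ≠ 1 ∧ z * z = 1 ∧ z * g = g * z} = 1 := by
  obtain ⟨hfin, hG⟩ := ree_finite hK R t ht
  obtain ⟨T, hTcyc, hTcard, hT⟩ := ree_split_data' hm hK R t ht
  have ho1 : orderOf g ≠ 1 := fun h => hg1 (orderOf_eq_one_iff.mp h)
  obtain ⟨s, hs, hso⟩ := Nat.exists_prime_and_dvd ho1
  have hs4 : s ∣ 4 * t + 1 := hso.trans (orderOf_dvd_of_pow_eq_one hg)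
  rw [card_invol_comm_of_torus hT hs hs4 hso]
  exact Cfsg.Agent.Lib.helper32.card_invol_cyclic T hTcyc (by rw [hTcard]; exact ⟨4 * t + 1, by ring⟩)

/-- Exactly three involutions commute with a non-trivial element of order dividing `(q + 1) / 4`. -/
theorem ree_invol_quarter (hm : 1 ≤ m) (hK : Fintype.card K = 3 ^ (2 * m + 1)) (R : ReeData K (3 ^ m))
    (t : ℕ) (ht : 3 ^ (2 * m + 1) = 8 * t + 3) (g : ↥(twistedG2 K (3 ^ m))) (hg1 : g ≠ 1)
    (hg : g ^ (2 * t + 1) = 1) :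
    Nat.card {z : ↥(twistedG2 K (3 ^ m)) // z ≠ 1 ∧ z * z = 1 ∧ z * g = g * z} = 3 := by
  obtain ⟨hfin, hG⟩ := ree_finite hK R t ht
  obtain ⟨A₀, Z, a, b, φG, -, -, hA, hA₀card, haA, hbA, ha1, hb1, hab, ha2, hb2, -⟩ := ree_pack hm hK R t ht
  have ho1 : orderOf g ≠ 1 := fun h => hg1 (orderOf_eq_one_iff.mp h)
  obtain ⟨s, hs, hso⟩ := Nat.exists_prime_and_dvd ho1
  have hs4 : s ∣ 2 * t + 1 := hso.trans (orderOf_dvd_of_pow_eq_one hg)
  rw [card_invol_comm_of_torus hA hs hs4 hso]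
  exact Cfsg.Agent.Lib.helper32.card_invol_of_two A₀ hA.comm (2 * t + 1) ⟨t, rfl⟩ (by rw [hA₀card]; ring)
    a b haA hbA ha1 hb1 hab ha2 hb2

/-- The order of an element of order prime to 6 divides `(q - 1) / 2`, `(q + 1) / 4` or `q² - q + 1`. -/
theorem ree_order_cases (hm : 1 ≤ m) (hK : Fintype.card K = 3 ^ (2 * m + 1)) (R : ReeData K (3 ^ m))
    (t : ℕ) (ht : 3 ^ (2 * m + 1) = 8 * t + 3) (g : ↥(twistedG2 K (3 ^ m)))
    (hcop : Nat.Coprime (orderOf g) 6) :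
    g ^ (4 * t + 1) = 1 ∨ g ^ (2 * t + 1) = 1 ∨ g ^ (64 * t ^ 2 + 40 * t + 7) = 1 := by
  obtain ⟨hfin, hG⟩ := ree_finite hK R t ht
  have hodd : Odd (orderOf g) :=
    Nat.coprime_two_right.mp (Nat.Coprime.coprime_dvd_right (by norm_num : 2 ∣ 6) hcop)
  have hc2 : Nat.Coprime (orderOf g) 2 := Nat.coprime_two_right.mpr hodd
  have hc3 : Nat.Coprime (orderOf g) 3 := Nat.Coprime.coprime_dvd_right (by norm_num : 3 ∣ 6) hcop
  by_cases hA : ∃ s : ℕ, s.Prime ∧ s ∣ 4 * t + 1 ∧ s ∣ orderOf g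
  · obtain ⟨s, hs, hs4, hso⟩ := hA
    obtain ⟨T, hTcyc, hTcard, hT⟩ := ree_split_data' hm hK R t ht
    have h1 := pow_card_of_torus hT hs hs4 hso
    rw [hTcard] at h1
    have h2 : orderOf g ∣ 2 * (4 * t + 1) := by
      have := orderOf_dvd_of_pow_eq_one h1
      rwa [show 8 * t + 2 = 2 * (4 * t + 1) by ring] at this
    left
    exact orderOf_dvd_iff_pow_eq_one.mp ((Nat.Coprime.dvd_mul_left hc2).mp h2)
  · by_cases hB : ∃ s : ℕ, s.Prime ∧ s ∣ 2 * t + 1 ∧ s ∣ orderOf g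
    · obtain ⟨s, hs, hs2, hso⟩ := hB
      obtain ⟨A₀, Z, a, b, φG, -, -, hAd, hA₀card, -⟩ := ree_pack hm hK R t ht
      have h1 := pow_card_of_torus hAd hs hs2 hso
      rw [hA₀card] at h1
      have h2 : orderOf g ∣ 2 * (2 * (2 * t + 1)) := by
        have := orderOf_dvd_of_pow_eq_one h1
        rwa [show 8 * t + 4 = 2 * (2 * (2 * t + 1)) by ring] at this
      right
      left
      exact orderOf_dvd_iff_pow_eq_one.mp
        ((Nat.Coprime.dvd_mul_left hc2).mp ((Nat.Coprime.dvd_mul_left hc2).mp h2))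
    · right
      right
      have hdvd : orderOf g ∣ Nat.card ↥(twistedG2 K (3 ^ m)) := orderOf_dvd_natCard g
      rw [hG] at hdvd
      have e : (8 * t + 3) ^ 3 * ((8 * t + 3) ^ 3 + 1) * (8 * t + 2) =
          ((8 * t + 3) ^ 3 * (8 * t + 2) * (8 * t + 4)) * (64 * t ^ 2 + 40 * t + 7) := by ring
      rw [e] at hdvd
      have hcA : Nat.Coprime (orderOf g) (4 * t + 1) :=
        Nat.Coprime.symm (Nat.coprime_of_dvd (fun k hk hk4 hko => hA ⟨k, hk, hk4, hko⟩)).symm.symm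
      have hcB : Nat.Coprime (orderOf g) (2 * t + 1) :=
        Nat.Coprime.symm (Nat.coprime_of_dvd (fun k hk hk4 hko => hB ⟨k, hk, hk4, hko⟩)).symm.symm
      have hq : Nat.Coprime (orderOf g) ((8 * t + 3) ^ 3) := by
        rw [← ht]
        exact Nat.Coprime.pow_right _ (Nat.Coprime.pow_right _ hc3)
      have h82 : Nat.Coprime (orderOf g) (8 * t + 2) := by
        rw [show 8 * t + 2 = 2 * (4 * t + 1) by ring]
        exact Nat.Coprime.mul_right hc2 hcA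
      have h84 : Nat.Coprime (orderOf g) (8 * t + 4) := by
        rw [show 8 * t + 4 = 2 * (2 * (2 * t + 1)) by ring]
        exact Nat.Coprime.mul_right hc2 (Nat.Coprime.mul_right hc2 hcB)
      exact orderOf_dvd_iff_pow_eq_one.mp
        ((Nat.Coprime.mul_right (Nat.Coprime.mul_right hq h82) h84).dvd_of_dvd_mul_left hdvd)

/-- **Ward's count for the small Ree groups.** -/
theorem ree_ward_count (hm : 1 ≤ m) (hK : Fintype.card K = 3 ^ (2 * m + 1)) (R : ReeData K (3 ^ m))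
    (t : ℕ) (ht : 3 ^ (2 * m + 1) = 8 * t + 3)
    (hpc : ∀ s : Matrix.SpecialLinearGroup (Fin 2) K,
      s ^ 6 = 1 ∨ s ^ (Fintype.card K - 1) = 1 ∨ s ^ (Fintype.card K + 1) = 1)
    (h6 : Nat.card {s : Matrix.SpecialLinearGroup (Fin 2) K // s ^ 6 = 1} = 2 * Fintype.card K ^ 2)
    (hsp : 2 * Nat.card {s : Matrix.SpecialLinearGroup (Fin 2) K // s ^ (Fintype.card K - 1) = 1} =
      4 + Fintype.card K * (Fintype.card K + 1) * (Fintype.card K - 3))
    (hns : 4 * Nat.card {s : Matrix.SpecialLinearGroup (Fin 2) K // s ^ ((Fintype.card K + 1) / 2) = 1} =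
      8 + Fintype.card K * (Fintype.card K - 1) * (Fintype.card K - 3)) :
    3 * Nat.card {g : ↥(twistedG2 K (3 ^ m)) // g ≠ 1 ∧ g ^ (64 * t ^ 2 + 40 * t + 7) = 1} =
        (8 * t + 3) ^ 4 * ((8 * t + 2) * (8 * t + 4)) * (8 * t + 1) ∧
    Nat.card {g : ↥(twistedG2 K (3 ^ m)) // g ≠ 1 ∧ g ^ (4 * t + 1) = 1} =
        (8 * t + 3) ^ 2 * (64 * t ^ 2 + 40 * t + 7) * ((8 * t + 3) * (2 * t + 1) * (8 * t)) ∧
    3 * Nat.card {g : ↥(twistedG2 K (3 ^ m)) // g ≠ 1 ∧ g ^ (2 * t + 1) = 1} =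
        (8 * t + 3) ^ 2 * (64 * t ^ 2 + 40 * t + 7) * ((8 * t + 3) * (4 * t + 1) * (2 * t)) := by
  obtain ⟨hfin, hG⟩ := ree_finite hK R t ht
  obtain ⟨h3q, h3t⟩ := ree_three_dvd t ht
  obtain ⟨a, L, W, hLcard, hN1, hN2, hN3⟩ := ree_ward_data hm hK R t ht hpc h6 hsp hns
  exact W.count h3t hG hLcard hN1 hN2 hN3 (ree_card_three_elts hK R t ht)
    (fun y g hy1 hy3 hc hcop => ree_three_cent' hm hK R t ht y g hy1 hy3 hc hcop)
    (fun g hg1 hg => ree_invol_split hm hK R t ht g hg1 hg)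
    (fun g hg1 hg => ree_invol_quarter hm hK R t ht g hg1 hg)
    (fun g _ hcop => ree_order_cases hm hK R t ht g hcop)

end Cfsg.Agent.Lib.helper44
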