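import Cfsg.Agent.Lib.helper44.ReeWardD
import Cfsg.Agent.Lib.helper19.SL2ThreeD
import Cfsg.Agent.Lib.helper46.WardToriGlobal
import Cfsg.Agent.Lib.helper1.WardTorusLocal
import Cfsg.Agent.Lib.helper77.ReeLinNorm

set_option autoImplicit false
set_option maxRecDepth 100000

/-!
# The tori of order `q ± r + 1` of the small Ree groups

The elements of order dividing `q² - q + 1` lie in two classes of cyclic self-centralizing subgroups.
-/

namespace Cfsg.Agent.Lib.helper44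

open Cfsg Cfsg.Lie Cfsg.Agent.Lib.helper41 Cfsg.Agent.Lib.helper22 Cfsg.Agent.Lib.helper23

variable {K : Type*} [Field K] [Fintype K] {m : ℕ}

theorem ree_q_ge (hm : 1 ≤ m) (t : ℕ) (ht : 3 ^ (2 * m + 1) = 8 * t + 3) : 27 ≤ 8 * t + 3 := by
  have h27 : 3 ^ 3 ≤ 3 ^ (2 * m + 1) := Nat.pow_le_pow_right (by norm_num) (by omega)
  rw [ht] at h27
  exact h27

theorem ree_sl2_facts (hm : 1 ≤ m) (hK : Fintype.card K = 3 ^ (2 * m + 1)) (R : ReeData K (3 ^ m))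
    (t : ℕ) (ht : 3 ^ (2 * m + 1) = 8 * t + 3) :
    (∀ s : Matrix.SpecialLinearGroup (Fin 2) K,
      s ^ 6 = 1 ∨ s ^ (Fintype.card K - 1) = 1 ∨ s ^ (Fintype.card K + 1) = 1) ∧
    Nat.card {s : Matrix.SpecialLinearGroup (Fin 2) K // s ^ 6 = 1} = 2 * Fintype.card K ^ 2 ∧
    2 * Nat.card {s : Matrix.SpecialLinearGroup (Fin 2) K // s ^ (Fintype.card K - 1) = 1} =
      4 + Fintype.card K * (Fintype.card K + 1) * (Fintype.card K - 3) ∧
    4 * Nat.card {s : Matrix.SpecialLinearGroup (Fin 2) K // s ^ ((Fintype.card K + 1) / 2) = 1} =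
      8 + Fintype.card K * (Fintype.card K - 1) * (Fintype.card K - 3) := by
  have hc3 := R.char3
  have hKt : Fintype.card K = 8 * t + 3 := hK.trans ht
  have h27 : 27 ≤ Fintype.card K := by
    rw [hKt]
    exact ree_q_ge hm t ht
  exact ⟨fun s => Cfsg.Agent.Lib.helper19.sl2_pow_cases s, Cfsg.Agent.Lib.helper19.sl2_card_pow_six,
    Cfsg.Agent.Lib.helper19.sl2_card_pow_split h27,
    Cfsg.Agent.Lib.helper19.sl2_card_pow_nonsplit h27 (by rw [hKt]; omega)⟩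

theorem ree_ward_data' (hm : 1 ≤ m) (hK : Fintype.card K = 3 ^ (2 * m + 1)) (R : ReeData K (3 ^ m))
    (t : ℕ) (ht : 3 ^ (2 * m + 1) = 8 * t + 3) :
    ∃ (a : ↥(twistedG2 K (3 ^ m))) (L : Subgroup ↥(twistedG2 K (3 ^ m))), WardData t a L ∧
      2 * Nat.card ↥L = (8 * t + 3) * (8 * t + 2) * (8 * t + 4) ∧
      Nat.card {l : ↥(twistedG2 K (3 ^ m)) // l ∈ L ∧ l ^ 3 = 1} = (8 * t + 3) ^ 2 ∧
      Nat.card {l : ↥(twistedG2 K (3 ^ m)) // l ∈ L ∧ l ^ (4 * t + 1) = 1} =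
        1 + (8 * t + 3) * (2 * t + 1) * (8 * t) ∧
      Nat.card {l : ↥(twistedG2 K (3 ^ m)) // l ∈ L ∧ l ^ (2 * t + 1) = 1} =
        1 + (8 * t + 3) * (4 * t + 1) * (2 * t) := by
  obtain ⟨hpc, h6, hsp, hns⟩ := ree_sl2_facts hm hK R t ht
  exact ree_ward_data hm hK R t ht hpc h6 hsp hns

theorem ree_ward_count' (hm : 1 ≤ m) (hK : Fintype.card K = 3 ^ (2 * m + 1)) (R : ReeData K (3 ^ m))
    (t : ℕ) (ht : 3 ^ (2 * m + 1) = 8 * t + 3) :
    3 * Nat.card {g : ↥(twistedG2 K (3 ^ m)) // g ≠ 1 ∧ g ^ (64 * t ^ 2 + 40 * t + 7) = 1} =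
        (8 * t + 3) ^ 4 * ((8 * t + 2) * (8 * t + 4)) * (8 * t + 1) ∧
    Nat.card {g : ↥(twistedG2 K (3 ^ m)) // g ≠ 1 ∧ g ^ (4 * t + 1) = 1} =
        (8 * t + 3) ^ 2 * (64 * t ^ 2 + 40 * t + 7) * ((8 * t + 3) * (2 * t + 1) * (8 * t)) ∧
    3 * Nat.card {g : ↥(twistedG2 K (3 ^ m)) // g ≠ 1 ∧ g ^ (2 * t + 1) = 1} =
        (8 * t + 3) ^ 2 * (64 * t ^ 2 + 40 * t + 7) * ((8 * t + 3) * (4 * t + 1) * (2 * t)) := by
  obtain ⟨hpc, h6, hsp, hns⟩ := ree_sl2_facts hm hK R t ht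
  exact ree_ward_count hm hK R t ht hpc h6 hsp hns

/-- An element of prime order dividing `q² - q + 1`. -/
theorem ree_P_prime (hK : Fintype.card K = 3 ^ (2 * m + 1)) (t : ℕ) (ht : 3 ^ (2 * m + 1) = 8 * t + 3)
    {x : ↥(twistedG2 K (3 ^ m))} (hx : (orderOf x).Prime) (hxP : x ^ (64 * t ^ 2 + 40 * t + 7) = 1) :
    x ≠ 1 ∧ 3 < orderOf x ∧ ¬ orderOf x ∣ Fintype.card K ∧
      (∀ i : ℕ, orderOf x ∣ Fintype.card K ^ i - 1 → 6 ∣ i) := by
  have hKt : Fintype.card K = 8 * t + 3 := hK.trans ht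
  obtain ⟨h3q, -⟩ := ree_three_dvd t ht
  obtain ⟨h2, h3, hq, hord⟩ := ree_ord_six hx (orderOf_dvd_of_pow_eq_one hxP) h3q
  refine ⟨?_, ?_, ?_, ?_⟩
  · rintro rfl
    rw [orderOf_one] at hx
    exact Nat.not_prime_one hx
  · have := hx.two_le
    omega
  · rw [hKt]
    exact hq
  · rw [hKt]
    exact hord

theorem orderOf_conj_inv {G : Type*} [Group G] (c x : G) : orderOf (c⁻¹ * x * c) = orderOf x := by
  have h1 := (MulAut.conj c⁻¹).orderOf_eq x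
  rw [MulAut.conj_apply, inv_inv] at h1
  exact h1

/-- An element of prime order dividing `q² - q + 1` commutes with no element of prime order dividing
`q (q² - 1)`. -/
theorem ree_no_comm (hm : 1 ≤ m) (hK : Fintype.card K = 3 ^ (2 * m + 1)) (R : ReeData K (3 ^ m))
    (t : ℕ) (ht : 3 ^ (2 * m + 1) = 8 * t + 3) {x z : ↥(twistedG2 K (3 ^ m))}
    (hx : (orderOf x).Prime) (hxP : x ^ (64 * t ^ 2 + 40 * t + 7) = 1) {s : ℕ} (hs : s.Prime)
    (hz : orderOf z = s) (hc : z * x = x * z) :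
    s ≠ 2 ∧ s ≠ 3 ∧ ¬ s ∣ 4 * t + 1 ∧ ¬ s ∣ 2 * t + 1 := by
  have hKt : Fintype.card K = 8 * t + 3 := hK.trans ht
  obtain ⟨hfin, hG⟩ := ree_finite hK R t ht
  obtain ⟨hx1, hx3, hxq, hord⟩ := ree_P_prime hK t ht hx hxP
  rw [hKt] at hxq hord
  have hz1 : z ≠ 1 := by
    rintro rfl
    rw [orderOf_one] at hz
    exact hs.ne_one hz.symm
  have hzs : z ^ s = 1 := by
    have h := pow_orderOf_eq_one z
    rwa [hz] at h
  have hn1 : ¬ orderOf x ∣ 8 * t + 2 := by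
    intro h
    have h6 := hord 1 (by
      rw [pow_one, show 8 * t + 3 - 1 = 8 * t + 2 by omega]
      exact h)
    omega
  have hn2 : ¬ orderOf x ∣ 8 * t + 4 := by
    intro h
    have h6 := hord 2 (by
      have e : (8 * t + 3) ^ 2 - 1 = (8 * t + 2) * (8 * t + 4) := by
        have h' : (8 * t + 3) ^ 2 = (8 * t + 2) * (8 * t + 4) + 1 := by ring
        rw [h', Nat.add_sub_cancel]
      rw [e]
      exact Dvd.dvd.mul_left h _)
    omega
  refine ⟨?_, ?_, ?_, ?_⟩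
  · intro hs2
    rw [hs2] at hzs
    obtain ⟨a, L, W, -⟩ := ree_ward_data' hm hK R t ht
    have hz2 : z * z = 1 := by
      rw [← pow_two]
      exact hzs
    obtain ⟨c, hcz⟩ := W.conj z hz1 hz2
    have hca : c⁻¹ * x * c * a = a * (c⁻¹ * x * c) := by
      have e1 : a = c⁻¹ * z * c := by
        rw [← hcz]
        group
      rw [e1]
      calc c⁻¹ * x * c * (c⁻¹ * z * c) = c⁻¹ * (x * z) * c := by group
        _ = c⁻¹ * (z * x) * c := by rw [hc]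
        _ = c⁻¹ * z * c * (c⁻¹ * x * c) := by group
    have hxo : orderOf (c⁻¹ * x * c) = orderOf x := orderOf_conj_inv c x
    have hodd : Odd (orderOf x) := hx.odd_of_ne_two (by omega)
    have hpw : (c⁻¹ * x * c) ^ orderOf x = 1 := by
      have h := pow_orderOf_eq_one (c⁻¹ * x * c)
      rwa [hxo] at h
    have hmem := W.mem_of_comm_of_pow hca hodd hpw
    rcases W.cases3 _ hmem with h | h | h
    · have h1 := orderOf_dvd_of_pow_eq_one h
      rw [hxo] at h1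
      have h2 := (Nat.prime_dvd_prime_iff_eq hx Nat.prime_three).mp h1
      omega
    · have h1 := orderOf_dvd_of_pow_eq_one h
      rw [hxo] at h1
      exact hn1 (h1.trans ⟨2, by ring⟩)
    · have h1 := orderOf_dvd_of_pow_eq_one h
      rw [hxo] at h1
      exact hn2 (h1.trans ⟨2, by ring⟩)
  · intro hs3
    rw [hs3] at hzs
    apply hx1
    apply ree_three_cent' hm hK R t ht z x hz1 hzs hc
    exact (Nat.Coprime.mul_right ((Nat.coprime_primes hx Nat.prime_two).mpr (by omega))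
      ((Nat.coprime_primes hx Nat.prime_three).mpr (by omega)) : Nat.Coprime (orderOf x) (2 * 3))
  · intro hs4
    obtain ⟨T, hTcyc, hTcard, hT⟩ := ree_split_data' hm hK R t ht
    obtain ⟨c, hcT⟩ := exists_conj_cent_mem hT hs hs4 (by rw [hz] : s ∣ orderOf z)
    have hxT : c⁻¹ * x * c ∈ T := hcT x hc.symm
    have h := Subgroup.orderOf_dvd_natCard T hxT
    rw [orderOf_conj_inv, hTcard] at h
    exact hn1 h
  · intro hs2
    obtain ⟨A₀, Z, a, b, φG, -, -, hAd, hA₀card, -⟩ := ree_pack hm hK R t ht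
    obtain ⟨c, hcT⟩ := exists_conj_cent_mem hAd hs hs2 (by rw [hz] : s ∣ orderOf z)
    have hxT : c⁻¹ * x * c ∈ A₀ := hcT x hc.symm
    have h := Subgroup.orderOf_dvd_natCard A₀ hxT
    rw [orderOf_conj_inv, hA₀card] at h
    exact hn2 h

/-- The centralizer of an element of prime order dividing `q² - q + 1` has exponent dividing `q² - q + 1`. -/
theorem ree_P_exp (hm : 1 ≤ m) (hK : Fintype.card K = 3 ^ (2 * m + 1)) (R : ReeData K (3 ^ m))
    (t : ℕ) (ht : 3 ^ (2 * m + 1) = 8 * t + 3) {x y : ↥(twistedG2 K (3 ^ m))}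
    (hx : (orderOf x).Prime) (hxP : x ^ (64 * t ^ 2 + 40 * t + 7) = 1) (hc : y * x = x * y) :
    y ^ (64 * t ^ 2 + 40 * t + 7) = 1 := by
  obtain ⟨hfin, hG⟩ := ree_finite hK R t ht
  have ho0 : orderOf y ≠ 0 := (orderOf_pos y).ne'
  have key : ∀ s : ℕ, s.Prime → s ∣ orderOf y → s ≠ 2 ∧ s ≠ 3 ∧ ¬ s ∣ 4 * t + 1 ∧ ¬ s ∣ 2 * t + 1 := by
    intro s hs hso
    have hord : orderOf (y ^ (orderOf y / s)) = s := orderOf_pow_orderOf_div ho0 hso
    exact ree_no_comm hm hK R t ht hx hxP hs hord ((show Commute y x from hc).pow_left _).eq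
  have hcop : Nat.Coprime (orderOf y) 6 := by
    have h2 : Nat.Coprime (orderOf y) 2 :=
      ((Nat.Prime.coprime_iff_not_dvd Nat.prime_two).mpr (fun h => (key 2 Nat.prime_two h).1 rfl)).symm
    have h3 : Nat.Coprime (orderOf y) 3 :=
      ((Nat.Prime.coprime_iff_not_dvd Nat.prime_three).mpr (fun h => (key 3 Nat.prime_three h).2.1 rfl)).symm
    exact (Nat.Coprime.mul_right h2 h3 : Nat.Coprime (orderOf y) (2 * 3))
  rcases ree_order_cases hm hK R t ht y hcop with h | h | h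
  · by_cases hy1 : y = 1
    · rw [hy1, one_pow]
    · exfalso
      have ho1 : orderOf y ≠ 1 := fun h => hy1 (orderOf_eq_one_iff.mp h)
      obtain ⟨s, hs, hso⟩ := Nat.exists_prime_and_dvd ho1
      exact (key s hs hso).2.2.1 (hso.trans (orderOf_dvd_of_pow_eq_one h))
  · by_cases hy1 : y = 1
    · rw [hy1, one_pow]
    · exfalso
      have ho1 : orderOf y ≠ 1 := fun h => hy1 (orderOf_eq_one_iff.mp h)
      obtain ⟨s, hs, hso⟩ := Nat.exists_prime_and_dvd ho1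
      exact (key s hs hso).2.2.2 (hso.trans (orderOf_dvd_of_pow_eq_one h))
  · exact h

/-- A conjugate of `x` commuting with `x` is a `q`-power of `x`. -/
theorem ree_P_norm (hm : 1 ≤ m) (hK : Fintype.card K = 3 ^ (2 * m + 1)) (R : ReeData K (3 ^ m))
    (t : ℕ) (ht : 3 ^ (2 * m + 1) = 8 * t + 3) {x n : ↥(twistedG2 K (3 ^ m))}
    (hx : (orderOf x).Prime) (hxP : x ^ (64 * t ^ 2 + 40 * t + 7) = 1)
    (hc : n * x * n⁻¹ * x = x * (n * x * n⁻¹)) :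
    ∃ i : ℕ, i < 6 ∧ n * x * n⁻¹ = x ^ ((8 * t + 3) ^ i) := by
  have hKt : Fintype.card K = 8 * t + 3 := hK.trans ht
  obtain ⟨hx1, hx3, hxq, hord⟩ := ree_P_prime hK t ht hx hxP
  have hpF : Fact (orderOf x).Prime := ⟨hx⟩
  have hc3 := R.char3
  have hinj := reeRho_injective R (R.exists_big hm hK)
  have hxp : x ^ orderOf x = 1 := pow_orderOf_eq_one x
  have hzp : (n * x * n⁻¹) ^ orderOf x = 1 := by
    rw [conj_pow, hxp, mul_one, mul_inv_cancel]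
  obtain ⟨a, ha⟩ := ree_seven_pow hm hK R hxq hord hxp hzp hx1 hc.symm
  have hk : n * x * n⁻¹ = x ^ (a * (orderOf x - 1)) := by
    have h1 : x ^ a * x ^ (a * (orderOf x - 1)) = 1 := by
      rw [← pow_add]
      have e : a + a * (orderOf x - 1) = orderOf x * a := by
        obtain ⟨j, hj⟩ : ∃ j, orderOf x = j + 1 := ⟨orderOf x - 1, by omega⟩
        rw [hj, Nat.add_sub_cancel]
        ring
      rw [e, pow_mul, hxp, one_pow]
    exact mul_left_cancel (ha.trans h1.symm)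
  obtain ⟨i, hi, hxi⟩ := Cfsg.Agent.Lib.helper77.lin_norm_pow hxq hord finrank_longT
    (x := reeRho (K := K) (3 ^ m) x) (n := reeRho (K := K) (3 ^ m) n) (n' := reeRho (K := K) (3 ^ m) n⁻¹)
    (by rw [← map_pow, hxp, map_one]) (fun h => hx1 (hinj (by rw [h, map_one])))
    (by rw [← map_mul, mul_inv_cancel, map_one]) (by rw [← map_mul, inv_mul_cancel, map_one])
    (a * (orderOf x - 1)) (by rw [← map_mul, ← map_mul, hk, map_pow])
  refine ⟨i, hi, ?_⟩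
  rw [hk]
  apply hinj
  rw [map_pow, map_pow, hxi, hKt]

theorem ree_P_pow_six {G : Type*} [Group G] (t : ℕ) (x : G) (hxP : x ^ (64 * t ^ 2 + 40 * t + 7) = 1) :
    x ^ ((8 * t + 3) ^ 6) = x := by
  have e : (8 * t + 3) ^ 6 =
      (64 * t ^ 2 + 40 * t + 7) * ((512 * t ^ 3 + 576 * t ^ 2 + 216 * t + 26) * (8 * t + 4)) + 1 := by ring
  rw [e, pow_succ, pow_mul, hxP, one_pow, one_mul]

theorem ree_P_inj (hK : Fintype.card K = 3 ^ (2 * m + 1)) (t : ℕ) (ht : 3 ^ (2 * m + 1) = 8 * t + 3)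
    {x : ↥(twistedG2 K (3 ^ m))} (hx : (orderOf x).Prime) (hxP : x ^ (64 * t ^ 2 + 40 * t + 7) = 1)
    (i j : ℕ) (hi : i < 6) (hj : j < 6) (h : x ^ ((8 * t + 3) ^ i) = x ^ ((8 * t + 3) ^ j)) : i = j := by
  have hKt : Fintype.card K = 8 * t + 3 := hK.trans ht
  obtain ⟨hx1, hx3, hxq, hord⟩ := ree_P_prime hK t ht hx hxP
  rw [hKt] at hxq hord
  have aux : ∀ i j : ℕ, i ≤ j → j < 6 → x ^ ((8 * t + 3) ^ i) = x ^ ((8 * t + 3) ^ j) → i = j := by
    intro i j hij hj h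
    have h1 : (8 * t + 3) ^ i ≡ (8 * t + 3) ^ j [MOD orderOf x] := pow_eq_pow_iff_modEq.mp h
    obtain ⟨d, rfl⟩ := Nat.exists_eq_add_of_le hij
    rw [pow_add] at h1
    have hcop : Nat.Coprime (orderOf x) ((8 * t + 3) ^ i) :=
      Nat.Coprime.pow_right _ ((Nat.Prime.coprime_iff_not_dvd hx).mpr hxq)
    have h2 : 1 ≡ (8 * t + 3) ^ d [MOD orderOf x] := by
      apply Nat.ModEq.cancel_left_of_coprime hcop
      rw [mul_one]
      exact h1
    have h3 : orderOf x ∣ (8 * t + 3) ^ d - 1 :=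
      (Nat.modEq_iff_dvd' (Nat.one_le_pow _ _ (by omega))).mp h2
    have h6 := hord d h3
    omega
  rcases le_total i j with hij | hij
  · exact aux i j hij hj h
  · exact (aux j i hij hi h.symm).symm

/-- **The tori of order `q ± r + 1`.** -/
theorem ree_tori (hm : 1 ≤ m) (hK : Fintype.card K = 3 ^ (2 * m + 1)) (R : ReeData K (3 ^ m))
    (t : ℕ) (ht : 3 ^ (2 * m + 1) = 8 * t + 3) :
    ∃ T₁ T₂ : Subgroup ↥(twistedG2 K (3 ^ m)), IsCyclic ↥T₁ ∧ IsCyclic ↥T₂ ∧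
      Nat.card ↥T₁ = 8 * t + 3 + 1 - 3 ^ (m + 1) ∧ Nat.card ↥T₂ = 8 * t + 3 + 1 + 3 ^ (m + 1) ∧
      Nat.card ↥(Subgroup.normalizer (T₁ : Set ↥(twistedG2 K (3 ^ m)))) = 6 * (8 * t + 3 + 1 - 3 ^ (m + 1)) ∧
      Nat.card ↥(Subgroup.normalizer (T₂ : Set ↥(twistedG2 K (3 ^ m)))) = 6 * (8 * t + 3 + 1 + 3 ^ (m + 1)) ∧
      (∀ A₀ : Subgroup ↥(twistedG2 K (3 ^ m)), A₀ ≤ T₁ → A₀ ≠ ⊥ →
        Subgroup.normalizer (A₀ : Set ↥(twistedG2 K (3 ^ m))) =
          Subgroup.normalizer (T₁ : Set ↥(twistedG2 K (3 ^ m)))) ∧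
      (∀ A₀ : Subgroup ↥(twistedG2 K (3 ^ m)), A₀ ≤ T₂ → A₀ ≠ ⊥ →
        Subgroup.normalizer (A₀ : Set ↥(twistedG2 K (3 ^ m))) =
          Subgroup.normalizer (T₂ : Set ↥(twistedG2 K (3 ^ m)))) ∧
      (∀ g : ↥(twistedG2 K (3 ^ m)), g ≠ 1 → g ^ (64 * t ^ 2 + 40 * t + 7) = 1 →
        ∃ c : ↥(twistedG2 K (3 ^ m)), c⁻¹ * g * c ∈ T₁ ∨ c⁻¹ * g * c ∈ T₂) := by
  obtain ⟨hfin, hG⟩ := ree_finite hK R t ht
  obtain ⟨h3q, h3t⟩ := ree_three_dvd t ht
  obtain ⟨hX, -, -⟩ := ree_ward_count' hm hK R t ht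
  have hP : (8 * t + 3) ^ 2 - (8 * t + 3) + 1 = 64 * t ^ 2 + 40 * t + 7 := by
    have h : (8 * t + 3) ^ 2 = (64 * t ^ 2 + 40 * t + 6) + (8 * t + 3) := by ring
    rw [h, Nat.add_sub_cancel]
  have hq2 : (8 * t + 3) ^ 2 - 1 = (8 * t + 2) * (8 * t + 4) := by
    have h : (8 * t + 3) ^ 2 = (8 * t + 2) * (8 * t + 4) + 1 := by ring
    rw [h, Nat.add_sub_cancel]
  have e1 : 8 * t + 3 - 1 = 8 * t + 2 := by omega
  have e2 : 8 * t + 3 - 2 = 8 * t + 1 := by omega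
  have hcyc : ∀ (p : ℕ) [Fact p.Prime], p ∣ 64 * t ^ 2 + 40 * t + 7 →
      ∀ P : Sylow p ↥(twistedG2 K (3 ^ m)), IsCyclic ↥(P : Subgroup ↥(twistedG2 K (3 ^ m))) := by
    intro p hp hpP P
    obtain ⟨h2, h3, -, -⟩ := ree_ord_six hp.out hpP h3q
    have h2le := hp.out.two_le
    exact ree_sylow_cyclic hm hK (by omega) P
  have hG' : Nat.card ↥(twistedG2 K (3 ^ m)) = (8 * t + 3) ^ 3 * ((8 * t + 3) ^ 3 + 1) * (8 * t + 3 - 1) := by
    rw [e1]
    exact hG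
  have hX' : 3 * Nat.card {g : ↥(twistedG2 K (3 ^ m)) // g ≠ 1 ∧ g ^ ((8 * t + 3) ^ 2 - (8 * t + 3) + 1) = 1} =
      (8 * t + 3) ^ 4 * ((8 * t + 3) ^ 2 - 1) * (8 * t + 3 - 2) := by
    rw [hP, hq2, e2]
    exact hX
  have hr : 3 ^ (m + 1) * 3 ^ (m + 1) = 3 * (8 * t + 3) := by
    rw [← ht]
    ring
  obtain ⟨T₁, T₂, h1, h2, h3, h4, h5, h6, h7, h8, h9⟩ :=
    Cfsg.Agent.Lib.helper46.ward_tori_global (G := ↥(twistedG2 K (3 ^ m))) (8 * t + 3) (3 ^ (m + 1))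
      (ree_q_ge hm t ht) h3q ⟨4 * t + 1, by ring⟩ hr hG' hX'
      (by rw [hP]; exact hcyc)
      (by
        rw [hP]
        intro x hx hxP T hT
        exact Cfsg.Agent.Lib.helper1.ward_torus_local (64 * t ^ 2 + 40 * t + 7) (8 * t + 3)
          (fun x hx hxP c₁ c₂ hc₁ hc₂ => by
            obtain ⟨hx1, hx3, hxq, hord⟩ := ree_P_prime hK t ht hx hxP
            have hpF : Fact (orderOf x).Prime := ⟨hx⟩
            exact ree_seven_cent hm hK R hxq hord (pow_orderOf_eq_one x) hx1 hc₁ hc₂)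
          (fun x y hx hxP hc => ree_P_exp hm hK R t ht hx hxP hc)
          hcyc
          (fun x n hx hxP hc => ree_P_norm hm hK R t ht hx hxP hc)
          (fun x hxP => ree_P_pow_six t x hxP)
          (fun x hx hxP i j hi hj h => ree_P_inj hK t ht hx hxP i j hi hj h)
          x hx hxP T hT)
  exact ⟨T₁, T₂, h1, h2, h3, h4, h5, h6, h7, h8, fun g hg1 hg => h9 g hg1 (by rw [hP]; exact hg)⟩

end Cfsg.Agent.Lib.helper44
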