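import Cfsg.Agent.Lib.helper44.ReeWardE

set_option autoImplicit false
set_option maxRecDepth 100000

/-!
# Normalizers of the cyclic subgroups of order `(q - 1) / 2` and `(q + 1) / 4` of the small Ree groups
-/

namespace Cfsg.Agent.Lib.helper44

open Cfsg Cfsg.Lie Cfsg.Agent.Lib.helper41 Cfsg.Agent.Lib.helper22 Cfsg.Agent.Lib.helper23

section AbsTI

variable {G : Type*} [Group G] [Finite G]

omit [Finite G] in
theorem conj_inv_pow (c g : G) (k : ℕ) : (c⁻¹ * g * c) ^ k = c⁻¹ * g ^ k * c := by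
  have h := conj_pow (a := c⁻¹) (b := g) (i := k)
  rwa [inv_inv] at h

/-- The number of non-trivial elements conjugate into a subgroup `T` with the trivial-intersection property. -/
theorem card_ti_class (T : Subgroup G)
    (key : ∀ n y : G, y ∈ T → y ≠ 1 → n * y * n⁻¹ ∈ T → n ∈ Subgroup.normalizer (T : Set G)) :
    Nat.card {g : G // g ≠ 1 ∧ ∃ c : G, c⁻¹ * g * c ∈ T} * Nat.card ↥(Subgroup.normalizer (T : Set G)) =
      Nat.card G * (Nat.card ↥T - 1) := by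
  classical
  have hcb : ∀ b : {g : G // g ≠ 1 ∧ ∃ c : G, c⁻¹ * g * c ∈ T},
      (Classical.choose b.2.2)⁻¹ * (b : G) * Classical.choose b.2.2 ∈ T :=
    fun b => Classical.choose_spec b.2.2
  have htb1 : ∀ b : {g : G // g ≠ 1 ∧ ∃ c : G, c⁻¹ * g * c ∈ T},
      (Classical.choose b.2.2)⁻¹ * (b : G) * Classical.choose b.2.2 ≠ 1 := by
    intro b h
    apply b.2.1
    have e : (b : G) = Classical.choose b.2.2 *
        ((Classical.choose b.2.2)⁻¹ * (b : G) * Classical.choose b.2.2) *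
        (Classical.choose b.2.2)⁻¹ := by group
    rw [e, h]
    group
  have hmemT : ∀ (b : {g : G // g ≠ 1 ∧ ∃ c : G, c⁻¹ * g * c ∈ T})
      (n : ↥(Subgroup.normalizer (T : Set G))),
      (n : G) * ((Classical.choose b.2.2)⁻¹ * (b : G) * Classical.choose b.2.2) * (n : G)⁻¹ ∈ T :=
    fun b n => (Subgroup.mem_normalizer_iff.1 n.2 _).1 (hcb b)
  have hne1 : ∀ (b : {g : G // g ≠ 1 ∧ ∃ c : G, c⁻¹ * g * c ∈ T})
      (n : ↥(Subgroup.normalizer (T : Set G))),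
      (⟨_, hmemT b n⟩ : ↥T) ≠ 1 := by
    intro b n h
    have h' := congrArg Subtype.val h
    exact htb1 b (conj_eq_one_iff.1 h')
  let Ψ : {g : G // g ≠ 1 ∧ ∃ c : G, c⁻¹ * g * c ∈ T} × ↥(Subgroup.normalizer (T : Set G)) →
      G × {t : ↥T // t ≠ 1} := fun bn =>
    (Classical.choose bn.1.2.2 * (bn.2 : G)⁻¹, ⟨⟨_, hmemT bn.1 bn.2⟩, hne1 bn.1 bn.2⟩)
  have hΨinj : Function.Injective Ψ := by
    rintro ⟨b, n⟩ ⟨b', n'⟩ h
    have h1 : Classical.choose b.2.2 * (n : G)⁻¹ = Classical.choose b'.2.2 * (n' : G)⁻¹ :=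
      congrArg Prod.fst h
    have h2 : (n : G) * ((Classical.choose b.2.2)⁻¹ * (b : G) * Classical.choose b.2.2) * (n : G)⁻¹
        = (n' : G) * ((Classical.choose b'.2.2)⁻¹ * (b' : G) * Classical.choose b'.2.2) * (n' : G)⁻¹ :=
      congrArg (fun z : G × {t : ↥T // t ≠ 1} => ((z.2 : ↥T) : G)) h
    have hb : (b : G) = b' := by
      have e1 : (b : G) = (Classical.choose b.2.2 * (n : G)⁻¹) *
          ((n : G) * ((Classical.choose b.2.2)⁻¹ * (b : G) * Classical.choose b.2.2) * (n : G)⁻¹) *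
          (Classical.choose b.2.2 * (n : G)⁻¹)⁻¹ := by group
      have e2 : (b' : G) = (Classical.choose b'.2.2 * (n' : G)⁻¹) *
          ((n' : G) * ((Classical.choose b'.2.2)⁻¹ * (b' : G) * Classical.choose b'.2.2) * (n' : G)⁻¹) *
          (Classical.choose b'.2.2 * (n' : G)⁻¹)⁻¹ := by group
      rw [e1, e2, h1, h2]
    have hbb : b = b' := Subtype.ext hb
    subst hbb
    have hn : (n : G) = n' := inv_injective (mul_left_cancel h1)
    have hnn : n = n' := Subtype.ext hn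
    rw [hnn]
  have hΨsurj : Function.Surjective Ψ := by
    rintro ⟨c, ⟨⟨t, htT⟩, ht1⟩⟩
    have ht1' : t ≠ 1 := fun h => ht1 (Subtype.ext h)
    have hg1 : c * t * c⁻¹ ≠ 1 := fun h => ht1' (conj_eq_one_iff.1 h)
    have hgc : c⁻¹ * (c * t * c⁻¹) * c ∈ T := by
      have e : c⁻¹ * (c * t * c⁻¹) * c = t := by group
      rw [e]; exact htT
    have hn : ∀ d : G, d⁻¹ * (c * t * c⁻¹) * d ∈ T → d⁻¹ * (c * t * c⁻¹) * d ≠ 1 →
        c⁻¹ * d ∈ Subgroup.normalizer (T : Set G) := by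
      intro d hd hd1
      refine key (c⁻¹ * d) (d⁻¹ * (c * t * c⁻¹) * d) hd hd1 ?_
      have e : c⁻¹ * d * (d⁻¹ * (c * t * c⁻¹) * d) * (c⁻¹ * d)⁻¹ = t := by group
      rw [e]; exact htT
    refine ⟨(⟨c * t * c⁻¹, hg1, ⟨c, hgc⟩⟩,
      ⟨c⁻¹ * Classical.choose (⟨c, hgc⟩ : ∃ c' : G, c'⁻¹ * (c * t * c⁻¹) * c' ∈ T),
        hn _ (hcb ⟨c * t * c⁻¹, hg1, ⟨c, hgc⟩⟩) (htb1 ⟨c * t * c⁻¹, hg1, ⟨c, hgc⟩⟩)⟩), ?_⟩
    apply Prod.ext
    · show Classical.choose (⟨c, hgc⟩ : ∃ c' : G, c'⁻¹ * (c * t * c⁻¹) * c' ∈ T) *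
          (c⁻¹ * Classical.choose (⟨c, hgc⟩ : ∃ c' : G, c'⁻¹ * (c * t * c⁻¹) * c' ∈ T))⁻¹ = c
      group
    · apply Subtype.ext
      apply Subtype.ext
      show (c⁻¹ * Classical.choose (⟨c, hgc⟩ : ∃ c' : G, c'⁻¹ * (c * t * c⁻¹) * c' ∈ T)) *
          ((Classical.choose (⟨c, hgc⟩ : ∃ c' : G, c'⁻¹ * (c * t * c⁻¹) * c' ∈ T))⁻¹ *
            (c * t * c⁻¹) * Classical.choose (⟨c, hgc⟩ : ∃ c' : G, c'⁻¹ * (c * t * c⁻¹) * c' ∈ T)) *
          (c⁻¹ * Classical.choose (⟨c, hgc⟩ : ∃ c' : G, c'⁻¹ * (c * t * c⁻¹) * c' ∈ T))⁻¹ = t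
      group
  have hcard := Nat.card_congr (Equiv.ofBijective Ψ ⟨hΨinj, hΨsurj⟩)
  rw [Nat.card_prod, Nat.card_prod] at hcard
  have hT1 : Nat.card {t : ↥T // t ≠ 1} = Nat.card ↥T - 1 := by
    have h := Nat.card_congr (Equiv.optionSubtypeNe (1 : ↥T))
    rw [Finite.card_option] at h
    omega
  rw [hcard, hT1]

/-- A cyclic subgroup has elements of every order dividing its order. -/
theorem exists_orderOf_eq_of_cyclic (T : Subgroup G) (hT : IsCyclic ↥T) (d : ℕ) (hd : d ∣ Nat.card ↥T) :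
    ∃ x ∈ T, orderOf x = d := by
  obtain ⟨g, hg⟩ := hT.exists_generator
  have ho : orderOf g = Nat.card ↥T := orderOf_eq_card_of_forall_mem_zpowers hg
  have ho' : orderOf (g : G) = Nat.card ↥T := by rw [Subgroup.orderOf_coe, ho]
  have hpos : 0 < Nat.card ↥T := Nat.card_pos
  obtain ⟨e, he⟩ := hd
  have he0 : e ≠ 0 := by
    rintro rfl
    rw [mul_zero] at he
    omega
  refine ⟨(g : G) ^ e, T.pow_mem g.2 e, ?_⟩
  rw [orderOf_pow_of_dvd he0 (by rw [ho', he]; exact dvd_mul_left e d), ho', he,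
    Nat.mul_div_cancel _ (Nat.pos_of_ne_zero he0)]

/-- The normalizers of the subgroups of the odd part `A` of a torus `B`, and the number of elements
conjugate into `A`. -/
theorem torus_odd_part {B : Subgroup G} {N : ℕ} (hB : TorusData B N) (A : Subgroup G) (hAB : A ≤ B)
    (hA1 : A ≠ ⊥) (hAN : Nat.card ↥A = N)
    (hchar : ∀ A₀ : Subgroup G, A₀ ≤ A → ∀ x ∈ B, x ^ Nat.card ↥A₀ = 1 → x ∈ A₀) :
    (∀ A₀ : Subgroup G, A₀ ≤ A → A₀ ≠ ⊥ →
      Subgroup.normalizer (A₀ : Set G) = Subgroup.normalizer (A : Set G)) ∧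
    Nat.card {g : G // g ≠ 1 ∧ g ^ N = 1} * Nat.card ↥(Subgroup.normalizer (A : Set G)) =
      Nat.card G * (N - 1) := by
  have hpowA : ∀ A₀ : Subgroup G, ∀ h ∈ A₀, h ^ Nat.card ↥A₀ = 1 := by
    intro A₀ h hh
    have h1 : (⟨h, hh⟩ : ↥A₀) ^ Nat.card ↥A₀ = 1 := pow_card_eq_one'
    have h2 := congrArg Subtype.val h1
    rwa [Subgroup.coe_pow, Subgroup.coe_one] at h2
  have key1 : ∀ n y : G, y ∈ A → y ≠ 1 → n * y * n⁻¹ ∈ A → n ∈ Subgroup.normalizer (B : Set G) := by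
    intro n y hy hy1 hny
    have hyN : y ^ N = 1 := by
      rw [← hAN]
      exact hpowA A y hy
    have ho1 : orderOf y ≠ 1 := fun h => hy1 (orderOf_eq_one_iff.mp h)
    obtain ⟨s, hs, hso⟩ := Nat.exists_prime_and_dvd ho1
    have hsN : s ∣ N := hso.trans (orderOf_dvd_of_pow_eq_one hyN)
    have ho0 : orderOf y ≠ 0 := (orderOf_pos y).ne'
    have hord : orderOf (y ^ (orderOf y / s)) = s := orderOf_pow_orderOf_div ho0 hso
    have hy'B : y ^ (orderOf y / s) ∈ B := hAB (A.pow_mem hy _)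
    have hz'B : n * y ^ (orderOf y / s) * n⁻¹ ∈ B := by
      rw [← conj_pow]
      exact hAB (A.pow_mem hny _)
    have hz'o : orderOf (n * y ^ (orderOf y / s) * n⁻¹) = s := by
      have h1 := (MulAut.conj n).orderOf_eq (y ^ (orderOf y / s))
      rw [MulAut.conj_apply] at h1
      rw [h1, hord]
    rw [Subgroup.mem_normalizer_iff]
    intro h
    constructor
    · intro hh
      apply hB.cent s hs hsN _ hz'B hz'o
      have e := hB.comm h hh _ hy'B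
      calc n * h * n⁻¹ * (n * y ^ (orderOf y / s) * n⁻¹) = n * (h * y ^ (orderOf y / s)) * n⁻¹ := by group
        _ = n * (y ^ (orderOf y / s) * h) * n⁻¹ := by rw [e]
        _ = n * y ^ (orderOf y / s) * n⁻¹ * (n * h * n⁻¹) := by group
    · intro hh
      apply hB.cent s hs hsN _ hy'B hord
      have e := hB.comm _ hh _ hz'B
      have e1 : h * y ^ (orderOf y / s) =
          n⁻¹ * (n * h * n⁻¹ * (n * y ^ (orderOf y / s) * n⁻¹)) * n := by group
      have e2 : y ^ (orderOf y / s) * h =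
          n⁻¹ * (n * y ^ (orderOf y / s) * n⁻¹ * (n * h * n⁻¹)) * n := by group
      rw [e1, e2, e]
  have hNB : ∀ A₀ : Subgroup G, A₀ ≤ A → A₀ ≠ ⊥ →
      Subgroup.normalizer (A₀ : Set G) = Subgroup.normalizer (B : Set G) := by
    intro A₀ hA₀ hA₀1
    obtain ⟨y, hyA, hy1⟩ := (A₀.bot_or_exists_ne_one).resolve_left hA₀1
    apply le_antisymm
    · intro n hn
      have hny : n * y * n⁻¹ ∈ A₀ := (Subgroup.mem_normalizer_iff.1 hn y).1 hyA
      exact key1 n y (hA₀ hyA) hy1 (hA₀ hny)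
    · intro n hn
      rw [Subgroup.mem_normalizer_iff]
      intro h
      constructor
      · intro hh
        have hT' : n * h * n⁻¹ ∈ B := (Subgroup.mem_normalizer_iff.1 hn h).1 (hAB (hA₀ hh))
        apply hchar A₀ hA₀ _ hT'
        rw [conj_pow, hpowA A₀ h hh]
        group
      · intro hh
        have hT' : h ∈ B := (Subgroup.mem_normalizer_iff.1 hn h).2 (hAB (hA₀ hh))
        apply hchar A₀ hA₀ _ hT'
        have h3 := hpowA A₀ _ hh
        rw [conj_pow] at h3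
        exact conj_eq_one_iff.1 h3
  have hNA := hNB A le_rfl hA1
  refine ⟨fun A₀ hA₀ hA₀1 => (hNB A₀ hA₀ hA₀1).trans hNA.symm, ?_⟩
  have hcount := card_ti_class A (fun n y hy hy1 hny => by rw [hNA]; exact key1 n y hy hy1 hny)
  rw [hAN] at hcount
  rw [← hcount]
  congr 1
  apply card_congr_iff
  intro g
  constructor
  · rintro ⟨hg1, hgN⟩
    refine ⟨hg1, ?_⟩
    have ho1 : orderOf g ≠ 1 := fun h => hg1 (orderOf_eq_one_iff.mp h)
    obtain ⟨s, hs, hso⟩ := Nat.exists_prime_and_dvd ho1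
    have hsN : s ∣ N := hso.trans (orderOf_dvd_of_pow_eq_one hgN)
    obtain ⟨c, hc⟩ := exists_conj_cent_mem hB hs hsN hso
    refine ⟨c, hchar A le_rfl _ (hc g rfl) ?_⟩
    rw [hAN, conj_inv_pow, hgN]
    group
  · rintro ⟨hg1, c, hc⟩
    refine ⟨hg1, ?_⟩
    have h := hpowA A _ hc
    rw [hAN, conj_inv_pow] at h
    have e : g ^ N = c * (c⁻¹ * g ^ N * c) * c⁻¹ := by group
    rw [e, h]
    group

end AbsTI

variable {K : Type*} [Field K] [Fintype K] {m : ℕ}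

/-- The cyclic subgroup of order `(q - 1) / 2` and its normalizer, of order `2 (q - 1)`. -/
theorem ree_norm_split (hm : 1 ≤ m) (hK : Fintype.card K = 3 ^ (2 * m + 1)) (R : ReeData K (3 ^ m))
    (t : ℕ) (ht : 3 ^ (2 * m + 1) = 8 * t + 3) :
    ∃ A : Subgroup ↥(twistedG2 K (3 ^ m)), IsCyclic ↥A ∧ Nat.card ↥A = 4 * t + 1 ∧
      Nat.card ↥(Subgroup.normalizer (A : Set ↥(twistedG2 K (3 ^ m)))) = 2 * (8 * t + 2) ∧
      ∀ A₀ : Subgroup ↥(twistedG2 K (3 ^ m)), A₀ ≤ A → A₀ ≠ ⊥ →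
        Subgroup.normalizer (A₀ : Set ↥(twistedG2 K (3 ^ m))) =
          Subgroup.normalizer (A : Set ↥(twistedG2 K (3 ^ m))) := by
  obtain ⟨hfin, hG⟩ := ree_finite hK R t ht
  have ht3 := ree_q_ge hm t ht
  obtain ⟨T, hTcyc, hTcard, hT⟩ := ree_split_data' hm hK R t ht
  obtain ⟨x, hxT, hxo⟩ := exists_orderOf_eq_of_cyclic T hTcyc (4 * t + 1) (by rw [hTcard]; exact ⟨2, by ring⟩)
  have hAcard : Nat.card ↥(Subgroup.zpowers x) = 4 * t + 1 := by rw [Nat.card_zpowers, hxo]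
  have hAT : Subgroup.zpowers x ≤ T := (Subgroup.zpowers_le).mpr hxT
  have hA1 : Subgroup.zpowers x ≠ ⊥ := by
    intro h
    rw [h, Subgroup.card_bot] at hAcard
    omega
  obtain ⟨hN, hcount⟩ := torus_odd_part hT (Subgroup.zpowers x) hAT hA1 hAcard
    (fun A₀ hA₀ y hy hpow => Cfsg.Agent.Lib.helper1.wtl_mem_of_pow_card T A₀ hTcyc (hA₀.trans hAT) hy hpow)
  obtain ⟨-, hc2, -⟩ := ree_ward_count' hm hK R t ht
  rw [hc2, hG] at hcount
  refine ⟨Subgroup.zpowers x, inferInstance, hAcard, ?_, hN⟩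
  have e1 : 4 * t + 1 - 1 = 4 * t := by omega
  rw [e1] at hcount
  have hX : 0 < (8 * t + 3) ^ 2 * (64 * t ^ 2 + 40 * t + 7) * ((8 * t + 3) * (2 * t + 1) * (8 * t)) :=
    Nat.mul_pos (by positivity) (Nat.mul_pos (by positivity) (by omega))
  apply Nat.eq_of_mul_eq_mul_left hX
  rw [hcount]
  ring

/-- The cyclic subgroup of order `(q + 1) / 4` and its normalizer, of order `6 (q + 1)`. -/
theorem ree_norm_quarter (hm : 1 ≤ m) (hK : Fintype.card K = 3 ^ (2 * m + 1)) (R : ReeData K (3 ^ m))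
    (t : ℕ) (ht : 3 ^ (2 * m + 1) = 8 * t + 3) :
    ∃ A : Subgroup ↥(twistedG2 K (3 ^ m)), IsCyclic ↥A ∧ Nat.card ↥A = 2 * t + 1 ∧
      Nat.card ↥(Subgroup.normalizer (A : Set ↥(twistedG2 K (3 ^ m)))) = 6 * (8 * t + 4) ∧
      ∀ A₀ : Subgroup ↥(twistedG2 K (3 ^ m)), A₀ ≤ A → A₀ ≠ ⊥ →
        Subgroup.normalizer (A₀ : Set ↥(twistedG2 K (3 ^ m))) =
          Subgroup.normalizer (A : Set ↥(twistedG2 K (3 ^ m))) := by
  obtain ⟨hfin, hG⟩ := ree_finite hK R t ht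
  have ht3 := ree_q_ge hm t ht
  obtain ⟨B, Z, a, b, φG, hZcyc, hodd, hBd, hBcard, -, -, -, -, -, -, -, hZB, hZcard, -⟩ :=
    ree_pack hm hK R t ht
  obtain ⟨x, hxZ, hxo⟩ := exists_orderOf_eq_of_cyclic Z hZcyc (2 * t + 1) (by rw [hZcard]; exact ⟨2, by ring⟩)
  have hAcard : Nat.card ↥(Subgroup.zpowers x) = 2 * t + 1 := by rw [Nat.card_zpowers, hxo]
  have hAZ : Subgroup.zpowers x ≤ Z := (Subgroup.zpowers_le).mpr hxZ
  have hA1 : Subgroup.zpowers x ≠ ⊥ := by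
    intro h
    rw [h, Subgroup.card_bot] at hAcard
    omega
  obtain ⟨hN, hcount⟩ := torus_odd_part hBd (Subgroup.zpowers x) (hAZ.trans hZB) hA1 hAcard
    (fun A₀ hA₀ y hy hpow => by
      have hdvd : Nat.card ↥A₀ ∣ 2 * t + 1 := by
        rw [← hAcard]
        exact Subgroup.card_dvd_of_le hA₀
      have hoddc : Odd (Nat.card ↥A₀) := Odd.of_dvd_nat ⟨t, rfl⟩ hdvd
      have hyodd : Odd (orderOf y) := Odd.of_dvd_nat hoddc (orderOf_dvd_of_pow_eq_one hpow)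
      exact Cfsg.Agent.Lib.helper1.wtl_mem_of_pow_card Z A₀ hZcyc (hA₀.trans hAZ) (hodd y hy hyodd) hpow)
  obtain ⟨-, -, hc3⟩ := ree_ward_count' hm hK R t ht
  rw [hG] at hcount
  refine ⟨Subgroup.zpowers x, inferInstance, hAcard, ?_, hN⟩
  have e1 : 2 * t + 1 - 1 = 2 * t := by omega
  rw [e1] at hcount
  have hX : 0 < (8 * t + 3) ^ 2 * (64 * t ^ 2 + 40 * t + 7) * ((8 * t + 3) * (4 * t + 1) * (2 * t)) :=
    Nat.mul_pos (by positivity) (Nat.mul_pos (by positivity) (by omega))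
  have h3 : (8 * t + 3) ^ 2 * (64 * t ^ 2 + 40 * t + 7) * ((8 * t + 3) * (4 * t + 1) * (2 * t)) *
      Nat.card ↥(Subgroup.normalizer ((Subgroup.zpowers x : Subgroup ↥(twistedG2 K (3 ^ m))) :
        Set ↥(twistedG2 K (3 ^ m)))) =
      3 * ((8 * t + 3) ^ 3 * ((8 * t + 3) ^ 3 + 1) * (8 * t + 2) * (2 * t)) := by
    rw [← hc3, mul_assoc, hcount]
  apply Nat.eq_of_mul_eq_mul_left hX
  rw [h3]
  ring

end Cfsg.Agent.Lib.helper44
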