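import Cfsg.Agent.Lib.helper44.ReeWardF
import Cfsg.Agent.Lib.helper44.ReeOutA

set_option autoImplicit false
set_option maxRecDepth 100000

/-!
# The element orders of the small Ree groups
-/

namespace Cfsg.Agent.Lib.helper44

open Cfsg Cfsg.Lie Cfsg.Agent.Lib.helper41 Cfsg.Agent.Lib.helper22 Cfsg.Agent.Lib.helper23

variable {K : Type*} [Field K] [Fintype K] {m : ℕ}

omit [Fintype K] in
/-- The elements of `U¹` have order dividing 9. -/
theorem ree_pow_nine' {e : ℕ} (R : ReeData K e) {x : GL chevG2.Idx K}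
    (hx : x ∈ chevG2.posUnipotent K ⊓ twistedG2 K e) : x ^ 9 = 1 := by
  obtain ⟨t, u, v, hxv⟩ := (R.pos_inf_twisted x).mp hx
  obtain ⟨v₃, h1, h2⟩ := ree_cube_coord R hxv
  obtain ⟨v₃', h1', h2'⟩ := ree_cube_coord R h1
  have hv : v₃' = 0 := by
    rw [mul_zero, mul_zero] at h2'
    exact (pow_eq_zero_iff R.e_ne_zero).mp h2'
  rw [hv, R.wordMat_reeU_zero] at h1'
  have e9 : x ^ 9 = (x * x * x) * (x * x * x) * (x * x * x) := by
    rw [show 9 = 3 * 3 by norm_num, pow_mul, pow_three', pow_three']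
  rw [e9]
  apply Units.ext
  rw [h1', Units.val_one]

/-- The 3-elements of the small Ree groups have order dividing 9. -/
theorem ree_three_elt_pow_nine (hK : Fintype.card K = 3 ^ (2 * m + 1)) (R : ReeData K (3 ^ m))
    (t : ℕ) (ht : 3 ^ (2 * m + 1) = 8 * t + 3) (g : ↥(twistedG2 K (3 ^ m))) (k : ℕ)
    (hg : g ^ (3 ^ k) = 1) : g ^ 9 = 1 := by
  obtain ⟨hfin, hG⟩ := ree_finite hK R t ht
  have h3 : Fact (Nat.Prime 3) := ⟨Nat.prime_three⟩
  obtain ⟨S₀, hS₀⟩ := R.exists_sylow hK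
  have hz : IsPGroup 3 ↥(Subgroup.zpowers g) := by
    obtain ⟨j, -, hj⟩ := (Nat.dvd_prime_pow Nat.prime_three).mp (orderOf_dvd_of_pow_eq_one hg)
    exact IsPGroup.of_card (n := j) (by rw [Nat.card_zpowers, hj])
  obtain ⟨Q', hQ'⟩ := hz.exists_le_sylow
  obtain ⟨c, hc⟩ := MulAction.exists_smul_eq ↥(twistedG2 K (3 ^ m)) S₀ Q'
  have hmem : ∀ x : ↥(twistedG2 K (3 ^ m)), x ∈ (Q' : Subgroup ↥(twistedG2 K (3 ^ m))) ↔
      c⁻¹ * x * c ∈ (S₀ : Subgroup ↥(twistedG2 K (3 ^ m))) := by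
    intro x
    rw [← hc, Sylow.coe_subgroup_smul, Subgroup.mem_pointwise_smul_iff_inv_smul_mem, MulAut.smul_def,
      MulAut.conj_inv_apply]
  have h1 : c⁻¹ * g * c ∈ S₀ := (hmem g).mp (hQ' (Subgroup.mem_zpowers g))
  have h2 : ((c⁻¹ * g * c : ↥(twistedG2 K (3 ^ m))) : GL chevG2.Idx K) ∈ chevG2.posUnipotent K :=
    (hS₀ _).mp h1
  have h3' := ree_pow_nine' R (Subgroup.mem_inf.mpr ⟨h2, (c⁻¹ * g * c).2⟩)
  have h4 : (c⁻¹ * g * c) ^ 9 = 1 := by
    apply Subtype.ext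
    rw [Subgroup.coe_pow, Subgroup.coe_one]
    exact h3'
  rw [conj_inv_pow] at h4
  have e : g ^ 9 = c * (c⁻¹ * g ^ 9 * c) * c⁻¹ := by group
  rw [e, h4]
  group

/-- There is an element of order 9. -/
theorem ree_exists_order_nine {e : ℕ} (R : ReeData K e) : ∃ g : ↥(twistedG2 K e), orderOf g = 9 := by
  have h3 : Fact (Nat.Prime 3) := ⟨Nat.prime_three⟩
  obtain ⟨y₁, hy₁⟩ := exists_word (reeWordU e (1 : K) 0 0)
  have hy₁U := reeU_mem_pos R _ _ _ y₁ hy₁
  have hy₁Γ : y₁ ∈ twistedG2 K e := reeU_mem_twisted _ _ _ y₁ hy₁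
  have hne := R.cube_ne_one hy₁ one_ne_zero
  have h9 := ree_pow_nine' R (Subgroup.mem_inf.mpr ⟨hy₁U, hy₁Γ⟩)
  have ho : orderOf y₁ = 3 ^ (1 + 1) :=
    orderOf_eq_prime_pow (by rw [pow_one]; exact hne) (by norm_num; exact h9)
  refine ⟨⟨y₁, hy₁Γ⟩, ?_⟩
  rw [← Subgroup.orderOf_coe, ho]
  norm_num

/-- There is an element of order 6. -/
theorem ree_exists_order_six (hm : 1 ≤ m) (hK : Fintype.card K = 3 ^ (2 * m + 1)) (R : ReeData K (3 ^ m))
    (t : ℕ) (ht : 3 ^ (2 * m + 1) = 8 * t + 3) : ∃ g : ↥(twistedG2 K (3 ^ m)), orderOf g = 6 := by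
  obtain ⟨hfin, hG⟩ := ree_finite hK R t ht
  obtain ⟨a, L, W, hLcard, hN1, -, -⟩ := ree_ward_data' hm hK R t ht
  have hex : ∃ l : ↥(twistedG2 K (3 ^ m)), l ∈ L ∧ l ^ 3 = 1 ∧ l ≠ 1 := by
    by_contra hcon
    have hsub : Subsingleton {l : ↥(twistedG2 K (3 ^ m)) // l ∈ L ∧ l ^ 3 = 1} := ⟨fun u v => Subtype.ext (by
      have hu : u.1 = 1 := by
        by_contra h
        exact hcon ⟨u.1, u.2.1, u.2.2, h⟩
      have hv : v.1 = 1 := by
        by_contra h
        exact hcon ⟨v.1, v.2.1, v.2.2, h⟩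
      rw [hu, hv])⟩
    have hle : Nat.card {l : ↥(twistedG2 K (3 ^ m)) // l ∈ L ∧ l ^ 3 = 1} ≤ 1 :=
      Finite.card_le_one_iff_subsingleton.mpr hsub
    rw [hN1] at hle
    nlinarith
  obtain ⟨l, hlL, hl3, hl1⟩ := hex
  have hlo : orderOf l = 3 := orderOf_eq_prime hl3 hl1
  have hao : orderOf a = 2 := W.orderOf_a
  have hcomm : Commute a l := (W.comm_of_mem hlL).symm
  have h6 := hcomm.orderOf_mul_eq_mul_orderOf_of_coprime (by rw [hao, hlo]; decide)
  exact ⟨a * l, by rw [h6, hao, hlo]⟩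

/-- The order of every element divides one of `6`, `9`, `q - 1`, `(q + 1) / 2`, `q - r + 1`, `q + r + 1`. -/
theorem ree_orders_fwd (hm : 1 ≤ m) (hK : Fintype.card K = 3 ^ (2 * m + 1)) (R : ReeData K (3 ^ m))
    (t : ℕ) (ht : 3 ^ (2 * m + 1) = 8 * t + 3) (g : ↥(twistedG2 K (3 ^ m))) :
    orderOf g ∣ 6 ∨ orderOf g ∣ 9 ∨ orderOf g ∣ 8 * t + 2 ∨ orderOf g ∣ 4 * t + 2 ∨
      orderOf g ∣ 8 * t + 3 + 1 - 3 ^ (m + 1) ∨ orderOf g ∣ 8 * t + 3 + 1 + 3 ^ (m + 1) := by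
  obtain ⟨hfin, hG⟩ := ree_finite hK R t ht
  by_cases hev : Even (orderOf g)
  · obtain ⟨a, L, W, -⟩ := ree_ward_data' hm hK R t ht
    have ho0 : orderOf g ≠ 0 := (orderOf_pos g).ne'
    have h2 : 2 ∣ orderOf g := even_iff_two_dvd.mp hev
    have hzo : orderOf (g ^ (orderOf g / 2)) = 2 := orderOf_pow_orderOf_div ho0 h2
    have hz1 : g ^ (orderOf g / 2) ≠ 1 := by
      intro h
      rw [h, orderOf_one] at hzo
      omega
    have hz2 : g ^ (orderOf g / 2) * g ^ (orderOf g / 2) = 1 := by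
      have h := pow_orderOf_eq_one (g ^ (orderOf g / 2))
      rw [hzo, pow_two] at h
      exact h
    obtain ⟨c, hcz⟩ := W.conj _ hz1 hz2
    have hgz : g * g ^ (orderOf g / 2) = g ^ (orderOf g / 2) * g := ((Commute.refl g).pow_right _).eq
    have hca : c⁻¹ * g * c * a = a * (c⁻¹ * g * c) := by
      have e1 : a = c⁻¹ * g ^ (orderOf g / 2) * c := by
        rw [← hcz]
        group
      rw [e1]
      calc c⁻¹ * g * c * (c⁻¹ * g ^ (orderOf g / 2) * c) = c⁻¹ * (g * g ^ (orderOf g / 2)) * c := by group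
        _ = c⁻¹ * (g ^ (orderOf g / 2) * g) * c := by rw [hgz]
        _ = c⁻¹ * g ^ (orderOf g / 2) * c * (c⁻¹ * g * c) := by group
    have hxo : orderOf (c⁻¹ * g * c) = orderOf g := orderOf_conj_inv c g
    rw [← hxo]
    rcases (W.cent _).mp hca with hL | hL
    · rcases W.cases3 _ hL with h | h | h
      · left
        exact (orderOf_dvd_of_pow_eq_one h).trans ⟨2, by norm_num⟩
      · right; right; left
        exact (orderOf_dvd_of_pow_eq_one h).trans ⟨2, by ring⟩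
      · right; right; right; left
        exact orderOf_dvd_of_pow_eq_one h
    · obtain ⟨l, hl, e⟩ : ∃ l ∈ L, c⁻¹ * g * c = a * l :=
        ⟨a * (c⁻¹ * g * c), hL, by rw [← mul_assoc, W.ha2, one_mul]⟩
      rw [e]
      rcases W.cases3 _ hl with h | h | h
      · left
        apply orderOf_dvd_of_pow_eq_one
        rw [W.mul_pow_a hl, W.a_pow_even ⟨3, rfl⟩, one_mul, show 6 = 3 * 2 by norm_num, pow_mul, h, one_pow]
      · right; right; left
        apply orderOf_dvd_of_pow_eq_one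
        rw [W.mul_pow_a hl, W.a_pow_even ⟨4 * t + 1, by ring⟩, one_mul,
          show 8 * t + 2 = (4 * t + 1) * 2 by ring, pow_mul, h, one_pow]
      · right; right; right; left
        apply orderOf_dvd_of_pow_eq_one
        rw [W.mul_pow_a hl, W.a_pow_even ⟨2 * t + 1, by ring⟩, one_mul, h]
  · have hodd : Odd (orderOf g) := Nat.not_even_iff_odd.mp hev
    by_cases h3 : 3 ∣ orderOf g
    · have hg1 : g ≠ 1 := by
        rintro rfl
        rw [orderOf_one] at h3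
        omega
      obtain ⟨-, k, hk⟩ := (three_elt_iff
        (fun y g hy1 hy3 hc hcop => ree_three_cent' hm hK R t ht y g hy1 hy3 hc hcop) g).mp ⟨⟨hg1, hev⟩, h3⟩
      right; left
      exact orderOf_dvd_of_pow_eq_one (ree_three_elt_pow_nine hK R t ht g k hk)
    · have hcop : Nat.Coprime (orderOf g) 6 :=
        (Nat.Coprime.mul_right (Nat.coprime_two_right.mpr hodd)
          ((Nat.Prime.coprime_iff_not_dvd Nat.prime_three).mpr h3).symm : Nat.Coprime (orderOf g) (2 * 3))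
      rcases ree_order_cases hm hK R t ht g hcop with h | h | h
      · right; right; left
        exact (orderOf_dvd_of_pow_eq_one h).trans ⟨2, by ring⟩
      · right; right; right; left
        exact (orderOf_dvd_of_pow_eq_one h).trans ⟨2, by ring⟩
      · by_cases hg1 : g = 1
        · left
          rw [hg1, orderOf_one]
          exact one_dvd _
        · obtain ⟨T₁, T₂, -, -, hc1, hc2, -, -, -, -, hconj⟩ := ree_tori hm hK R t ht
          obtain ⟨c, hc | hc⟩ := hconj g hg1 h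
          · right; right; right; right; left
            have hd := Subgroup.orderOf_dvd_natCard T₁ hc
            rwa [orderOf_conj_inv, hc1] at hd
          · right; right; right; right; right
            have hd := Subgroup.orderOf_dvd_natCard T₂ hc
            rwa [orderOf_conj_inv, hc2] at hd

/-- Every divisor of `6`, `9`, `q - 1`, `(q + 1) / 2`, `q - r + 1`, `q + r + 1` is the order of an element. -/
theorem ree_orders_bwd (hm : 1 ≤ m) (hK : Fintype.card K = 3 ^ (2 * m + 1)) (R : ReeData K (3 ^ m))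
    (t : ℕ) (ht : 3 ^ (2 * m + 1) = 8 * t + 3) (d : ℕ)
    (hd : d ∣ 6 ∨ d ∣ 9 ∨ d ∣ 8 * t + 2 ∨ d ∣ 4 * t + 2 ∨
      d ∣ 8 * t + 3 + 1 - 3 ^ (m + 1) ∨ d ∣ 8 * t + 3 + 1 + 3 ^ (m + 1)) :
    ∃ g : ↥(twistedG2 K (3 ^ m)), orderOf g = d := by
  obtain ⟨hfin, hG⟩ := ree_finite hK R t ht
  have key : ∀ n : ℕ, (∃ g : ↥(twistedG2 K (3 ^ m)), orderOf g = n) → d ∣ n →
      ∃ g : ↥(twistedG2 K (3 ^ m)), orderOf g = d := by
    rintro n ⟨g, rfl⟩ hdn
    exact ⟨g ^ (orderOf g / d), orderOf_pow_orderOf_div (orderOf_pos g).ne' hdn⟩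
  rcases hd with h | h | h | h | h | h
  · exact key 6 (ree_exists_order_six hm hK R t ht) h
  · exact key 9 (ree_exists_order_nine R) h
  · obtain ⟨T, hTcyc, hTcard, hT⟩ := ree_split_data' hm hK R t ht
    obtain ⟨x, -, hxo⟩ := exists_orderOf_eq_of_cyclic T hTcyc d (by rw [hTcard]; exact h)
    exact ⟨x, hxo⟩
  · obtain ⟨B, Z, a, b, φG, hZcyc, hodd, hBd, hBcard, -, -, -, -, -, -, -, hZB, hZcard, -⟩ :=
      ree_pack hm hK R t ht
    obtain ⟨x, -, hxo⟩ := exists_orderOf_eq_of_cyclic Z hZcyc d (by rw [hZcard]; exact h)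
    exact ⟨x, hxo⟩
  · obtain ⟨T₁, T₂, hcyc1, hcyc2, hc1, hc2, -⟩ := ree_tori hm hK R t ht
    obtain ⟨x, -, hxo⟩ := exists_orderOf_eq_of_cyclic T₁ hcyc1 d (by rw [hc1]; exact h)
    exact ⟨x, hxo⟩
  · obtain ⟨T₁, T₂, hcyc1, hcyc2, hc1, hc2, -⟩ := ree_tori hm hK R t ht
    obtain ⟨x, -, hxo⟩ := exists_orderOf_eq_of_cyclic T₂ hcyc2 d (by rw [hc2]; exact h)
    exact ⟨x, hxo⟩

end Cfsg.Agent.Lib.helper44
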