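import Cfsg.Agent.Lib.helper44.ReeWardG

set_option autoImplicit false
set_option maxRecDepth 100000

/-!
# Counting the elements of a given order: abstract tools

Class counts for subgroups with the trivial-intersection property relative to a conjugation-invariant
predicate, tori, cyclic subgroups, and elements of order `2 i` as commuting pairs.
-/

namespace Cfsg.Agent.Lib.helper44

section AbsCount

variable {G : Type*} [Group G] [Finite G]

omit [Finite G] in
/-- The class count for a subgroup `T` and a conjugation-invariant predicate `P` such that an element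
conjugating an element of `T` with `P` into `T` normalizes `T`. -/
theorem card_ti_class_pred (T : Subgroup G) (P : G → Prop) (hP : ∀ c g : G, P (c * g * c⁻¹) ↔ P g)
    (key : ∀ n y : G, y ∈ T → P y → n * y * n⁻¹ ∈ T → n ∈ Subgroup.normalizer (T : Set G)) :
    Nat.card {g : G // P g ∧ ∃ c : G, c⁻¹ * g * c ∈ T} * Nat.card ↥(Subgroup.normalizer (T : Set G)) =
      Nat.card G * Nat.card {y : G // y ∈ T ∧ P y} := by
  classical
  have hP' : ∀ c g : G, P (c⁻¹ * g * c) ↔ P g := by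
    intro c g
    have h := hP c⁻¹ g
    rwa [inv_inv] at h
  have hcb : ∀ b : {g : G // P g ∧ ∃ c : G, c⁻¹ * g * c ∈ T},
      (Classical.choose b.2.2)⁻¹ * (b : G) * Classical.choose b.2.2 ∈ T :=
    fun b => Classical.choose_spec b.2.2
  have htb1 : ∀ b : {g : G // P g ∧ ∃ c : G, c⁻¹ * g * c ∈ T},
      P ((Classical.choose b.2.2)⁻¹ * (b : G) * Classical.choose b.2.2) :=
    fun b => (hP' _ _).mpr b.2.1
  have hmemT : ∀ (b : {g : G // P g ∧ ∃ c : G, c⁻¹ * g * c ∈ T})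
      (n : ↥(Subgroup.normalizer (T : Set G))),
      (n : G) * ((Classical.choose b.2.2)⁻¹ * (b : G) * Classical.choose b.2.2) * (n : G)⁻¹ ∈ T :=
    fun b n => (Subgroup.mem_normalizer_iff.1 n.2 _).1 (hcb b)
  have hne1 : ∀ (b : {g : G // P g ∧ ∃ c : G, c⁻¹ * g * c ∈ T})
      (n : ↥(Subgroup.normalizer (T : Set G))),
      P ((n : G) * ((Classical.choose b.2.2)⁻¹ * (b : G) * Classical.choose b.2.2) * (n : G)⁻¹) :=
    fun b n => (hP _ _).mpr (htb1 b)
  let Ψ : {g : G // P g ∧ ∃ c : G, c⁻¹ * g * c ∈ T} × ↥(Subgroup.normalizer (T : Set G)) →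
      G × {y : G // y ∈ T ∧ P y} := fun bn =>
    (Classical.choose bn.1.2.2 * (bn.2 : G)⁻¹, ⟨_, hmemT bn.1 bn.2, hne1 bn.1 bn.2⟩)
  have hΨinj : Function.Injective Ψ := by
    rintro ⟨b, n⟩ ⟨b', n'⟩ h
    have h1 : Classical.choose b.2.2 * (n : G)⁻¹ = Classical.choose b'.2.2 * (n' : G)⁻¹ :=
      congrArg Prod.fst h
    have h2 : (n : G) * ((Classical.choose b.2.2)⁻¹ * (b : G) * Classical.choose b.2.2) * (n : G)⁻¹
        = (n' : G) * ((Classical.choose b'.2.2)⁻¹ * (b' : G) * Classical.choose b'.2.2) * (n' : G)⁻¹ :=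
      congrArg (fun z : G × {y : G // y ∈ T ∧ P y} => (z.2 : G)) h
    have hb : (b : G) = b' := by
      have e1 : (b : G) = (Classical.choose b.2.2 * (n : G)⁻¹) *
          ((n : G) * ((Classical.choose b.2.2)⁻¹ * (b : G) * Classical.choose b.2.2) * (n : G)⁻¹) *
          (Classical.choose b.2.2 * (n : G)⁻¹)⁻¹ := by group
      have e2 : (b' : G) = (Classical.choose b'.2.2 * (n' : G)⁻¹) *
          ((n' : G) * ((Classical.choose b'.2.2)⁻¹ * (b' : G) * Classical.choose b'.2.2) * (n' : G)⁻¹) *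
          (Classical.choose b'.2.2 * (n' : G)⁻¹)⁻¹ := by group
      rw [e1, e2, h1, h2]
    have hbb : b = b' := Subtype.ext hb
    subst hbb
    have hn : (n : G) = n' := inv_injective (mul_left_cancel h1)
    have hnn : n = n' := Subtype.ext hn
    rw [hnn]
  have hΨsurj : Function.Surjective Ψ := by
    rintro ⟨c, ⟨t, htT, hPt⟩⟩
    have hg1 : P (c * t * c⁻¹) := (hP c t).mpr hPt
    have hgc : c⁻¹ * (c * t * c⁻¹) * c ∈ T := by
      have e : c⁻¹ * (c * t * c⁻¹) * c = t := by group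
      rw [e]; exact htT
    have hn : ∀ d : G, d⁻¹ * (c * t * c⁻¹) * d ∈ T →
        c⁻¹ * d ∈ Subgroup.normalizer (T : Set G) := by
      intro d hd
      refine key (c⁻¹ * d) (d⁻¹ * (c * t * c⁻¹) * d) hd ((hP' d _).mpr hg1) ?_
      have e : c⁻¹ * d * (d⁻¹ * (c * t * c⁻¹) * d) * (c⁻¹ * d)⁻¹ = t := by group
      rw [e]; exact htT
    refine ⟨(⟨c * t * c⁻¹, hg1, ⟨c, hgc⟩⟩,
      ⟨c⁻¹ * Classical.choose (⟨c, hgc⟩ : ∃ c' : G, c'⁻¹ * (c * t * c⁻¹) * c' ∈ T),
        hn _ (hcb ⟨c * t * c⁻¹, hg1, ⟨c, hgc⟩⟩)⟩), ?_⟩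
    apply Prod.ext
    · show Classical.choose (⟨c, hgc⟩ : ∃ c' : G, c'⁻¹ * (c * t * c⁻¹) * c' ∈ T) *
          (c⁻¹ * Classical.choose (⟨c, hgc⟩ : ∃ c' : G, c'⁻¹ * (c * t * c⁻¹) * c' ∈ T))⁻¹ = c
      group
    · apply Subtype.ext
      show (c⁻¹ * Classical.choose (⟨c, hgc⟩ : ∃ c' : G, c'⁻¹ * (c * t * c⁻¹) * c' ∈ T)) *
          ((Classical.choose (⟨c, hgc⟩ : ∃ c' : G, c'⁻¹ * (c * t * c⁻¹) * c' ∈ T))⁻¹ *
            (c * t * c⁻¹) * Classical.choose (⟨c, hgc⟩ : ∃ c' : G, c'⁻¹ * (c * t * c⁻¹) * c' ∈ T)) *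
          (c⁻¹ * Classical.choose (⟨c, hgc⟩ : ∃ c' : G, c'⁻¹ * (c * t * c⁻¹) * c' ∈ T))⁻¹ = t
      group
  have hcard := Nat.card_congr (Equiv.ofBijective Ψ ⟨hΨinj, hΨsurj⟩)
  rw [Nat.card_prod, Nat.card_prod] at hcard
  exact hcard

/-- An element conjugating an element of the torus `B`, whose order is divisible by a prime dividing `N`,
into `B` normalizes `B`. -/
theorem torus_key {B : Subgroup G} {N : ℕ} (hB : TorusData B N) {n y : G} (hy : y ∈ B) {s : ℕ}
    (hs : s.Prime) (hsN : s ∣ N) (hso : s ∣ orderOf y) (hny : n * y * n⁻¹ ∈ B) :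
    n ∈ Subgroup.normalizer (B : Set G) := by
  have ho0 : orderOf y ≠ 0 := (orderOf_pos y).ne'
  have hord : orderOf (y ^ (orderOf y / s)) = s := orderOf_pow_orderOf_div ho0 hso
  have hy'B : y ^ (orderOf y / s) ∈ B := B.pow_mem hy _
  have hz'B : n * y ^ (orderOf y / s) * n⁻¹ ∈ B := by
    rw [← conj_pow]
    exact B.pow_mem hny _
  have hz'o : orderOf (n * y ^ (orderOf y / s) * n⁻¹) = s := by
    rw [orderOf_conj', hord]
  rw [Subgroup.mem_normalizer_iff]
  intro h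
  constructor
  · intro hh
    apply hB.cent s hs hsN _ hz'B hz'o
    have e := hB.comm h hh _ hy'B
    calc n * h * n⁻¹ * (n * y ^ (orderOf y / s) * n⁻¹) = n * (h * y ^ (orderOf y / s)) * n⁻¹ := by group
      _ = n * (y ^ (orderOf y / s) * h) * n⁻¹ := by rw [e]
      _ = n * y ^ (orderOf y / s) * n⁻¹ * (n * h * n⁻¹) := by group
  · intro hh
    apply hB.cent s hs hsN _ hy'B hord
    have e := hB.comm _ hh _ hz'B
    have e1 : h * y ^ (orderOf y / s) =
        n⁻¹ * (n * h * n⁻¹ * (n * y ^ (orderOf y / s) * n⁻¹)) * n := by group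
    have e2 : y ^ (orderOf y / s) * h =
        n⁻¹ * (n * y ^ (orderOf y / s) * n⁻¹ * (n * h * n⁻¹)) * n := by group
    rw [e1, e2, e]

/-- The class count for a torus `B` and a conjugation-invariant predicate forcing a prime factor of `N`
in the order. -/
theorem torus_card_pred {B : Subgroup G} {N : ℕ} (hB : TorusData B N) (P : G → Prop)
    (hP : ∀ c g : G, P (c * g * c⁻¹) ↔ P g)
    (hPs : ∀ g : G, P g → ∃ s : ℕ, s.Prime ∧ s ∣ N ∧ s ∣ orderOf g) :
    Nat.card {g : G // P g} * Nat.card ↥(Subgroup.normalizer (B : Set G)) =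
      Nat.card G * Nat.card {y : G // y ∈ B ∧ P y} := by
  rw [← card_ti_class_pred B P hP (fun n y hy hPy hny => by
    obtain ⟨s, hs, hsN, hso⟩ := hPs y hPy
    exact torus_key hB hy hs hsN hso hny)]
  congr 1
  apply card_congr_iff
  intro g
  constructor
  · intro hPg
    obtain ⟨s, hs, hsN, hso⟩ := hPs g hPg
    obtain ⟨c, hc⟩ := exists_conj_cent_mem hB hs hsN hso
    exact ⟨hPg, c, hc g rfl⟩
  · exact fun h => h.1

omit [Finite G] in
/-- Elements of order `2 i`, `i` odd, are the products of commuting elements of orders `2` and `i`. -/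
theorem card_order_two_mul {i : ℕ} (hi : Odd i) :
    Nat.card {y : G // orderOf y = 2 * i} =
      Nat.card {p : G × G // orderOf p.1 = 2 ∧ orderOf p.2 = i ∧ p.1 * p.2 = p.2 * p.1} := by
  have hi0 : 0 < i := hi.pos
  have hcop : Nat.Coprime 2 i := Nat.coprime_two_left.mpr hi
  have hg : Nat.gcd (2 * i) (i + 1) = 2 := by
    apply Nat.dvd_antisymm
    · have h1 : Nat.gcd (2 * i) (i + 1) ∣ 2 * (i + 1) := Dvd.dvd.mul_left (Nat.gcd_dvd_right _ _) 2
      have h2 : Nat.gcd (2 * i) (i + 1) ∣ 2 * i := Nat.gcd_dvd_left _ _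
      have h3 := Nat.dvd_sub h1 h2
      have e : 2 * (i + 1) - 2 * i = 2 := by omega
      rwa [e] at h3
    · apply Nat.dvd_gcd (dvd_mul_right 2 i)
      obtain ⟨k, rfl⟩ := hi
      exact ⟨k + 1, by ring⟩
  symm
  refine Nat.card_congr ⟨fun p => ⟨p.1.1 * p.1.2, ?_⟩, fun y => ⟨(y.1 ^ i, y.1 ^ (i + 1)), ?_, ?_, ?_⟩, ?_, ?_⟩
  · have h := (show Commute p.1.1 p.1.2 from p.2.2.2).orderOf_mul_eq_mul_orderOf_of_coprime
      (by rw [p.2.1, p.2.2.1]; exact hcop)
    rw [h, p.2.1, p.2.2.1]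
  · show orderOf (y.1 ^ i) = 2
    rw [orderOf_pow_of_dvd hi0.ne' (by rw [y.2]; exact dvd_mul_left i 2), y.2, Nat.mul_div_cancel _ hi0]
  · show orderOf (y.1 ^ (i + 1)) = i
    rw [orderOf_pow' _ (Nat.succ_ne_zero i), y.2, hg, Nat.mul_div_cancel_left _ (by norm_num)]
  · show y.1 ^ i * y.1 ^ (i + 1) = y.1 ^ (i + 1) * y.1 ^ i
    rw [← pow_add, ← pow_add, add_comm]
  · rintro ⟨⟨z, w⟩, hz, hw, hc⟩
    apply Subtype.ext
    have hzw : Commute z w := hc
    have hz2 : z ^ 2 = 1 := by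
      have h := pow_orderOf_eq_one z
      rwa [hz] at h
    have hwi : w ^ i = 1 := by
      have h := pow_orderOf_eq_one w
      rwa [hw] at h
    have hzi : z ^ i = z := by
      obtain ⟨k, rfl⟩ := hi
      rw [pow_succ, pow_mul, hz2, one_pow, one_mul]
    have hzi1 : z ^ (i + 1) = 1 := by rw [pow_succ, hzi, ← pow_two, hz2]
    show ((z * w) ^ i, (z * w) ^ (i + 1)) = (z, w)
    rw [hzw.mul_pow, hzw.mul_pow, hzi, hwi, mul_one, hzi1, one_mul, pow_succ, hwi, one_mul]
  · rintro ⟨y, hy⟩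
    apply Subtype.ext
    show y ^ i * y ^ (i + 1) = y
    rw [← pow_add, show i + (i + 1) = 2 * i + 1 by ring, pow_succ, ← hy, pow_orderOf_eq_one, one_mul]

/-- A cyclic subgroup has `φ(i)` elements of order `i`, for `i` dividing its order. -/
theorem card_orderOf_eq_totient_of_cyclic (T : Subgroup G) (hT : IsCyclic ↥T) (i : ℕ)
    (hi : i ∣ Nat.card ↥T) : Nat.card {y : G // y ∈ T ∧ orderOf y = i} = Nat.totient i := by
  classical
  have : Fintype ↥T := Fintype.ofFinite _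
  have h := IsCyclic.card_orderOf_eq_totient (α := ↥T) (d := i) (by rwa [← Nat.card_eq_fintype_card])
  rw [← h, ← Fintype.card_subtype, ← Nat.card_eq_fintype_card]
  exact Nat.card_congr ⟨fun y => ⟨⟨y.1, y.2.1⟩, by rw [Subgroup.orderOf_mk]; exact y.2.2⟩,
    fun a => ⟨a.1.1, a.1.2, by rw [Subgroup.orderOf_coe]; exact a.2⟩, fun y => rfl, fun a => rfl⟩

/-- A cyclic subgroup all of whose non-trivial subgroups have the same normalizer has the
trivial-intersection property. -/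
theorem cyclic_ti_key (T : Subgroup G) (hT : IsCyclic ↥T)
    (hN : ∀ A₀ : Subgroup G, A₀ ≤ T → A₀ ≠ ⊥ →
      Subgroup.normalizer (A₀ : Set G) = Subgroup.normalizer (T : Set G))
    (n y : G) (hy : y ∈ T) (hy1 : y ≠ 1) (hny : n * y * n⁻¹ ∈ T) :
    n ∈ Subgroup.normalizer (T : Set G) := by
  have hA₀T : Subgroup.zpowers y ≤ T := Subgroup.zpowers_le.mpr hy
  have hA₀1 : Subgroup.zpowers y ≠ ⊥ := by
    intro h
    exact hy1 (Subgroup.zpowers_eq_bot.mp h)
  rw [← hN _ hA₀T hA₀1]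
  have hmem : n * y * n⁻¹ ∈ Subgroup.zpowers y := by
    apply Cfsg.Agent.Lib.helper1.wtl_mem_of_pow_card T _ hT hA₀T hny
    rw [Nat.card_zpowers, conj_pow, pow_orderOf_eq_one]
    group
  have heq : Subgroup.zpowers (n * y * n⁻¹) = Subgroup.zpowers y := by
    apply Subgroup.eq_of_le_of_card_ge (Subgroup.zpowers_le.mpr hmem)
    rw [Nat.card_zpowers, Nat.card_zpowers, orderOf_conj']
  have key : ∀ h : G, h ∈ Subgroup.zpowers y ↔ n * h * n⁻¹ ∈ Subgroup.zpowers (n * y * n⁻¹) := by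
    intro h
    rw [Subgroup.mem_zpowers_iff, Subgroup.mem_zpowers_iff]
    constructor
    · rintro ⟨k, hk⟩
      exact ⟨k, by rw [conj_zpow, hk]⟩
    · rintro ⟨k, hk⟩
      rw [conj_zpow] at hk
      exact ⟨k, mul_left_cancel (mul_right_cancel hk)⟩
  rw [Subgroup.mem_normalizer_iff]
  intro h
  rw [key h, heq]

/-- The normalizer of the torus `B` is the normalizer of its odd part `A`, with the class count. -/
theorem torus_normalizer_card {B : Subgroup G} {N : ℕ} (hB : TorusData B N) (A : Subgroup G) (hAB : A ≤ B)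
    (hA1 : A ≠ ⊥) (hAN : Nat.card ↥A = N)
    (hchar : ∀ A₀ : Subgroup G, A₀ ≤ A → ∀ x ∈ B, x ^ Nat.card ↥A₀ = 1 → x ∈ A₀) :
    Nat.card {g : G // g ≠ 1 ∧ g ^ N = 1} * Nat.card ↥(Subgroup.normalizer (B : Set G)) =
      Nat.card G * (N - 1) := by
  obtain ⟨-, hcount⟩ := torus_odd_part hB A hAB hA1 hAN hchar
  have hpowA : ∀ h ∈ A, h ^ Nat.card ↥A = 1 := by
    intro h hh
    have h1 : (⟨h, hh⟩ : ↥A) ^ Nat.card ↥A = 1 := pow_card_eq_one'
    have h2 := congrArg Subtype.val h1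
    rwa [Subgroup.coe_pow, Subgroup.coe_one] at h2
  have hNA : Subgroup.normalizer (A : Set G) = Subgroup.normalizer (B : Set G) := by
    apply le_antisymm
    · intro n hn
      obtain ⟨y, hyA, hy1⟩ := (A.bot_or_exists_ne_one).resolve_left hA1
      have hny : n * y * n⁻¹ ∈ A := (Subgroup.mem_normalizer_iff.1 hn y).1 hyA
      have hyN : y ^ N = 1 := by
        rw [← hAN]
        exact hpowA y hyA
      have ho1 : orderOf y ≠ 1 := fun h => hy1 (orderOf_eq_one_iff.mp h)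
      obtain ⟨s, hs, hso⟩ := Nat.exists_prime_and_dvd ho1
      exact torus_key hB (hAB hyA) hs (hso.trans (orderOf_dvd_of_pow_eq_one hyN)) hso (hAB hny)
    · intro n hn
      rw [Subgroup.mem_normalizer_iff]
      intro h
      constructor
      · intro hh
        have hT' : n * h * n⁻¹ ∈ B := (Subgroup.mem_normalizer_iff.1 hn h).1 (hAB hh)
        apply hchar A le_rfl _ hT'
        rw [conj_pow, hpowA h hh]
        group
      · intro hh
        have hT' : h ∈ B := (Subgroup.mem_normalizer_iff.1 hn h).2 (hAB hh)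
        apply hchar A le_rfl _ hT'
        have h3 := hpowA _ hh
        rw [conj_pow] at h3
        exact conj_eq_one_iff.1 h3
  rw [← hNA]
  exact hcount

/-- A `p`-element is conjugate into a given Sylow `p`-subgroup. -/
theorem exists_conj_mem_sylow {p : ℕ} [Fact p.Prime] (S₀ : Sylow p G) (g : G) (k : ℕ)
    (hg : g ^ (p ^ k) = 1) : ∃ c : G, c⁻¹ * g * c ∈ S₀ := by
  have hp : p.Prime := Fact.out
  have hz : IsPGroup p ↥(Subgroup.zpowers g) := by
    obtain ⟨j, -, hj⟩ := (Nat.dvd_prime_pow hp).mp (orderOf_dvd_of_pow_eq_one hg)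
    exact IsPGroup.of_card (n := j) (by rw [Nat.card_zpowers, hj])
  obtain ⟨Q', hQ'⟩ := hz.exists_le_sylow
  obtain ⟨c, hc⟩ := MulAction.exists_smul_eq G S₀ Q'
  have hmem : ∀ x : G, x ∈ (Q' : Subgroup G) ↔ c⁻¹ * x * c ∈ (S₀ : Subgroup G) := by
    intro x
    rw [← hc, Sylow.coe_subgroup_smul, Subgroup.mem_pointwise_smul_iff_inv_smul_mem, MulAut.smul_def,
      MulAut.conj_inv_apply]
  exact ⟨c, (hmem g).mp (hQ' (Subgroup.mem_zpowers g))⟩

end AbsCount

end Cfsg.Agent.Lib.helper44
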