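import Cfsg.Agent.Lib.helper44.ReeWardH

set_option autoImplicit false
set_option maxRecDepth 100000

/-!
# The number of elements of each order in the small Ree groups
-/

namespace Cfsg.Agent.Lib.helper44

open Cfsg Cfsg.Lie Cfsg.Agent.Lib.helper41 Cfsg.Agent.Lib.helper22 Cfsg.Agent.Lib.helper23

variable {K : Type*} [Field K] [Fintype K] {m : ℕ}

/-- The number of involutions. -/
theorem ree_card_invol (hm : 1 ≤ m) (hK : Fintype.card K = 3 ^ (2 * m + 1)) (R : ReeData K (3 ^ m))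
    (t : ℕ) (ht : 3 ^ (2 * m + 1) = 8 * t + 3) :
    Nat.card {g : ↥(twistedG2 K (3 ^ m)) // orderOf g = 2} =
      (8 * t + 3) ^ 2 * (64 * t ^ 2 + 40 * t + 7) := by
  obtain ⟨hfin, hG⟩ := ree_finite hK R t ht
  obtain ⟨a, L, W, hLcard, -⟩ := ree_ward_data' hm hK R t ht
  have h := W.card_invol
  rw [hLcard, hG] at h
  have e : Nat.card {g : ↥(twistedG2 K (3 ^ m)) // orderOf g = 2} =
      Nat.card {z : ↥(twistedG2 K (3 ^ m)) // z ≠ 1 ∧ z * z = 1} :=
    card_congr_iff (fun g => ⟨fun h => ⟨fun h1 => by rw [h1, orderOf_one] at h; omega, by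
      have h2 := pow_orderOf_eq_one g
      rwa [h, pow_two] at h2⟩, fun h => orderOf_eq_prime (by rw [pow_two]; exact h.2) h.1⟩)
  rw [e]
  apply Nat.eq_of_mul_eq_mul_right (by positivity : 0 < (8 * t + 3) * (8 * t + 2) * (8 * t + 4))
  rw [h]
  ring

/-- A Sylow 3-subgroup and the order of its normalizer. -/
theorem ree_sylow_three_norm (hK : Fintype.card K = 3 ^ (2 * m + 1)) (R : ReeData K (3 ^ m))
    (t : ℕ) (ht : 3 ^ (2 * m + 1) = 8 * t + 3) :
    ∃ S₀ : Sylow 3 ↥(twistedG2 K (3 ^ m)),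
      (∀ x : ↥(twistedG2 K (3 ^ m)), x ∈ S₀ ↔ (x : GL chevG2.Idx K) ∈ chevG2.posUnipotent K) ∧
      Nat.card ↥(Subgroup.normalizer ((S₀ : Subgroup ↥(twistedG2 K (3 ^ m))) : Set ↥(twistedG2 K (3 ^ m)))) =
        (8 * t + 3) ^ 3 * (8 * t + 2) := by
  have hKt : Fintype.card K = 8 * t + 3 := hK.trans ht
  have e1 : 8 * t + 3 - 1 = 8 * t + 2 := by omega
  obtain ⟨hfin, hG⟩ := ree_finite hK R t ht
  have h3 : Fact (Nat.Prime 3) := ⟨Nat.prime_three⟩
  obtain ⟨n, hn⟩ := R.exists_w0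
  obtain ⟨S₀, hS₀⟩ := R.exists_sylow hK
  have hBU := borel_normalizes_pos K
  have hUB : chevG2.posUnipotent K ≤ chevG2.borelSubgroup K := le_sup_left
  have hHB : chevG2.diagonalSubgroup K ≤ chevG2.borelSubgroup K := le_sup_right
  refine ⟨S₀, hS₀, ?_⟩
  have hNmem : ∀ g : ↥(twistedG2 K (3 ^ m)),
      g ∈ Subgroup.normalizer ((S₀ : Subgroup ↥(twistedG2 K (3 ^ m))) : Set ↥(twistedG2 K (3 ^ m))) ↔
        (g : GL chevG2.Idx K) ∈ chevG2.borelSubgroup K := by
    intro g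
    constructor
    · intro hg
      by_contra hgB
      obtain ⟨u, hu, hu1⟩ := R.exists_u_ne_one
      have hu' := Subgroup.mem_inf.mp hu
      have h1 : (⟨u, hu'.2⟩ : ↥(twistedG2 K (3 ^ m))) ∈ S₀ := (hS₀ _).mpr hu'.1
      have h2 := (Subgroup.mem_normalizer_iff.mp hg _).mp h1
      exact hu1 (R.conj_pos_trivial hn g.2 hgB hu'.1 ((hS₀ _).mp h2))
    · intro hgB
      rw [Subgroup.mem_normalizer_iff]
      intro h
      have h1 := Subgroup.mem_normalizer_iff.mp (hBU hgB) (h : GL chevG2.Idx K)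
      exact ⟨fun hh => (hS₀ _).mpr (h1.mp ((hS₀ h).mp hh)), fun hh => (hS₀ h).mpr (h1.mpr ((hS₀ _).mp hh))⟩
  have e0 : Nat.card ↥(Subgroup.normalizer ((S₀ : Subgroup ↥(twistedG2 K (3 ^ m))) : Set ↥(twistedG2 K (3 ^ m)))) =
      Nat.card {g : ↥(twistedG2 K (3 ^ m)) // (g : GL chevG2.Idx K) ∈ chevG2.borelSubgroup K} :=
    card_congr_iff hNmem
  rw [e0]
  let f : ↥(chevG2.posUnipotent K ⊓ twistedG2 K (3 ^ m)) × ↥(chevG2.diagonalSubgroup K ⊓ twistedG2 K (3 ^ m)) →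
      {g : ↥(twistedG2 K (3 ^ m)) // (g : GL chevG2.Idx K) ∈ chevG2.borelSubgroup K} := fun p =>
    ⟨⟨p.1.1 * p.2.1, mul_mem p.1.2.2 p.2.2.2⟩, mul_mem (hUB p.1.2.1) (hHB p.2.2.1)⟩
  have hf : Function.Bijective f := by
    constructor
    · rintro ⟨u, h⟩ ⟨u', h'⟩ hxy
      have e2 : (u : GL chevG2.Idx K) * h = u' * h' :=
        congrArg (fun x : {g : ↥(twistedG2 K (3 ^ m)) // (g : GL chevG2.Idx K) ∈ chevG2.borelSubgroup K} =>
          ((x : ↥(twistedG2 K (3 ^ m))) : GL chevG2.Idx K)) hxy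
      obtain ⟨e3, e4⟩ := uh_unique u.2.1 u'.2.1 h.2.1 h'.2.1 e2
      rw [Subtype.ext e3, Subtype.ext e4]
    · rintro ⟨b, hb⟩
      obtain ⟨u, hu, h, hh, e2⟩ := R.borel_twisted hb b.2
      exact ⟨(⟨u, hu⟩, ⟨h, hh⟩), Subtype.ext (Subtype.ext e2.symm)⟩
  rw [← Nat.card_congr (Equiv.ofBijective f hf), Nat.card_prod, R.card_pos_inf_twisted,
    R.card_diag_inf_twisted, hKt, e1]

/-- The number of elements of order 3. -/
theorem ree_card_order_three (hK : Fintype.card K = 3 ^ (2 * m + 1)) (R : ReeData K (3 ^ m))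
    (t : ℕ) (ht : 3 ^ (2 * m + 1) = 8 * t + 3) :
    Nat.card {g : ↥(twistedG2 K (3 ^ m)) // orderOf g = 3} =
      (8 * t + 2) * (8 * t + 4) * ((8 * t + 3) ^ 3 + 1) := by
  have hKt : Fintype.card K = 8 * t + 3 := hK.trans ht
  obtain ⟨hfin, hG⟩ := ree_finite hK R t ht
  have h3 : Fact (Nat.Prime 3) := ⟨Nat.prime_three⟩
  obtain ⟨S₀, hS₀, hNcard⟩ := ree_sylow_three_norm hK R t ht
  have hcount := card_ti_class_pred (S₀ : Subgroup ↥(twistedG2 K (3 ^ m))) (fun g => orderOf g = 3)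
    (fun c g => by rw [orderOf_conj'])
    (fun n y hy hy3 hny => by
      by_contra hn
      have hne : n • S₀ ≠ S₀ := fun h => hn (Sylow.smul_eq_iff_mem_normalizer.mp h)
      have hti := R.sylow_ti hK (n • S₀) S₀ hne
      have hmem : n * y * n⁻¹ ∈ ((n • S₀ : Sylow 3 ↥(twistedG2 K (3 ^ m))) : Subgroup ↥(twistedG2 K (3 ^ m))) := by
        rw [Sylow.coe_subgroup_smul, Subgroup.mem_pointwise_smul_iff_inv_smul_mem, MulAut.smul_def,
          MulAut.conj_inv_apply]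
        have e : n⁻¹ * (n * y * n⁻¹) * n = y := by group
        rw [e]
        exact hy
      have hbot : n * y * n⁻¹ ∈ (⊥ : Subgroup ↥(twistedG2 K (3 ^ m))) := by
        rw [← hti]
        exact Subgroup.mem_inf.mpr ⟨hmem, hny⟩
      have hy1 : y = 1 := conj_eq_one_iff.mp (Subgroup.mem_bot.mp hbot)
      rw [hy1, orderOf_one] at hy3
      omega)
  have hS3 : Nat.card {y : ↥(twistedG2 K (3 ^ m)) // y ∈ (S₀ : Subgroup ↥(twistedG2 K (3 ^ m))) ∧ orderOf y = 3} =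
      (8 * t + 2) * (8 * t + 4) := by
    have h1 := R.card_order_three
    rw [hKt] at h1
    have e : (8 * t + 3) ^ 2 - 1 = (8 * t + 2) * (8 * t + 4) := by
      have h' : (8 * t + 3) ^ 2 = (8 * t + 2) * (8 * t + 4) + 1 := by ring
      rw [h', Nat.add_sub_cancel]
    rw [e] at h1
    rw [← h1]
    exact Nat.card_congr ⟨fun y => ⟨⟨y.1.1, Subgroup.mem_inf.mpr ⟨(hS₀ y.1).mp y.2.1, y.1.2⟩⟩, by
        rw [Subgroup.orderOf_mk, Subgroup.orderOf_coe]
        exact y.2.2⟩,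
      fun x => ⟨⟨x.1.1, (Subgroup.mem_inf.mp x.1.2).2⟩, (hS₀ _).mpr (Subgroup.mem_inf.mp x.1.2).1, by
        rw [Subgroup.orderOf_mk, Subgroup.orderOf_coe]
        exact x.2⟩, fun y => rfl, fun x => rfl⟩
  have hall : Nat.card {g : ↥(twistedG2 K (3 ^ m)) // orderOf g = 3 ∧
      ∃ c : ↥(twistedG2 K (3 ^ m)), c⁻¹ * g * c ∈ (S₀ : Subgroup ↥(twistedG2 K (3 ^ m)))} =
      Nat.card {g : ↥(twistedG2 K (3 ^ m)) // orderOf g = 3} :=
    card_congr_iff (fun g => ⟨fun h => h.1, fun h => ⟨h, exists_conj_mem_sylow S₀ g 1 (by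
      rw [pow_one]
      have h' := pow_orderOf_eq_one g
      rwa [h] at h')⟩⟩)
  rw [hall, hNcard, hG, hS3] at hcount
  apply Nat.eq_of_mul_eq_mul_right (by positivity : 0 < (8 * t + 3) ^ 3 * (8 * t + 2))
  rw [hcount]
  ring

/-- The number of elements of order 9. -/
theorem ree_card_order_nine (hK : Fintype.card K = 3 ^ (2 * m + 1)) (R : ReeData K (3 ^ m))
    (t : ℕ) (ht : 3 ^ (2 * m + 1) = 8 * t + 3) :
    Nat.card {g : ↥(twistedG2 K (3 ^ m)) // orderOf g = 9} =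
      (8 * t + 3) ^ 2 * (8 * t + 2) * ((8 * t + 3) ^ 3 + 1) := by
  obtain ⟨hfin, hG⟩ := ree_finite hK R t ht
  have h3c := ree_card_three_elts hK R t ht
  have h3 := ree_card_order_three hK R t ht
  have hsplit := card_split_and (fun g : ↥(twistedG2 K (3 ^ m)) => g ≠ 1 ∧ ∃ k : ℕ, g ^ (3 ^ k) = 1)
    (fun g => orderOf g = 3)
  have e1 : Nat.card {g : ↥(twistedG2 K (3 ^ m)) // (g ≠ 1 ∧ ∃ k : ℕ, g ^ (3 ^ k) = 1) ∧ orderOf g = 3} =
      Nat.card {g : ↥(twistedG2 K (3 ^ m)) // orderOf g = 3} :=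
    card_congr_iff (fun g => ⟨fun h => h.2, fun h => ⟨⟨fun h1 => by rw [h1, orderOf_one] at h; omega, 1, by
      rw [pow_one]
      have h' := pow_orderOf_eq_one g
      rwa [h] at h'⟩, h⟩⟩)
  have e2 : Nat.card {g : ↥(twistedG2 K (3 ^ m)) // (g ≠ 1 ∧ ∃ k : ℕ, g ^ (3 ^ k) = 1) ∧ ¬ orderOf g = 3} =
      Nat.card {g : ↥(twistedG2 K (3 ^ m)) // orderOf g = 9} :=
    card_congr_iff (fun g => ⟨fun h => by
        obtain ⟨⟨h1, k, hk⟩, hn3⟩ := h
        have h9 := ree_three_elt_pow_nine hK R t ht g k hk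
        have hd : orderOf g ∣ 3 ^ 2 := by
          norm_num
          exact orderOf_dvd_of_pow_eq_one h9
        obtain ⟨j, hj, hoj⟩ := (Nat.dvd_prime_pow Nat.prime_three).mp hd
        interval_cases j
        · exfalso
          exact h1 (orderOf_eq_one_iff.mp (by rw [hoj, pow_zero]))
        · exfalso
          exact hn3 (by rw [hoj, pow_one])
        · rw [hoj]
          norm_num,
      fun h => ⟨⟨fun h1 => by rw [h1, orderOf_one] at h; omega, 2, by
        have h2 := pow_orderOf_eq_one g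
        rw [h] at h2
        norm_num
        exact h2⟩, by rw [h]; norm_num⟩⟩)
  rw [e1, e2, h3] at hsplit
  have e : (8 * t + 3) ^ 6 = (8 * t + 2) * (8 * t + 4) * ((8 * t + 3) ^ 3 + 1) +
      (8 * t + 3) ^ 2 * (8 * t + 2) * ((8 * t + 3) ^ 3 + 1) + 1 := by ring
  linarith

/-- The number of elements of order 6. -/
theorem ree_card_order_six (hm : 1 ≤ m) (hK : Fintype.card K = 3 ^ (2 * m + 1)) (R : ReeData K (3 ^ m))
    (t : ℕ) (ht : 3 ^ (2 * m + 1) = 8 * t + 3) :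
    Nat.card {g : ↥(twistedG2 K (3 ^ m)) // orderOf g = 6} =
      (8 * t + 3) ^ 2 * (8 * t + 2) * ((8 * t + 3) ^ 3 + 1) := by
  obtain ⟨hfin, hG⟩ := ree_finite hK R t ht
  obtain ⟨a, L, W, hLcard, hN1, -, -⟩ := ree_ward_data' hm hK R t ht
  have hinv := ree_card_invol hm hK R t ht
  have h1 := card_order_two_mul (G := ↥(twistedG2 K (3 ^ m))) (i := 3) ⟨1, rfl⟩
  have hL3 : Nat.card {l : ↥(twistedG2 K (3 ^ m)) // l ∈ L ∧ l ≠ 1 ∧ l ^ 3 = 1} = (8 * t + 2) * (8 * t + 4) := by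
    have h := card_pow_eq_one_split L 3
    rw [hN1] at h
    have e : (8 * t + 3) ^ 2 = (8 * t + 2) * (8 * t + 4) + 1 := by ring
    linarith
  have h2 := card_pairs_fiber (fun z g : ↥(twistedG2 K (3 ^ m)) => orderOf z = 2 ∧ orderOf g = 3 ∧ z * g = g * z)
    {z : ↥(twistedG2 K (3 ^ m)) | orderOf z = 2} ((8 * t + 2) * (8 * t + 4))
    (fun z hz => by
      have hz2 : orderOf z = 2 := hz
      have hz1 : z ≠ 1 := by
        rintro rfl
        rw [orderOf_one] at hz2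
        omega
      have hzz : z * z = 1 := by
        have h := pow_orderOf_eq_one z
        rwa [hz2, pow_two] at h
      obtain ⟨c, hcz⟩ := W.conj z hz1 hzz
      rw [← hL3]
      rw [card_conj_transport c (fun g => orderOf z = 2 ∧ orderOf g = 3 ∧ z * g = g * z)
        (fun g => orderOf g = 3 ∧ a * g = g * a) (fun g => by
          rw [orderOf_conj']
          constructor
          · rintro ⟨-, h3, hc⟩
            refine ⟨h3, ?_⟩
            rw [← hcz] at hc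
            have e1 : a * g = c⁻¹ * (c * a * c⁻¹ * (c * g * c⁻¹)) * c := by group
            have e2 : g * a = c⁻¹ * (c * g * c⁻¹ * (c * a * c⁻¹)) * c := by group
            rw [e1, e2, hc]
          · rintro ⟨h3, hc⟩
            refine ⟨hz2, h3, ?_⟩
            rw [← hcz]
            calc c * a * c⁻¹ * (c * g * c⁻¹) = c * (a * g) * c⁻¹ := by group
              _ = c * (g * a) * c⁻¹ := by rw [hc]
              _ = c * g * c⁻¹ * (c * a * c⁻¹) := by group)]
      exact card_congr_iff (fun g => ⟨fun h => by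
          have hg3 : g ^ 3 = 1 := by
            have h' := pow_orderOf_eq_one g
            rwa [h.1] at h'
          refine ⟨W.mem_of_comm_of_pow h.2.symm ⟨1, rfl⟩ hg3, ?_, hg3⟩
          rintro rfl
          have h' := h.1
          rw [orderOf_one] at h'
          omega,
        fun h => ⟨orderOf_eq_prime h.2.2 h.2.1, (W.comm_of_mem h.1).symm⟩⟩))
    (fun z hz g h => hz h.1)
  have e6 : Nat.card {g : ↥(twistedG2 K (3 ^ m)) // orderOf g = 6} =
      Nat.card {g : ↥(twistedG2 K (3 ^ m)) // orderOf g = 2 * 3} := rfl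
  rw [e6, h1, h2]
  have e7 : Nat.card ↥{z : ↥(twistedG2 K (3 ^ m)) | orderOf z = 2} =
      Nat.card {g : ↥(twistedG2 K (3 ^ m)) // orderOf g = 2} := rfl
  rw [e7, hinv]
  ring

end Cfsg.Agent.Lib.helper44
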