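import Cfsg.Agent.Lib.helper44.ReeWardI

set_option autoImplicit false
set_option maxRecDepth 100000

/-!
# The number of elements of each order prime to 3 in the small Ree groups
-/

namespace Cfsg.Agent.Lib.helper44

open Cfsg Cfsg.Lie Cfsg.Agent.Lib.helper41 Cfsg.Agent.Lib.helper22 Cfsg.Agent.Lib.helper23

variable {K : Type*} [Field K] [Fintype K] {m : ℕ}

/-- The split torus with the order of its normalizer. -/
theorem ree_split_full (hm : 1 ≤ m) (hK : Fintype.card K = 3 ^ (2 * m + 1)) (R : ReeData K (3 ^ m))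
    (t : ℕ) (ht : 3 ^ (2 * m + 1) = 8 * t + 3) :
    ∃ T : Subgroup ↥(twistedG2 K (3 ^ m)), IsCyclic ↥T ∧ Nat.card ↥T = 8 * t + 2 ∧ TorusData T (4 * t + 1) ∧
      Nat.card ↥(Subgroup.normalizer (T : Set ↥(twistedG2 K (3 ^ m)))) = 2 * (8 * t + 2) := by
  obtain ⟨hfin, hG⟩ := ree_finite hK R t ht
  have ht3 := ree_q_ge hm t ht
  obtain ⟨T, hTcyc, hTcard, hT⟩ := ree_split_data' hm hK R t ht
  refine ⟨T, hTcyc, hTcard, hT, ?_⟩
  obtain ⟨x, hxT, hxo⟩ := exists_orderOf_eq_of_cyclic T hTcyc (4 * t + 1) (by rw [hTcard]; exact ⟨2, by ring⟩)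
  have hAcard : Nat.card ↥(Subgroup.zpowers x) = 4 * t + 1 := by rw [Nat.card_zpowers, hxo]
  have hAT : Subgroup.zpowers x ≤ T := (Subgroup.zpowers_le).mpr hxT
  have hA1 : Subgroup.zpowers x ≠ ⊥ := by
    intro h
    rw [h, Subgroup.card_bot] at hAcard
    omega
  have hcount := torus_normalizer_card hT (Subgroup.zpowers x) hAT hA1 hAcard
    (fun A₀ hA₀ y hy hpow => Cfsg.Agent.Lib.helper1.wtl_mem_of_pow_card T A₀ hTcyc (hA₀.trans hAT) hy hpow)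
  obtain ⟨-, hc2, -⟩ := ree_ward_count' hm hK R t ht
  rw [hc2, hG] at hcount
  have e1 : 4 * t + 1 - 1 = 4 * t := by omega
  rw [e1] at hcount
  have hX : 0 < (8 * t + 3) ^ 2 * (64 * t ^ 2 + 40 * t + 7) * ((8 * t + 3) * (2 * t + 1) * (8 * t)) :=
    Nat.mul_pos (by positivity) (Nat.mul_pos (by positivity) (by omega))
  apply Nat.eq_of_mul_eq_mul_left hX
  rw [hcount]
  ring

/-- The torus of order `q + 1` with the order of its normalizer. -/
theorem ree_quarter_full (hm : 1 ≤ m) (hK : Fintype.card K = 3 ^ (2 * m + 1)) (R : ReeData K (3 ^ m))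
    (t : ℕ) (ht : 3 ^ (2 * m + 1) = 8 * t + 3) :
    ∃ B Z : Subgroup ↥(twistedG2 K (3 ^ m)), IsCyclic ↥Z ∧ (∀ x ∈ B, Odd (orderOf x) → x ∈ Z) ∧
      TorusData B (2 * t + 1) ∧ Nat.card ↥B = 8 * t + 4 ∧ Z ≤ B ∧ Nat.card ↥Z = 4 * t + 2 ∧
      Nat.card ↥(Subgroup.normalizer (B : Set ↥(twistedG2 K (3 ^ m)))) = 6 * (8 * t + 4) := by
  obtain ⟨hfin, hG⟩ := ree_finite hK R t ht
  have ht3 := ree_q_ge hm t ht
  obtain ⟨B, Z, a, b, φG, hZcyc, hodd, hBd, hBcard, -, -, -, -, -, -, -, hZB, hZcard, -⟩ :=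
    ree_pack hm hK R t ht
  refine ⟨B, Z, hZcyc, hodd, hBd, hBcard, hZB, hZcard, ?_⟩
  obtain ⟨x, hxZ, hxo⟩ := exists_orderOf_eq_of_cyclic Z hZcyc (2 * t + 1) (by rw [hZcard]; exact ⟨2, by ring⟩)
  have hAcard : Nat.card ↥(Subgroup.zpowers x) = 2 * t + 1 := by rw [Nat.card_zpowers, hxo]
  have hAZ : Subgroup.zpowers x ≤ Z := (Subgroup.zpowers_le).mpr hxZ
  have hA1 : Subgroup.zpowers x ≠ ⊥ := by
    intro h
    rw [h, Subgroup.card_bot] at hAcard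
    omega
  have hcount := torus_normalizer_card hBd (Subgroup.zpowers x) (hAZ.trans hZB) hA1 hAcard
    (fun A₀ hA₀ y hy hpow => by
      have hdvd : Nat.card ↥A₀ ∣ 2 * t + 1 := by
        rw [← hAcard]
        exact Subgroup.card_dvd_of_le hA₀
      have hoddc : Odd (Nat.card ↥A₀) := Odd.of_dvd_nat ⟨t, rfl⟩ hdvd
      have hyodd : Odd (orderOf y) := Odd.of_dvd_nat hoddc (orderOf_dvd_of_pow_eq_one hpow)
      exact Cfsg.Agent.Lib.helper1.wtl_mem_of_pow_card Z A₀ hZcyc (hA₀.trans hAZ) (hodd y hy hyodd) hpow)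
  obtain ⟨-, -, hc3⟩ := ree_ward_count' hm hK R t ht
  rw [hG] at hcount
  have e1 : 2 * t + 1 - 1 = 2 * t := by omega
  rw [e1] at hcount
  have hX : 0 < (8 * t + 3) ^ 2 * (64 * t ^ 2 + 40 * t + 7) * ((8 * t + 3) * (4 * t + 1) * (2 * t)) :=
    Nat.mul_pos (by positivity) (Nat.mul_pos (by positivity) (by omega))
  have h3 : (8 * t + 3) ^ 2 * (64 * t ^ 2 + 40 * t + 7) * ((8 * t + 3) * (4 * t + 1) * (2 * t)) *
      Nat.card ↥(Subgroup.normalizer (B : Set ↥(twistedG2 K (3 ^ m)))) =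
      3 * ((8 * t + 3) ^ 3 * ((8 * t + 3) ^ 3 + 1) * (8 * t + 2) * (2 * t)) := by
    rw [← hc3, mul_assoc, hcount]
  apply Nat.eq_of_mul_eq_mul_left hX
  rw [h3]
  ring

/-- The number of elements of order `i > 2` dividing `q - 1`. -/
theorem ree_card_order_split (hm : 1 ≤ m) (hK : Fintype.card K = 3 ^ (2 * m + 1)) (R : ReeData K (3 ^ m))
    (t : ℕ) (ht : 3 ^ (2 * m + 1) = 8 * t + 3) (i : ℕ) (hi2 : 2 < i) (hi : i ∣ 8 * t + 2) :
    2 * Nat.card {g : ↥(twistedG2 K (3 ^ m)) // orderOf g = i} =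
      Nat.totient i * (8 * t + 3) ^ 3 * ((8 * t + 3) ^ 3 + 1) := by
  obtain ⟨hfin, hG⟩ := ree_finite hK R t ht
  obtain ⟨T, hTcyc, hTcard, hT, hNT⟩ := ree_split_full hm hK R t ht
  have hs : ∃ s : ℕ, s.Prime ∧ s ∣ 4 * t + 1 ∧ s ∣ i := by
    by_contra hcon
    have hcop : Nat.Coprime i (4 * t + 1) := by
      by_contra h
      obtain ⟨p, hp, hpi, hp4⟩ := Nat.Prime.not_coprime_iff_dvd.mp h
      exact hcon ⟨p, hp, hp4, hpi⟩
    have h2 : i ∣ 2 := hcop.dvd_of_dvd_mul_right (by rwa [show 8 * t + 2 = 2 * (4 * t + 1) by ring] at hi)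
    have h3 := Nat.le_of_dvd (by norm_num) h2
    omega
  obtain ⟨s, hs, hs4, hsi⟩ := hs
  have hcount := torus_card_pred hT (fun g => orderOf g = i) (fun c g => by rw [orderOf_conj'])
    (fun g hg => ⟨s, hs, hs4, by rw [hg]; exact hsi⟩)
  rw [hNT, hG, card_orderOf_eq_totient_of_cyclic T hTcyc i (by rw [hTcard]; exact hi)] at hcount
  apply Nat.eq_of_mul_eq_mul_right (by positivity : 0 < 8 * t + 2)
  calc 2 * Nat.card {g : ↥(twistedG2 K (3 ^ m)) // orderOf g = i} * (8 * t + 2)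
      = Nat.card {g : ↥(twistedG2 K (3 ^ m)) // orderOf g = i} * (2 * (8 * t + 2)) := by ring
    _ = (8 * t + 3) ^ 3 * ((8 * t + 3) ^ 3 + 1) * (8 * t + 2) * Nat.totient i := hcount
    _ = Nat.totient i * (8 * t + 3) ^ 3 * ((8 * t + 3) ^ 3 + 1) * (8 * t + 2) := by ring

/-- The number of elements of order `i > 1` dividing `(q + 1) / 4`, and of order `2 i`. -/
theorem ree_card_order_quarter (hm : 1 ≤ m) (hK : Fintype.card K = 3 ^ (2 * m + 1)) (R : ReeData K (3 ^ m))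
    (t : ℕ) (ht : 3 ^ (2 * m + 1) = 8 * t + 3) (i : ℕ) (hi1 : 1 < i) (hi : i ∣ 2 * t + 1) :
    6 * Nat.card {g : ↥(twistedG2 K (3 ^ m)) // orderOf g = i} =
        Nat.totient i * (8 * t + 3) ^ 3 * (8 * t + 2) * (64 * t ^ 2 + 40 * t + 7) ∧
    2 * Nat.card {g : ↥(twistedG2 K (3 ^ m)) // orderOf g = 2 * i} =
        Nat.totient i * (8 * t + 3) ^ 3 * (8 * t + 2) * (64 * t ^ 2 + 40 * t + 7) := by
  obtain ⟨hfin, hG⟩ := ree_finite hK R t ht
  obtain ⟨B, Z, hZcyc, hodd, hBd, hBcard, hZB, hZcard, hNB⟩ := ree_quarter_full hm hK R t ht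
  have hiodd : Odd i := Odd.of_dvd_nat ⟨t, rfl⟩ hi
  obtain ⟨s, hs, hsi⟩ := Nat.exists_prime_and_dvd (by omega : i ≠ 1)
  have hs2 : s ∣ 2 * t + 1 := hsi.trans hi
  have hcount := torus_card_pred hBd (fun g => orderOf g = i) (fun c g => by rw [orderOf_conj'])
    (fun g hg => ⟨s, hs, hs2, by rw [hg]; exact hsi⟩)
  have hB : Nat.card {y : ↥(twistedG2 K (3 ^ m)) // y ∈ B ∧ orderOf y = i} = Nat.totient i := by
    rw [← card_orderOf_eq_totient_of_cyclic Z hZcyc i (by rw [hZcard]; exact hi.trans ⟨2, by ring⟩)]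
    exact card_congr_iff (fun y => ⟨fun h => ⟨hodd y h.1 (by rw [h.2]; exact hiodd), h.2⟩,
      fun h => ⟨hZB h.1, h.2⟩⟩)
  rw [hNB, hG, hB] at hcount
  have h6 : 6 * Nat.card {g : ↥(twistedG2 K (3 ^ m)) // orderOf g = i} =
      Nat.totient i * (8 * t + 3) ^ 3 * (8 * t + 2) * (64 * t ^ 2 + 40 * t + 7) := by
    apply Nat.eq_of_mul_eq_mul_right (by positivity : 0 < 8 * t + 4)
    calc 6 * Nat.card {g : ↥(twistedG2 K (3 ^ m)) // orderOf g = i} * (8 * t + 4)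
        = Nat.card {g : ↥(twistedG2 K (3 ^ m)) // orderOf g = i} * (6 * (8 * t + 4)) := by ring
      _ = (8 * t + 3) ^ 3 * ((8 * t + 3) ^ 3 + 1) * (8 * t + 2) * Nat.totient i := hcount
      _ = Nat.totient i * (8 * t + 3) ^ 3 * (8 * t + 2) * (64 * t ^ 2 + 40 * t + 7) * (8 * t + 4) := by ring
  refine ⟨h6, ?_⟩
  have h1 := card_order_two_mul (G := ↥(twistedG2 K (3 ^ m))) hiodd
  have h2 := card_pairs_fiber' (fun z g : ↥(twistedG2 K (3 ^ m)) => orderOf z = 2 ∧ orderOf g = i ∧ z * g = g * z)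
    {g : ↥(twistedG2 K (3 ^ m)) | orderOf g = i} 3
    (fun g hg => by
      have hg' : orderOf g = i := hg
      have hg1 : g ≠ 1 := by
        rintro rfl
        rw [orderOf_one] at hg'
        omega
      have hgp : g ^ (2 * t + 1) = 1 := orderOf_dvd_iff_pow_eq_one.mp (by rw [hg']; exact hi)
      refine Eq.trans ?_ (ree_invol_quarter hm hK R t ht g hg1 hgp)
      exact card_congr_iff (fun z => ⟨fun h => ⟨fun h1 => by
          have h' := h.1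
          rw [h1, orderOf_one] at h'
          omega, by
          have h' := pow_orderOf_eq_one z
          rwa [h.1, pow_two] at h', h.2.2⟩,
        fun h => ⟨orderOf_eq_prime (by rw [pow_two]; exact h.2.1) h.1, hg', h.2.2⟩⟩))
    (fun g hg z h => hg h.2.1)
  rw [h1, h2]
  have e7 : Nat.card ↥{g : ↥(twistedG2 K (3 ^ m)) | orderOf g = i} =
      Nat.card {g : ↥(twistedG2 K (3 ^ m)) // orderOf g = i} := rfl
  rw [e7, ← h6]
  ring

/-- The number of elements of order `i > 1` dividing `q - r + 1` or `q + r + 1`. -/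
theorem ree_card_order_tori (hm : 1 ≤ m) (hK : Fintype.card K = 3 ^ (2 * m + 1)) (R : ReeData K (3 ^ m))
    (t : ℕ) (ht : 3 ^ (2 * m + 1) = 8 * t + 3) :
    (∀ i : ℕ, 1 < i → i ∣ 8 * t + 3 + 1 - 3 ^ (m + 1) →
      6 * Nat.card {g : ↥(twistedG2 K (3 ^ m)) // orderOf g = i} =
        Nat.totient i * (8 * t + 3) ^ 3 * ((8 * t + 2) * (8 * t + 4)) * (8 * t + 3 + 1 + 3 ^ (m + 1))) ∧
    (∀ i : ℕ, 1 < i → i ∣ 8 * t + 3 + 1 + 3 ^ (m + 1) →
      6 * Nat.card {g : ↥(twistedG2 K (3 ^ m)) // orderOf g = i} =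
        Nat.totient i * (8 * t + 3) ^ 3 * ((8 * t + 2) * (8 * t + 4)) * (8 * t + 3 + 1 - 3 ^ (m + 1))) := by
  obtain ⟨hfin, hG⟩ := ree_finite hK R t ht
  obtain ⟨h3q, h3t⟩ := ree_three_dvd t ht
  obtain ⟨-, -, hPodd, -, -, hP3, -⟩ := ward_coprime_facts t h3t
  obtain ⟨T₁, T₂, hcyc1, hcyc2, hc1, hc2, hn1, hn2, hN1, hN2, hconj⟩ := ree_tori hm hK R t ht
  have hr : 3 ^ (m + 1) * 3 ^ (m + 1) = 3 * (8 * t + 3) := by
    rw [← ht]
    ring
  have hrle : 3 ^ (m + 1) ≤ 8 * t + 3 := by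
    rw [← ht]
    exact Nat.pow_le_pow_right (by norm_num) (by omega)
  obtain ⟨a, ha⟩ : ∃ a, 8 * t + 3 + 1 = a + 3 ^ (m + 1) := ⟨8 * t + 3 + 1 - 3 ^ (m + 1), by omega⟩
  have ea : 8 * t + 3 + 1 - 3 ^ (m + 1) = a := by omega
  have eb : 8 * t + 3 + 1 + 3 ^ (m + 1) = a + 3 ^ (m + 1) + 3 ^ (m + 1) := by omega
  rw [ea] at hc1 hn1 ⊢
  rw [eb] at hc2 hn2 ⊢
  -- `a (a + 2r) = q² - q + 1`
  have hab : a * (a + 3 ^ (m + 1) + 3 ^ (m + 1)) = 64 * t ^ 2 + 40 * t + 7 := by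
    have h1 : a * (a + 3 ^ (m + 1) + 3 ^ (m + 1)) + 3 ^ (m + 1) * 3 ^ (m + 1) =
        (a + 3 ^ (m + 1)) * (a + 3 ^ (m + 1)) := by ring
    have h3 : (a + 3 ^ (m + 1)) * (a + 3 ^ (m + 1)) = (8 * t + 3 + 1) * (8 * t + 3 + 1) := by rw [← ha]
    have h2 : (8 * t + 3 + 1) * (8 * t + 3 + 1) = 64 * t ^ 2 + 40 * t + 7 + 3 * (8 * t + 3) := by ring
    linarith
  have ha0 : 0 < a := by
    rcases Nat.eq_zero_or_pos a with h | h
    · rw [h, zero_mul] at hab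
      have : 0 < 64 * t ^ 2 + 40 * t + 7 := by positivity
      omega
    · exact h
  have hb0 : 0 < a + 3 ^ (m + 1) + 3 ^ (m + 1) := by omega
  have hdvdP1 : a ∣ 64 * t ^ 2 + 40 * t + 7 := ⟨_, hab.symm⟩
  have hdvdP2 : a + 3 ^ (m + 1) + 3 ^ (m + 1) ∣ 64 * t ^ 2 + 40 * t + 7 := ⟨a, by rw [← hab, mul_comm]⟩
  -- no common divisor
  have hnocommon : ∀ i : ℕ, 1 < i → i ∣ a → i ∣ a + 3 ^ (m + 1) + 3 ^ (m + 1) → False := by
    intro i hi1 hia hib
    have h2r : i ∣ 2 * 3 ^ (m + 1) := by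
      have h := (Nat.dvd_add_right hia).mp (by rwa [add_assoc] at hib)
      rwa [← two_mul] at h
    have hiP : i ∣ 64 * t ^ 2 + 40 * t + 7 := hia.trans hdvdP1
    have hc2' : Nat.Coprime i 2 := Nat.coprime_two_right.mpr (Odd.of_dvd_nat hPodd hiP)
    have hc3' : Nat.Coprime i 3 := by
      apply Nat.Coprime.symm
      apply (Nat.Prime.coprime_iff_not_dvd Nat.prime_three).mpr
      intro h
      exact hP3 (h.trans hiP)
    have hcop : Nat.Coprime i (2 * 3 ^ (m + 1)) := Nat.Coprime.mul_right hc2' (Nat.Coprime.pow_right _ hc3')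
    have := Nat.Coprime.eq_one_of_dvd hcop h2r
    omega
  have e : (8 * t + 3) ^ 3 + 1 = (8 * t + 4) * (64 * t ^ 2 + 40 * t + 7) := by ring
  have hmain : ∀ (T T' : Subgroup ↥(twistedG2 K (3 ^ m))) (c c' : ℕ), IsCyclic ↥T → Nat.card ↥T = c →
      Nat.card ↥T' = c' → c * c' = 64 * t ^ 2 + 40 * t + 7 → 0 < c →
      (∀ i : ℕ, 1 < i → i ∣ c → i ∣ c' → False) →
      Nat.card ↥(Subgroup.normalizer (T : Set ↥(twistedG2 K (3 ^ m)))) = 6 * c →
      (∀ A₀ : Subgroup ↥(twistedG2 K (3 ^ m)), A₀ ≤ T → A₀ ≠ ⊥ →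
        Subgroup.normalizer (A₀ : Set ↥(twistedG2 K (3 ^ m))) =
          Subgroup.normalizer (T : Set ↥(twistedG2 K (3 ^ m)))) →
      (∀ g : ↥(twistedG2 K (3 ^ m)), g ≠ 1 → g ^ (64 * t ^ 2 + 40 * t + 7) = 1 →
        ∃ d : ↥(twistedG2 K (3 ^ m)), d⁻¹ * g * d ∈ T ∨ d⁻¹ * g * d ∈ T') →
      ∀ i : ℕ, 1 < i → i ∣ c →
        6 * Nat.card {g : ↥(twistedG2 K (3 ^ m)) // orderOf g = i} =
          Nat.totient i * (8 * t + 3) ^ 3 * ((8 * t + 2) * (8 * t + 4)) * c' := by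
    intro T T' c c' hTcyc hTc hT'c hcc hc0 hno hnT hNT hcj i hi1 hic
    have hcount := card_ti_class_pred T (fun g => orderOf g = i) (fun d g => by rw [orderOf_conj'])
      (fun n y hy hyi hny => cyclic_ti_key T hTcyc hNT n y hy (by
        rintro rfl
        rw [orderOf_one] at hyi
        omega) hny)
    have hall : Nat.card {g : ↥(twistedG2 K (3 ^ m)) // orderOf g = i ∧
        ∃ d : ↥(twistedG2 K (3 ^ m)), d⁻¹ * g * d ∈ T} =
        Nat.card {g : ↥(twistedG2 K (3 ^ m)) // orderOf g = i} :=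
      card_congr_iff (fun g => ⟨fun h => h.1, fun h => ⟨h, by
        have hg1 : g ≠ 1 := by
          rintro rfl
          rw [orderOf_one] at h
          omega
        have hgP : g ^ (64 * t ^ 2 + 40 * t + 7) = 1 :=
          orderOf_dvd_iff_pow_eq_one.mp (by rw [h, ← hcc]; exact hic.trans (dvd_mul_right c c'))
        obtain ⟨d, hd | hd⟩ := hcj g hg1 hgP
        · exact ⟨d, hd⟩
        · exfalso
          have h1 := Subgroup.orderOf_dvd_natCard T' hd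
          rw [orderOf_conj_inv, h, hT'c] at h1
          exact hno i hi1 hic h1⟩⟩)
    rw [hall, hnT, hG, card_orderOf_eq_totient_of_cyclic T hTcyc i (by rw [hTc]; exact hic), e, ← hcc] at hcount
    apply Nat.eq_of_mul_eq_mul_right hc0
    calc 6 * Nat.card {g : ↥(twistedG2 K (3 ^ m)) // orderOf g = i} * c
        = Nat.card {g : ↥(twistedG2 K (3 ^ m)) // orderOf g = i} * (6 * c) := by ring
      _ = (8 * t + 3) ^ 3 * ((8 * t + 4) * (c * c')) * (8 * t + 2) * Nat.totient i := hcount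
      _ = Nat.totient i * (8 * t + 3) ^ 3 * ((8 * t + 2) * (8 * t + 4)) * c' * c := by ring
  constructor
  · exact hmain T₁ T₂ a (a + 3 ^ (m + 1) + 3 ^ (m + 1)) hcyc1 hc1 hc2 hab ha0 hnocommon hn1 hN1 hconj
  · exact hmain T₂ T₁ (a + 3 ^ (m + 1) + 3 ^ (m + 1)) a hcyc2 hc2 hc1 (by rw [mul_comm]; exact hab) hb0
      (fun i hi1 h1 h2 => hnocommon i hi1 h2 h1) hn2 hN2
      (fun g hg1 hgP => by
        obtain ⟨d, hd | hd⟩ := hconj g hg1 hgP
        · exact ⟨d, Or.inr hd⟩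
        · exact ⟨d, Or.inl hd⟩)

end Cfsg.Agent.Lib.helper44
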