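import Mathlib
import Cfsg.Agent.Lib.helper44.SL3Defs
import Cfsg.Agent.Lib.helper61.SL3A24
import Cfsg.Agent.Lib.helper10.SL3A2G
import Cfsg.Agent.Lib.helper61.SL3ABS4
import Cfsg.Agent.Lib.helper57.SL3ABSG
import Cfsg.Agent.Lib.helper57.SL3ABSP
import Cfsg.Agent.Lib.helper53.SL3C1a
import Cfsg.Agent.Lib.helper4.SL3C1b
import Cfsg.Agent.Lib.helper4.SL3C1c
import Cfsg.Agent.Lib.helper90.SL3C1d
import Cfsg.Agent.Lib.helper76.SL3C1ef
import Cfsg.Agent.Lib.helper84.SL3C2
import Cfsg.Agent.Lib.helper84.SL3C4a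
import Cfsg.Agent.Lib.helper48.SL3C4b
import Cfsg.Agent.Lib.helper33.SL3C4c
import Cfsg.Agent.Lib.helper10.SL3CLOSE
import Cfsg.Agent.Lib.helper12.SL3FLDa
import Cfsg.Agent.Lib.helper64.SL3FLDb
import Cfsg.Agent.Lib.helper35.SL3FLDc
import Cfsg.Agent.Lib.helper6.SL3GEN
import Cfsg.Agent.Lib.helper64.SL3MAT4
import Cfsg.Agent.Lib.helper13.SL3MATF
import Cfsg.Agent.Lib.helper13.SL3MATG
import Cfsg.Agent.Lib.helper13.SL3MATP
import Cfsg.Agent.Lib.helper85.SL3MATR
import Cfsg.Agent.Lib.helper38.SL3MATa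
import Cfsg.Agent.Lib.helper35.SL3MATp
import Cfsg.Agent.Lib.helper35.SL3MATs
import Cfsg.Agent.Lib.helper38.SL3MATw
import Cfsg.Agent.Lib.helper42.SL3MOD1
import Cfsg.Agent.Lib.helper73.SL3MOD2
import Cfsg.Agent.Lib.helper73.SL3MOD4
import Cfsg.Agent.Lib.helper11.SL3MODP
import Cfsg.Agent.Lib.helper42.SL3NAT
import Cfsg.Agent.Lib.helper53.SL3SPAN
import Cfsg.Agent.Lib.helper42.SL3ST
import Cfsg.Agent.Lib.helper48.SL3T1
import Cfsg.Agent.Lib.helper83.SL3T2
import Cfsg.Agent.Lib.helper37.SL3TA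
import Cfsg.Agent.Lib.helper92.PresPW

/-! # S2287, piece CG: the generic case (and the common closing lemma `h44_case_close`) -/

set_option autoImplicit false

namespace Cfsg.Agent.Lib.helper44.SL3

open Polynomial

/-- Every element of `F` is a polynomial in `μ` when `F_p[μ] = F`. -/
theorem h44_exists_aeval' {F : Type*} [Field F] {p : ℕ} [Algebra (ZMod p) F] (μ : F)
    (hμ : Algebra.adjoin (ZMod p) {μ} = ⊤) (a : F) : ∃ f : (ZMod p)[X], aeval μ f = a := by
  have h : a ∈ Algebra.adjoin (ZMod p) {μ} := by rw [hμ]; exact Algebra.mem_top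
  rw [Algebra.adjoin_singleton_eq_range_aeval] at h
  exact h

/-- In a presented group on four generators, evaluating a word at the generators is the
quotient map. -/
theorem h44_lift4_eq_mk (rels : Set (FreeGroup (Fin 4))) :
    FreeGroup.lift ![(PresentedGroup.of (0 : Fin 4) : PresentedGroup rels),
      PresentedGroup.of (1 : Fin 4), PresentedGroup.of (2 : Fin 4),
      PresentedGroup.of (3 : Fin 4)] = PresentedGroup.mk rels := by
  ext i
  fin_cases i <;> simp [PresentedGroup.of]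

/-- The common closing step of the three cases: `L` is the relator list, `H` the image of the
second generator, `μ` a field generator. -/
theorem h44_case_close {F : Type*} [Field F] [Fintype F] {p : ℕ} [Algebra (ZMod p) F] (μ : F)
    (hμ : Algebra.adjoin (ZMod p) {μ} = ⊤) (L : List (FreeGroup (Fin 4))) (hL : L.length ≤ 14)
    (H : Matrix.SpecialLinearGroup (Fin 3) F)
    (hf : ∀ r ∈ L, FreeGroup.lift ![mX01 F 1, H, mC F, 1] r = 1)
    (hpoly : ∀ f : (ZMod p)[X], Pres.polyWord H (mX01 F 1) f = mX01 F (aeval μ f))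
    (habs : ∃ x : F → PresentedGroup (↑L.toFinset : Set (FreeGroup (Fin 4))),
      x 1 = PresentedGroup.of (0 : Fin 4) ∧ IsA2Conf x (PresentedGroup.of (2 : Fin 4)) ∧
      (∀ f : (ZMod p)[X], x (aeval μ f) =
        Pres.polyWord (PresentedGroup.of (1 : Fin 4)) (PresentedGroup.of (0 : Fin 4)) f) ∧
      PresentedGroup.of (1 : Fin 4) ∈ rootE x (PresentedGroup.of (2 : Fin 4)) ∧
      PresentedGroup.of (2 : Fin 4) ∈ rootE x (PresentedGroup.of (2 : Fin 4)) ∧
      PresentedGroup.of (3 : Fin 4) ∈ rootE x (PresentedGroup.of (2 : Fin 4))) :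
    ∃ rels : Finset (FreeGroup (Fin 4)), rels.card ≤ 14 ∧
      Nonempty (PresentedGroup (↑rels : Set (FreeGroup (Fin 4))) ≃*
        Matrix.SpecialLinearGroup (Fin 3) F) := by
  classical
  have hf' : ∀ r ∈ (↑L.toFinset : Set (FreeGroup (Fin 4))),
      FreeGroup.lift ![mX01 F 1, H, mC F, 1] r = 1 := fun r hr =>
    hf r (List.mem_toFinset.mp (Finset.mem_coe.mp hr))
  obtain ⟨x, hx1, hconf, hxp, h1, h2, h3⟩ := habs
  set φ := PresentedGroup.toGroup hf' with hφ
  have hφ0 : φ (PresentedGroup.of (0 : Fin 4)) = mX01 F 1 := by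
    rw [hφ, PresentedGroup.toGroup.of]; rfl
  have hφ1 : φ (PresentedGroup.of (1 : Fin 4)) = H := by
    rw [hφ, PresentedGroup.toGroup.of]; rfl
  have hφ2 : φ (PresentedGroup.of (2 : Fin 4)) = mC F := by
    rw [hφ, PresentedGroup.toGroup.of]; rfl
  refine close_pres L hL φ x (PresentedGroup.of (2 : Fin 4)) hconf ?_ hφ2 ?_
  · intro a
    obtain ⟨f, rfl⟩ := h44_exists_aeval' μ hμ a
    rw [hxp, Pres.polyWord_map, hφ0, hφ1, hpoly]
  · rw [eq_top_iff, ← PresentedGroup.closure_range_of, Subgroup.closure_le]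
    rintro _ ⟨i, rfl⟩
    have h0 : PresentedGroup.of (0 : Fin 4) ∈ rootE x (PresentedGroup.of (2 : Fin 4)) := by
      rw [← hx1]
      exact (rootE_props x _ hconf).1 1
    fin_cases i
    · exact h0
    · exact h1
    · exact h2
    · exact h3

-- CG
theorem h44_sl3_case_gen {F : Type*} [Field F] [Fintype F] {p : ℕ} [Fact p.Prime]
    [Algebra (ZMod p) F] (hq : 5 ≤ Fintype.card F) :
    ∃ rels : Finset (FreeGroup (Fin 4)), rels.card ≤ 14 ∧
      Nonempty (PresentedGroup (↑rels : Set (FreeGroup (Fin 4))) ≃*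
        Matrix.SpecialLinearGroup (Fin 3) F) := by
  classical
  obtain ⟨ω, j, hω, hj⟩ := exists_prim (F := F) (by omega)
  have hω3 : Algebra.adjoin (ZMod p) {(ω : F) ^ 3} = ⊤ := adjoin_cube hq ω hω
  have hω1 : Algebra.adjoin (ZMod p) {(ω : F)} = ⊤ := by
    rw [eq_top_iff, ← hω3]
    apply Algebra.adjoin_le
    intro y hy
    rw [Set.mem_singleton_iff] at hy
    rw [hy]
    exact pow_mem (Algebra.subset_adjoin (Set.mem_singleton _)) 3
  have hlen : (relsGen p j (minpoly (ZMod p) (ω : F)) (FreeGroup.of (0 : Fin 4))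
      (FreeGroup.of 1) (FreeGroup.of 2) (FreeGroup.of 3)).length ≤ 14 := le_of_eq rfl
  obtain ⟨L, hLdef⟩ : ∃ L : List (FreeGroup (Fin 4)), L = relsGen p j
      (minpoly (ZMod p) (ω : F)) (FreeGroup.of (0 : Fin 4)) (FreeGroup.of 1) (FreeGroup.of 2)
      (FreeGroup.of 3) := ⟨_, rfl⟩
  rw [← hLdef] at hlen
  refine h44_case_close (ω : F) hω1 L hlen (mH3 ω) ?_
    (fun f => polyWord_mX01 ω f) ?_
  · intro r hr
    have h1 : FreeGroup.lift ![mX01 F 1, mH3 ω, mC F, 1] r ∈
        L.map (FreeGroup.lift ![mX01 F 1, mH3 ω, mC F, 1]) := List.mem_map_of_mem hr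
    rw [hLdef, relsGen_map] at h1
    simp only [FreeGroup.lift_apply_of, Matrix.cons_val_zero, Matrix.cons_val_one,
      Matrix.cons_val] at h1
    exact mat_relsGen ω j hj _ h1
  · obtain ⟨rels, hrels⟩ : ∃ rels : Set (FreeGroup (Fin 4)), rels = ↑L.toFinset := ⟨_, rfl⟩
    rw [← hrels]
    have hrel : ∀ w ∈ relsGen p j (minpoly (ZMod p) (ω : F))
        (PresentedGroup.of (0 : Fin 4) : PresentedGroup rels) (PresentedGroup.of (1 : Fin 4))
        (PresentedGroup.of (2 : Fin 4)) (PresentedGroup.of (3 : Fin 4)), w = 1 := by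
      intro w hw
      have h2 := relsGen_map (PresentedGroup.mk rels) p j (minpoly (ZMod p) (ω : F))
        (FreeGroup.of 0) (FreeGroup.of 1) (FreeGroup.of 2) (FreeGroup.of 3)
      change w ∈ relsGen p j (minpoly (ZMod p) (ω : F)) (PresentedGroup.mk rels (FreeGroup.of 0))
        (PresentedGroup.mk rels (FreeGroup.of 1)) (PresentedGroup.mk rels (FreeGroup.of 2))
        (PresentedGroup.mk rels (FreeGroup.of 3)) at hw
      rw [← h2] at hw
      obtain ⟨r, hr, rfl⟩ := List.mem_map.mp hw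
      refine PresentedGroup.one_of_mem ?_
      rw [hrels, hLdef]
      exact Finset.mem_coe.mpr (List.mem_toFinset.mpr hr)
    exact abs_gen _ _ _ _ (ω : F) j hω3 (Units.ne_zero ω) hrel

-- C4
theorem h44_sl3_case_four {F : Type*} [Field F] [Fintype F] [Algebra (ZMod 2) F]
    (hcard : Fintype.card F = 4) :
    ∃ rels : Finset (FreeGroup (Fin 4)), rels.card ≤ 14 ∧
      Nonempty (PresentedGroup (↑rels : Set (FreeGroup (Fin 4))) ≃*
        Matrix.SpecialLinearGroup (Fin 3) F) := by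
  classical
  obtain ⟨ω, hω⟩ := four_prim (F := F) hcard
  obtain ⟨hω1, -, -, -, -⟩ := four_adjoin hcard (ω : F) hω
  have hlen : (relsFour (FreeGroup.of (0 : Fin 4))
      (FreeGroup.of 1) (FreeGroup.of 2) (FreeGroup.of 3)).length ≤ 14 := le_of_eq rfl
  obtain ⟨L, hLdef⟩ : ∃ L : List (FreeGroup (Fin 4)), L = relsFour (FreeGroup.of (0 : Fin 4))
      (FreeGroup.of 1) (FreeGroup.of 2) (FreeGroup.of 3) := ⟨_, rfl⟩
  rw [← hLdef] at hlen
  refine h44_case_close (p := 2) (ω : F) hω1 L hlen (mH3 ω) ?_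
    (fun f => polyWord_mX01 ω f) ?_
  · intro r hr
    have h1 : FreeGroup.lift ![mX01 F 1, mH3 ω, mC F, 1] r ∈
        L.map (FreeGroup.lift ![mX01 F 1, mH3 ω, mC F, 1]) := List.mem_map_of_mem hr
    rw [hLdef, relsFour_map] at h1
    simp only [FreeGroup.lift_apply_of, Matrix.cons_val_zero, Matrix.cons_val_one,
      Matrix.cons_val] at h1
    exact mat_relsFour ω hω _ h1
  · obtain ⟨rels, hrels⟩ : ∃ rels : Set (FreeGroup (Fin 4)), rels = ↑L.toFinset := ⟨_, rfl⟩
    rw [← hrels]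
    have hrel : ∀ w ∈ relsFour
        (PresentedGroup.of (0 : Fin 4) : PresentedGroup rels) (PresentedGroup.of (1 : Fin 4))
        (PresentedGroup.of (2 : Fin 4)) (PresentedGroup.of (3 : Fin 4)), w = 1 := by
      intro w hw
      have h2 := relsFour_map (PresentedGroup.mk rels)
        (FreeGroup.of 0) (FreeGroup.of 1) (FreeGroup.of 2) (FreeGroup.of 3)
      change w ∈ relsFour (PresentedGroup.mk rels (FreeGroup.of 0))
        (PresentedGroup.mk rels (FreeGroup.of 1)) (PresentedGroup.mk rels (FreeGroup.of 2))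
        (PresentedGroup.mk rels (FreeGroup.of 3)) at hw
      rw [← h2] at hw
      obtain ⟨r, hr, rfl⟩ := List.mem_map.mp hw
      refine PresentedGroup.one_of_mem ?_
      rw [hrels, hLdef]
      exact Finset.mem_coe.mpr (List.mem_toFinset.mpr hr)
    exact abs_four hcard _ _ _ _ (ω : F) hω hrel

-- CP
theorem h44_sl3_case_prime {F : Type*} [Field F] [Fintype F] {p : ℕ} [Fact p.Prime]
    [Algebra (ZMod p) F] (hcard : Fintype.card F = p) :
    ∃ rels : Finset (FreeGroup (Fin 4)), rels.card ≤ 14 ∧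
      Nonempty (PresentedGroup (↑rels : Set (FreeGroup (Fin 4))) ≃*
        Matrix.SpecialLinearGroup (Fin 3) F) := by
  classical
  have hμ : Algebra.adjoin (ZMod p) {(1 : F)} = ⊤ := by
    obtain ⟨x, -, -, h3, -⟩ := base_of_rels_prime (G := Multiplicative (ZMod 1)) (F := F) hcard 1 1
      (one_pow p) (by simp)
    rwa [one_pow] at h3
  have hlen : (relsPrime p (FreeGroup.of (0 : Fin 4))
      (FreeGroup.of 1) (FreeGroup.of 2) (FreeGroup.of 3)).length ≤ 14 := by
    show 8 ≤ 14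
    norm_num
  obtain ⟨L, hLdef⟩ : ∃ L : List (FreeGroup (Fin 4)), L = relsPrime p (FreeGroup.of (0 : Fin 4))
      (FreeGroup.of 1) (FreeGroup.of 2) (FreeGroup.of 3) := ⟨_, rfl⟩
  rw [← hLdef] at hlen
  refine h44_case_close (p := p) (1 : F) hμ L hlen 1 ?_
    (fun f => polyWord_mX01_one f) ?_
  · intro r hr
    have h1 : FreeGroup.lift ![mX01 F 1, 1, mC F, 1] r ∈
        L.map (FreeGroup.lift ![mX01 F 1, 1, mC F, 1]) := List.mem_map_of_mem hr
    rw [hLdef, relsPrime_map] at h1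
    simp only [FreeGroup.lift_apply_of, Matrix.cons_val_zero, Matrix.cons_val_one,
      Matrix.cons_val] at h1
    exact mat_relsPrime _ h1
  · obtain ⟨rels, hrels⟩ : ∃ rels : Set (FreeGroup (Fin 4)), rels = ↑L.toFinset := ⟨_, rfl⟩
    rw [← hrels]
    have hrel : ∀ w ∈ relsPrime p
        (PresentedGroup.of (0 : Fin 4) : PresentedGroup rels) (PresentedGroup.of (1 : Fin 4))
        (PresentedGroup.of (2 : Fin 4)) (PresentedGroup.of (3 : Fin 4)), w = 1 := by
      intro w hw
      have h2 := relsPrime_map (PresentedGroup.mk rels) p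
        (FreeGroup.of 0) (FreeGroup.of 1) (FreeGroup.of 2) (FreeGroup.of 3)
      change w ∈ relsPrime p (PresentedGroup.mk rels (FreeGroup.of 0))
        (PresentedGroup.mk rels (FreeGroup.of 1)) (PresentedGroup.mk rels (FreeGroup.of 2))
        (PresentedGroup.mk rels (FreeGroup.of 3)) at hw
      rw [← h2] at hw
      obtain ⟨r, hr, rfl⟩ := List.mem_map.mp hw
      refine PresentedGroup.one_of_mem ?_
      rw [hrels, hLdef]
      exact Finset.mem_coe.mpr (List.mem_toFinset.mpr hr)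
    have hh1 : (PresentedGroup.of (1 : Fin 4) : PresentedGroup rels) = 1 :=
      hrel _ (by simp [relsPrime])
    obtain ⟨x, hx1, hconf, hxp, m1, m2, m3⟩ := abs_prime hcard _ _ _ _ hrel
    refine ⟨x, hx1, hconf, ?_, m1, m2, m3⟩
    intro f
    rw [hxp, hh1]

end Cfsg.Agent.Lib.helper44.SL3
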