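import Mathlib
import Cfsg.Prelude.Def_Classical
import Cfsg.Agent.Lib.helper99.UGen1
import Cfsg.Agent.Lib.helper17.Herm
import Cfsg.Agent.Lib.helper44.SUWDefs
import Cfsg.Agent.Lib.helper29.SUWFSIG
import Cfsg.Agent.Lib.helper29.SUWFEPS
import Cfsg.Agent.Lib.helper58.SUWPAIR
import Cfsg.Agent.Lib.helper58.SUWSKCONJ
import Cfsg.Agent.Lib.helper70.SUWORB
import Cfsg.Agent.Lib.helper76.SUWLEVI
import Cfsg.Agent.Lib.helper94.SUWNC
import Cfsg.Agent.Lib.helper36.SUWNT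
import Cfsg.Agent.Lib.helper9.SUWUMEM
import Cfsg.Agent.Lib.helper6.SUWUADD
import Cfsg.Agent.Lib.helper98.SUWUINJ
import Cfsg.Agent.Lib.helper47.SUWRANK1
import Cfsg.Agent.Lib.helper21.SUWR1COUNT
import Cfsg.Agent.Lib.helper27.SUWCASEA

/-!
Assembly for S2335: every irreducible complex representation of `SU_{2m}(q)`, `m ≥ 2`, of degree
at least `2` has degree at least `(q^{2m} - 1)/(q + 1)` (Landazuri–Seitz–Zalesskii), from the pieces
of the split project `s2335` (see `tools/S2335_SPEC.md`).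
-/

set_option autoImplicit false

namespace Cfsg.Agent.Lib.helper44.SUW

open Matrix Cfsg Cfsg.Agent.Lib.helper99

/-- A set of skew-Hermitian matrices stable under `Y ↦ B† Y B` (`det B = 1`) and containing a
non-zero matrix has at least `(q^{2m} - 1)/(q + 1)` elements. -/
theorem herm_orbit {K : Type*} [Field K] [Fintype K] [DecidableEq K] {q m : ℕ}
    (hK : Fintype.card K = q ^ 2) (hm : 2 ≤ m) (σ : K →+* K) (hσ : ∀ x, σ x = x ^ q)
    (S : Set (Matrix (Fin m) (Fin m) K)) (hS : ∀ Y ∈ S, Y ∈ skewH σ m)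
    (hstab : ∀ Y ∈ S, ∀ B : Matrix (Fin m) (Fin m) K, B.det = 1 → (B.map σ)ᵀ * Y * B ∈ S)
    (hne : ∃ Y ∈ S, Y ≠ 0) : (q ^ (m + m) - 1) / (q + 1) ≤ Nat.card S := by
  obtain ⟨Y, hY, hY0⟩ := hne
  by_cases hiso : ∀ x : Fin m → K, hval σ Y x = 0 → Y *ᵥ x = 0
  · obtain ⟨c, z, hc, hz, hYe⟩ := h47_rank_one hK σ hσ Y (hS Y hY) hY0 hiso
    exact helper21_rank_one_count hK hm σ hσ S hstab c z hc hz (hYe ▸ hY)
  · push Not at hiso
    obtain ⟨x, hx, hYx⟩ := hiso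
    exact case_a hK hm σ hσ S hS hstab Y hY x hx hYx

/-! ## Assembly -/

theorem su_even_bound {K : Type*} [Field K] [Fintype K] [DecidableEq K] {q m : ℕ}
    (hK : Fintype.card K = q ^ 2) (hm : 2 ≤ m) {k : ℕ}
    (ρ : Representation ℂ ↥(Cfsg.SU (m + m) K q) (Fin k → ℂ)) (hρ : ρ.IsIrreducible)
    (hk : 2 ≤ k) : (q ^ (m + m) - 1) / (q + 1) ≤ k := by
  classical
  obtain ⟨σ, hσ⟩ := Cfsg.Agent.Lib.helper17.exists_frob hK
  obtain ⟨hσσ, hσid⟩ := sigma_facts hK σ hσ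
  obtain ⟨ε, hε⟩ := exists_eps hK σ hσ
  obtain ⟨ψ, hψ⟩ := (AddChar.exists_apply_ne_zero (a := (1 : K))).mpr one_ne_zero
  let _ : Fintype ↥(skewH σ m) := Fintype.ofFinite _
  let u : ↥(skewH σ m) → ↥(Cfsg.SU (m + m) K q) := fun C =>
    mkSU (uMat σ ε C.1) (uMat_mem hK σ hσ ε hε C.1 C.2).1 (uMat_mem hK σ hσ ε hε C.1 C.2).2
  have hu : ∀ a b : ↥(skewH σ m), u (a + b) = u a * u b := by
    intro a b
    apply suMat_inj
    rw [suMat_mul]
    exact uMat_add σ ε hε a.1 b.1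
  let e : ↥(skewH σ m) → ↥(skewH σ m) → ℂ := fun y a => ψ (Matrix.trace (y.1 * a.1))
  have he0 : ∀ y, e y 0 = 1 := by
    intro y
    simp [e]
  have he_add : ∀ y a b, e y (a + b) = e y a * e y b := by
    intro y a b
    simp only [e]
    rw [AddSubgroup.coe_add, Matrix.mul_add, Matrix.trace_add, AddChar.map_add_eq_mul]
  have he_row : ∀ y y', y ≠ y' → ∑ a, e y a * (e y' a)⁻¹ = 0 := by
    intro y y' hyy
    have h := pair_orth hK σ hσ ψ hψ (y.1 - y'.1) (sub_mem y.2 y'.2)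
      (by intro h0; exact hyy (Subtype.ext (sub_eq_zero.1 h0)))
    rw [← h]
    apply Finset.sum_congr rfl
    intro a _
    simp only [e]
    rw [← AddChar.map_neg_eq_inv, ← AddChar.map_add_eq_mul, Matrix.sub_mul, Matrix.trace_sub,
      sub_eq_add_neg]
  have he_col : ∀ a, a ≠ 0 → ∑ y, e y a = 0 := by
    intro a ha
    have h := pair_orth hK σ hσ ψ hψ a.1 a.2 (by intro h0; exact ha (Subtype.ext h0))
    rw [← h]
    apply Finset.sum_congr rfl
    intro y _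
    simp only [e]
    rw [Matrix.trace_mul_comm]
  obtain ⟨hcard, hnt⟩ := orb_bound e he0 he_add he_row he_col u hu ρ
  set SA : Set ↥(skewH σ m) :=
    {y | ∃ w : Fin k → ℂ, w ≠ 0 ∧ ∀ a, ρ (u a) w = e y a • w} with hSA
  let S : Set (Matrix (Fin m) (Fin m) K) := Subtype.val '' SA
  have hS : ∀ Y ∈ S, Y ∈ skewH σ m := by
    rintro Y ⟨y, -, rfl⟩
    exact y.2
  have hstab : ∀ Y ∈ S, ∀ B : Matrix (Fin m) (Fin m) K, B.det = 1 →
      (B.map σ)ᵀ * Y * B ∈ S := by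
    rintro Y ⟨y, ⟨w, hw0, hw⟩, rfl⟩ B hB
    obtain ⟨g, hg⟩ := h76_levi hK σ hσ ε hε B hB
    have hmemY : (B.map σ)ᵀ * y.1 * B ∈ skewH σ m := (skew_conj σ hσσ B y.1 y.2).2
    refine ⟨⟨_, hmemY⟩, ⟨ρ g⁻¹ w, ?_, ?_⟩, rfl⟩
    · intro h0
      apply hw0
      have h1 : ρ g (ρ g⁻¹ w) = w := by
        rw [← Module.End.mul_apply, ← map_mul, mul_inv_cancel, map_one]
        rfl
      rw [← h1, h0, map_zero]
    · intro a
      have hmemC : B * a.1 * (B.map σ)ᵀ ∈ skewH σ m := (skew_conj σ hσσ B a.1 a.2).1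
      have hgu : g * u a = u ⟨_, hmemC⟩ * g := by
        apply suMat_inj
        rw [suMat_mul, suMat_mul]
        exact hg a.1 a.2
      have hug : u a * g⁻¹ = g⁻¹ * u ⟨_, hmemC⟩ := by
        rw [eq_inv_mul_iff_mul_eq, ← mul_assoc, hgu, mul_assoc, mul_inv_cancel, mul_one]
      have hee : e y ⟨_, hmemC⟩ = e ⟨_, hmemY⟩ a := by
        simp only [e]
        congr 1
        rw [← Matrix.mul_assoc, ← Matrix.mul_assoc, Matrix.trace_mul_comm]
        simp only [Matrix.mul_assoc]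
      calc ρ (u a) (ρ g⁻¹ w) = ρ (u a * g⁻¹) w := by
            rw [map_mul]
            rfl
        _ = ρ (g⁻¹ * u ⟨_, hmemC⟩) w := by rw [hug]
        _ = ρ g⁻¹ (ρ (u ⟨_, hmemC⟩) w) := by
            rw [map_mul]
            rfl
        _ = ρ g⁻¹ (e y ⟨_, hmemC⟩ • w) := by rw [hw]
        _ = e y ⟨_, hmemC⟩ • ρ g⁻¹ w := by rw [map_smul]
        _ = e ⟨_, hmemY⟩ a • ρ g⁻¹ w := by rw [hee]
  obtain ⟨C₀, hC₀, B₀, hB₀, hB₀C⟩ := exists_moved hK hm σ hσ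
  have hncen : u ⟨C₀, hC₀⟩ ∉ Subgroup.center ↥(Cfsg.SU (m + m) K q) := by
    intro hcen
    obtain ⟨g, hg⟩ := h76_levi hK σ hσ ε hε B₀ hB₀
    have h1 := hg C₀ hC₀
    have h2 : suMat g * uMat σ ε C₀ = uMat σ ε C₀ * suMat g := by
      have h3 := congrArg suMat (Subgroup.mem_center_iff.1 hcen g)
      rw [suMat_mul, suMat_mul] at h3
      exact h3
    rw [h2] at h1
    have h4 : uMat σ ε C₀ = uMat σ ε (B₀ * C₀ * (B₀.map σ)ᵀ) := by
      have h5 : uMat σ ε C₀ * (suMat g * suMat g⁻¹) =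
          uMat σ ε (B₀ * C₀ * (B₀.map σ)ᵀ) * (suMat g * suMat g⁻¹) := by
        rw [← Matrix.mul_assoc, ← Matrix.mul_assoc, h1]
      rw [suMat_mul_inv, Matrix.mul_one, Matrix.mul_one] at h5
      exact h5
    exact hB₀C (uMat_inj σ ε _ _ h4).symm
  have hne1 := rep_ne_one hK (by omega) hk ρ hρ _ hncen
  obtain ⟨y, hyS, hy1⟩ := hnt ⟨C₀, hC₀⟩ hne1
  have hne : ∃ Y ∈ S, Y ≠ 0 := by
    refine ⟨y.1, ⟨y, hyS, rfl⟩, ?_⟩
    intro h0
    apply hy1
    simp only [e]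
    rw [h0, Matrix.zero_mul, Matrix.trace_zero, AddChar.map_zero_eq_one]
  have hfin := herm_orbit hK hm σ hσ S hS hstab hne
  have hcardS : Nat.card S = Nat.card SA :=
    Nat.card_image_of_injective Subtype.val_injective SA
  calc (q ^ (m + m) - 1) / (q + 1) ≤ Nat.card S := hfin
    _ = Nat.card SA := hcardS
    _ ≤ k := hcard

end Cfsg.Agent.Lib.helper44.SUW
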