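import Mathlib
import Cfsg.Prelude.Def_Classical
import Cfsg.Agent.Lib.helper99.UGen1
import Cfsg.Agent.Lib.helper17.Herm
import Cfsg.Agent.Lib.helper44.SUWDefs
import Cfsg.Agent.Lib.helper44.SUODefs
import Cfsg.Agent.Lib.helper44.SUWAsm
import Cfsg.Agent.Lib.helper43.SUOARITH
import Cfsg.Agent.Lib.helper6.SUOCMEM
import Cfsg.Agent.Lib.helper43.SUOETA
import Cfsg.Agent.Lib.helper6.SUOHEIS
import Cfsg.Agent.Lib.helper27.SUOHORB1
import Cfsg.Agent.Lib.helper76.SUOLEVI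
import Cfsg.Agent.Lib.helper64.SUONC
import Cfsg.Agent.Lib.helper64.SUONT
import Cfsg.Agent.Lib.helper8.SUOQDIM
import Cfsg.Agent.Lib.helper40.SUOQIND
import Cfsg.Agent.Lib.helper9.SUOOUADD
import Cfsg.Agent.Lib.helper90.SUOUINJ
import Cfsg.Agent.Lib.helper53.SUOOUMEM
import Cfsg.Agent.Lib.helper4.SUOOUZERO
import Cfsg.Agent.Lib.helper61.SUOXU
import Cfsg.Agent.Lib.helper11.SUOXX
import Cfsg.Agent.Lib.helper8.SUOXMEM

/-!
Assembly for S2334: every irreducible complex representation of `SU_{2m+1}(q)`, `m ≥ 1`,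
`(m, q) ≠ (1, 2)`, of degree at least `2` has degree at least `(q^{2m+1} - q)/(q + 1)`
(Landazuri–Seitz–Zalesskii), from the pieces of the split project `s2334`
(see `tools/S2334_SPEC.md`).
-/

set_option autoImplicit false

namespace Cfsg.Agent.Lib.helper44.SUW

open Matrix Cfsg Cfsg.Agent.Lib.helper99

/-! ## Assembly (odd dimension) -/

theorem conj_ne_zero {K : Type*} [Field K] (σ : K →+* K) {m : ℕ}
    (B Y : Matrix (Fin m) (Fin m) K) (hB : B.det ≠ 0) (hY : Y ≠ 0) :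
    (B.map σ)ᵀ * Y * B ≠ 0 := by
  intro h1
  apply hY
  have hBu : IsUnit B.det := isUnit_iff_ne_zero.2 hB
  have hdet : ((B.map σ)ᵀ).det = σ B.det := by
    rw [Matrix.det_transpose, ← RingHom.mapMatrix_apply, ← RingHom.map_det]
  have hBu' : IsUnit ((B.map σ)ᵀ).det := by
    rw [hdet]
    exact isUnit_iff_ne_zero.2 (fun h0 => hB ((map_eq_zero σ).1 h0))
  have hB1 : B * B⁻¹ = 1 := Matrix.mul_nonsing_inv B hBu
  have hB2 : ((B.map σ)ᵀ)⁻¹ * (B.map σ)ᵀ = 1 := Matrix.nonsing_inv_mul _ hBu'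
  calc Y = ((B.map σ)ᵀ)⁻¹ * ((B.map σ)ᵀ * Y * B) * B⁻¹ := by
        rw [Matrix.mul_assoc ((B.map σ)ᵀ), ← Matrix.mul_assoc (((B.map σ)ᵀ)⁻¹), hB2,
          Matrix.one_mul, Matrix.mul_assoc, hB1, Matrix.mul_one]
    _ = 0 := by rw [h1, Matrix.mul_zero, Matrix.zero_mul]

theorem su_odd_bound {K : Type*} [Field K] [Fintype K] [DecidableEq K] {q m : ℕ}
    (hK : Fintype.card K = q ^ 2) (hm : 1 ≤ m) (h32 : ¬ (m = 1 ∧ q = 2)) {k : ℕ}
    (ρ : Representation ℂ ↥(Cfsg.SU (m + m + 1) K q) (Fin k → ℂ)) (hρ : ρ.IsIrreducible)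
    (hk : 2 ≤ k) : (q ^ (m + m + 1) - q) / (q + 1) ≤ k := by
  classical
  obtain ⟨σ, hσ⟩ := Cfsg.Agent.Lib.helper17.exists_frob hK
  obtain ⟨hσσ, hσid⟩ := sigma_facts hK σ hσ
  obtain ⟨ε, hε⟩ := exists_eps hK σ hσ
  obtain ⟨η, hη⟩ := exists_eta hK σ hσ
  obtain ⟨ψ, hψ⟩ := (AddChar.exists_apply_ne_zero (a := (1 : K))).mpr one_ne_zero
  let _ : Fintype ↥(skewH σ m) := Fintype.ofFinite _
  let u : ↥(skewH σ m) → ↥(Cfsg.SU (m + m + 1) K q) := fun C =>
    mkSU (uoMat σ ε C.1) (uoMat_mem hK σ hσ ε hε C.1 C.2).1 (uoMat_mem hK σ hσ ε hε C.1 C.2).2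
  have hu : ∀ a b : ↥(skewH σ m), u (a + b) = u a * u b := by
    intro a b
    apply suMat_inj
    rw [suMat_mul]
    exact uoMat_add σ ε hε a.1 b.1
  let e : ↥(skewH σ m) → ↥(skewH σ m) → ℂ := fun y a => ψ (Matrix.trace (y.1 * a.1))
  have he0 : ∀ y, e y 0 = 1 := by
    intro y
    simp [e]
  have he_add : ∀ y a b, e y (a + b) = e y a * e y b := by
    intro y a b
    simp only [e]
    rw [AddSubgroup.coe_add, Matrix.mul_add, Matrix.trace_add, AddChar.map_add_eq_mul]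
  have he_row : ∀ y y', y ≠ y' → ∑ a, e y a * (e y' a)⁻¹ = 0 := by
    intro y y' hyy
    have h := pair_orth hK σ hσ ψ hψ (y.1 - y'.1) (sub_mem y.2 y'.2)
      (by intro h0; exact hyy (Subtype.ext (sub_eq_zero.1 h0)))
    rw [← h]
    apply Finset.sum_congr rfl
    intro a _
    simp only [e]
    rw [← AddChar.map_neg_eq_inv, ← AddChar.map_add_eq_mul, Matrix.sub_mul, Matrix.trace_sub,
      sub_eq_add_neg]
  have he_col : ∀ a, a ≠ 0 → ∑ y, e y a = 0 := by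
    intro a ha
    have h := pair_orth hK σ hσ ψ hψ a.1 a.2 (by intro h0; exact ha (Subtype.ext h0))
    rw [← h]
    apply Finset.sum_congr rfl
    intro y _
    simp only [e]
    rw [Matrix.trace_mul_comm]
  obtain ⟨-, hnt⟩ := orb_bound e he0 he_add he_row he_col u hu ρ
  let T : Finset ↥(skewH σ m) := Finset.univ.filter
    (fun y => y ≠ 0 ∧ ∃ w : Fin k → ℂ, w ≠ 0 ∧ ∀ a, ρ (u a) w = e y a • w)
  have hT : ∀ y, y ∈ T ↔ (y ≠ 0 ∧ ∃ w : Fin k → ℂ, w ≠ 0 ∧ ∀ a, ρ (u a) w = e y a • w) := by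
    intro y
    simp only [T, Finset.mem_filter, Finset.mem_univ, true_and]
  let S : Set (Matrix (Fin m) (Fin m) K) := Subtype.val '' (T : Set ↥(skewH σ m))
  have hS : ∀ Y ∈ S, Y ∈ skewH σ m := by
    rintro Y ⟨y, -, rfl⟩
    exact y.2
  have hS0 : (0 : Matrix (Fin m) (Fin m) K) ∉ S := by
    rintro ⟨y, hyT, hy0⟩
    exact ((hT y).1 (Finset.mem_coe.1 hyT)).1 (Subtype.ext hy0)
  have hstab : ∀ Y ∈ S, ∀ B : Matrix (Fin m) (Fin m) K, B.det ≠ 0 →
      (B.map σ)ᵀ * Y * B ∈ S := by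
    rintro Y ⟨y, hyT, rfl⟩ B hB
    obtain ⟨hy0, w, hw0, hw⟩ := (hT y).1 (Finset.mem_coe.1 hyT)
    obtain ⟨g, hg⟩ := levi_odd hK σ hσ ε hε B hB
    have hmemY : (B.map σ)ᵀ * y.1 * B ∈ skewH σ m := (skew_conj σ hσσ B y.1 y.2).2
    refine ⟨⟨_, hmemY⟩, ?_, rfl⟩
    rw [Finset.mem_coe, hT]
    refine ⟨?_, ρ g⁻¹ w, ?_, ?_⟩
    · intro h0
      exact conj_ne_zero σ B y.1 hB (fun h => hy0 (Subtype.ext h)) (congrArg Subtype.val h0)
    · intro h0
      apply hw0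
      have h1 : ρ g (ρ g⁻¹ w) = w := by
        rw [← Module.End.mul_apply, ← map_mul, mul_inv_cancel, map_one]
        rfl
      rw [← h1, h0, map_zero]
    · intro a
      have hmemC : B * a.1 * (B.map σ)ᵀ ∈ skewH σ m := (skew_conj σ hσσ B a.1 a.2).1
      have hgu : g * u a = u ⟨_, hmemC⟩ * g := by
        apply suMat_inj
        rw [suMat_mul, suMat_mul]
        exact hg a.1 a.2
      have hug : u a * g⁻¹ = g⁻¹ * u ⟨_, hmemC⟩ := by
        rw [eq_inv_mul_iff_mul_eq, ← mul_assoc, hgu, mul_assoc, mul_inv_cancel, mul_one]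
      have hee : e y ⟨_, hmemC⟩ = e ⟨_, hmemY⟩ a := by
        simp only [e]
        congr 1
        rw [← Matrix.mul_assoc, ← Matrix.mul_assoc, Matrix.trace_mul_comm]
        simp only [Matrix.mul_assoc]
      calc ρ (u a) (ρ g⁻¹ w) = ρ (u a * g⁻¹) w := by
            rw [map_mul]
            rfl
        _ = ρ (g⁻¹ * u ⟨_, hmemC⟩) w := by rw [hug]
        _ = ρ g⁻¹ (ρ (u ⟨_, hmemC⟩) w) := by
            rw [map_mul]
            rfl
        _ = ρ g⁻¹ (e y ⟨_, hmemC⟩ • w) := by rw [hw]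
        _ = e y ⟨_, hmemC⟩ • ρ g⁻¹ w := by rw [map_smul]
        _ = e ⟨_, hmemY⟩ a • ρ g⁻¹ w := by rw [hee]
  -- a non-zero character occurs
  obtain ⟨C₀, hC₀, B₀, hB₀, hB₀C⟩ := exists_moved_gl hK hm h32 σ hσ
  have hncen : u ⟨C₀, hC₀⟩ ∉ Subgroup.center ↥(Cfsg.SU (m + m + 1) K q) := by
    intro hcen
    obtain ⟨g, hg⟩ := levi_odd hK σ hσ ε hε B₀ hB₀
    have h1 := hg C₀ hC₀
    have h2 : suMat g * uoMat σ ε C₀ = uoMat σ ε C₀ * suMat g := by
      have h3 := congrArg suMat (Subgroup.mem_center_iff.1 hcen g)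
      rw [suMat_mul, suMat_mul] at h3
      exact h3
    rw [h2] at h1
    have h4 : uoMat σ ε C₀ = uoMat σ ε (B₀ * C₀ * (B₀.map σ)ᵀ) := by
      have h5 : uoMat σ ε C₀ * (suMat g * suMat g⁻¹) =
          uoMat σ ε (B₀ * C₀ * (B₀.map σ)ᵀ) * (suMat g * suMat g⁻¹) := by
        rw [← Matrix.mul_assoc, ← Matrix.mul_assoc, h1]
      rw [suMat_mul_inv, Matrix.mul_one, Matrix.mul_one] at h5
      exact h5
    exact hB₀C (uoMat_inj σ ε _ _ h4).symm
  have hn3 : 3 ≤ m + m + 1 := by omega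
  have h32' : ¬ (m + m + 1 = 3 ∧ q = 2) := by
    rintro ⟨h1, h2⟩
    exact h32 ⟨by omega, h2⟩
  have hne1 := rep_ne_one' hK hn3 h32' hk ρ hρ _ hncen
  obtain ⟨y₀, hy₀S, hy₀1⟩ := hnt ⟨C₀, hC₀⟩ hne1
  have hy₀T : y₀ ∈ T := by
    rw [hT]
    refine ⟨?_, hy₀S⟩
    intro h0
    apply hy₀1
    simp only [e]
    rw [h0]
    simp
  have hSne : S.Nonempty := ⟨y₀.1, ⟨y₀, Finset.mem_coe.2 hy₀T, rfl⟩⟩
  have hcardS : Nat.card S = T.card := by
    rw [Nat.card_image_of_injective Subtype.val_injective, Nat.card_coe_set_eq,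
      Set.ncard_coe_finset]
  have hcardT : (q ^ (m + m) - 1) / (q + 1) ≤ T.card := by
    rw [← hcardS]
    rcases Nat.lt_or_ge m 2 with h1 | h2
    · obtain rfl : m = 1 := by omega
      exact herm_orbit_one hK σ hσ S hS hstab hS0 hSne
    · refine herm_orbit hK h2 σ hσ S hS (fun Y hY B hB => hstab Y hY B ?_) ?_
      · rw [hB]
        exact one_ne_zero
      · obtain ⟨Y, hY⟩ := hSne
        exact ⟨Y, hY, fun h0 => hS0 (h0 ▸ hY)⟩
  -- every non-zero character has an eigenspace of dimension ≥ q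
  have hdim : ∀ y ∈ T, q ≤ Module.finrank ℂ (eigS ρ u e y) := by
    intro y hy
    obtain ⟨hy0, hyw⟩ := (hT y).1 hy
    obtain ⟨r, tx, tz, hcomm, hdist⟩ := h6_heis_data hK σ hσ ψ hψ y.1 y.2
      (fun h => hy0 (Subtype.ext h))
    let x : Fin r → ↥(Cfsg.SU (m + m + 1) K q) := fun i =>
      mkSU (xtMat σ ε η (tx i)) (h8_xtMat_mem hK σ hσ ε η hε hη (tx i)).1
        (h8_xtMat_mem hK σ hσ ε η hε hη (tx i)).2
    let z : Fin q → ↥(Cfsg.SU (m + m + 1) K q) := fun j =>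
      mkSU (xtMat σ ε η (tz j)) (h8_xtMat_mem hK σ hσ ε η hε hη (tz j)).1
        (h8_xtMat_mem hK σ hσ ε η hε hη (tz j)).2
    let c : Fin r → Fin q → ↥(skewH σ m) := fun i j =>
      ⟨cmat σ (tx i) (tz j), cmat_mem σ hσσ _ _⟩
    have hxu : ∀ i a, x i * u a = u a * x i := by
      intro i a
      apply suMat_inj
      rw [suMat_mul, suMat_mul]
      exact xt_comm_uo σ hσσ ε η hε (tx i) a.1
    have hzu : ∀ j a, z j * u a = u a * z j := by
      intro j a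
      apply suMat_inj
      rw [suMat_mul, suMat_mul]
      exact xt_comm_uo σ hσσ ε η hε (tz j) a.1
    have hxx : ∀ i i', x i * x i' = x i' * x i := by
      intro i i'
      apply suMat_inj
      rw [suMat_mul, suMat_mul]
      have h := xt_mul_xt σ hσσ ε η hε (tx i) (tx i')
      rw [hcomm i' i, uoMat_zero, Matrix.mul_one] at h
      exact h
    have hzx : ∀ i j, z j * x i = x i * z j * u (c i j) := by
      intro i j
      apply suMat_inj
      rw [suMat_mul, suMat_mul, suMat_mul]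
      exact xt_mul_xt σ hσσ ε η hε (tz j) (tx i)
    exact eig_dim e he0 he_add u hu ρ y hyw x z c hxu hzu hxx hzx hdist
  have hind := eig_indep e he0 he_add he_row u hu ρ
  calc (q ^ (m + m + 1) - q) / (q + 1) = q * ((q ^ (m + m) - 1) / (q + 1)) := odd_arith q m
    _ ≤ q * T.card := Nat.mul_le_mul_left q hcardT
    _ = ∑ y ∈ T, q := by rw [Finset.sum_const, smul_eq_mul, mul_comm]
    _ ≤ ∑ y ∈ T, Module.finrank ℂ (eigS ρ u e y) := Finset.sum_le_sum hdim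
    _ ≤ ∑ y : ↥(skewH σ m), Module.finrank ℂ (eigS ρ u e y) :=
        Finset.sum_le_sum_of_subset (Finset.subset_univ T)
    _ ≤ k := hind

end Cfsg.Agent.Lib.helper44.SUW
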