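import Mathlib
import Cfsg.Agent.Lib.helper44.St2

/-!
# Groups with rank-one Steinberg data over a finite field are images of `SL₂`

For abstract Steinberg data `S : St2 K G` over a finite field, the Steinberg presentation gives a
surjection `SL₂(K) → G`; under two non-degeneracy conditions its kernel is central, so that `G`
is isomorphic to `SL₂(K)` or `PSL₂(K)`.
-/

set_option autoImplicit false
set_option linter.unusedSectionVars false

namespace Cfsg.Agent.Lib.helper44

open Matrix

theorem st2X_eq_transvection {K : Type*} [Field K] (hij : (0 : Fin 2) ≠ 1) (a : K) :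
    Matrix.SpecialLinearGroup.transvection hij a = st2X K a := by
  apply Subtype.ext
  rw [Matrix.SpecialLinearGroup.transvection_coe]
  ext i j
  fin_cases i <;> fin_cases j <;> simp [st2X]

theorem st2Y_eq_transvection {K : Type*} [Field K] (hij : (1 : Fin 2) ≠ 0) (a : K) :
    Matrix.SpecialLinearGroup.transvection hij a = st2Y K a := by
  apply Subtype.ext
  rw [Matrix.SpecialLinearGroup.transvection_coe]
  ext i j
  fin_cases i <;> fin_cases j <;> simp [st2Y]

/-- `SL₂(K)` itself carries Steinberg data. -/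
def slSt2 (K : Type*) [Field K] : St2 K (Matrix.SpecialLinearGroup (Fin 2) K) where
  x := st2X K
  y := st2Y K
  x_add := st2X_add
  y_add := st2Y_add
  rel1 t u ht := by
    rw [mul_inv_eq_iff_eq_mul]; exact st2X_rel t u ht
  rel2 t u ht := by
    rw [mul_inv_eq_iff_eq_mul]; exact st2Y_rel t u ht
  gen := by
    apply Cfsg.Agent.Lib.helper45.eq_top_of_transvection_mem
    intro i j hij a
    fin_cases i <;> fin_cases j
    · exact absurd rfl hij
    · apply Subgroup.subset_closure
      left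
      exact ⟨a, (st2X_eq_transvection _ a).symm⟩
    · apply Subgroup.subset_closure
      right
      exact ⟨a, (st2Y_eq_transvection _ a).symm⟩
    · exact absurd rfl hij

namespace St2

variable {K : Type*} [Field K] {G : Type*} [Group G] (S : St2 K G)

/-- The images of the generators of the presentation. -/
def genFun (p : Bool × K) : G :=
  match p with
  | (true, t) => S.x t
  | (false, t) => S.y t

theorem genFun_rels : ∀ r ∈ st2Rels K, FreeGroup.lift S.genFun r = 1 := by
  rintro r (⟨b, t, u, rfl⟩ | ⟨b, t, u, ht, rfl⟩)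
  · simp only [map_mul, map_inv, FreeGroup.lift_apply_of]
    rw [mul_inv_eq_one]
    cases b
    · exact S.y_add t u
    · exact S.x_add t u
  · simp only [map_mul, map_inv, FreeGroup.lift_apply_of]
    rw [mul_inv_eq_one]
    cases b
    · exact S.rel2 t u ht
    · exact S.rel1 t u ht

/-- The surjection from `SL₂(K)` attached to Steinberg data over a finite field. -/
theorem exists_hom [Finite K] :
    ∃ ψ : Matrix.SpecialLinearGroup (Fin 2) K →* G, Function.Surjective ψ ∧
      (∀ t, ψ (st2X K t) = S.x t) ∧ (∀ t, ψ (st2Y K t) = S.y t) := by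
  obtain ⟨e, he1, he2⟩ := st2_presentation (K := K)
  let e' : PresentedGroup (st2Rels K) ≃* Matrix.SpecialLinearGroup (Fin 2) K := e
  let lift : PresentedGroup (st2Rels K) →* G := PresentedGroup.toGroup S.genFun_rels
  have hl1 : ∀ t, lift (PresentedGroup.of (true, t)) = S.x t :=
    fun t => PresentedGroup.toGroup.of S.genFun_rels
  have hl2 : ∀ t, lift (PresentedGroup.of (false, t)) = S.y t :=
    fun t => PresentedGroup.toGroup.of S.genFun_rels
  have h1 : ∀ t, e' (PresentedGroup.of (true, t)) = st2X K t := fun t => Subtype.ext (he1 t)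
  have h2 : ∀ t, e' (PresentedGroup.of (false, t)) = st2Y K t := fun t => Subtype.ext (he2 t)
  have k1 : ∀ t, (lift.comp e'.symm.toMonoidHom) (st2X K t) = S.x t := by
    intro t
    rw [← h1 t, MonoidHom.comp_apply, MulEquiv.coe_toMonoidHom, MulEquiv.symm_apply_apply, hl1]
  have k2 : ∀ t, (lift.comp e'.symm.toMonoidHom) (st2Y K t) = S.y t := by
    intro t
    rw [← h2 t, MonoidHom.comp_apply, MulEquiv.coe_toMonoidHom, MulEquiv.symm_apply_apply, hl2]
  refine ⟨lift.comp e'.symm.toMonoidHom, ?_, k1, k2⟩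
  intro g
  have hg : g ∈ Subgroup.closure (Set.range S.x ∪ Set.range S.y) := by
    rw [S.gen]; exact Subgroup.mem_top g
  have hle : Subgroup.closure (Set.range S.x ∪ Set.range S.y) ≤
      (lift.comp e'.symm.toMonoidHom).range := by
    rw [Subgroup.closure_le]
    rintro _ (⟨t, rfl⟩ | ⟨t, rfl⟩)
    · exact ⟨st2X K t, k1 t⟩
    · exact ⟨st2Y K t, k2 t⟩
  exact hle hg

theorem hom_w (ψ : Matrix.SpecialLinearGroup (Fin 2) K →* G)
    (hx : ∀ t, ψ (st2X K t) = S.x t) (hy : ∀ t, ψ (st2Y K t) = S.y t) (t : K) :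
    ψ ((slSt2 K).w t) = S.w t := by
  show ψ (st2X K t * st2Y K (-t⁻¹) * st2X K t) = _
  rw [map_mul, map_mul, hx, hy]; rfl

theorem hom_h (ψ : Matrix.SpecialLinearGroup (Fin 2) K →* G)
    (hx : ∀ t, ψ (st2X K t) = S.x t) (hy : ∀ t, ψ (st2Y K t) = S.y t) (t : K) :
    ψ ((slSt2 K).h t) = S.h t := by
  show ψ ((slSt2 K).w t * ((slSt2 K).w 1)⁻¹) = _
  rw [map_mul, map_inv, S.hom_w ψ hx hy, S.hom_w ψ hx hy]; rfl

/-- Under the two non-degeneracy conditions the kernel is contained in `{1, h(-1)}`. -/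
theorem hom_ker [Finite K] (ψ : Matrix.SpecialLinearGroup (Fin 2) K →* G)
    (hx : ∀ t, ψ (st2X K t) = S.x t) (hy : ∀ t, ψ (st2Y K t) = S.y t)
    (h1 : ∀ u t v : K, t ≠ 0 → S.x u * S.h t * S.w 1 * S.x v ≠ 1)
    (h2 : ∀ u t : K, t ≠ 0 → S.x u * S.h t = 1 → u = 0 ∧ t ^ 2 = 1)
    (g : Matrix.SpecialLinearGroup (Fin 2) K) (hg : ψ g = 1) :
    g = 1 ∨ g = (slSt2 K).h (-1) := by
  rcases (slSt2 K).nf_all g with ⟨u, t, ht, rfl⟩ | ⟨u, t, v, ht, rfl⟩
  · rw [map_mul, S.hom_h ψ hx hy] at hg
    have e1 : ψ ((slSt2 K).x u) = S.x u := hx u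
    rw [e1] at hg
    obtain ⟨hu, ht2⟩ := h2 u t ht hg
    subst hu
    rw [(slSt2 K).x_zero, one_mul]
    have e2 : (t - 1) * (t + 1) = 0 := by linear_combination ht2
    rcases mul_eq_zero.mp e2 with e3 | e3
    · left
      rw [sub_eq_zero.mp e3]; exact (slSt2 K).h_one
    · right
      rw [eq_neg_of_add_eq_zero_left e3]
  · exfalso
    rw [map_mul, map_mul, map_mul, S.hom_h ψ hx hy, S.hom_w ψ hx hy] at hg
    have e1 : ψ ((slSt2 K).x u) = S.x u := hx u
    have e2 : ψ ((slSt2 K).x v) = S.x v := hx v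
    rw [e1, e2] at hg
    exact h1 u t v ht hg

/-- A group with non-degenerate Steinberg data over a finite field `K` is `SL₂(K)` or
`PSL₂(K)`. -/
theorem equiv_sl_or_psl [Finite K]
    (h1 : ∀ u t v : K, t ≠ 0 → S.x u * S.h t * S.w 1 * S.x v ≠ 1)
    (h2 : ∀ u t : K, t ≠ 0 → S.x u * S.h t = 1 → u = 0 ∧ t ^ 2 = 1) :
    Nonempty (G ≃* Matrix.SpecialLinearGroup (Fin 2) K) ∨
    ((-1 : K) ≠ 1 ∧ Nonempty (G ≃* Matrix.ProjectiveSpecialLinearGroup (Fin 2) K)) := by
  classical
  obtain ⟨ψ, hsurj, hx, hy⟩ := S.exists_hom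
  have hker := S.hom_ker ψ hx hy h1 h2
  by_cases hcase : ψ ((slSt2 K).h (-1)) = 1 ∧ (slSt2 K).h (-1) ≠ 1
  · right
    obtain ⟨hz1, hzne⟩ := hcase
    have hzc : (slSt2 K).h (-1) ∈ Subgroup.center (Matrix.SpecialLinearGroup (Fin 2) K) := by
      rw [Subgroup.mem_center_iff]
      intro g
      rw [(slSt2 K).h_neg_one]
      have h0 := (slSt2 K).w_sq_central 1 one_ne_zero g
      calc g * ((slSt2 K).w 1 * (slSt2 K).w 1)⁻¹
          = ((slSt2 K).w 1 * (slSt2 K).w 1)⁻¹ * (((slSt2 K).w 1 * (slSt2 K).w 1) * g) *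
              ((slSt2 K).w 1 * (slSt2 K).w 1)⁻¹ := by group
        _ = ((slSt2 K).w 1 * (slSt2 K).w 1)⁻¹ * g := by rw [h0]; group
    obtain ⟨r, hr, hrz⟩ := Matrix.SpecialLinearGroup.mem_center_iff.mp hzc
    have hr2 : r ^ 2 = 1 := by simpa using hr
    have hr1 : r ≠ 1 := by
      rintro rfl
      apply hzne
      apply Subtype.ext
      rw [← hrz]; simp
    have hrm : r = -1 := by
      have e2 : (r - 1) * (r + 1) = 0 := by linear_combination hr2
      rcases mul_eq_zero.mp e2 with e3 | e3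
      · exact absurd (sub_eq_zero.mp e3) hr1
      · exact eq_neg_of_add_eq_zero_left e3
    have hneg : (-1 : K) ≠ 1 := by rw [← hrm]; exact hr1
    refine ⟨hneg, ?_⟩
    have hkc : ψ.ker = Subgroup.center (Matrix.SpecialLinearGroup (Fin 2) K) := by
      apply le_antisymm
      · intro g hg
        rcases hker g (MonoidHom.mem_ker.mp hg) with rfl | rfl
        · exact Subgroup.one_mem _
        · exact hzc
      · intro c hc
        obtain ⟨r', hr', hrc⟩ := Matrix.SpecialLinearGroup.mem_center_iff.mp hc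
        have hr'2 : r' ^ 2 = 1 := by simpa using hr'
        have e2 : (r' - 1) * (r' + 1) = 0 := by linear_combination hr'2
        rcases mul_eq_zero.mp e2 with e3 | e3
        · have e4 : c = 1 := by
            apply Subtype.ext
            rw [← hrc, sub_eq_zero.mp e3]; simp
          rw [e4]; exact Subgroup.one_mem _
        · have e4 : c = (slSt2 K).h (-1) := by
            apply Subtype.ext
            rw [← hrc, ← hrz, hrm, eq_neg_of_add_eq_zero_left e3]
          rw [e4]; exact MonoidHom.mem_ker.mpr hz1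
    exact ⟨(QuotientGroup.quotientKerEquivOfSurjective ψ hsurj).symm.trans
      (QuotientGroup.quotientMulEquivOfEq hkc)⟩
  · left
    have hinj : Function.Injective ψ := by
      rw [injective_iff_map_eq_one]
      intro g hg
      rcases hker g hg with h0 | h0
      · exact h0
      · by_contra hne
        rw [h0] at hg hne
        exact hcase ⟨hg, hne⟩
    exact ⟨(MulEquiv.ofBijective ψ ⟨hinj, hsurj⟩).symm⟩

end St2

end Cfsg.Agent.Lib.helper44
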