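import Mathlib
import Cfsg.Agent.Lib.helper44.St2Hom
import Cfsg.Agent.Lib.helper85.SpecialRankOne

/-!
# Special rank one groups with abelian unipotent subgroups of prime exponent

For a special rank one pair `(A, B)` with abelian unipotent subgroups of exponent `p` and
`a ∈ A`, `b = b(a) ∈ B`, the subgroup `⟨a, b⟩` carries rank-one Steinberg data over `ZMod p`
(`x(t) = a^t`, `y(t) = b^t`), hence is isomorphic to `SL₂(p)` or `PSL₂(p)`.
-/

set_option autoImplicit false
set_option linter.unusedSectionVars false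

namespace Cfsg.Agent.Lib.helper44

open Cfsg Cfsg.Agent.Lib.helper85

section ZPow

variable {X : Type*} [Group X] {p : ℕ} [Fact p.Prime]

/-- The power of `g` by an element of `ZMod p`. -/
def zmodPow (g : X) (t : ZMod p) : X := g ^ t.val

theorem zmodPow_natCast {g : X} (hg : g ^ p = 1) (k : ℕ) : zmodPow g (k : ZMod p) = g ^ k := by
  unfold zmodPow
  rw [ZMod.val_natCast, ← pow_eq_pow_mod k hg]

theorem zmodPow_zero (g : X) : zmodPow g (0 : ZMod p) = 1 := by
  unfold zmodPow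
  rw [ZMod.val_zero, pow_zero]

theorem zmodPow_one {g : X} (hg : g ^ p = 1) : zmodPow g (1 : ZMod p) = g := by
  have h := zmodPow_natCast hg 1
  rw [Nat.cast_one, pow_one] at h
  exact h

theorem zmodPow_add {g : X} (hg : g ^ p = 1) (t u : ZMod p) :
    zmodPow g t * zmodPow g u = zmodPow g (t + u) := by
  unfold zmodPow
  rw [← pow_add, ZMod.val_add, ← pow_eq_pow_mod _ hg]

theorem zmodPow_neg {g : X} (hg : g ^ p = 1) (t : ZMod p) :
    zmodPow g (-t) = (zmodPow g t)⁻¹ := by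
  rw [eq_inv_iff_mul_eq_one, zmodPow_add hg, neg_add_cancel, zmodPow_zero]

theorem zmodPow_pow {g : X} (hg : g ^ p = 1) (t : ZMod p) (k : ℕ) :
    (zmodPow g t) ^ k = zmodPow g (t * (k : ZMod p)) := by
  have hp : NeZero p := ⟨(Fact.out : p.Prime).ne_zero⟩
  have e : ((t.val * k : ℕ) : ZMod p) = t * (k : ZMod p) := by
    rw [Nat.cast_mul, ZMod.natCast_zmod_val]
  rw [← e, zmodPow_natCast hg, pow_mul]
  rfl

theorem zmodPow_injective {g : X} (hg : g ^ p = 1) (hg1 : g ≠ 1) :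
    Function.Injective (zmodPow (p := p) g) := by
  intro t u htu
  have hp : NeZero p := ⟨(Fact.out : p.Prime).ne_zero⟩
  have ho : orderOf g = p := orderOf_eq_prime hg hg1
  unfold zmodPow at htu
  have h1 := pow_eq_pow_iff_modEq.mp htu
  rw [ho] at h1
  apply ZMod.val_injective p
  exact Nat.ModEq.eq_of_lt_of_lt h1 (ZMod.val_lt t) (ZMod.val_lt u)

end ZPow

section Rank

variable {X : Type*} [Group X] {A B : Subgroup X} {p : ℕ} [Fact p.Prime]

theorem sp_exp_right (h : SP A B) (hA : ∀ x ∈ A, x ^ p = 1) : ∀ y ∈ B, y ^ p = 1 := by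
  intro y hy
  by_cases hy1 : y = 1
  · rw [hy1, one_pow]
  · obtain ⟨a', hr⟩ := h.exists_left hy hy1
    exact (h.pow_eq_one_iff hr p).mp (hA a' hr.1)

theorem noTor_of_exp {C : Subgroup X} (hC : ∀ x ∈ C, x ^ p = 1) {j : ℕ} (hj1 : 1 ≤ j)
    (hjp : j < p) : NoTor C j := by
  intro x hx hxj
  have h1 : orderOf x ∣ j := orderOf_dvd_of_pow_eq_one hxj
  have h2 : orderOf x ∣ p := orderOf_dvd_of_pow_eq_one (hC x hx)
  have hcop : Nat.Coprime j p :=
    (Nat.Coprime.symm ((Fact.out : p.Prime).coprime_iff_not_dvd.mpr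
      (Nat.not_dvd_of_pos_of_lt hj1 hjp)))
  have h3 : orderOf x ∣ 1 := by
    have := Nat.dvd_gcd h1 h2
    rwa [hcop.gcd_eq_one] at this
  exact orderOf_eq_one_iff.mp (Nat.dvd_one.mp h3)

/-- `b(a^t) = b^(1/t)`. -/
theorem sp_rr_pow (h : SP A B) (hA : ∀ x ∈ A, x ^ p = 1) {a b : X} (hr : RR A B a b)
    (t : ZMod p) (ht : t ≠ 0) : RR A B (zmodPow a t) (zmodPow b t⁻¹) := by
  have hp : NeZero p := ⟨(Fact.out : p.Prime).ne_zero⟩
  have hB := sp_exp_right h hA
  have hti : t⁻¹ ≠ 0 := inv_ne_zero ht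
  have hk1 : 1 ≤ (t⁻¹).val := by
    rcases Nat.eq_zero_or_pos (t⁻¹).val with h0 | h0
    · exact absurd ((ZMod.val_eq_zero _).mp h0) hti
    · exact h0
  have hkp : (t⁻¹).val < p := ZMod.val_lt _
  have hbk1 : zmodPow b t⁻¹ ≠ 1 := by
    intro h0
    rw [← zmodPow_zero (p := p) b] at h0
    exact hti (zmodPow_injective (hB b hr.2.1) hr.2.2.2.1 h0)
  have hbkB : zmodPow b t⁻¹ ∈ B := B.pow_mem hr.2.1 _
  obtain ⟨d, hd⟩ := h.exists_left hbkB hbk1
  have hD : Dk A B (t⁻¹).val := SP.D_all (t⁻¹).val hk1 A B h (fun j hj1 hjk =>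
    ⟨noTor_of_exp hA hj1 (lt_trans hjk hkp), noTor_of_exp hB hj1 (lt_trans hjk hkp)⟩)
  have hda : d ^ (t⁻¹).val = a := hD a d b hr hd
  have hdp : d ^ p = 1 := hA d hd.1
  have e1 : zmodPow a t = d := by
    have e2 : zmodPow a t = (zmodPow d t⁻¹) ^ t.val := by
      show a ^ t.val = (d ^ (t⁻¹).val) ^ t.val
      rw [hda]
    rw [e2, zmodPow_pow hdp, ZMod.natCast_zmod_val, inv_mul_cancel₀ ht, zmodPow_one hdp]
  rw [e1]
  exact hd

/-- The rank-one Weyl relation in a special rank one group of exponent `p`. -/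
theorem sp_weyl_rel (h : SP A B) (hA : ∀ x ∈ A, x ^ p = 1) {a b : X} (hr : RR A B a b)
    (t u : ZMod p) (ht : t ≠ 0) :
    zmodPow a t * zmodPow b (-t⁻¹) * zmodPow a t * zmodPow a u *
      (zmodPow a t * zmodPow b (-t⁻¹) * zmodPow a t)⁻¹ = zmodPow b (-(t⁻¹ ^ 2 * u)) := by
  have hp : NeZero p := ⟨(Fact.out : p.Prime).ne_zero⟩
  have hB := sp_exp_right h hA
  have ha : a ^ p = 1 := hA a hr.1
  have hb : b ^ p = 1 := hB b hr.2.1
  have hr' := sp_rr_pow h hA hr t ht
  have hc := h.n_conj_a hr'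
  rw [zmodPow_neg hb]
  have e1 : zmodPow a u = (zmodPow a t) ^ (u * t⁻¹).val := by
    rw [zmodPow_pow ha, ZMod.natCast_zmod_val]
    congr 1
    field_simp
  have e2 : zmodPow b (-(t⁻¹ ^ 2 * u)) = ((zmodPow b t⁻¹)⁻¹) ^ (u * t⁻¹).val := by
    rw [← zmodPow_neg hb, zmodPow_pow hb, ZMod.natCast_zmod_val]
    congr 1
    ring
  rw [e1, e2, ← conj_pow, hc]

theorem zmodPow_mem_closure (a b : X) (t : ZMod p) :
    zmodPow a t ∈ Subgroup.closure ({a, b} : Set X) :=
  Subgroup.pow_mem _ (Subgroup.subset_closure (by simp)) _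

theorem zmodPow_mem_closure' (a b : X) (t : ZMod p) :
    zmodPow b t ∈ Subgroup.closure ({a, b} : Set X) :=
  Subgroup.pow_mem _ (Subgroup.subset_closure (by simp)) _

/-- Steinberg data over `ZMod p` on `⟨a, b⟩` for `b = b(a)` in a special rank one group with
abelian unipotent subgroups of exponent `p`. -/
def spSt2 (h : SP A B) (hA : ∀ x ∈ A, x ^ p = 1) {a b : X} (hr : RR A B a b) :
    St2 (ZMod p) ↥(Subgroup.closure ({a, b} : Set X)) where
  x t := ⟨zmodPow a t, zmodPow_mem_closure a b t⟩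
  y t := ⟨zmodPow b t, zmodPow_mem_closure' a b t⟩
  x_add t u := Subtype.ext (zmodPow_add (hA a hr.1) t u)
  y_add t u := Subtype.ext (zmodPow_add (sp_exp_right h hA b hr.2.1) t u)
  rel1 t u ht := Subtype.ext (sp_weyl_rel h hA hr t u ht)
  rel2 t u ht := Subtype.ext (sp_weyl_rel h.symm (sp_exp_right h hA) hr.swap t u ht)
  gen := by
    rw [eq_top_iff, ← Subgroup.closure_closure_coe_preimage (k := ({a, b} : Set X))]
    apply Subgroup.closure_mono
    rintro ⟨z, hz⟩ hzk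
    have hzk' : z = a ∨ z = b := hzk
    rcases hzk' with rfl | rfl
    · left
      exact ⟨1, Subtype.ext (zmodPow_one (hA z hr.1))⟩
    · right
      exact ⟨1, Subtype.ext (zmodPow_one (sp_exp_right h hA z hr.2.1))⟩

theorem spSt2_w (h : SP A B) (hA : ∀ x ∈ A, x ^ p = 1) {a b : X} (hr : RR A B a b)
    (t : ZMod p) (ht : t ≠ 0) : Swaps A B (((spSt2 h hA hr).w t : ↥(Subgroup.closure ({a, b} : Set X))) : X) := by
  have hb : b ^ p = 1 := sp_exp_right h hA b hr.2.1
  have e : (((spSt2 h hA hr).w t : ↥(Subgroup.closure ({a, b} : Set X))) : X) =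
      zmodPow a t * (zmodPow b t⁻¹)⁻¹ * zmodPow a t := by
    show zmodPow a t * zmodPow b (-t⁻¹) * zmodPow a t = _
    rw [zmodPow_neg hb]
  rw [e]
  exact h.swaps_n (sp_rr_pow h hA hr t ht)

theorem spSt2_h (h : SP A B) (hA : ∀ x ∈ A, x ^ p = 1) {a b : X} (hr : RR A B a b)
    (t : ZMod p) :
    (((spSt2 h hA hr).h t : ↥(Subgroup.closure ({a, b} : Set X))) : X) =
      (((spSt2 h hA hr).w t : ↥(Subgroup.closure ({a, b} : Set X))) : X) *
        ((((spSt2 h hA hr).w 1 : ↥(Subgroup.closure ({a, b} : Set X))) : X))⁻¹ := rfl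

/-- `⟨a, b(a)⟩` is `SL₂(p)` or `PSL₂(p)`. -/
theorem sp_closure_equiv (h : SP A B) (hA : ∀ x ∈ A, x ^ p = 1) {a b : X} (hr : RR A B a b) :
    Nonempty (↥(Subgroup.closure ({a, b} : Set X)) ≃* Matrix.SpecialLinearGroup (Fin 2) (ZMod p)) ∨
    ((-1 : ZMod p) ≠ 1 ∧ Nonempty (↥(Subgroup.closure ({a, b} : Set X)) ≃*
      Matrix.ProjectiveSpecialLinearGroup (Fin 2) (ZMod p))) := by
  have hp : NeZero p := ⟨(Fact.out : p.Prime).ne_zero⟩
  have ha : a ^ p = 1 := hA a hr.1
  apply (spSt2 h hA hr).equiv_sl_or_psl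
  · intro u t v ht hcon
    have hsw := spSt2_w h hA hr t ht
    have hsw1 := spSt2_w h hA hr 1 one_ne_zero
    have h0 := congrArg (Subtype.val) hcon
    simp only [Subgroup.coe_mul, Subgroup.coe_one] at h0
    rw [spSt2_h] at h0
    have hxu : zmodPow a u ∈ A := A.pow_mem hr.1 _
    have hxv : zmodPow a v ∈ A := A.pow_mem hr.1 _
    have e1 : (((spSt2 h hA hr).w t : ↥(Subgroup.closure ({a, b} : Set X))) : X) =
        (zmodPow a u)⁻¹ * (zmodPow a v)⁻¹ := by
      have h0' : zmodPow a u * ((((spSt2 h hA hr).w t : ↥(Subgroup.closure ({a, b} : Set X))) : X) *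
          ((((spSt2 h hA hr).w 1 : ↥(Subgroup.closure ({a, b} : Set X))) : X))⁻¹) *
          (((spSt2 h hA hr).w 1 : ↥(Subgroup.closure ({a, b} : Set X))) : X) * zmodPow a v = 1 := h0
      generalize (((spSt2 h hA hr).w t : ↥(Subgroup.closure ({a, b} : Set X))) : X) = n at h0' ⊢
      generalize (((spSt2 h hA hr).w 1 : ↥(Subgroup.closure ({a, b} : Set X))) : X) = n1 at h0'
      calc n = (zmodPow a u)⁻¹ * (zmodPow a u * (n * n1⁻¹) * n1 * zmodPow a v) * (zmodPow a v)⁻¹ := by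
            group
        _ = _ := by rw [h0']; group
    have hmem : (((spSt2 h hA hr).w t : ↥(Subgroup.closure ({a, b} : Set X))) : X) ∈ A := by
      rw [e1]; exact A.mul_mem (A.inv_mem hxu) (A.inv_mem hxv)
    have := hsw.1
    rw [conjBy_of_mem hmem] at this
    exact h.rop.ne this
  · intro u t ht hcon
    have hsw := spSt2_w h hA hr t ht
    have hsw1 := spSt2_w h hA hr 1 one_ne_zero
    have h0 := congrArg (Subtype.val) hcon
    simp only [Subgroup.coe_mul, Subgroup.coe_one] at h0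
    have hxu : zmodPow a u ∈ A := A.pow_mem hr.1 _
    have e1 : (((spSt2 h hA hr).h t : ↥(Subgroup.closure ({a, b} : Set X))) : X) =
        (zmodPow a u)⁻¹ := by
      have h0' : zmodPow a u * (((spSt2 h hA hr).h t : ↥(Subgroup.closure ({a, b} : Set X))) : X) = 1 := h0
      exact eq_inv_of_mul_eq_one_right h0'
    have hB : conjBy B (((spSt2 h hA hr).h t : ↥(Subgroup.closure ({a, b} : Set X))) : X) = B := by
      rw [spSt2_h, ← conjBy_conjBy, hsw1.inv.2, hsw.1]
    rw [e1] at hB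
    have hu1 := rop_eq_one_of_conjBy_eq h.rop (A.inv_mem hxu) hB
    have hu0 : u = 0 := by
      apply zmodPow_injective ha hr.2.2.1
      rw [zmodPow_zero]
      exact inv_eq_one.mp hu1
    refine ⟨hu0, ?_⟩
    subst hu0
    have hh1 : (spSt2 h hA hr).h t = 1 := by
      rw [(spSt2 h hA hr).x_zero, one_mul] at hcon
      exact hcon
    have hc := (spSt2 h hA hr).h_conj_x t 1 ht
    rw [hh1, one_mul, inv_one, mul_one] at hc
    have hc' := congrArg (Subtype.val) hc
    have hc'' : zmodPow a (1 : ZMod p) = zmodPow a (t ^ 2 * 1) := hc'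
    have := zmodPow_injective ha hr.2.2.1 hc''
    rw [mul_one] at this
    exact this.symm

theorem sp_of_special_aus (hs : IsSpecialRankOnePair A B) (hab : HasAbelianUnipotents A B) :
    SP A B :=
  ⟨hs.1, isMulCommutative_iff_of_setLike.mp hab.1, isMulCommutative_iff_of_setLike.mp hab.2,
    fun a b hr => hs.2 a hr.1 hr.2.2.1 b hr.2.1 hr.2.2.2.1 hr.2.2.2.2⟩

end Rank

end Cfsg.Agent.Lib.helper44
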