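import Mathlib
import Cfsg.Agent.Lib.helper44.St2Rank
import Cfsg.Agent.Lib.helper85.Quasi

/-!
# Special rank one groups with abelian unipotent subgroups: the dichotomy

Either `|A| ≤ 3` and the group is `SL₂(2)`, `SL₂(3)` or `PSL₂(3)`, or the group is perfect and
quasisimple with `[A, H] = A`.
-/

set_option autoImplicit false
set_option linter.unusedSectionVars false

namespace Cfsg.Agent.Lib.helper44

open Cfsg Cfsg.Agent.Lib.helper85
open scoped commutatorElement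

theorem zmod_two_neg_one : (-1 : ZMod 2) = 1 := by decide

variable {X : Type*} [Group X] {A B : Subgroup X}

theorem exists_ne_three (hcard : 3 < ENat.card A) (u v w : X) :
    ∃ y ∈ A, y ≠ u ∧ y ≠ v ∧ y ≠ w := by
  by_contra hcon
  have hsub : (A : Set X) ⊆ {u, v, w} := by
    intro y hy
    by_contra hy'
    apply hcon
    refine ⟨y, hy, ?_, ?_, ?_⟩
    · rintro rfl; exact hy' (by simp)
    · rintro rfl; exact hy' (by simp)
    · rintro rfl; exact hy' (by simp)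
  have hle : ENat.card A ≤ 3 := by
    have e : ENat.card A = (A : Set X).encard := rfl
    rw [e]
    calc (A : Set X).encard ≤ ({u, v, w} : Set X).encard := Set.encard_le_encard hsub
      _ ≤ ({v, w} : Set X).encard + 1 := Set.encard_insert_le _ _
      _ ≤ (({w} : Set X).encard + 1) + 1 := by
          gcongr
          exact Set.encard_insert_le _ _
      _ = 3 := by rw [Set.encard_singleton]; norm_num
  exact absurd hcard (not_lt.mpr hle)

theorem diag_mem (h : SP A B) {a b c d : X} (hr : RR A B a b) (hr' : RR A B c d) :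
    (a * b⁻¹ * a) * (c * d⁻¹ * c)⁻¹ ∈ rankOneDiagonal A B := by
  have s1 := h.swaps_n hr
  have s2 := (h.swaps_n hr').inv
  refine Subgroup.mem_inf.mpr ⟨Subgroup.mem_inf.mpr
    ⟨Subgroup.mul_mem _ (h.n_mem hr) (Subgroup.inv_mem _ (h.n_mem hr')), ?_⟩, ?_⟩
  · rw [← conjBy_eq_self_iff, ← conjBy_conjBy, s2.1, s1.2]
  · rw [← conjBy_eq_self_iff, ← conjBy_conjBy, s2.2, s1.1]

theorem n_inv_conj (h : SP A B) {c d : X} (hr : RR A B c d) :
    (c * d⁻¹ * c)⁻¹ * c * (c * d⁻¹ * c) = d⁻¹ := by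
  have h1 := h.n_conj_a (h.inv hr)
  rw [inv_inv] at h1
  calc (c * d⁻¹ * c)⁻¹ * c * (c * d⁻¹ * c)
      = ((c⁻¹ * d * c⁻¹) * c⁻¹ * (c⁻¹ * d * c⁻¹)⁻¹)⁻¹ := by group
    _ = d⁻¹ := by rw [h1]

theorem comm_star (h : SP A B) {a b c d : X} (hr : RR A B a b) (hr' : RR A B c d) :
    (a * b⁻¹ * a) * d * (a * b⁻¹ * a)⁻¹ * c ∈ ⁅A, rankOneDiagonal A B⁆ := by
  have hH := diag_mem h hr hr'
  have h1 : ⁅(a * b⁻¹ * a) * (c * d⁻¹ * c)⁻¹, c⁆ ∈ ⁅rankOneDiagonal A B, A⁆ :=
    Subgroup.commutator_mem_commutator hH hr'.1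
  rw [Subgroup.commutator_comm, commutatorElement_def] at h1
  have e := n_inv_conj h hr'
  have h2 : (a * b⁻¹ * a) * (c * d⁻¹ * c)⁻¹ * c * ((a * b⁻¹ * a) * (c * d⁻¹ * c)⁻¹)⁻¹ * c⁻¹ =
      (a * b⁻¹ * a) * d⁻¹ * (a * b⁻¹ * a)⁻¹ * c⁻¹ := by
    calc (a * b⁻¹ * a) * (c * d⁻¹ * c)⁻¹ * c * ((a * b⁻¹ * a) * (c * d⁻¹ * c)⁻¹)⁻¹ * c⁻¹
        = (a * b⁻¹ * a) * ((c * d⁻¹ * c)⁻¹ * c * (c * d⁻¹ * c)) * (a * b⁻¹ * a)⁻¹ * c⁻¹ := by
          group
      _ = _ := by rw [e]
  rw [h2] at h1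
  have h3 := inv_mem h1
  have hA1 : (a * b⁻¹ * a) * d * (a * b⁻¹ * a)⁻¹ ∈ A := by
    have h0 := (h.swaps_n hr).2
    rw [← h0]; exact conj_mem_conjBy hr'.2.1
  have hc := h.commA _ hA1 c hr'.1
  rw [hc]
  have e2 : ((a * b⁻¹ * a) * d⁻¹ * (a * b⁻¹ * a)⁻¹ * c⁻¹)⁻¹ =
      c * ((a * b⁻¹ * a) * d * (a * b⁻¹ * a)⁻¹) := by group
  rw [e2] at h3
  exact h3

theorem sq_mul_mem (h : SP A B) {y c : X} (hy : y ∈ A) (hc : c ∈ A) (hy1 : y ≠ 1) (hc1 : c ≠ 1)
    (hyc : y * c ≠ 1) : y * y * c ∈ ⁅A, rankOneDiagonal A B⁆ := by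
  obtain ⟨b, hb⟩ := h.exists_right hc hc1
  obtain ⟨b₁, hb₁⟩ := h.exists_right hy hy1
  obtain ⟨b₂, hb₂⟩ := h.exists_right (A.mul_mem hy hc) hyc
  have hH := h.hua hb hb₁ hb₂ (n := c * b⁻¹ * c) rfl
  have hsw := h.swaps_n hb
  have hγ : (c * b⁻¹ * c) * b₂ * (c * b⁻¹ * c)⁻¹ ∈ A := by
    rw [← hsw.2]; exact conj_mem_conjBy hb₂.2.1
  have hβ : (c * b⁻¹ * c) * b * (c * b⁻¹ * c)⁻¹ ∈ A := by
    rw [← hsw.2]; exact conj_mem_conjBy hb.2.1
  have f1 := comm_star h hb hb₁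
  have f2 := comm_star h hb hb
  have f3 := comm_star h hb hH
  have f4 := comm_star h hb hb₂
  have key : ∀ α β γ : X, β * γ = γ * β → γ * y = y * γ →
      α * y ∈ ⁅A, rankOneDiagonal A B⁆ → β * c ∈ ⁅A, rankOneDiagonal A B⁆ →
      α * β * (γ * c) ∈ ⁅A, rankOneDiagonal A B⁆ → γ * (y * c) ∈ ⁅A, rankOneDiagonal A B⁆ →
      y * y * c ∈ ⁅A, rankOneDiagonal A B⁆ := by
    intro α β γ hβγ hγy g1 g2 g3 g4
    have s2 : α * γ ∈ ⁅A, rankOneDiagonal A B⁆ := by
      have e : α * γ = (α * β * (γ * c)) * (β * c)⁻¹ := by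
        calc α * γ = α * (γ * β) * β⁻¹ := by group
          _ = α * (β * γ) * β⁻¹ := by rw [hβγ]
          _ = _ := by group
      rw [e]; exact mul_mem g3 (inv_mem g2)
    have s3 : y⁻¹ * γ ∈ ⁅A, rankOneDiagonal A B⁆ := by
      have e : y⁻¹ * γ = (α * y)⁻¹ * (α * γ) := by group
      rw [e]; exact mul_mem (inv_mem g1) s2
    have e : y * y * c = (y⁻¹ * γ)⁻¹ * (γ * (y * c)) := by
      calc y * y * c = γ⁻¹ * (γ * y) * (y * c) := by group
        _ = γ⁻¹ * (y * γ) * (y * c) := by rw [hγy]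
        _ = _ := by group
    rw [e]; exact mul_mem (inv_mem s3) g4
  refine key ((c * b⁻¹ * c) * b₁ * (c * b⁻¹ * c)⁻¹) ((c * b⁻¹ * c) * b * (c * b⁻¹ * c)⁻¹)
    ((c * b⁻¹ * c) * b₂ * (c * b⁻¹ * c)⁻¹) (h.commA _ hβ _ hγ) (h.commA _ hγ _ hy) f1 f2 ?_ f4
  have e : (c * b⁻¹ * c) * (b₁ * b) * (c * b⁻¹ * c)⁻¹ *
      ((c * b⁻¹ * c) * b₂ * (c * b⁻¹ * c)⁻¹ * c) =
      (c * b⁻¹ * c) * b₁ * (c * b⁻¹ * c)⁻¹ * ((c * b⁻¹ * c) * b * (c * b⁻¹ * c)⁻¹) *
        ((c * b⁻¹ * c) * b₂ * (c * b⁻¹ * c)⁻¹ * c) := by group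
  rw [← e]
  exact f3

/-- `[A, H] = A` in a special rank one group with abelian unipotent subgroups and `|A| > 3`. -/
theorem sp_comm_eq_self (h : SP A B) (hcard : 3 < ENat.card A) :
    ⁅A, rankOneDiagonal A B⁆ = A := by
  apply le_antisymm
  · rw [Subgroup.commutator_le]
    intro a ha g hg
    rw [commutatorElement_def]
    have hgA : g ∈ Subgroup.normalizer (A : Set X) := hg.1.2
    have h1 : g * a⁻¹ * g⁻¹ ∈ A := by
      have h0 := conj_mem_conjBy (g := g) (A.inv_mem ha)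
      rwa [conjBy_eq_self_iff.mpr hgA] at h0
    have e : a * g * a⁻¹ * g⁻¹ = a * (g * a⁻¹ * g⁻¹) := by group
    rw [e]; exact A.mul_mem ha h1
  · have step1 : ∀ c ∈ A, ∀ c' ∈ A, c ≠ 1 → c' ≠ 1 →
        c * c'⁻¹ ∈ ⁅A, rankOneDiagonal A B⁆ := by
      intro c hc c' hc' hc1 hc'1
      obtain ⟨y, hy, hy1, hyc, hyc'⟩ := exists_ne_three hcard 1 c⁻¹ c'⁻¹
      have g1 := sq_mul_mem h hy hc hy1 hc1 (fun e => hyc (eq_inv_of_mul_eq_one_left e))
      have g2 := sq_mul_mem h hy hc' hy1 hc'1 (fun e => hyc' (eq_inv_of_mul_eq_one_left e))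
      have hcomm : (y * y) * (c * c'⁻¹) = (c * c'⁻¹) * (y * y) :=
        h.commA _ (A.mul_mem hy hy) _ (A.mul_mem hc (A.inv_mem hc'))
      have e : c * c'⁻¹ = (y * y * c) * (y * y * c')⁻¹ := by
        calc c * c'⁻¹ = (c * c'⁻¹) * (y * y) * (y * y)⁻¹ := by group
          _ = (y * y) * (c * c'⁻¹) * (y * y)⁻¹ := by rw [hcomm]
          _ = _ := by group
      rw [e]; exact mul_mem g1 (inv_mem g2)
    intro d hd
    by_cases hd1 : d = 1
    · rw [hd1]; exact Subgroup.one_mem _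
    · obtain ⟨c', hc', hc'1, hc'd, -⟩ := exists_ne_three hcard 1 d⁻¹ 1
      have hdc : d * c' ≠ 1 := fun e => hc'd (eq_inv_of_mul_eq_one_right e)
      have h0 := step1 (d * c') (A.mul_mem hd hc') c' hc' hdc hc'1
      have e : d * c' * c'⁻¹ = d := by group
      rwa [e] at h0

theorem sp_perfect (hX : A ⊔ B = ⊤) (h : SP A B) (hcard : 3 < ENat.card A) :
    commutator X = ⊤ := by
  have hA : A ≤ commutator X := by
    intro a ha
    have h0 := SP.le_ker_of_comm h hcard (Abelianization.of : X →* Abelianization X)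
      (fun x _ y _ => mul_comm _ _) a ha
    rw [← Abelianization.ker_of X]
    exact MonoidHom.mem_ker.mpr h0
  obtain ⟨x, -, hBx⟩ := rop_right_mem_unipotent h.rop
  have hB : B ≤ commutator X := by
    intro b hb
    rw [hBx, mem_conjBy] at hb
    have h1 := hA hb
    have hn : (commutator X).Normal := inferInstance
    have h2 := hn.conj_mem _ h1 x
    have e : x * (x⁻¹ * b * x) * x⁻¹ = b := by group
    rwa [e] at h2
  rw [eq_top_iff, ← hX]
  exact sup_le hA hB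

theorem sp_normal_dichotomy (hX : A ⊔ B = ⊤) (h : SP A B) (hperf : commutator X = ⊤)
    (N : Subgroup X) (hN : N.Normal) : N ≤ Subgroup.center X ∨ N = ⊤ := by
  rcases rop_normal_dichotomy' h.rop (N := N) (by rw [hX]; exact le_top)
    (fun x _ n hn => hN.conj_mem n hn x) with h1 | h1
  · right
    rw [hX] at h1
    have hNA : ∀ g : X, ∃ a ∈ A, g * a⁻¹ ∈ N := by
      intro g
      have hg : g ∈ ((N ⊔ A : Subgroup X) : Set X) := h1 (Subgroup.mem_top g)
      rw [@Subgroup.normal_mul _ _ N A hN] at hg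
      obtain ⟨n, hn, a, ha, rfl⟩ := Set.mem_mul.mp hg
      refine ⟨a, ha, ?_⟩
      have e : n * a * a⁻¹ = n := by group
      rw [e]; exact hn
    rw [eq_top_iff, ← hperf, commutator_def, Subgroup.commutator_le]
    intro g₁ _ g₂ _
    obtain ⟨a₁, ha₁, hn₁⟩ := hNA g₁
    obtain ⟨a₂, ha₂, hn₂⟩ := hNA g₂
    rw [commutatorElement_def]
    exact comm_mem_normal hN hn₁ hn₂ (h.commA a₁ ha₁ a₂ ha₂)
  · left
    rw [hX, Subgroup.coe_top, Subgroup.centralizer_univ] at h1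
    exact h1

/-- The dichotomy for special rank one groups with abelian unipotent subgroups. -/
theorem sp_rank_one_main (hX : A ⊔ B = ⊤) (hs : IsSpecialRankOnePair A B)
    (hab : HasAbelianUnipotents A B) :
    (ENat.card A ≤ 3 ∧ (Nonempty (X ≃* Matrix.SpecialLinearGroup (Fin 2) (ZMod 2)) ∨
        Nonempty (X ≃* Matrix.SpecialLinearGroup (Fin 2) (ZMod 3)) ∨
        Nonempty (X ≃* Matrix.ProjectiveSpecialLinearGroup (Fin 2) (ZMod 3)))) ∨
    (commutator X ⊔ A = ⊤ ∧ Cfsg.IsQuasisimple (commutator X) ∧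
      3 < ENat.card ↥(⁅A, Cfsg.rankOneDiagonal A B⁆ : Subgroup X)) := by
  have h := sp_of_special_aus hs hab
  by_cases hcard : 3 < ENat.card A
  · right
    have hperf := sp_perfect hX h hcard
    refine ⟨by rw [hperf]; exact top_sup_eq _, ?_, ?_⟩
    · obtain ⟨a, ha, ha1⟩ := rop_exists_ne_one h.rop
      have hnt : Nontrivial X := ⟨⟨a, 1, ha1⟩⟩
      exact isQuasisimple_of_equiv_dichotomy
        ((MulEquiv.subgroupCongr hperf).trans Subgroup.topEquiv) hperf hnt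
        (sp_normal_dichotomy hX h hperf)
    · rw [sp_comm_eq_self h hcard]; exact hcard
  · left
    have hle : ENat.card A ≤ 3 := not_lt.mp hcard
    refine ⟨hle, ?_⟩
    have hfin : Finite A := ENat.card_lt_top.mp (lt_of_le_of_lt hle (ENat.natCast_lt_top 3))
    have hnc : Nat.card A ≤ 3 := by
      have h0 := hle
      rw [ENat.card_eq_coe_natCard] at h0
      exact_mod_cast h0
    obtain ⟨a, ha, ha1⟩ := rop_exists_ne_one h.rop
    rcases special_aus_structure hs hab with ⟨p, hp, hel⟩ | ⟨htf, -⟩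
    swap
    · exfalso
      apply htf a ha ha1
      have h0 : IsOfFinOrder (⟨a, ha⟩ : A) := isOfFinOrder_of_finite _
      exact (Submonoid.isOfFinOrder_coe (H := A.toSubmonoid) (x := ⟨a, ha⟩)).mpr h0
    have hpf : Fact p.Prime := ⟨hp⟩
    have hA := hel.2
    have hoa : orderOf a = p := orderOf_eq_prime (hA a ha) ha1
    have hdvd : p ∣ Nat.card A := by
      rw [← hoa]
      have h0 : orderOf (⟨a, ha⟩ : A) ∣ Nat.card A := orderOf_dvd_natCard _
      rwa [Subgroup.orderOf_mk] at h0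
    have hpos : 0 < Nat.card A := Nat.card_pos
    have hp2 := hp.two_le
    have hcardp : Nat.card A = p := by
      obtain ⟨k, hk⟩ := hdvd
      have hk1 : k = 1 := by
        rcases k with _ | _ | k
        · rw [mul_zero] at hk; omega
        · rfl
        · exfalso
          have hk' : Nat.card A = p * (k + 2) := hk
          have h2k : 2 * (k + 2) ≤ p * (k + 2) := Nat.mul_le_mul_right _ hp2
          omega
      rw [hk, hk1, mul_one]
    have hp3 : p ≤ 3 := by omega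
    have hsurjA : ∀ x ∈ A, ∃ t : ZMod p, zmodPow a t = x := by
      have hp0 : NeZero p := ⟨hp.ne_zero⟩
      let f : ZMod p → A := fun t => ⟨zmodPow a t, A.pow_mem ha _⟩
      have hf : Function.Injective f := fun t u htu =>
        zmodPow_injective (hA a ha) ha1 (congrArg Subtype.val htu)
      have hbij := hf.bijective_of_nat_card_le (by rw [Nat.card_zmod, hcardp])
      intro x hx
      obtain ⟨t, ht⟩ := hbij.2 ⟨x, hx⟩
      exact ⟨t, congrArg Subtype.val ht⟩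
    obtain ⟨b, hr⟩ := h.exists_right ha ha1
    have htop : Subgroup.closure ({a, b} : Set X) = ⊤ := by
      rw [eq_top_iff, ← hX, sup_le_iff]
      constructor
      · intro x hx
        obtain ⟨t, rfl⟩ := hsurjA x hx
        exact zmodPow_mem_closure a b t
      · intro y hy
        by_cases hy1 : y = 1
        · rw [hy1]; exact Subgroup.one_mem _
        · obtain ⟨a', hr'⟩ := h.exists_left hy hy1
          obtain ⟨t, rfl⟩ := hsurjA a' hr'.1
          have ht : t ≠ 0 := by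
            rintro rfl
            exact hr'.2.2.1 (zmodPow_zero a)
          have h0 := h.unique_right hr' (sp_rr_pow h hA hr t ht)
          rw [h0]
          exact zmodPow_mem_closure' a b _
    have e0 : X ≃* ↥(Subgroup.closure ({a, b} : Set X)) :=
      Subgroup.topEquiv.symm.trans (MulEquiv.subgroupCongr htop.symm)
    have hp23 : p = 2 ∨ p = 3 := by omega
    rcases hp23 with rfl | rfl
    · rcases sp_closure_equiv h hA hr with ⟨⟨e⟩⟩ | ⟨hneg, -⟩
      · exact Or.inl ⟨e0.trans e⟩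
      · exact absurd zmod_two_neg_one hneg
    · rcases sp_closure_equiv h hA hr with ⟨⟨e⟩⟩ | ⟨-, ⟨e⟩⟩
      · exact Or.inr (Or.inl ⟨e0.trans e⟩)
      · exact Or.inr (Or.inr ⟨e0.trans e⟩)

end Cfsg.Agent.Lib.helper44
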