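import Mathlib
import Cfsg.Agent.Lib.helper44.StNC

/-!
# The Steinberg presentation of `SL_n` over a finite field, `n ≥ 3`
-/

set_option autoImplicit false
set_option linter.unusedSectionVars false
set_option linter.unusedVariables false

namespace Cfsg.Agent.Lib.helper44

open Matrix

section Comm

variable {I K : Type*} [Fintype I] [DecidableEq I] [Field K]

theorem tv_commute {i j k l : I} (hij : i ≠ j) (hkl : k ≠ l) (hil : i ≠ l) (hjk : j ≠ k)
    (t u : K) :
    Matrix.SpecialLinearGroup.transvection hij t * Matrix.SpecialLinearGroup.transvection hkl u =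
      Matrix.SpecialLinearGroup.transvection hkl u * Matrix.SpecialLinearGroup.transvection hij t := by
  apply Subtype.ext
  simp only [Matrix.SpecialLinearGroup.coe_mul, Matrix.SpecialLinearGroup.transvection_coe]
  simp only [mul_add, add_mul, mul_one, one_mul, single_mul_single_of_ne _ _ _ _ hjk,
    single_mul_single_of_ne _ _ _ _ hil.symm, add_zero]
  abel

end Comm

/-- The Steinberg relators of `SL_n`. -/
def stnRels (n : ℕ) (K : Type*) [Field K] :
    Set (FreeGroup ({ij : Fin n × Fin n // ij.1 ≠ ij.2} × K)) :=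
  {g : FreeGroup ({ij : Fin n × Fin n // ij.1 ≠ ij.2} × K) | ∃ (a : {ij : Fin n × Fin n // ij.1 ≠ ij.2}) (t u : K),
            g = FreeGroup.of (a, t) * FreeGroup.of (a, u) * (FreeGroup.of (a, t + u))⁻¹} ∪
          {g | ∃ (a b : {ij : Fin n × Fin n // ij.1 ≠ ij.2}) (t u : K), a.1.1 ≠ b.1.2 ∧ a.1.2 ≠ b.1.1 ∧
            g = FreeGroup.of (a, t) * FreeGroup.of (b, u) * (FreeGroup.of (a, t))⁻¹ * (FreeGroup.of (b, u))⁻¹} ∪
          {g | ∃ (a b : {ij : Fin n × Fin n // ij.1 ≠ ij.2}) (h : a.1.1 ≠ b.1.2) (t u : K), a.1.2 = b.1.1 ∧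
            g = FreeGroup.of (a, t) * FreeGroup.of (b, u) * (FreeGroup.of (a, t))⁻¹ * (FreeGroup.of (b, u))⁻¹ *
              (FreeGroup.of (⟨(a.1.1, b.1.2), h⟩, t * u))⁻¹}

/-- The images of the generators in `SL_n`. -/
def stnFun (n : ℕ) (K : Type*) [Field K] (p : {ij : Fin n × Fin n // ij.1 ≠ ij.2} × K) :
    Matrix.SpecialLinearGroup (Fin n) K :=
  Matrix.SpecialLinearGroup.transvection p.1.2 p.2

theorem stnFun_rels (n : ℕ) (K : Type*) [Field K] :
    ∀ r ∈ stnRels n K, FreeGroup.lift (stnFun n K) r = 1 := by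
  rintro r ((⟨a, t, u, rfl⟩ | ⟨a, b, t, u, h1, h2, rfl⟩) | ⟨a, b, h, t, u, h2, rfl⟩)
  · simp only [map_mul, map_inv, FreeGroup.lift_apply_of]
    rw [mul_inv_eq_one]
    exact (Matrix.SpecialLinearGroup.transvection_add a.2 t u).symm
  · simp only [map_mul, map_inv, FreeGroup.lift_apply_of]
    rw [mul_inv_eq_one, mul_inv_eq_iff_eq_mul]
    exact tv_commute a.2 b.2 h1 h2 t u
  · simp only [map_mul, map_inv, FreeGroup.lift_apply_of]
    rw [mul_inv_eq_one]
    obtain ⟨⟨i, j⟩, hij⟩ := a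
    obtain ⟨⟨j', l⟩, hjl⟩ := b
    simp only at h2 h hij hjl
    subst h2
    exact Cfsg.Agent.Lib.helper45.transvection_comm hij hjl h t u

/-- The presented group carries abstract Steinberg data. -/
def presStData (n : ℕ) (hn : 3 ≤ n) (K : Type*) [Field K] :
    StData (Fin n) K (PresentedGroup (stnRels n K)) where
  X i j t := if h : i ≠ j then PresentedGroup.of (⟨(i, j), h⟩, t) else 1
  add i j hij t u := by
    simp only [dif_pos hij]
    have h := PresentedGroup.one_of_mem (rels := stnRels n K)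
      (Or.inl (Or.inl ⟨⟨(i, j), hij⟩, t, u, rfl⟩))
    rw [map_mul, map_mul, map_inv, mul_inv_eq_one] at h
    exact h
  comm i j k l hij hkl hil hjk t u := by
    simp only [dif_pos hij, dif_pos hkl]
    have h := PresentedGroup.one_of_mem (rels := stnRels n K)
      (Or.inl (Or.inr ⟨⟨(i, j), hij⟩, ⟨(k, l), hkl⟩, t, u, hil, hjk, rfl⟩))
    simp only [map_mul, map_inv] at h
    rw [mul_inv_eq_one, mul_inv_eq_iff_eq_mul] at h
    exact h
  rel i j l hij hjl hil t u := by
    simp only [dif_pos hij, dif_pos hjl, dif_pos hil]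
    have h := PresentedGroup.one_of_mem (rels := stnRels n K)
      (Or.inr ⟨⟨(i, j), hij⟩, ⟨(j, l), hjl⟩, hil, t, u, rfl, rfl⟩)
    simp only [map_mul, map_inv] at h
    exact mul_inv_eq_one.mp h
  third i j := by
    by_contra hcon
    have hall : ∀ c : Fin n, c = i ∨ c = j := by
      intro c
      by_contra hc
      exact hcon ⟨c, fun h => hc (Or.inl h), fun h => hc (Or.inr h)⟩
    rcases hall ⟨0, by omega⟩ with h0 | h0 <;> rcases hall ⟨1, by omega⟩ with h1 | h1 <;>
      rcases hall ⟨2, by omega⟩ with h2 | h2 <;>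
      (have e0 : (0 : ℕ) = _ := congrArg Fin.val h0
       have e1 : (1 : ℕ) = _ := congrArg Fin.val h1
       have e2 : (2 : ℕ) = _ := congrArg Fin.val h2
       omega)

/-- The Steinberg presentation of `SL_n` over a finite field for `n ≥ 3`. -/
theorem stn_presentation {K : Type*} [Field K] [Finite K] (n : ℕ) (hn : 3 ≤ n) :
    ∃ e : PresentedGroup
        ({g : FreeGroup ({ij : Fin n × Fin n // ij.1 ≠ ij.2} × K) | ∃ (a : {ij : Fin n × Fin n // ij.1 ≠ ij.2}) (t u : K),
            g = FreeGroup.of (a, t) * FreeGroup.of (a, u) * (FreeGroup.of (a, t + u))⁻¹} ∪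
          {g | ∃ (a b : {ij : Fin n × Fin n // ij.1 ≠ ij.2}) (t u : K), a.1.1 ≠ b.1.2 ∧ a.1.2 ≠ b.1.1 ∧
            g = FreeGroup.of (a, t) * FreeGroup.of (b, u) * (FreeGroup.of (a, t))⁻¹ * (FreeGroup.of (b, u))⁻¹} ∪
          {g | ∃ (a b : {ij : Fin n × Fin n // ij.1 ≠ ij.2}) (h : a.1.1 ≠ b.1.2) (t u : K), a.1.2 = b.1.1 ∧
            g = FreeGroup.of (a, t) * FreeGroup.of (b, u) * (FreeGroup.of (a, t))⁻¹ * (FreeGroup.of (b, u))⁻¹ *
              (FreeGroup.of (⟨(a.1.1, b.1.2), h⟩, t * u))⁻¹}) ≃* Matrix.SpecialLinearGroup (Fin n) K,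
      ∀ (a : {ij : Fin n × Fin n // ij.1 ≠ ij.2}) (t : K), ((e (PresentedGroup.of (a, t)) : Matrix (Fin n) (Fin n) K)) = Matrix.transvection a.1.1 a.1.2 t := by
  classical
  let φ : PresentedGroup (stnRels n K) →* Matrix.SpecialLinearGroup (Fin n) K :=
    PresentedGroup.toGroup (stnFun_rels n K)
  have hof : ∀ (a : {ij : Fin n × Fin n // ij.1 ≠ ij.2}) (t : K),
      φ (PresentedGroup.of (a, t)) = Matrix.SpecialLinearGroup.transvection a.2 t :=
    fun a t => PresentedGroup.toGroup.of (stnFun_rels n K)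
  have hφ : ∀ (a b : Fin n) (h : a ≠ b) (t : K),
      φ ((presStData n hn K).X a b t) = Matrix.SpecialLinearGroup.transvection h t := by
    intro a b h t
    show φ (if h' : a ≠ b then PresentedGroup.of (⟨(a, b), h'⟩, t) else 1) = _
    rw [dif_pos h, hof]
  have hgen : Subgroup.closure {g : PresentedGroup (stnRels n K) |
      ∃ (a b : Fin n) (t : K), a ≠ b ∧ g = (presStData n hn K).X a b t} = ⊤ := by
    rw [eq_top_iff, ← PresentedGroup.closure_range_of (stnRels n K)]
    apply Subgroup.closure_mono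
    rintro _ ⟨⟨⟨⟨a, b⟩, h⟩, t⟩, rfl⟩
    have h' : a ≠ b := h
    have e : (presStData n hn K).X a b t =
        PresentedGroup.of ((⟨(a, b), h'⟩ : {ij : Fin n × Fin n // ij.1 ≠ ij.2}), t) := dif_pos h'
    exact ⟨a, b, t, h', e.symm⟩
  have hinj : Function.Injective φ := (presStData n hn K).injective_of_hom φ hφ hgen
  have hsurj : Function.Surjective φ := by
    rw [← MonoidHom.range_eq_top]
    have hnt : Nontrivial (Fin n) := Fin.nontrivial_iff_two_le.mpr (by omega)
    apply Cfsg.Agent.Lib.helper45.eq_top_of_transvection_mem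
    intro i j hij a
    exact ⟨PresentedGroup.of (⟨(i, j), hij⟩, a), hof _ a⟩
  refine ⟨MulEquiv.ofBijective φ ⟨hinj, hsurj⟩, fun a t => ?_⟩
  show ((φ (PresentedGroup.of (a, t)) : Matrix (Fin n) (Fin n) K)) = _
  rw [hof]
  rfl

end Cfsg.Agent.Lib.helper44
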