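/-
Degrees of complex characters of groups containing a Suzuki 2-group `q^{1+1}`
(parametrised by `F × F` with `(a,b)(c,d) = (a+c, b+d+θ(a)c)`), whose central involutions are
all conjugate: every character that is not constant on the centre has degree at least
`(q-1)·2^m`, `q = 2^(2m+1)`.
-/
import Mathlib
import Cfsg.Agent.Lib.helper8.SzBase
import Cfsg.Agent.Lib.helper4.CharDecomp
import Cfsg.Agent.Lib.helper4.FinOrder
import Cfsg.Agent.Lib.helper79.SchurScalar

set_option autoImplicit false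

namespace Cfsg.Agent.Lib.helper44

open Cfsg.Agent.Lib.helper8
open scoped ComplexConjugate

section Trace

set_option linter.unusedSectionVars false

variable (F : Type*) [Field F] [Fintype F] [CharP F 2]

/-- The absolute trace of a finite field of characteristic 2. -/
noncomputable def tr2 : F →+ ZMod 2 :=
  letI := ZMod.algebra F 2
  (Algebra.trace (ZMod 2) F).toAddMonoidHom

theorem tr2_sq (x : F) : tr2 F (x ^ 2) = tr2 F x := by
  classical
  let _ := ZMod.algebra F 2
  have : Fact (Nat.Prime 2) := ⟨Nat.prime_two⟩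
  let b := Module.Free.chooseBasis (ZMod 2) F
  show Algebra.trace (ZMod 2) F (x ^ 2) = Algebra.trace (ZMod 2) F x
  rw [Algebra.trace_eq_matrix_trace b, Algebra.trace_eq_matrix_trace b, map_pow,
    ZMod.trace_pow_card, ZMod.pow_card]

theorem tr2_pow (x : F) (j : ℕ) : tr2 F (x ^ 2 ^ j) = tr2 F x := by
  induction j with
  | zero => simp
  | succ j ih => rw [pow_succ, pow_mul, tr2_sq, ih]

theorem tr2_nondeg {a : F} (ha : a ≠ 0) : ∃ b : F, tr2 F (a * b) ≠ 0 := by
  let _ := ZMod.algebra F 2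
  have : Fact (Nat.Prime 2) := ⟨Nat.prime_two⟩
  have htr := (_root_.traceForm_nondegenerate (ZMod 2) F).1 a
  simp_rw [Algebra.traceForm_apply] at htr
  by_contra! hf
  exact ha (htr hf)

/-- The canonical additive character `x ↦ (-1)^{Tr x}`. -/
noncomputable def lam2 (x : F) : ℂ := if tr2 F x = 0 then 1 else -1

theorem zmod2_cases (t : ZMod 2) : t = 0 ∨ t = 1 := by
  revert t
  decide

theorem lam2_add (x y : F) : lam2 F (x + y) = lam2 F x * lam2 F y := by
  unfold lam2
  rw [map_add]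
  rcases zmod2_cases (tr2 F x) with h1 | h1 <;> rcases zmod2_cases (tr2 F y) with h2 | h2 <;>
    (rw [h1, h2]; simp; try decide)

theorem lam2_zero : lam2 F 0 = 1 := by
  unfold lam2
  simp

theorem lam2_ne_one : ∃ b : F, lam2 F b ≠ 1 := by
  obtain ⟨b, hb⟩ := tr2_nondeg F (one_ne_zero : (1 : F) ≠ 0)
  refine ⟨b, ?_⟩
  rw [one_mul] at hb
  unfold lam2
  rw [if_neg hb]
  norm_num

theorem lam2_eq_one_iff (x : F) : lam2 F x = 1 ↔ tr2 F x = 0 := by
  unfold lam2
  constructor
  · intro h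
    by_contra hne
    rw [if_neg hne] at h
    norm_num at h
  · intro h
    rw [if_pos h]

/-- The radical of the commutator form of the Suzuki 2-group with respect to `lam2`
is `{0, 1}`. -/
theorem lam2_rad {m : ℕ} (h : SzHyp F m) (a : F)
    (ha : ∀ c : F, lam2 F (th m a * c + th m c * a) = 1) : a = 0 ∨ a = 1 := by
  have h2 := h.two
  set r := a ^ 2 ^ m with hr
  have hr2 : r ^ 2 = th m a := by
    rw [hr, ← pow_mul, ← pow_succ]
    rfl
  have key : ∀ c : F, tr2 F ((r ^ 2 + r) * c) = 0 := by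
    intro c
    have h1 := (lam2_eq_one_iff F _).1 (ha c)
    have h3 : tr2 F (th m c * a) = tr2 F (c * r) := by
      calc tr2 F (th m c * a) = tr2 F ((th m c * a) ^ 2 ^ (m + 1)) := (tr2_pow F _ _).symm
        _ = tr2 F ((c * r) ^ 2) := by
            congr 1
            rw [mul_pow, mul_pow, hr2]
            have e1 : (th m c) ^ 2 ^ (m + 1) = c ^ 2 := th_th h c
            rw [e1]
            rfl
        _ = tr2 F (c * r) := tr2_sq F _
    rw [map_add, h3, ← hr2] at h1
    have e : (r ^ 2 + r) * c = r ^ 2 * c + c * r := by ring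
    rw [e, map_add]
    exact h1
  have hz : r ^ 2 + r = 0 := by
    by_contra hne
    obtain ⟨b, hb⟩ := tr2_nondeg F hne
    exact hb (key b)
  have hz' : r * (r + 1) = 0 := by
    rw [← hz]
    ring
  rcases mul_eq_zero.1 hz' with h0 | h1
  · left
    exact (pow_eq_zero_iff (by positivity)).1 h0
  · right
    have hr1 : r = 1 := by
      linear_combination h1 - h2
    have h5 : (a - 1) ^ 2 ^ m = 0 := by
      rw [sub_pow_char_pow, one_pow, ← hr, hr1, sub_self]
    exact sub_eq_zero.1 ((pow_eq_zero_iff (by positivity)).1 h5)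

end Trace

section AddSum

variable {F : Type*} [Field F] [Fintype F]

/-- A non-trivial additive character sums to zero. -/
theorem sum_addChar_eq_zero (ν : F → ℂ) (hν : ∀ a b, ν (a + b) = ν a * ν b)
    (hne : ∃ b₀, ν b₀ ≠ 1) : ∑ b : F, ν b = 0 := by
  obtain ⟨b₀, hb₀⟩ := hne
  have h1 : ∑ b : F, ν b = ν b₀ * ∑ b : F, ν b := by
    rw [Finset.mul_sum]
    rw [← Equiv.sum_comp (Equiv.addLeft b₀) ν]
    refine Finset.sum_congr rfl fun b _ => ?_
    simp [hν]
  have h2 : (1 - ν b₀) * ∑ b : F, ν b = 0 := by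
    linear_combination h1
  rcases mul_eq_zero.1 h2 with h3 | h3
  · exact absurd (sub_eq_zero.1 h3).symm hb₀
  · exact h3

end AddSum

section Heis

set_option linter.unusedSectionVars false

variable {F : Type*} [Field F] [Fintype F] {m : ℕ} {P : Type*} [Group P]

theorem heis_one (φ : F × F → P)
    (hmul : ∀ a b c d : F, φ (a, b) * φ (c, d) = φ (a + c, b + d + th m a * c)) :
    φ (0, 0) = 1 := by
  have h1 := hmul 0 0 0 0
  simp only [add_zero, mul_zero] at h1
  exact mul_eq_left.1 h1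

theorem heis_central (φ : F × F → P)
    (hmul : ∀ a b c d : F, φ (a, b) * φ (c, d) = φ (a + c, b + d + th m a * c)) (a b e : F) :
    φ (a, b) * φ (0, e) = φ (0, e) * φ (a, b) := by
  rw [hmul, hmul, th_zero]
  congr 1
  ext
  · simp
  · simp
    ring

theorem heis_z_mul (φ : F × F → P)
    (hmul : ∀ a b c d : F, φ (a, b) * φ (c, d) = φ (a + c, b + d + th m a * c)) (b e : F) :
    φ (0, b) * φ (0, e) = φ (0, b + e) := by
  rw [hmul, th_zero]
  simp

theorem heis_comm (h : SzHyp F m) (φ : F × F → P)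
    (hmul : ∀ a b c d : F, φ (a, b) * φ (c, d) = φ (a + c, b + d + th m a * c)) (a b c d : F) :
    φ (a, b) * φ (c, d) = φ (c, d) * φ (a, b) * φ (0, th m a * c + th m c * a) := by
  have h2 := h.two
  rw [hmul, hmul, hmul]
  congr 1
  ext
  · simp
    ring
  · simp
    linear_combination (-(th m c * a)) * h2

/-- Central elements act on irreducible characters through a scalar. -/
theorem irr_central_mul {ψ : P → ℂ} (hψ : Cfsg.IsIrrCharacter P ψ) (c : P)
    (hc : ∀ g : P, g * c = c * g) (g : P) : ψ (c * g) = ψ c / ψ 1 * ψ g := by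
  have h1 : ψ 1 ≠ 0 := Cfsg.Agent.Lib.helper4.irr_degree_ne_zero hψ
  obtain ⟨n, ρ, hirr, rfl⟩ := hψ
  obtain ⟨t, -, ht⟩ := Cfsg.Agent.Lib.helper79.central_character_mul ρ hirr c hc
  have h2 := ht 1
  rw [mul_one] at h2
  rw [ht g, h2]
  field_simp

theorem irr_vanish (h : SzHyp F m) (φ : F × F → P) (hφ : Function.Surjective φ)
    (hmul : ∀ a b c d : F, φ (a, b) * φ (c, d) = φ (a + c, b + d + th m a * c))
    {ψ : P → ℂ} (hψ : Cfsg.IsIrrCharacter P ψ) (a b c : F)
    (hne : ψ (φ (0, th m a * c + th m c * a)) / ψ 1 ≠ 1) : ψ (φ (a, b)) = 0 := by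
  have hcf := Cfsg.Agent.Lib.helper4.isClassFunction_of_isIrrCharacter hψ
  have h1 := hcf (φ (a, b)) (φ (c, 0))
  have hz : ∀ g : P, g * φ (0, th m a * c + th m c * a) = φ (0, th m a * c + th m c * a) * g := by
    intro g
    obtain ⟨⟨x, y⟩, rfl⟩ := hφ g
    exact heis_central φ hmul x y _
  have h3 := heis_comm h φ hmul c 0 a b
  rw [add_comm (th m c * a)] at h3
  have h4 : φ (c, 0) * φ (a, b) * (φ (c, 0))⁻¹ = φ (0, th m a * c + th m c * a) * φ (a, b) := by
    rw [h3, hz (φ (a, b) * φ (c, 0)), mul_assoc, mul_assoc, mul_inv_cancel, mul_one]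
  rw [h4, irr_central_mul hψ _ hz] at h1
  have h5 : (ψ (φ (0, th m a * c + th m c * a)) / ψ 1 - 1) * ψ (φ (a, b)) = 0 := by
    linear_combination h1
  rcases mul_eq_zero.1 h5 with h6 | h6
  · exact absurd (sub_eq_zero.1 h6) hne
  · exact h6

variable [CharP F 2] [Fintype P]

/-- An irreducible character of the Suzuki 2-group lying over the character `lam2` of the
centre has degree at least `2^m`. -/
theorem irr_degree_ge (h : SzHyp F m) (hF : Fintype.card F = 2 ^ (2 * m + 1))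
    (φ : F × F → P) (hφ : Function.Bijective φ)
    (hmul : ∀ a b c d : F, φ (a, b) * φ (c, d) = φ (a + c, b + d + th m a * c))
    {ψ : P → ℂ} (hψ : Cfsg.IsIrrCharacter P ψ)
    (hμ : ∀ b : F, ψ (φ (0, b)) / ψ 1 = lam2 F b) :
    ∃ n : ℕ, ψ 1 = n ∧ 2 ^ m ≤ n := by
  classical
  obtain ⟨n, hn0, hn⟩ := Cfsg.Agent.Lib.helper4.exists_pos_nat_degree hψ
  refine ⟨n, hn, ?_⟩
  have hnorm : ∀ g : P, ‖ψ g‖ ≤ n := by
    obtain ⟨n', ρ, hirr, rfl⟩ := hψ
    intro g
    have h1 := Cfsg.Agent.Lib.helper4.norm_char_le ρ g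
    have h2 : ρ.character 1 = (Module.finrank ℂ (Fin n' → ℂ) : ℂ) := Representation.char_one ρ
    rw [hn] at h2
    have h3 : (n : ℝ) = (Module.finrank ℂ (Fin n' → ℂ) : ℝ) := by exact_mod_cast h2
    rw [h3]
    exact h1
  have hinner := Cfsg.Agent.Lib.helper4.classInner_irr_self hψ
  unfold Cfsg.classInner at hinner
  have hcard : Nat.card P = (Fintype.card F) ^ 2 := by
    rw [← Nat.card_congr (Equiv.ofBijective φ hφ), Nat.card_prod, Nat.card_eq_fintype_card]
    ring
  have hne : (Nat.card P : ℂ) ≠ 0 := by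
    rw [hcard]
    have : Fintype.card F ≠ 0 := Fintype.card_ne_zero
    exact_mod_cast pow_ne_zero 2 this
  have hsum : ∑ g : P, ψ g * conj (ψ g) = (Nat.card P : ℂ) := by
    rw [inv_mul_eq_iff_eq_mul₀ hne, mul_one] at hinner
    exact hinner
  have hsumR : ∑ ab : F × F, ‖ψ (φ ab)‖ ^ 2 = ((Fintype.card F : ℝ)) ^ 2 := by
    have h1 : ∑ g : P, ψ g * conj (ψ g) = ∑ ab : F × F, ((‖ψ (φ ab)‖ ^ 2 : ℝ) : ℂ) := by
      rw [← (Equiv.ofBijective φ hφ).sum_comp]
      refine Finset.sum_congr rfl fun ab _ => ?_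
      rw [Complex.mul_conj, Complex.normSq_eq_norm_sq]
      simp
    rw [h1, hcard] at hsum
    exact_mod_cast hsum
  have hvan : ∀ a b : F, a ≠ 0 → a ≠ 1 → ψ (φ (a, b)) = 0 := by
    intro a b ha0 ha1
    by_contra hne'
    have h1 : ∀ c, lam2 F (th m a * c + th m c * a) = 1 := by
      intro c
      by_contra hc
      exact hne' (irr_vanish h φ hφ.surjective hmul hψ a b c (by rw [hμ]; exact hc))
    rcases lam2_rad F h a h1 with h0 | h1
    · exact ha0 h0
    · exact ha1 h1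
  have hsq : ∀ g : P, ‖ψ g‖ ^ 2 ≤ (n : ℝ) ^ 2 := fun g =>
    pow_le_pow_left₀ (norm_nonneg _) (hnorm g) 2
  have hbound : ∑ ab : F × F, ‖ψ (φ ab)‖ ^ 2 ≤ 2 * (Fintype.card F : ℝ) * (n : ℝ) ^ 2 := by
    calc ∑ ab : F × F, ‖ψ (φ ab)‖ ^ 2
        ≤ ∑ ab : F × F, ((if ab.1 = 0 then (n : ℝ) ^ 2 else 0)
            + (if ab.1 = 1 then (n : ℝ) ^ 2 else 0)) := by
          refine Finset.sum_le_sum fun ab _ => ?_
          obtain ⟨a, b⟩ := ab
          have hn2 : (0 : ℝ) ≤ (n : ℝ) ^ 2 := by positivity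
          by_cases h0 : a = 0
          · simp only [h0, if_true]
            have := hsq (φ (0, b))
            split_ifs <;> linarith
          · by_cases h1 : a = 1
            · simp only [h1, if_true]
              have := hsq (φ (1, b))
              split_ifs <;> linarith
            · rw [hvan a b h0 h1]
              simp [h0, h1]
      _ = 2 * (Fintype.card F : ℝ) * (n : ℝ) ^ 2 := by
          have e0 : ∀ t : F, ∑ x : F, ∑ _y : F, (if x = t then (n : ℝ) ^ 2 else 0)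
              = (Fintype.card F : ℝ) * (n : ℝ) ^ 2 := by
            intro t
            rw [Finset.sum_comm]
            simp [Finset.sum_ite_eq']
          rw [Finset.sum_add_distrib, Fintype.sum_prod_type, Fintype.sum_prod_type, e0, e0]
          ring
  have hqpos : (0 : ℝ) < (Fintype.card F : ℝ) := by
    have : 0 < Fintype.card F := Fintype.card_pos
    exact_mod_cast this
  have h6 : (Fintype.card F : ℝ) ≤ 2 * (n : ℝ) ^ 2 := by
    rw [hsumR] at hbound
    nlinarith
  have hq : (Fintype.card F : ℝ) = 2 * ((2 : ℝ) ^ m) ^ 2 := by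
    rw [hF]
    push_cast
    ring
  have h7 : ((2 : ℝ) ^ m) ^ 2 ≤ (n : ℝ) ^ 2 := by linarith
  have h8 : (2 : ℝ) ^ m ≤ (n : ℝ) :=
    (pow_le_pow_iff_left₀ (by positivity) (by positivity) (by norm_num)).1 h7
  exact_mod_cast h8

theorem irr_mu_add (φ : F × F → P) (hφ : Function.Surjective φ)
    (hmul : ∀ a b c d : F, φ (a, b) * φ (c, d) = φ (a + c, b + d + th m a * c))
    {ψ : P → ℂ} (hψ : Cfsg.IsIrrCharacter P ψ) (b e : F) :
    ψ (φ (0, b + e)) / ψ 1 = ψ (φ (0, b)) / ψ 1 * (ψ (φ (0, e)) / ψ 1) := by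
  have hz : ∀ g : P, g * φ (0, b) = φ (0, b) * g := by
    intro g
    obtain ⟨⟨x, y⟩, rfl⟩ := hφ g
    exact heis_central φ hmul x y _
  have h1 := irr_central_mul hψ (φ (0, b)) hz (φ (0, e))
  rw [heis_z_mul φ hmul] at h1
  rw [h1]
  ring

theorem irr_sum_center (φ : F × F → P) (hφ : Function.Surjective φ)
    (hmul : ∀ a b c d : F, φ (a, b) * φ (c, d) = φ (a + c, b + d + th m a * c))
    {ψ : P → ℂ} (hψ : Cfsg.IsIrrCharacter P ψ) :
    ∃ r : ℝ, 0 ≤ r ∧ ∑ b : F, ψ (φ (0, b)) = (r : ℂ) := by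
  have h1 : ψ 1 ≠ 0 := Cfsg.Agent.Lib.helper4.irr_degree_ne_zero hψ
  have hsum : ∑ b : F, ψ (φ (0, b)) = ψ 1 * ∑ b : F, ψ (φ (0, b)) / ψ 1 := by
    rw [Finset.mul_sum]
    refine Finset.sum_congr rfl fun b _ => ?_
    field_simp
  by_cases hex : ∃ b₀ : F, ψ (φ (0, b₀)) / ψ 1 ≠ 1
  · refine ⟨0, le_rfl, ?_⟩
    rw [hsum, sum_addChar_eq_zero _ (irr_mu_add φ hφ hmul hψ) hex]
    simp
  · push Not at hex
    obtain ⟨n, -, hn⟩ := Cfsg.Agent.Lib.helper4.exists_pos_nat_degree hψ
    refine ⟨n * Fintype.card F, by positivity, ?_⟩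
    rw [hsum, Finset.sum_congr rfl (fun b _ => hex b), hn]
    simp

theorem irr_sum_lam (h : SzHyp F m) (hF : Fintype.card F = 2 ^ (2 * m + 1))
    (φ : F × F → P) (hφ : Function.Bijective φ)
    (hmul : ∀ a b c d : F, φ (a, b) * φ (c, d) = φ (a + c, b + d + th m a * c))
    {ψ : P → ℂ} (hψ : Cfsg.IsIrrCharacter P ψ) :
    ∃ N : ℕ, ∑ b : F, lam2 F b * ψ (φ (0, b)) = (Fintype.card F : ℂ) * N ∧
      (N = 0 ∨ 2 ^ m ≤ N) := by
  have h1 : ψ 1 ≠ 0 := Cfsg.Agent.Lib.helper4.irr_degree_ne_zero hψ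
  have hsum : ∑ b : F, lam2 F b * ψ (φ (0, b))
      = ψ 1 * ∑ b : F, lam2 F b * (ψ (φ (0, b)) / ψ 1) := by
    rw [Finset.mul_sum]
    refine Finset.sum_congr rfl fun b _ => ?_
    field_simp
  have hν : ∀ a b : F, lam2 F (a + b) * (ψ (φ (0, a + b)) / ψ 1)
      = lam2 F a * (ψ (φ (0, a)) / ψ 1) * (lam2 F b * (ψ (φ (0, b)) / ψ 1)) := by
    intro a b
    rw [lam2_add, irr_mu_add φ hφ.surjective hmul hψ]
    ring
  by_cases hex : ∃ b₀ : F, lam2 F b₀ * (ψ (φ (0, b₀)) / ψ 1) ≠ 1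
  · refine ⟨0, ?_, Or.inl rfl⟩
    rw [hsum, sum_addChar_eq_zero (fun b => lam2 F b * (ψ (φ (0, b)) / ψ 1)) hν hex]
    simp
  · push Not at hex
    have hμ : ∀ b : F, ψ (φ (0, b)) / ψ 1 = lam2 F b := by
      intro b
      have h3 := hex b
      have h4 : lam2 F b * lam2 F b = 1 := by
        rw [← lam2_add, CharTwo.add_self_eq_zero, lam2_zero]
      calc ψ (φ (0, b)) / ψ 1 = (lam2 F b * lam2 F b) * (ψ (φ (0, b)) / ψ 1) := by
            rw [h4, one_mul]
        _ = lam2 F b * (lam2 F b * (ψ (φ (0, b)) / ψ 1)) := by ring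
        _ = lam2 F b := by rw [h3, mul_one]
    obtain ⟨n, hn, hge⟩ := irr_degree_ge h hF φ hφ hmul hψ hμ
    refine ⟨n, ?_, Or.inr hge⟩
    rw [hsum, Finset.sum_congr rfl (fun b _ => hex b), hn]
    simp
    ring

theorem list_sum_center (φ : F × F → P) (hφ : Function.Surjective φ)
    (hmul : ∀ a b c d : F, φ (a, b) * φ (c, d) = φ (a + c, b + d + th m a * c))
    (l : List (Cfsg.IrrCharacter P)) :
    ∃ r : ℝ, 0 ≤ r ∧ ∑ b : F, (l.map Subtype.val).sum (φ (0, b)) = (r : ℂ) := by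
  induction l with
  | nil => exact ⟨0, le_rfl, by simp⟩
  | cons ψ l ih =>
    obtain ⟨r, hr, hr'⟩ := ih
    obtain ⟨r₁, hr₁, hr₁'⟩ := irr_sum_center φ hφ hmul ψ.2
    refine ⟨r₁ + r, add_nonneg hr₁ hr, ?_⟩
    simp only [List.map_cons, List.sum_cons, Pi.add_apply, Finset.sum_add_distrib]
    rw [hr', hr₁']
    push_cast
    rfl

theorem list_sum_lam (h : SzHyp F m) (hF : Fintype.card F = 2 ^ (2 * m + 1))
    (φ : F × F → P) (hφ : Function.Bijective φ)
    (hmul : ∀ a b c d : F, φ (a, b) * φ (c, d) = φ (a + c, b + d + th m a * c))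
    (l : List (Cfsg.IrrCharacter P)) :
    ∃ N : ℕ, ∑ b : F, lam2 F b * (l.map Subtype.val).sum (φ (0, b)) = (Fintype.card F : ℂ) * N ∧
      (N = 0 ∨ 2 ^ m ≤ N) := by
  induction l with
  | nil => exact ⟨0, by simp, Or.inl rfl⟩
  | cons ψ l ih =>
    obtain ⟨N, hN, hN'⟩ := ih
    obtain ⟨N₁, hN₁, hN₁'⟩ := irr_sum_lam h hF φ hφ hmul ψ.2
    refine ⟨N₁ + N, ?_, ?_⟩
    · simp only [List.map_cons, List.sum_cons, Pi.add_apply, mul_add, Finset.sum_add_distrib]
      rw [hN, hN₁]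
      push_cast
      ring
    · rcases hN₁' with h1 | h1
      · rcases hN' with h2 | h2
        · left
          omega
        · right
          omega
      · right
        omega

/-- **Landazuri–Seitz bound for Suzuki type groups.** Let `P` be a Suzuki 2-group,
parametrised by `F × F`, `|F| = 2^(2m+1)`, mapping to a group `G` in which all the images of
the non-trivial central elements `(0, b)` are conjugate. A character of `G` which is not
constant on the centre of `P` has degree at least `(q - 1) 2^m`. -/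
theorem suzuki_degree_bound {G : Type*} [Group G] (h : SzHyp F m)
    (hF : Fintype.card F = 2 ^ (2 * m + 1)) (φ : F × F → P) (hφ : Function.Bijective φ)
    (hmul : ∀ a b c d : F, φ (a, b) * φ (c, d) = φ (a + c, b + d + th m a * c))
    (f : P →* G) {χ : G → ℂ} (hχ : Cfsg.IsCharacter G χ)
    (hconj : ∀ b b' : F, b ≠ 0 → b' ≠ 0 → IsConj (f (φ (0, b))) (f (φ (0, b'))))
    (hne : ∃ b : F, χ (f (φ (0, b))) ≠ χ 1) :
    ∃ k : ℕ, χ 1 = k ∧ (2 ^ (2 * m + 1) - 1) * 2 ^ m ≤ k := by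
  classical
  obtain ⟨k, hk⟩ := Cfsg.Agent.Lib.helper4.exists_nat_degree hχ
  refine ⟨k, hk, ?_⟩
  have hχP := Cfsg.Agent.Lib.helper4.isCharacter_comp f hχ
  obtain ⟨l, hl⟩ := Cfsg.Agent.Lib.helper4.exists_irr_list_of_isCharacter hχP
  obtain ⟨r, hr0, hr⟩ := list_sum_center φ hφ.surjective hmul l
  obtain ⟨N, hN, hN'⟩ := list_sum_lam h hF φ hφ hmul l
  rw [← hl] at hr hN
  have hcf := Cfsg.Agent.Lib.helper4.isClassFunction_of_isCharacter hχ
  have hconst : ∀ b : F, b ≠ 0 → χ (f (φ (0, b))) = χ (f (φ (0, 1))) := fun b hb =>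
    Cfsg.Agent.Lib.helper4.IsClassFunction_eq_of_isConj hcf (hconj b 1 hb one_ne_zero)
  have h0 : χ (f (φ (0, 0))) = k := by rw [heis_one φ hmul, map_one, hk]
  have hS1 : ∑ b : F, χ (f (φ (0, b)))
      = k + ((Fintype.card F : ℂ) - 1) * χ (f (φ (0, 1))) := by
    rw [← Finset.add_sum_erase Finset.univ _ (Finset.mem_univ (0 : F)), h0]
    congr 1
    rw [Finset.sum_congr rfl (fun b hb => hconst b (Finset.ne_of_mem_erase hb)),
      Finset.sum_const, Finset.card_erase_of_mem (Finset.mem_univ _), Finset.card_univ,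
      nsmul_eq_mul, Nat.cast_sub Fintype.card_pos, Nat.cast_one]
  have hlam0 : ∑ b : F, lam2 F b = 0 := sum_addChar_eq_zero _ (lam2_add F) (lam2_ne_one F)
  have hS2 : ∑ b : F, lam2 F b * χ (f (φ (0, b))) = k - χ (f (φ (0, 1))) := by
    rw [← Finset.add_sum_erase Finset.univ _ (Finset.mem_univ (0 : F)), h0, lam2_zero, one_mul]
    have e1 : ∑ b ∈ Finset.univ.erase (0 : F), lam2 F b * χ (f (φ (0, b)))
        = (∑ b ∈ Finset.univ.erase (0 : F), lam2 F b) * χ (f (φ (0, 1))) := by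
      rw [Finset.sum_mul]
      exact Finset.sum_congr rfl (fun b hb => by rw [hconst b (Finset.ne_of_mem_erase hb)])
    have e2 : ∑ b ∈ Finset.univ.erase (0 : F), lam2 F b = -1 := by
      have e3 := Finset.add_sum_erase Finset.univ (lam2 F) (Finset.mem_univ (0 : F))
      rw [hlam0, lam2_zero] at e3
      linear_combination e3
    rw [e1, e2]
    ring
  have hkc : (k : ℂ) - χ (f (φ (0, 1))) = (Fintype.card F : ℂ) * N := by
    rw [← hS2]
    exact hN
  have hkc2 : (k : ℂ) + ((Fintype.card F : ℂ) - 1) * χ (f (φ (0, 1))) = r := by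
    rw [← hS1]
    exact hr
  have hNne : N ≠ 0 := by
    rintro rfl
    obtain ⟨b, hb⟩ := hne
    have hb0 : b ≠ 0 := by
      rintro rfl
      exact hb (by rw [h0, hk])
    apply hb
    rw [hconst b hb0, hk]
    simp only [Nat.cast_zero, mul_zero] at hkc
    linear_combination -hkc
  have hNge : 2 ^ m ≤ N := hN'.resolve_left hNne
  have hreal : (Fintype.card F : ℝ) * k - ((Fintype.card F : ℝ) - 1) * (Fintype.card F * N)
      = r := by
    have e : ((Fintype.card F : ℂ) * k - ((Fintype.card F : ℂ) - 1) * (Fintype.card F * N))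
        = (r : ℂ) := by
      rw [← hkc2]
      linear_combination ((Fintype.card F : ℂ) - 1) * hkc
    exact_mod_cast e
  have hq1 : 1 ≤ Fintype.card F := Fintype.card_pos
  have hqpos : (0 : ℝ) < (Fintype.card F : ℝ) := by exact_mod_cast hq1
  have h5 : ((Fintype.card F : ℝ) - 1) * N ≤ k := by
    have h6 : (Fintype.card F : ℝ) * (((Fintype.card F : ℝ) - 1) * N)
        ≤ (Fintype.card F : ℝ) * k := by
      linarith
    exact le_of_mul_le_mul_left h6 hqpos
  have h7 : (Fintype.card F - 1) * N ≤ k := by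
    have h' : (((Fintype.card F - 1 : ℕ) : ℝ)) * N ≤ k := by
      rw [Nat.cast_sub hq1]
      simpa using h5
    exact_mod_cast h'
  calc (2 ^ (2 * m + 1) - 1) * 2 ^ m = (Fintype.card F - 1) * 2 ^ m := by rw [hF]
    _ ≤ (Fintype.card F - 1) * N := Nat.mul_le_mul_left _ hNge
    _ ≤ k := h7

end Heis

end Cfsg.Agent.Lib.helper44
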