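/-
Fixity-two actions of the Suzuki group (in helper8's ovoid model `Cfsg.Sz F m`): if `Sz(q)` acts
transitively on a finite set such that every non-identity element fixes at most two points and
some element fixes exactly two, then the point stabiliser is a Borel subgroup (degree `q^2+1`,
2-transitive) or a split torus of order `q-1`.
-/
import Cfsg.Agent.Lib.helper8.SzSub5

set_option autoImplicit false

namespace Cfsg.Agent.Lib.helper44

open Cfsg.Agent.Lib.helper8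
open Matrix

section Generic

variable {G Ω : Type*} [Group G] [MulAction G Ω]

/-- Pigeonhole for a type with at most two elements. -/
theorem three_of_card_le_two {A : Type*} [Finite A] (h : Nat.card A ≤ 2) (a b c : A) :
    a = b ∨ a = c ∨ b = c := by
  by_contra hne
  simp only [not_or] at hne
  obtain ⟨h1, h2, h3⟩ := hne
  have hinj : Function.Injective (![a, b, c] : Fin 3 → A) := by
    intro i j hij
    fin_cases i <;> fin_cases j <;> simp_all
  have := Nat.card_le_card_of_injective _ hinj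
  simp at this
  omega

theorem fixedBy_three [Finite Ω] {g : G} (h : Nat.card (MulAction.fixedBy Ω g) ≤ 2) {a b c : Ω}
    (ha : g • a = a) (hb : g • b = b) (hc : g • c = c) : a = b ∨ a = c ∨ b = c := by
  have := three_of_card_le_two h ⟨a, ha⟩ ⟨b, hb⟩ ⟨c, hc⟩
  simpa [Subtype.ext_iff] using this

theorem sq_smul_eq [Finite Ω] {g : G} (h : Nat.card (MulAction.fixedBy Ω g) ≤ 2) {α : Ω} {x : G}
    (h0 : g • α = α) (h1 : g • (x • α) = x • α) (h2 : g • ((x * x) • α) = (x * x) • α) :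
    (x * x) • α = α := by
  rcases fixedBy_three h h0 h1 h2 with e | e | e
  · rw [mul_smul, ← e, ← e]
  · exact e.symm
  · have e' : α = x • α := by
      have := congrArg (fun ω => x⁻¹ • ω) e
      simpa [mul_smul] using this
    rw [mul_smul, ← e', ← e']

theorem inv_mul_smul_eq [Finite Ω] {g : G} (h : Nat.card (MulAction.fixedBy Ω g) ≤ 2) {α : Ω}
    {x y : G} (h0 : g • α = α) (h1 : g • (x • α) = x • α) (h2 : g • (y • α) = y • α)
    (hx : x • α ≠ α) (hy : y • α ≠ α) : (x⁻¹ * y) • α = α := by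
  rcases fixedBy_three h h0 h1 h2 with e | e | e
  · exact absurd e.symm hx
  · exact absurd e.symm hy
  · rw [mul_smul, ← e, inv_smul_smul]

theorem exists_card_stab [Finite G] [Finite Ω] (X : Subgroup G) {g : G}
    (hg : Nat.card (MulAction.fixedBy Ω g) ≤ 2) (α : Ω)
    (hX : ∀ x ∈ X, g • (x • α) = x • α) :
    ∃ k, (k = 1 ∨ k = 2) ∧ Nat.card (MulAction.stabilizer ↥X α) * k = Nat.card X := by
  refine ⟨(MulAction.stabilizer ↥X α).index, ?_, Subgroup.card_mul_index _⟩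
  rw [MulAction.index_stabilizer]
  have hsub : MulAction.orbit ↥X α ⊆ MulAction.fixedBy Ω g := by
    rintro _ ⟨x, rfl⟩
    exact hX x.1 x.2
  have h1 : (MulAction.orbit ↥X α).ncard ≤ 2 := by
    calc (MulAction.orbit ↥X α).ncard ≤ (MulAction.fixedBy Ω g).ncard :=
          Set.ncard_le_ncard hsub (Set.toFinite _)
      _ = Nat.card (MulAction.fixedBy Ω g) := (Nat.card_coe_set_eq _).symm
      _ ≤ 2 := hg
  have h2 : 0 < (MulAction.orbit ↥X α).ncard := by
    rw [Set.ncard_pos (Set.toFinite _)]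
    exact MulAction.nonempty_orbit α
  omega

theorem smul_eq_of_odd [Finite G] [Finite Ω] (X : Subgroup G) {g : G}
    (hg : Nat.card (MulAction.fixedBy Ω g) ≤ 2) (α : Ω)
    (hX : ∀ x ∈ X, g • (x • α) = x • α) (hodd : ¬ 2 ∣ Nat.card X) : ∀ x ∈ X, x • α = α := by
  obtain ⟨k, hk, hcard⟩ := exists_card_stab X hg α hX
  have hk1 : k = 1 := by
    rcases hk with rfl | rfl
    · rfl
    · exfalso
      exact hodd ⟨_, by rw [← hcard, mul_comm]⟩
  subst hk1
  rw [mul_one] at hcard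
  have htop : MulAction.stabilizer ↥X α = ⊤ := Subgroup.eq_top_of_card_eq _ hcard
  intro x hx
  have hmem : (⟨x, hx⟩ : ↥X) ∈ MulAction.stabilizer ↥X α := by rw [htop]; exact Subgroup.mem_top _
  exact hmem

theorem exists_invol_fix [Finite G] [Finite Ω] (X : Subgroup G) {g : G}
    (hg : Nat.card (MulAction.fixedBy Ω g) ≤ 2) (α : Ω)
    (hX : ∀ x ∈ X, g • (x • α) = x • α) (h4 : 4 ∣ Nat.card X) :
    ∃ y : G, y ≠ 1 ∧ y * y = 1 ∧ y • α = α := by
  obtain ⟨k, hk, hcard⟩ := exists_card_stab X hg α hX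
  have h2 : 2 ∣ Nat.card (MulAction.stabilizer ↥X α) := by
    rcases hk with rfl | rfl
    · rw [mul_one] at hcard
      rw [hcard]
      exact dvd_trans (by norm_num) h4
    · have h4' : 4 ∣ Nat.card (MulAction.stabilizer ↥X α) * 2 := hcard ▸ h4
      omega
  have : Fact (Nat.Prime 2) := ⟨Nat.prime_two⟩
  obtain ⟨y, hy⟩ := exists_prime_orderOf_dvd_card' 2 h2
  refine ⟨(y : ↥X).1, ?_, ?_, y.2⟩
  · intro e
    have e' : y = 1 := Subtype.ext (Subtype.ext e)
    rw [e', orderOf_one] at hy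
    omega
  · have hy2 : y ^ 2 = 1 := by rw [← hy]; exact pow_orderOf_eq_one y
    have hy3 : ((y ^ 2 : ↥(MulAction.stabilizer ↥X α)) : ↥X).1 = 1 := by rw [hy2]; rfl
    rw [← hy3, pow_two]
    rfl

/-- A finite group which is the union of the conjugates of an abelian subgroup `H` that contains
the centraliser of each of its non-trivial elements is equal to `H`. -/
theorem le_of_conj_into [Finite G] (H L : Subgroup G)
    (hab : ∀ a ∈ H, ∀ b ∈ H, a * b = b * a)
    (hcent : ∀ u ∈ H, u ≠ 1 → ∀ x ∈ L, x * u = u * x → x ∈ H)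
    (hconj : ∀ x ∈ L, x ≠ 1 → ∃ l ∈ L, l * x * l⁻¹ ∈ H) : L ≤ H := by
  classical
  set U : Subgroup ↥L := H.subgroupOf L with hU
  have hUc : ∀ u ∈ U, u ≠ 1 → Subgroup.centralizer ({u} : Set ↥L) = U := by
    intro u hu hu1
    ext x
    rw [Subgroup.mem_centralizer_iff]
    constructor
    · intro hx
      have h1 : x * u = u * x := (hx u rfl).symm
      rw [hU, Subgroup.mem_subgroupOf]
      exact hcent u.1 (Subgroup.mem_subgroupOf.1 hu) (fun e => hu1 (Subtype.ext e)) x.1 x.2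
        (congrArg Subtype.val h1)
    · intro hx y hy
      rw [Set.mem_singleton_iff.1 hy]
      apply Subtype.ext
      exact hab u.1 (Subgroup.mem_subgroupOf.1 hu) x.1 (Subgroup.mem_subgroupOf.1 hx)
  have hcount := card_conj_into U hUc
  have hall : Nat.card {g : ↥L // g ≠ 1 ∧ ∃ x : ↥L, x * g * x⁻¹ ∈ U} = Nat.card ↥L - 1 := by
    have e : {g : ↥L // g ≠ 1 ∧ ∃ x : ↥L, x * g * x⁻¹ ∈ U} ≃ {g : ↥L // g ≠ 1} :=
      Equiv.subtypeEquivRight (fun g => ⟨fun hg => hg.1, fun hg => ⟨hg, by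
        obtain ⟨l, hl, hmem⟩ := hconj g.1 g.2 (fun e => hg (Subtype.ext e))
        exact ⟨⟨l, hl⟩, Subgroup.mem_subgroupOf.2 hmem⟩⟩⟩)
    rw [Nat.card_congr e]
    have := Fintype.ofFinite ↥L
    rw [Nat.card_eq_fintype_card, Fintype.card_subtype_compl, Nat.card_eq_fintype_card]
    simp
  rw [hall] at hcount
  have hN : Nat.card U ≤ Nat.card (Subgroup.normalizer (U : Set ↥L)) :=
    Subgroup.card_le_of_le Subgroup.le_normalizer
  have hL1 : 1 ≤ Nat.card ↥L := Nat.card_pos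
  have hU1 : 1 ≤ Nat.card U := Nat.card_pos
  have hle : Nat.card ↥L ≤ Nat.card U := by
    obtain ⟨a, ha⟩ : ∃ a, Nat.card ↥L = a + 1 := ⟨Nat.card ↥L - 1, by omega⟩
    obtain ⟨b, hb⟩ : ∃ b, Nat.card U = b + 1 := ⟨Nat.card U - 1, by omega⟩
    rw [ha, hb] at hcount
    simp only [Nat.add_sub_cancel] at hcount
    rw [ha, hb]
    rw [hb] at hN
    have h3 := Nat.mul_le_mul_left a hN
    rw [hcount] at h3
    have h4 : a * b + a ≤ a * b + b := by
      calc a * b + a = a * (b + 1) := by ring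
        _ ≤ b * (a + 1) := h3
        _ = a * b + b := by ring
    omega
  have htop : U = ⊤ :=
    Subgroup.eq_top_of_card_eq U (le_antisymm (Subgroup.card_le_card_group U) hle)
  intro x hx
  have hmem : (⟨x, hx⟩ : ↥L) ∈ U := by rw [htop]; exact Subgroup.mem_top _
  exact Subgroup.mem_subgroupOf.1 hmem

end Generic

section Sz

variable {F : Type*} [Field F] [Fintype F] {m : ℕ} {Ω : Type*} [Fintype Ω]
  [MulAction ↥(Cfsg.Sz F m) Ω]

/-- Case of a point stabiliser containing an involution: it is the stabiliser of the ovoid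
point at infinity. -/
theorem stab_eq_of_invol (hm : 1 ≤ m) (hF : Fintype.card F = 2 ^ (2 * m + 1))
    (hfix : ∀ g : ↥(Cfsg.Sz F m), g ≠ 1 → Nat.card (MulAction.fixedBy Ω g) ≤ 2)
    (α : Ω) {b : F} (hb : b ≠ 0) (hbα : gT (szHyp_of_card hF) 0 b • α = α)
    (hne : ∃ s : ↥(Cfsg.Sz F m), s • α ≠ α) :
    ∀ s : ↥(Cfsg.Sz F m),
      s • α = α ↔ s.1 • (pinf : Projectivization F (Fin 4 → F)) = pinf := by
  classical
  set h := szHyp_of_card hF with hh
  have h2 := h.two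
  have ht1 : gT h 0 b ≠ 1 := by
    intro e
    have e' : sT m 0 b = 1 := congrArg Subtype.val e
    exact hb ((sT_eq_one_iff h).1 e').2
  have hfb := hfix _ ht1
  have hcommT : ∀ a c : F, gT h a c * gT h 0 b = gT h 0 b * gT h a c :=
    fun a c => Subtype.ext (sT_central h a c b)
  have hfixT : ∀ a c : F, gT h 0 b • (gT h a c • α) = gT h a c • α := by
    intro a c
    rw [← mul_smul, ← hcommT, mul_smul, hbα]
  -- the centre of the Sylow subgroup fixes `α`
  have hZ : ∀ c : F, gT h 0 c • α = α := by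
    intro c
    obtain ⟨a, ha⟩ := kappa_surjective h c
    simp only at ha
    have e : gT h a 0 * gT h a 0 = gT h 0 c := by
      rw [gT_sq h, mul_comm, ha]
    rw [← e]
    refine sq_smul_eq hfb hbα (hfixT a 0) ?_
    rw [e]
    exact hfixT 0 c
  -- the Borel subgroup preserves the fixed points of the centre
  have hB : ∀ x : ↥(Cfsg.Sz F m), x.1 • (pinf : Projectivization F (Fin 4 → F)) = pinf →
      gT h 0 b • (x • α) = x • α := by
    intro x hx
    have hxinv : (x⁻¹).1 • (pinf : Projectivization F (Fin 4 → F)) = pinf := by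
      show x.1⁻¹ • (pinf : Projectivization F (Fin 4 → F)) = pinf
      rw [inv_smul_eq_iff, hx]
    obtain ⟨l, -, hl⟩ := conj_T0_of_fix hm hF (x⁻¹).2 hxinv
    have e : x⁻¹ * gT h 0 b * x = gT h 0 (l * b) := by
      apply Subtype.ext
      have h3 := hl b
      show x.1⁻¹ * sT m 0 b * x.1 = sT m 0 (l * b)
      rw [← h3]
      show x.1⁻¹ * sT m 0 b * x.1 = x.1⁻¹ * sT m 0 b * (x.1⁻¹)⁻¹
      rw [inv_inv]
    have e2 : gT h 0 b * x = x * gT h 0 (l * b) := by rw [← e]; group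
    rw [← mul_smul, e2, mul_smul, hZ]
  have hpf : ∀ w : Fˣ, (gD h w).1 • (pinf : Projectivization F (Fin 4 → F)) = pinf :=
    fun w => sD_pinf m w
  -- the torus fixes `α`
  have hD : ∀ z : Fˣ, gD h z • α = α := by
    intro z
    obtain ⟨v, hv⟩ := exists_units_sq hF z
    have e : gD h v⁻¹ * gD h v⁻¹ = gD h z := by rw [← map_mul, hv]
    rw [← e]
    refine sq_smul_eq hfb hbα (hB _ (hpf _)) (hB _ ?_)
    rw [e]
    exact hpf z
  -- all translations fix `α`
  have hT : ∀ a c : F, gT h a c • α = α := by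
    have hex : ∃ a₀ b₀ : F, a₀ ≠ 0 ∧ gT h a₀ b₀ • α = α := by
      by_cases h1 : gT h 1 0 • α = α
      · exact ⟨1, 0, one_ne_zero, h1⟩
      · obtain ⟨z, hz⟩ := exists_unit_ne_one hm hF
        have ey : gD h z * gT h 1 0 * (gD h z)⁻¹
            = gT h (th m (z : F) * 1) (th m (z : F) * (z : F) ^ 2 * 0) := by
          apply Subtype.ext
          show sD m z * sT m 1 0 * (sD m z)⁻¹ = _
          exact sD_conj_sT h z 1 0
        have hyα : (gD h z * gT h 1 0 * (gD h z)⁻¹) • α ≠ α := by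
          intro e
          apply h1
          rw [mul_smul, mul_smul, inv_smul_eq_iff.2 (hD z).symm] at e
          have e' := congrArg (fun ω => (gD h z)⁻¹ • ω) e
          simp only [inv_smul_smul] at e'
          rw [e', inv_smul_eq_iff, hD]
        have hxy := inv_mul_smul_eq hfb hbα (hfixT 1 0) (by rw [ey]; exact hfixT _ _) h1 hyα
        have e1 : (gT h 1 0)⁻¹ * (gD h z * gT h 1 0 * (gD h z)⁻¹)
            = gT h (1 + th m (z : F) * 1)
              (0 + 1 * th m 1 + th m (z : F) * (z : F) ^ 2 * 0 + th m 1 * (th m (z : F) * 1)) := by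
          rw [ey]
          apply Subtype.ext
          show (sT m 1 0)⁻¹ * sT m _ _ = _
          rw [sT_inv h, sT_mul h]
          rfl
        rw [e1] at hxy
        refine ⟨_, _, ?_, hxy⟩
        intro e0
        rw [mul_one, add_eq_zero_iff_of_two h2] at e0
        have hz1 : (z : F) = 1 := th_inj h (by rw [th_one]; exact e0.symm)
        exact hz (Units.ext hz1)
    obtain ⟨a₀, b₀, ha₀, hab₀⟩ := hex
    intro a c
    exact T_le_of_D h (MulAction.stabilizer ↥(Cfsg.Sz F m) α)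
      (fun z => MulAction.mem_stabilizer_iff.2 (hD z)) ha₀ (MulAction.mem_stabilizer_iff.2 hab₀) a c
  intro s
  constructor
  · intro hs
    by_contra hmove
    obtain ⟨s', hs'⟩ := hne
    apply hs'
    have hle := gen_top hm hF
      ((MulAction.stabilizer ↥(Cfsg.Sz F m) α).map (Cfsg.Sz F m).subtype)
      (fun a c => ⟨gT h a c, hT a c, rfl⟩) (g₀ := s.1) ⟨s, hs, rfl⟩ s.2 hmove
    obtain ⟨y, hy, hys⟩ := hle s'.2
    have hy' : y = s' := Subtype.ext hys
    rw [← hy']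
    exact hy
  · intro hs
    obtain ⟨a, c, z, e⟩ := stab_inf hm hF s.2 hs
    have e' : s = gT h a c * gD h z := Subtype.ext e
    rw [e', mul_smul, hD, hT]

/-- If the point stabiliser is the stabiliser of an ovoid point, the action is the action on the
ovoid. -/
theorem card_and_two_trans (hF : Fintype.card F = 2 ^ (2 * m + 1))
    (htr : MulAction.IsPretransitive ↥(Cfsg.Sz F m) Ω) (α : Ω)
    (hstab : ∀ s : ↥(Cfsg.Sz F m),
      s • α = α ↔ s.1 • (pinf : Projectivization F (Fin 4 → F)) = pinf) :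
    Fintype.card Ω = Fintype.card F ^ 2 + 1 ∧
    ∀ a b c d : Ω, a ≠ b → c ≠ d → ∃ s : ↥(Cfsg.Sz F m), s • a = c ∧ s • b = d := by
  classical
  have h := szHyp_of_card hF
  have key : ∀ s s' : ↥(Cfsg.Sz F m), s • α = s' • α ↔
      s.1 • (pinf : Projectivization F (Fin 4 → F)) = s'.1 • pinf := by
    intro s s'
    have h1 : s • α = s' • α ↔ (s'⁻¹ * s) • α = α := by
      rw [mul_smul, inv_smul_eq_iff]
    have h2 : s.1 • (pinf : Projectivization F (Fin 4 → F)) = s'.1 • pinf ↔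
        (s'⁻¹ * s).1 • (pinf : Projectivization F (Fin 4 → F)) = pinf := by
      show _ ↔ (s'.1⁻¹ * s.1) • (pinf : Projectivization F (Fin 4 → F)) = pinf
      rw [mul_smul, inv_smul_eq_iff]
    rw [h1, h2, hstab]
  have hsur : ∀ ω : Ω, ∃ s : ↥(Cfsg.Sz F m), s • α = ω :=
    fun ω => MulAction.exists_smul_eq _ α ω
  choose σ hσ using hsur
  have hp : ∀ ω, (σ ω).1 • (pinf : Projectivization F (Fin 4 → F)) ∈ Cfsg.suzukiOvoid F m :=
    fun ω => smul_mem_ovoid (σ ω).2 (pinf_mem m)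
  constructor
  · let f : Ω → ↥(Cfsg.suzukiOvoid F m) := fun ω => ⟨(σ ω).1 • pinf, hp ω⟩
    have hinj : Function.Injective f := by
      intro ω ω' e
      have e' : (σ ω).1 • (pinf : Projectivization F (Fin 4 → F)) = (σ ω').1 • pinf :=
        congrArg Subtype.val e
      rw [← hσ ω, ← hσ ω', (key _ _).2 e']
    have hsurj : Function.Surjective f := by
      rintro ⟨p, hp'⟩
      obtain ⟨k, hk, hkp⟩ := exists_to_inf h hp'
      refine ⟨(⟨k, hk⟩ : ↥(Cfsg.Sz F m))⁻¹ • α, ?_⟩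
      apply Subtype.ext
      show (σ _).1 • (pinf : Projectivization F (Fin 4 → F)) = p
      rw [(key _ _).1 (hσ _)]
      show k⁻¹ • (pinf : Projectivization F (Fin 4 → F)) = p
      rw [inv_smul_eq_iff, hkp]
    rw [← Nat.card_eq_fintype_card, Nat.card_congr (Equiv.ofBijective f ⟨hinj, hsurj⟩)]
    exact Cfsg.Agent.S0326.result m
  · intro a b c d hab hcd
    have hne1 : (σ a).1 • (pinf : Projectivization F (Fin 4 → F)) ≠ (σ b).1 • pinf := by
      intro e
      apply hab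
      rw [← hσ a, ← hσ b, (key _ _).2 e]
    have hne2 : (σ c).1 • (pinf : Projectivization F (Fin 4 → F)) ≠ (σ d).1 • pinf := by
      intro e
      apply hcd
      rw [← hσ c, ← hσ d, (key _ _).2 e]
    obtain ⟨k, hk, hk1, hk2⟩ := exists_to_inf_zero h (hp a) (hp b) hne1
    obtain ⟨k', hk', hk1', hk2'⟩ := exists_to_inf_zero h (hp c) (hp d) hne2
    refine ⟨⟨k'⁻¹ * k, mul_mem (inv_mem hk') hk⟩, ?_, ?_⟩
    · rw [← hσ a, ← hσ c, ← mul_smul, key]
      show (k'⁻¹ * k * (σ a).1) • (pinf : Projectivization F (Fin 4 → F)) = (σ c).1 • pinf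
      rw [mul_smul, mul_smul, hk1, inv_smul_eq_iff, hk1']
    · rw [← hσ b, ← hσ d, ← mul_smul, key]
      show (k'⁻¹ * k * (σ b).1) • (pinf : Projectivization F (Fin 4 → F)) = (σ d).1 • pinf
      rw [mul_smul, mul_smul, hk2, inv_smul_eq_iff, hk2']

/-- If no involution fixes a point, then no element without fixed points on the ovoid fixes a
point. -/
theorem fpf_no_fix (hm : 1 ≤ m) (hF : Fintype.card F = 2 ^ (2 * m + 1))
    (hfix : ∀ g : ↥(Cfsg.Sz F m), g ≠ 1 → Nat.card (MulAction.fixedBy Ω g) ≤ 2)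
    (hNoInv : ∀ s : ↥(Cfsg.Sz F m), s ≠ 1 → s * s = 1 → ∀ ω : Ω, s • ω ≠ ω)
    (s : ↥(Cfsg.Sz F m)) (hs : IsFpf m s.1) (ω : Ω) : s • ω ≠ ω := by
  classical
  intro hsω
  obtain ⟨g₁, g₂, hf₁, hf₂, hc₁, hc₂, hn₁, hn₂, hall⟩ := tori_structure hm hF
  have hs1 := fpf_ne_one hs
  have main : ∀ g₀ : ↥(Cfsg.Sz F m), IsFpf m g₀.1 →
      ¬ 2 ∣ Nat.card (Subgroup.centralizer ({g₀} : Set ↥(Cfsg.Sz F m))) →
      Nat.card (Subgroup.normalizer
        ((Subgroup.centralizer ({g₀} : Set ↥(Cfsg.Sz F m)) : Subgroup ↥(Cfsg.Sz F m)) :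
          Set ↥(Cfsg.Sz F m))) =
        4 * Nat.card (Subgroup.centralizer ({g₀} : Set ↥(Cfsg.Sz F m))) →
      (∃ c : ↥(Cfsg.Sz F m), c * s * c⁻¹ ∈ Subgroup.centralizer ({g₀} : Set ↥(Cfsg.Sz F m))) →
      False := by
    rintro g₀ hf₀ hodd hn ⟨c, hc⟩
    have hg'1 : c * s * c⁻¹ ≠ 1 := fun e => hs1 (eq_one_of_conj_eq_one e)
    have hg'ω : (c * s * c⁻¹) • (c • ω) = c • ω := by
      rw [mul_smul, mul_smul, inv_smul_smul, hsω]
    have hfg := hfix _ hg'1
    obtain ⟨-, hcent⟩ := torus_props hm hF g₀ hf₀ _ hc hg'1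
    have hCfix : ∀ x ∈ Subgroup.centralizer ({g₀} : Set ↥(Cfsg.Sz F m)), x • (c • ω) = c • ω := by
      apply smul_eq_of_odd _ hfg (c • ω) _ hodd
      intro x hx
      have hx' : x ∈ Subgroup.centralizer ({c * s * c⁻¹} : Set ↥(Cfsg.Sz F m)) := by
        rw [hcent]; exact hx
      have hcomm : (c * s * c⁻¹) * x = x * (c * s * c⁻¹) :=
        Subgroup.mem_centralizer_iff.1 hx' _ rfl
      rw [← mul_smul, hcomm, mul_smul, hg'ω]
    obtain ⟨y, hy1, hy2, hyω⟩ := exists_invol_fix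
      (Subgroup.normalizer
        ((Subgroup.centralizer ({g₀} : Set ↥(Cfsg.Sz F m)) : Subgroup ↥(Cfsg.Sz F m)) :
          Set ↥(Cfsg.Sz F m))) hfg (c • ω) (by
      intro y hy
      have hmem : y⁻¹ * (c * s * c⁻¹) * y ∈
          Subgroup.centralizer ({g₀} : Set ↥(Cfsg.Sz F m)) := by
        have h1 := (Subgroup.mem_normalizer_iff.1 (inv_mem hy) (c * s * c⁻¹)).1 hc
        rw [inv_inv] at h1
        exact h1
      have e : (c * s * c⁻¹) * y = y * (y⁻¹ * (c * s * c⁻¹) * y) := by group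
      rw [← mul_smul, e, mul_smul, hCfix _ hmem]) (by rw [hn]; exact dvd_mul_right 4 _)
    exact hNoInv y hy1 hy2 _ hyω
  have hu : (2 : ℕ) ^ (m + 1) = 2 * 2 ^ m := by rw [pow_succ]; ring
  have hv : (2 : ℕ) ^ (2 * m + 1) = 2 * 2 ^ (2 * m) := by rw [pow_succ]; ring
  rcases hall s hs with hc | hc
  · exact main g₁ hf₁ (by rw [hc₁, hu, hv]; omega) hn₁ hc
  · exact main g₂ hf₂ (by rw [hu, hv] at hc₂; omega) hn₂ hc

/-- Case of a point stabiliser of odd order: it is a split torus. -/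
theorem stab_eq_torus (hm : 1 ≤ m) (hF : Fintype.card F = 2 ^ (2 * m + 1))
    (hfix : ∀ g : ↥(Cfsg.Sz F m), g ≠ 1 → Nat.card (MulAction.fixedBy Ω g) ≤ 2)
    (hNoInv : ∀ s : ↥(Cfsg.Sz F m), s ≠ 1 → s * s = 1 → ∀ ω : Ω, s • ω ≠ ω)
    (α : Ω) {z : Fˣ} (hz : z ≠ 1) (hzα : gD (szHyp_of_card hF) z • α = α) :
    ∀ s : ↥(Cfsg.Sz F m), s • α = α ↔ ∃ w : Fˣ, s = gD (szHyp_of_card hF) w := by
  classical
  set h := szHyp_of_card hF with hh
  have hDne : ∀ w : Fˣ, w ≠ 1 → gD h w ≠ 1 := by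
    intro w hw e
    apply hw
    apply sD_inj m
    rw [sD_one]
    exact congrArg Subtype.val e
  have hfz := hfix _ (hDne z hz)
  have hinj : Function.Injective (gD h) := fun a b e => sD_inj m (congrArg Subtype.val e)
  have hHcard : Nat.card (gD h).range = 2 ^ (2 * m + 1) - 1 := by
    rw [← Nat.card_congr (MonoidHom.ofInjective hinj).toEquiv, Nat.card_eq_fintype_card,
      Fintype.card_units, hF]
  have hv : (2 : ℕ) ^ (2 * m + 1) = 2 * 2 ^ (2 * m) := by rw [pow_succ]; ring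
  have hvpos : 0 < 2 ^ (2 * m) := Nat.pow_pos (by norm_num)
  have hHfix : ∀ x ∈ (gD h).range, x • α = α := by
    apply smul_eq_of_odd _ hfz α _ (by rw [hHcard, hv]; omega)
    rintro _ ⟨w, rfl⟩
    have hcomm : gD h z * gD h w = gD h w * gD h z := by rw [← map_mul, ← map_mul, mul_comm]
    rw [← mul_smul, hcomm, mul_smul, hzα]
  have hDfix : ∀ w : Fˣ, gD h w • α = α := fun w => hHfix _ ⟨w, rfl⟩
  have hfour : ∀ s : ↥(Cfsg.Sz F m), s ^ 4 = 1 → s • α = α → s = 1 := by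
    intro s hs4 hsα
    by_contra hs1
    by_cases hs2 : s * s = 1
    · exact hNoInv s hs1 hs2 α hsα
    · refine hNoInv (s * s) hs2 ?_ α (by rw [mul_smul, hsα, hsα])
      calc s * s * (s * s) = s ^ 4 := by simp only [pow_succ, pow_zero, one_mul, mul_assoc]
        _ = 1 := hs4
  have hW2 : gW h * gW h = 1 := Subtype.ext sW_sq
  have hWα : gW h • α ≠ α := by
    apply hNoInv _ _ hW2
    intro e
    have e' : (sW : Matrix.SpecialLinearGroup (Fin 4) F) = 1 := congrArg Subtype.val e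
    have h1 := sW_pinf (F := F) m
    rw [e', one_smul] at h1
    exact paff_ne_pinf m 0 0 h1.symm
  have hconj : ∀ x ∈ MulAction.stabilizer ↥(Cfsg.Sz F m) α, x ≠ 1 →
      ∃ l ∈ MulAction.stabilizer ↥(Cfsg.Sz F m) α, l * x * l⁻¹ ∈ (gD h).range := by
    intro x hx hx1
    have hxα : x • α = α := hx
    have hnf : ¬ IsFpf m x.1 := fun hf => fpf_no_fix hm hF hfix hNoInv x hf α hxα
    obtain ⟨p, hp, hpx⟩ : ∃ p ∈ Cfsg.suzukiOvoid F m, x.1 • p = p := by
      by_contra hcon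
      exact hnf (fun p hp hfx => hcon ⟨p, hp, hfx⟩)
    rcases fix_classify hm hF x.2 (fun e => hx1 (Subtype.ext e)) hp hpx with
      ⟨k, hk, a, b, -, e⟩ | ⟨k, hk, w, hw, e⟩
    · exfalso
      apply hx1
      apply hfour x _ hxα
      apply Subtype.ext
      have e2 : k * x.1 ^ 4 * k⁻¹ = 1 := by rw [← conj_pow, e, sT_pow_four h]
      rw [Subgroup.coe_pow]
      exact eq_one_of_conj_eq_one e2
    · have es : (⟨k, hk⟩ : ↥(Cfsg.Sz F m)) * x * (⟨k, hk⟩ : ↥(Cfsg.Sz F m))⁻¹ = gD h w :=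
        Subtype.ext e
      have hβ : gD h w • ((⟨k, hk⟩ : ↥(Cfsg.Sz F m)) • α) = (⟨k, hk⟩ : ↥(Cfsg.Sz F m)) • α := by
        rw [← es, mul_smul, mul_smul, inv_smul_smul, hxα]
      have e1 : gD h w * gW h = gW h * gD h w⁻¹ := by
        apply Subtype.ext
        show sD m w * sW = sW * sD m w⁻¹
        have h3 := sW_sD (F := F) m w⁻¹
        rw [inv_inv] at h3
        exact h3.symm
      have hWfix : gD h w • (gW h • α) = gW h • α := by
        rw [← mul_smul, e1, mul_smul, hDfix]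
      rcases fixedBy_three (hfix _ (hDne w hw)) (hDfix w) hWfix hβ with e3 | e3 | e3
      · exact absurd e3.symm hWα
      · exact ⟨⟨k, hk⟩, e3.symm, by rw [es]; exact ⟨w, rfl⟩⟩
      · refine ⟨gW h * ⟨k, hk⟩, ?_, ?_⟩
        · show (gW h * ⟨k, hk⟩) • α = α
          rw [mul_smul, ← e3, ← mul_smul, hW2, one_smul]
        · have e4 : gW h * ⟨k, hk⟩ * x * (gW h * ⟨k, hk⟩)⁻¹
              = gW h * ((⟨k, hk⟩ : ↥(Cfsg.Sz F m)) * x * (⟨k, hk⟩ : ↥(Cfsg.Sz F m))⁻¹) * (gW h)⁻¹ := by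
            group
          rw [e4, es]
          refine ⟨w⁻¹, ?_⟩
          have e5 : gW h * gD h w = gD h w⁻¹ * gW h := Subtype.ext (sW_sD m w)
          rw [e5, mul_assoc, mul_inv_cancel, mul_one]
  have hle : MulAction.stabilizer ↥(Cfsg.Sz F m) α ≤ (gD h).range := by
    apply le_of_conj_into (gD h).range _
    · rintro _ ⟨a, rfl⟩ _ ⟨b, rfl⟩
      rw [← map_mul, ← map_mul, mul_comm]
    · rintro _ ⟨w, rfl⟩ hw1 x _ hcomm
      have hw : w ≠ 1 := by
        rintro rfl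
        exact hw1 (map_one _)
      obtain ⟨u, hu⟩ := cent_sD hm hF hw x.2 (congrArg Subtype.val hcomm)
      exact ⟨u, (Subtype.ext hu).symm⟩
    · exact hconj
  intro s
  constructor
  · intro hs
    obtain ⟨w, hw⟩ := hle (MulAction.mem_stabilizer_iff.2 hs)
    exact ⟨w, hw.symm⟩
  · rintro ⟨w, rfl⟩
    exact hDfix w

/-- Fixity-two transitive actions of the Suzuki group. -/
theorem sz_fixity_two (hm : 1 ≤ m) (hF : Fintype.card F = 2 ^ (2 * m + 1))
    (htr : MulAction.IsPretransitive ↥(Cfsg.Sz F m) Ω)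
    (hfix : ∀ g : ↥(Cfsg.Sz F m), g ≠ 1 → Nat.card (MulAction.fixedBy Ω g) ≤ 2)
    (hex : ∃ g : ↥(Cfsg.Sz F m), g ≠ 1 ∧ Nat.card (MulAction.fixedBy Ω g) = 2) :
    (Fintype.card Ω = Fintype.card F ^ 2 + 1 ∧
      ∀ a b c d : Ω, a ≠ b → c ≠ d → ∃ s : ↥(Cfsg.Sz F m), s • a = c ∧ s • b = d) ∨
    (Fintype.card Ω = Fintype.card F ^ 2 * (Fintype.card F ^ 2 + 1) ∧
      ∀ α : Ω, Nat.card (MulAction.stabilizer ↥(Cfsg.Sz F m) α) = Fintype.card F - 1) := by
  classical
  set h := szHyp_of_card hF with hh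
  obtain ⟨g₀, hg₀1, hg₀c⟩ := hex
  obtain ⟨ω₁, ω₂, hω12, hω₁, -⟩ : ∃ ω₁ ω₂ : Ω, ω₁ ≠ ω₂ ∧ g₀ • ω₁ = ω₁ ∧ g₀ • ω₂ = ω₂ := by
    have h1 : 1 < Nat.card (MulAction.fixedBy Ω g₀) := by omega
    rw [Finite.one_lt_card_iff_nontrivial] at h1
    obtain ⟨a, b, hab⟩ := h1
    exact ⟨a.1, b.1, fun e => hab (Subtype.ext e), a.2, b.2⟩
  have hmove : ∀ α : Ω, ∃ s : ↥(Cfsg.Sz F m), s • α ≠ α := by
    intro α
    by_cases e : ω₁ = α
    · obtain ⟨s, hs⟩ := MulAction.exists_smul_eq ↥(Cfsg.Sz F m) α ω₂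
      exact ⟨s, by rw [hs, ← e]; exact hω12.symm⟩
    · obtain ⟨s, hs⟩ := MulAction.exists_smul_eq ↥(Cfsg.Sz F m) α ω₁
      exact ⟨s, by rw [hs]; exact e⟩
  by_cases hinv : ∃ (s : ↥(Cfsg.Sz F m)) (ω : Ω), s ≠ 1 ∧ s * s = 1 ∧ s • ω = ω
  · left
    obtain ⟨s, ω, hs1, hs2, hsω⟩ := hinv
    obtain ⟨p, hp, hsp⟩ := invol_exists_fix hm hF s.2 (congrArg Subtype.val hs2)
    obtain ⟨k, hk, hkp⟩ := exists_to_inf h hp
    have ht1 : (⟨k, hk⟩ : ↥(Cfsg.Sz F m)) * s * (⟨k, hk⟩ : ↥(Cfsg.Sz F m))⁻¹ ≠ 1 :=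
      fun e => hs1 (eq_one_of_conj_eq_one e)
    have ht2 : ((⟨k, hk⟩ : ↥(Cfsg.Sz F m)) * s * (⟨k, hk⟩ : ↥(Cfsg.Sz F m))⁻¹) *
        ((⟨k, hk⟩ : ↥(Cfsg.Sz F m)) * s * (⟨k, hk⟩ : ↥(Cfsg.Sz F m))⁻¹) = 1 := by
      calc ((⟨k, hk⟩ : ↥(Cfsg.Sz F m)) * s * (⟨k, hk⟩ : ↥(Cfsg.Sz F m))⁻¹) *
            ((⟨k, hk⟩ : ↥(Cfsg.Sz F m)) * s * (⟨k, hk⟩ : ↥(Cfsg.Sz F m))⁻¹)
          = (⟨k, hk⟩ : ↥(Cfsg.Sz F m)) * (s * s) * (⟨k, hk⟩ : ↥(Cfsg.Sz F m))⁻¹ := by group
        _ = 1 := by rw [hs2]; group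
    have htp : ((⟨k, hk⟩ : ↥(Cfsg.Sz F m)) * s * (⟨k, hk⟩ : ↥(Cfsg.Sz F m))⁻¹).1 •
        (pinf : Projectivization F (Fin 4 → F)) = pinf := by
      show (k * s.1 * k⁻¹) • (pinf : Projectivization F (Fin 4 → F)) = pinf
      rw [mul_smul, mul_smul, inv_smul_eq_iff.2 hkp.symm, hsp, hkp]
    obtain ⟨b, hb, hbt⟩ := invol_at_inf hm hF ht1 ht2 htp
    have htα : gT (szHyp_of_card hF) 0 b • ((⟨k, hk⟩ : ↥(Cfsg.Sz F m)) • ω)
        = (⟨k, hk⟩ : ↥(Cfsg.Sz F m)) • ω := by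
      rw [← hbt, mul_smul, mul_smul, inv_smul_smul, hsω]
    exact card_and_two_trans hF htr _ (stab_eq_of_invol hm hF hfix _ hb htα (hmove _))
  · right
    have hNoInv : ∀ s : ↥(Cfsg.Sz F m), s ≠ 1 → s * s = 1 → ∀ ω : Ω, s • ω ≠ ω := by
      intro s hs1 hs2 ω hsω
      exact hinv ⟨s, ω, hs1, hs2, hsω⟩
    have hnf : ¬ IsFpf m g₀.1 := fun hf => fpf_no_fix hm hF hfix hNoInv g₀ hf ω₁ hω₁
    obtain ⟨p, hp, hpx⟩ : ∃ p ∈ Cfsg.suzukiOvoid F m, g₀.1 • p = p := by
      by_contra hcon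
      exact hnf (fun p hp hfx => hcon ⟨p, hp, hfx⟩)
    rcases fix_classify hm hF g₀.2 (fun e => hg₀1 (Subtype.ext e)) hp hpx with
      ⟨k, hk, a, b, -, e⟩ | ⟨k, hk, w, hw, e⟩
    · exfalso
      have h4 : g₀ ^ 4 = 1 := by
        apply Subtype.ext
        have e2 : k * g₀.1 ^ 4 * k⁻¹ = 1 := by rw [← conj_pow, e, sT_pow_four h]
        rw [Subgroup.coe_pow]
        exact eq_one_of_conj_eq_one e2
      by_cases h2 : g₀ * g₀ = 1
      · exact hNoInv g₀ hg₀1 h2 ω₁ hω₁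
      · refine hNoInv (g₀ * g₀) h2 ?_ ω₁ (by rw [mul_smul, hω₁, hω₁])
        calc g₀ * g₀ * (g₀ * g₀) = g₀ ^ 4 := by
              simp only [pow_succ, pow_zero, one_mul, mul_assoc]
          _ = 1 := h4
    · have ec : (⟨k, hk⟩ : ↥(Cfsg.Sz F m)) * g₀ * (⟨k, hk⟩ : ↥(Cfsg.Sz F m))⁻¹ = gD h w :=
        Subtype.ext e
      have hwα : gD (szHyp_of_card hF) w • ((⟨k, hk⟩ : ↥(Cfsg.Sz F m)) • ω₁)
          = (⟨k, hk⟩ : ↥(Cfsg.Sz F m)) • ω₁ := by
        rw [← ec, mul_smul, mul_smul, inv_smul_smul, hω₁]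
      have hstab := stab_eq_torus hm hF hfix hNoInv _ hw hwα
      have hinj : Function.Injective (gD h) := fun a b e => sD_inj m (congrArg Subtype.val e)
      have hcardL : Nat.card (MulAction.stabilizer ↥(Cfsg.Sz F m)
          ((⟨k, hk⟩ : ↥(Cfsg.Sz F m)) • ω₁)) = Fintype.card F - 1 := by
        have hrange : MulAction.stabilizer ↥(Cfsg.Sz F m) ((⟨k, hk⟩ : ↥(Cfsg.Sz F m)) • ω₁)
            = (gD h).range := by
          ext s
          rw [MulAction.mem_stabilizer_iff, hstab, MonoidHom.mem_range]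
          constructor
          · rintro ⟨w, rfl⟩; exact ⟨w, rfl⟩
          · rintro ⟨w, rfl⟩; exact ⟨w, rfl⟩
        rw [hrange, ← Nat.card_congr (MonoidHom.ofInjective hinj).toEquiv,
          Nat.card_eq_fintype_card, Fintype.card_units]
      have hos : ∀ α : Ω, Nat.card (MulAction.stabilizer ↥(Cfsg.Sz F m) α) * Fintype.card Ω
          = Nat.card ↥(Cfsg.Sz F m) := by
        intro α
        have h1 := Subgroup.card_mul_index (MulAction.stabilizer ↥(Cfsg.Sz F m) α)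
        rw [MulAction.index_stabilizer_of_transitive, Nat.card_eq_fintype_card (α := Ω)] at h1
        exact h1
      have hS := Cfsg.Agent.S0324.result hm hF
      rw [← hF] at hS
      have hq2 : 2 ≤ Fintype.card F := by
        rw [hF]
        calc 2 = 2 ^ 1 := by norm_num
          _ ≤ 2 ^ (2 * m + 1) := Nat.pow_le_pow_right (by norm_num) (by omega)
      have hcardΩ : Fintype.card Ω = Fintype.card F ^ 2 * (Fintype.card F ^ 2 + 1) := by
        have h1 := hos ((⟨k, hk⟩ : ↥(Cfsg.Sz F m)) • ω₁)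
        rw [hcardL, hS] at h1
        have hq1 : 0 < Fintype.card F - 1 := by omega
        apply Nat.eq_of_mul_eq_mul_left hq1
        rw [h1]
        ring
      refine ⟨hcardΩ, ?_⟩
      intro α
      have h1 := hos α
      rw [hcardΩ, hS] at h1
      have hpos : 0 < Fintype.card F ^ 2 * (Fintype.card F ^ 2 + 1) := by positivity
      exact Nat.eq_of_mul_eq_mul_right hpos (h1.trans (mul_comm _ _))

end Sz

end Cfsg.Agent.Lib.helper44
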