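import Cfsg.Agent.Lib.helper44.SzFPF

set_option autoImplicit false

namespace Cfsg.Agent.Lib.helper44

open Matrix

theorem dvd_four_cases (d : ℕ) (hd : d ∣ 4) : d = 1 ∨ d = 2 ∨ d = 4 := by
  have hle := Nat.le_of_dvd (by norm_num) hd
  interval_cases d <;> omega

section SemiProd

variable {N G : Type*} [Group N] [Group G] (φ : G →* MulAut N)

/-- In a semidirect product `N ⋊ G` with `N` of exponent 2 such that every `g : G` fixing a
non-trivial element of `N` satisfies `g ^ 4 = 1`, an element of order `r s` (distinct primes)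
projects to an element of order `r s`. -/
theorem exists_orderOf_of_semidirect (hN : ∀ n : N, n * n = 1)
    (hfix : ∀ (g : G) (n : N), n ≠ 1 → φ g n = n → g ^ 4 = 1)
    (r s : ℕ) (hr : r.Prime) (hs : s.Prime) (hrs : r ≠ s) (y : N ⋊[φ] G)
    (hy : orderOf y = r * s) : ∃ x : G, orderOf x = r * s := by
  by_contra hcon
  push Not at hcon
  set x : G := SemidirectProduct.rightHom y with hx
  set d := orderOf x with hd
  have hd_dvd : d ∣ r * s := by
    rw [← hy]
    exact orderOf_map_dvd _ y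
  have hdne : d ≠ r * s := hcon x
  have hrspos : 0 < r * s := Nat.mul_pos hr.pos hs.pos
  have hdpos : 0 < d := Nat.pos_of_dvd_of_pos hd_dvd hrspos
  have hker : SemidirectProduct.rightHom (y ^ d) = 1 := by
    rw [map_pow, ← hx, hd, pow_orderOf_eq_one]
  obtain ⟨n, hn⟩ : ∃ n : N, SemidirectProduct.inl n = y ^ d := by
    have h1 : y ^ d ∈ (SemidirectProduct.rightHom : N ⋊[φ] G →* G).ker := hker
    rw [← SemidirectProduct.range_inl_eq_ker_rightHom] at h1
    exact h1
  have h2d : y ^ (d * 2) = 1 := by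
    rw [pow_mul, ← hn, pow_two, ← map_mul, hN, map_one]
  have hdvd2 : r * s ∣ d * 2 := by
    rw [← hy]
    exact orderOf_dvd_of_pow_eq_one h2d
  obtain ⟨c, hc⟩ := hd_dvd
  have hc2 : c = 2 := by
    have h1 : d * c ∣ d * 2 := hc ▸ hdvd2
    have hc_dvd : c ∣ 2 := Nat.dvd_of_mul_dvd_mul_left hdpos h1
    have hc1 : c ≠ 1 := by
      rintro rfl
      exact hdne (by rw [hc, mul_one])
    rcases (Nat.dvd_prime Nat.prime_two).1 hc_dvd with h | h
    · exact absurd h hc1
    · exact h
  subst hc2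
  have hn1 : n ≠ 1 := by
    rintro rfl
    rw [map_one] at hn
    have h1 := orderOf_dvd_of_pow_eq_one hn.symm
    rw [hy, hc] at h1
    have := Nat.le_of_dvd hdpos h1
    omega
  have hcomm : y * SemidirectProduct.inl n = SemidirectProduct.inl n * y := by
    rw [hn, ← pow_succ', ← pow_succ]
  have hinv : ∀ a : N, a⁻¹ = a := fun a => inv_eq_of_mul_eq_one_left (hN a)
  have hcommN : ∀ a b : N, a * b = b * a := by
    intro a b
    calc a * b = (a * b)⁻¹ := (hinv _).symm
      _ = b⁻¹ * a⁻¹ := mul_inv_rev a b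
      _ = b * a := by rw [hinv, hinv]
  have hfixn : φ x n = n := by
    have h1 := congrArg SemidirectProduct.left hcomm
    simp only [SemidirectProduct.mul_left, SemidirectProduct.left_inl, SemidirectProduct.right_inl,
      map_one, MulAut.one_apply] at h1
    rw [hcommN n] at h1
    exact mul_left_cancel h1
  have hx4 : x ^ 4 = 1 := hfix x n hn1 hfixn
  have hd4 : d ∣ 4 := orderOf_dvd_of_pow_eq_one hx4
  have hd124 : d = 1 ∨ d = 2 ∨ d = 4 := dvd_four_cases d hd4
  have hr2 := hr.two_le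
  have hs2 := hs.two_le
  have hr4 : r ≠ 4 := by
    rintro rfl
    norm_num at hr
  have hs4 : s ≠ 4 := by
    rintro rfl
    norm_num at hs
  have hrle : r ≤ 4 := by
    have h1 : r * 2 ≤ r * s := Nat.mul_le_mul_left r hs2
    omega
  have hsle : s ≤ 4 := by
    have h1 : 2 * s ≤ r * s := Nat.mul_le_mul_right s hr2
    omega
  have hr23 : r = 2 ∨ r = 3 := by omega
  have hs23 : s = 2 ∨ s = 3 := by omega
  rcases hr23 with rfl | rfl <;> rcases hs23 with rfl | rfl <;> omega

end SemiProd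

/-- A copy in `Type` of a finite group. -/
theorem exists_type0_copy (H₀ : Type*) [Group H₀] [Finite H₀] :
    ∃ (H : Type) (_ : Group H) (_ : Fintype H), Nonempty (H ≃* H₀) := by
  refine ⟨Fin (Nat.card H₀), (Finite.equivFin H₀).symm.group, inferInstance, ?_⟩
  exact ⟨(Finite.equivFin H₀).symm.mulEquiv⟩

section Action

variable {F : Type*} [Field F]

/-- The action of `GL₄` on tuples of vectors, as automorphisms of the multiplicative copy. -/
def vecAut (k : ℕ) (g : GL (Fin 4) F) : MulAut (Multiplicative (Fin k → Fin 4 → F)) where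
  toFun n := Multiplicative.ofAdd
    (fun i => (g : Matrix (Fin 4) (Fin 4) F) *ᵥ (Multiplicative.toAdd n) i)
  invFun n := Multiplicative.ofAdd
    (fun i => ((g⁻¹ : GL (Fin 4) F) : Matrix (Fin 4) (Fin 4) F) *ᵥ (Multiplicative.toAdd n) i)
  left_inv n := by
    apply Multiplicative.toAdd.injective
    funext i
    simp [Matrix.mulVec_mulVec]
  right_inv n := by
    apply Multiplicative.toAdd.injective
    funext i
    simp [Matrix.mulVec_mulVec]
  map_mul' a b := by
    apply Multiplicative.toAdd.injective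
    funext i
    simp [Matrix.mulVec_add]

theorem vecAut_apply (k : ℕ) (g : GL (Fin 4) F) (n : Multiplicative (Fin k → Fin 4 → F))
    (i : Fin k) :
    Multiplicative.toAdd (vecAut k g n) i
      = (g : Matrix (Fin 4) (Fin 4) F) *ᵥ (Multiplicative.toAdd n) i := rfl

/-- The action as a homomorphism. -/
def vecHom (k : ℕ) : GL (Fin 4) F →* MulAut (Multiplicative (Fin k → Fin 4 → F)) where
  toFun := vecAut k
  map_one' := by
    refine MulEquiv.ext (fun n => ?_)
    apply Multiplicative.toAdd.injective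
    funext i
    rw [vecAut_apply]
    simp
  map_mul' g h := by
    refine MulEquiv.ext (fun n => ?_)
    apply Multiplicative.toAdd.injective
    funext i
    rw [MulAut.mul_apply, vecAut_apply, vecAut_apply, vecAut_apply, Units.val_mul,
      Matrix.mulVec_mulVec]

/-- The action used for the semidirect product. -/
def szAct (e k : ℕ) : ↥(Cfsg.Lie.Sz F e) →* MulAut (Multiplicative (Fin k → Fin 4 → F)) :=
  (vecHom k).comp (Cfsg.Lie.Sz F e).subtype

theorem szAct_apply (e k : ℕ) (g : ↥(Cfsg.Lie.Sz F e)) (n : Multiplicative (Fin k → Fin 4 → F))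
    (i : Fin k) :
    Multiplicative.toAdd (szAct e k g n) i
      = ((g : GL (Fin 4) F) : Matrix (Fin 4) (Fin 4) F) *ᵥ (Multiplicative.toAdd n) i := rfl

end Action

section Main

variable {F : Type*} [Field F] [Fintype F]

/-- Finite groups of arbitrarily large order with the same prime graph as a Suzuki group. -/
theorem exists_same_prime_graph_Sz {m : ℕ} (hF : Fintype.card F = 2 ^ (2 * m + 1)) (N : ℕ) :
    ∃ (H : Type) (_ : Group H) (_ : Fintype H), N < Fintype.card H ∧
      ((∀ r : ℕ, r.Prime → (r ∣ Nat.card ↥(Cfsg.Lie.Sz F (2 ^ (m + 1))) ↔ r ∣ Nat.card H)) ∧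
      (∀ r s : ℕ, r.Prime → s.Prime → r ≠ s →
        ((∃ x : ↥(Cfsg.Lie.Sz F (2 ^ (m + 1))), orderOf x = r * s) ↔
          (∃ y : H, orderOf y = r * s)))) := by
  classical
  have h2 : (2 : F) = 0 := by
    have h := Nat.cast_card_eq_zero F
    rw [hF] at h
    push_cast at h
    exact pow_eq_zero_iff (Nat.succ_ne_zero _) |>.1 h
  have he : 2 ^ (m + 1) ≠ 0 := pow_ne_zero _ two_ne_zero
  have hθ : ∀ x : F, (x ^ 2 ^ (m + 1)) ^ 2 ^ (m + 1) = x ^ 2 := by
    intro x
    have : 2 ^ (m + 1) * 2 ^ (m + 1) = Fintype.card F * 2 := by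
      rw [hF]
      ring
    rw [← pow_mul, this, pow_mul, FiniteField.pow_card]
  -- the semidirect product
  have hfinN : Finite (Multiplicative (Fin N → Fin 4 → F)) :=
    Finite.of_equiv (Fin N → Fin 4 → F) Multiplicative.ofAdd
  have hfinH : Finite (Multiplicative (Fin N → Fin 4 → F) ⋊[szAct (F := F) (2 ^ (m + 1)) N]
      ↥(Cfsg.Lie.Sz F (2 ^ (m + 1)))) :=
    Finite.of_equiv _ SemidirectProduct.equivProd.symm
  have hexp : ∀ n : Multiplicative (Fin N → Fin 4 → F), n * n = 1 := by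
    intro n
    apply Multiplicative.toAdd.injective
    funext i j
    show Multiplicative.toAdd n i j + Multiplicative.toAdd n i j = 0
    linear_combination (Multiplicative.toAdd n i j) * h2
  have hfix : ∀ (g : ↥(Cfsg.Lie.Sz F (2 ^ (m + 1)))) (n : Multiplicative (Fin N → Fin 4 → F)),
      n ≠ 1 → szAct (2 ^ (m + 1)) N g n = n → g ^ 4 = 1 := by
    intro g n hn hgn
    have hne : Multiplicative.toAdd n ≠ 0 := fun h => hn (Multiplicative.toAdd.injective h)
    obtain ⟨i, hi⟩ := Function.ne_iff.1 hne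
    have hgi : ((g : GL (Fin 4) F) : Matrix (Fin 4) (Fin 4) F) *ᵥ (Multiplicative.toAdd n) i
        = (Multiplicative.toAdd n) i := by
      rw [← szAct_apply, hgn]
    have h4 := Sz_fixed_pow_four h2 (m + 1) (g : GL (Fin 4) F) g.2 _ hi hgi
    apply Subtype.ext
    rw [Subgroup.coe_pow, h4]
    rfl
  -- 2 divides the order of the Suzuki group
  have h2S : 2 ∣ Nat.card ↥(Cfsg.Lie.Sz F (2 ^ (m + 1))) := by
    let x₀ : ↥(Cfsg.Lie.Sz F (2 ^ (m + 1))) :=
      ⟨szLU h2 1 (1 ^ 2 ^ (m + 1)), szLU_mem h2 _ he hθ 1⟩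
    have hx4 : x₀ ^ 4 = 1 := by
      have hfixv : ((x₀ : GL (Fin 4) F) : Matrix (Fin 4) (Fin 4) F) *ᵥ (Pi.single 3 1)
          = Pi.single 3 1 := by
        show szL (1 : F) (1 ^ 2 ^ (m + 1)) *ᵥ (Pi.single 3 1) = Pi.single 3 1
        rw [Matrix.mulVec_single_one]
        ext i
        fin_cases i <;> simp [szL]
      have h4 := Sz_fixed_pow_four h2 (m + 1) (x₀ : GL (Fin 4) F) x₀.2 (Pi.single 3 1)
        (by
          intro h
          have := congrFun h 3
          simp at this) hfixv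
      apply Subtype.ext
      rw [Subgroup.coe_pow, h4]
      rfl
    have hx1 : x₀ ≠ 1 := by
      intro h
      have h1 := congrArg (fun g : ↥(Cfsg.Lie.Sz F (2 ^ (m + 1))) =>
        ((g : GL (Fin 4) F) : Matrix (Fin 4) (Fin 4) F) 1 0) h
      have h3 : szL (1 : F) (1 ^ 2 ^ (m + 1)) 1 0 = (1 : Matrix (Fin 4) (Fin 4) F) 1 0 := h1
      simp [szL] at h3
    have hd := dvd_four_cases _ (orderOf_dvd_of_pow_eq_one hx4)
    have hne1 : orderOf x₀ ≠ 1 := fun h => hx1 (orderOf_eq_one_iff.1 h)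
    have h2o : 2 ∣ orderOf x₀ := by
      rcases hd with h | h | h
      · exact absurd h hne1
      · rw [h]
      · rw [h]
        norm_num
    exact h2o.trans (orderOf_dvd_natCard x₀)
  -- cardinalities
  have hcardN : Nat.card (Multiplicative (Fin N → Fin 4 → F)) = 2 ^ ((2 * m + 1) * 4 * N) := by
    rw [Nat.card_congr (Multiplicative.toAdd (α := Fin N → Fin 4 → F)), Nat.card_fun, Nat.card_fun,
      Nat.card_eq_fintype_card (α := F), hF, Nat.card_fin, Nat.card_fin, ← pow_mul, ← pow_mul,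
      Nat.mul_assoc]
  have hcardH : Nat.card (Multiplicative (Fin N → Fin 4 → F) ⋊[szAct (F := F) (2 ^ (m + 1)) N]
      ↥(Cfsg.Lie.Sz F (2 ^ (m + 1)))) = 2 ^ ((2 * m + 1) * 4 * N)
        * Nat.card ↥(Cfsg.Lie.Sz F (2 ^ (m + 1))) := by
    rw [SemidirectProduct.card, hcardN]
  obtain ⟨H, instG, instF, ⟨ε⟩⟩ := exists_type0_copy
    (Multiplicative (Fin N → Fin 4 → F) ⋊[szAct (F := F) (2 ^ (m + 1)) N]
      ↥(Cfsg.Lie.Sz F (2 ^ (m + 1))))
  have hcardHH : Nat.card H = 2 ^ ((2 * m + 1) * 4 * N)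
      * Nat.card ↥(Cfsg.Lie.Sz F (2 ^ (m + 1))) := by
    rw [Nat.card_congr ε.toEquiv, hcardH]
  have hSpos : 0 < Nat.card ↥(Cfsg.Lie.Sz F (2 ^ (m + 1))) := Nat.card_pos
  refine ⟨H, instG, instF, ?_, ?_, ?_⟩
  · rw [← Nat.card_eq_fintype_card, hcardHH]
    have h1 : N < 2 ^ N := Nat.lt_two_pow_self
    have h3 : 2 ^ N ≤ 2 ^ ((2 * m + 1) * 4 * N) := by
      apply Nat.pow_le_pow_right (by norm_num)
      nlinarith
    have h4 : 2 ^ ((2 * m + 1) * 4 * N) ≤ 2 ^ ((2 * m + 1) * 4 * N)
        * Nat.card ↥(Cfsg.Lie.Sz F (2 ^ (m + 1))) := Nat.le_mul_of_pos_right _ hSpos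
    omega
  · intro r hr
    rw [hcardHH]
    constructor
    · intro h
      exact dvd_mul_of_dvd_right h _
    · intro h
      rcases (Nat.Prime.dvd_mul hr).1 h with h' | h'
      · have hr2 : r = 2 := (Nat.prime_dvd_prime_iff_eq hr Nat.prime_two).1 (hr.dvd_of_dvd_pow h')
        rw [hr2]
        exact h2S
      · exact h'
  · intro r s hr hs hrs
    constructor
    · rintro ⟨x, hx⟩
      refine ⟨ε.symm (SemidirectProduct.inr x), ?_⟩
      rw [MulEquiv.orderOf_eq, orderOf_injective SemidirectProduct.inr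
        SemidirectProduct.inr_injective, hx]
    · rintro ⟨y, hy⟩
      exact exists_orderOf_of_semidirect (szAct (F := F) (2 ^ (m + 1)) N) hexp hfix r s hr hs hrs
        (ε y) (by rw [MulEquiv.orderOf_eq, hy])

end Main

end Cfsg.Agent.Lib.helper44
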