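/-
Structure of the Suzuki groups used for character bounds: the central involutions of the
Sylow 2-subgroup are all conjugate under the torus.
-/
import Cfsg.Agent.Lib.helper44.SzIso
import Cfsg.Agent.Lib.helper8.SzSylow2

set_option autoImplicit false

namespace Cfsg.Agent.Lib.helper44

open Matrix Cfsg.Agent.Lib.helper8

variable {F : Type*} [Field F] [Fintype F]

/-- `z ↦ θ(z) z²` is onto the units. -/
theorem exists_unit_th_mul_sq {m : ℕ} (h : SzHyp F m) (w : Fˣ) :
    ∃ z : Fˣ, th m (z : F) * (z : F) ^ 2 = (w : F) := by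
  have hinj : Function.Injective (powMonoidHom (2 ^ (m + 1) + 2) : Fˣ →* Fˣ) := by
    rw [injective_iff_map_eq_one]
    intro z hz
    have h1 : ((z ^ (2 ^ (m + 1) + 2) : Fˣ) : F) = 1 := by
      have := congrArg (fun u : Fˣ => (u : F)) hz
      simpa using this
    have h2 : th m (z : F) * (z : F) ^ 2 = 1 := by
      rw [Units.val_pow_eq_pow_val, pow_add] at h1
      exact h1
    exact Units.ext (eq_one_of_th_mul_sq h h2)
  obtain ⟨z, hz⟩ := Finite.surjective_of_injective hinj w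
  refine ⟨z, ?_⟩
  have h1 : ((z ^ (2 ^ (m + 1) + 2) : Fˣ) : F) = (w : F) := congrArg (fun u : Fˣ => (u : F)) hz
  rw [Units.val_pow_eq_pow_val, pow_add] at h1
  exact h1

/-- The non-trivial central elements `sT 0 b` are conjugate under the torus. -/
theorem exists_sD_conj_sT_zero {m : ℕ} (h : SzHyp F m) {b b' : F} (hb : b ≠ 0) (hb' : b' ≠ 0) :
    ∃ z : Fˣ, sD m z * sT m 0 b * (sD m z)⁻¹ = sT m 0 b' := by
  obtain ⟨z, hz⟩ := exists_unit_th_mul_sq h (Units.mk0 (b' / b) (div_ne_zero hb' hb))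
  refine ⟨z, ?_⟩
  rw [sD_conj_sT h, mul_zero, hz, Units.val_mk0]
  congr 1
  field_simp

/-- The parametrised Sylow 2-subgroup, mapped into the matrix model of the Suzuki group. -/
noncomputable def szHeisHom {m : ℕ} (hm : 1 ≤ m) (hF : Fintype.card F = 2 ^ (2 * m + 1)) :
    ↥(subT (szHyp_of_card hF)) →* ↥(Cfsg.Lie.Sz F (2 ^ (m + 1))) :=
  (szIso hm hF).toMonoidHom.comp (subT (szHyp_of_card hF)).subtype

theorem szHeisHom_injective {m : ℕ} (hm : 1 ≤ m) (hF : Fintype.card F = 2 ^ (2 * m + 1)) :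
    Function.Injective (szHeisHom hm hF) := by
  intro x y hxy
  exact Subtype.ext ((szIso hm hF).injective hxy)

theorem szHeisHom_isConj {m : ℕ} (hm : 1 ≤ m) (hF : Fintype.card F = 2 ^ (2 * m + 1))
    {b b' : F} (hb : b ≠ 0) (hb' : b' ≠ 0) :
    IsConj (szHeisHom hm hF (psiT (szHyp_of_card hF) (0, b)))
      (szHeisHom hm hF (psiT (szHyp_of_card hF) (0, b'))) := by
  have h := szHyp_of_card hF
  obtain ⟨z, hz⟩ := exists_sD_conj_sT_zero h hb hb'
  have h1 : IsConj ((psiT h (0, b) : ↥(subT h)) : ↥(Cfsg.Sz F m))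
      ((psiT h (0, b') : ↥(subT h)) : ↥(Cfsg.Sz F m)) := by
    rw [isConj_iff]
    refine ⟨⟨sD m z, sD_mem h z⟩, ?_⟩
    apply Subtype.ext
    exact hz
  exact (szIso hm hF).toMonoidHom.map_isConj h1

end Cfsg.Agent.Lib.helper44
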