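-- helper44: orbit–stabiliser and a twisted Burnside count for explicit actions.
import Mathlib

set_option autoImplicit false

namespace Cfsg.Agent.Lib.helper44

/-- Orbit–stabiliser for an explicit transitive action: the number of group elements carrying
`ω` to `ω'` times the size of the set is the group order. -/
theorem card_mul_card_transporter {G Ω : Type*} [Group G] [Finite G] (act : G → Ω → Ω)
    (hmul : ∀ g h ω, act (g * h) ω = act g (act h ω)) (hone : ∀ ω, act 1 ω = ω)
    (htrans : ∀ ω ω' : Ω, ∃ g, act g ω = ω') (ω ω' : Ω) :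
    Nat.card Ω * Nat.card {g : G // act g ω = ω'} = Nat.card G := by
  classical
  have hsurj : Function.Surjective (fun g : G => act g ω) := fun y => htrans ω y
  have hfinΩ : Finite Ω := Finite.of_surjective _ hsurj
  have : Fintype Ω := Fintype.ofFinite Ω
  have hfib : ∀ y : Ω, Nat.card {g : G // act g ω = y} = Nat.card {g : G // act g ω = ω'} := by
    intro y
    obtain ⟨k, hk⟩ := htrans y ω'
    refine Nat.card_congr ⟨fun g => ⟨k * g.1, by rw [hmul, g.2, hk]⟩,
      fun g => ⟨k⁻¹ * g.1, ?_⟩, ?_, ?_⟩
    · have h1 : act (k⁻¹ * g.1) ω = act k⁻¹ ω' := by rw [hmul, g.2]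
      rw [h1, ← hk, ← hmul, inv_mul_cancel, hone]
    · intro g
      apply Subtype.ext
      simp
    · intro g
      apply Subtype.ext
      simp
  have h1 : Nat.card G = Nat.card (Σ y : Ω, {g : G // act g ω = y}) :=
    Nat.card_congr (Equiv.sigmaFiberEquiv (fun g : G => act g ω)).symm
  rw [h1, Nat.card_sigma]
  simp only [hfib, Finset.sum_const, Finset.card_univ, smul_eq_mul, Nat.card_eq_fintype_card]

/-- Twisted Burnside count: `G` acts on `Y`, `c : Y → ι` is a complete invariant of the orbits,
`τ : Y → Y` induces `τ'` on invariants. Then the number of pairs `(g, y)` with `g y = τ y` is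
`|G|` times the number of `τ'`-fixed invariants. -/
theorem sum_card_twisted_fixed {G Y ι : Type*} [Group G] [Fintype G] [Fintype Y] [DecidableEq Y]
    [Fintype ι] [DecidableEq ι] (act : G → Y → Y)
    (hmul : ∀ g h y, act (g * h) y = act g (act h y)) (hone : ∀ y, act 1 y = y)
    (τ : Y → Y) (c : Y → ι) (hc : ∀ y y', c y = c y' ↔ ∃ g, act g y = y')
    (τ' : ι → ι) (hτ : ∀ y, c (τ y) = τ' (c y)) (hsurj : Function.Surjective c) :
    ∑ g : G, (Finset.univ.filter (fun y => act g y = τ y)).card =
      Fintype.card G * (Finset.univ.filter (fun i => τ' i = i)).card := by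
  classical
  -- swap the order of summation
  have h1 : ∑ g : G, (Finset.univ.filter (fun y => act g y = τ y)).card =
      ∑ y : Y, (Finset.univ.filter (fun g : G => act g y = τ y)).card := by
    simp only [Finset.card_filter]
    exact Finset.sum_comm
  rw [h1]
  -- the contribution of each point
  have hzero : ∀ y : Y, τ' (c y) ≠ c y →
      (Finset.univ.filter (fun g : G => act g y = τ y)).card = 0 := by
    intro y hy
    rw [Finset.card_eq_zero, Finset.filter_eq_empty_iff]
    intro g _ hg
    apply hy
    rw [← hτ]
    exact ((hc y (τ y)).mpr ⟨g, hg⟩).symm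
  have hfibre : ∀ i : ι, τ' i = i →
      ∑ y ∈ Finset.univ.filter (fun y => c y = i),
        (Finset.univ.filter (fun g : G => act g y = τ y)).card = Fintype.card G := by
    intro i hi
    -- the action on the fibre
    let Ω := {y : Y // c y = i}
    have hinv : ∀ (g : G) (y : Y), c (act g y) = c y := fun g y =>
      ((hc y (act g y)).mpr ⟨g, rfl⟩).symm
    let actΩ : G → Ω → Ω := fun g y => ⟨act g y.1, by rw [hinv]; exact y.2⟩
    have hmulΩ : ∀ g h (y : Ω), actΩ (g * h) y = actΩ g (actΩ h y) := fun g h y =>
      Subtype.ext (hmul g h y.1)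
    have honeΩ : ∀ y : Ω, actΩ 1 y = y := fun y => Subtype.ext (hone y.1)
    have htransΩ : ∀ y y' : Ω, ∃ g, actΩ g y = y' := by
      intro y y'
      obtain ⟨g, hg⟩ := (hc y.1 y'.1).mp (by rw [y.2, y'.2])
      exact ⟨g, Subtype.ext hg⟩
    have hcount : ∀ y : Ω, Nat.card Ω *
        (Finset.univ.filter (fun g : G => act g y.1 = τ y.1)).card = Fintype.card G := by
      intro y
      have hτy : c (τ y.1) = i := by rw [hτ, y.2, hi]
      have := card_mul_card_transporter actΩ hmulΩ honeΩ htransΩ y ⟨τ y.1, hτy⟩
      rw [Nat.card_eq_fintype_card (α := G)] at this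
      rw [← this]
      congr 1
      rw [← Fintype.card_subtype, ← Nat.card_eq_fintype_card]
      refine Nat.card_congr (Equiv.subtypeEquivRight (fun g => ?_))
      constructor
      · intro h
        exact Subtype.ext h
      · intro h
        exact congrArg Subtype.val h
    have hΩpos : 0 < Nat.card Ω := by
      obtain ⟨y, hy⟩ := hsurj i
      have : Nonempty Ω := ⟨⟨y, hy⟩⟩
      exact Nat.card_pos
    have hΩcard : Nat.card Ω = (Finset.univ.filter (fun y => c y = i)).card := by
      rw [Nat.card_eq_fintype_card, Fintype.card_subtype]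
    apply Nat.eq_of_mul_eq_mul_left hΩpos
    rw [Finset.mul_sum]
    have : ∀ y ∈ Finset.univ.filter (fun y => c y = i),
        Nat.card Ω * (Finset.univ.filter (fun g : G => act g y = τ y)).card = Fintype.card G := by
      intro y hy
      rw [Finset.mem_filter] at hy
      exact hcount ⟨y, hy.2⟩
    rw [Finset.sum_congr rfl this, Finset.sum_const, smul_eq_mul, hΩcard]
  rw [← Finset.sum_fiberwise (Finset.univ : Finset Y) c
    (fun y => (Finset.univ.filter (fun g : G => act g y = τ y)).card)]
  have hterm : ∀ i : ι, ∑ y ∈ Finset.univ.filter (fun y => c y = i),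
      (Finset.univ.filter (fun g : G => act g y = τ y)).card =
      if τ' i = i then Fintype.card G else 0 := by
    intro i
    by_cases hi : τ' i = i
    · rw [if_pos hi, hfibre i hi]
    · rw [if_neg hi]
      apply Finset.sum_eq_zero
      intro y hy
      rw [Finset.mem_filter] at hy
      apply hzero
      rw [hy.2]
      exact hi
  rw [Finset.sum_congr rfl (fun i _ => hterm i), Finset.sum_ite, Finset.sum_const,
    Finset.sum_const_zero, add_zero, smul_eq_mul, mul_comm]

end Cfsg.Agent.Lib.helper44
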