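-- helper44: linear algebra for centralizers of unipotent elements: an element of prime order
-- `r` (prime to the characteristic) commuting with a non-zero nilpotent endomorphism.
import Mathlib

set_option autoImplicit false

namespace Cfsg.Agent.Lib.helper44

section UnipCent

variable {F : Type*} [Field F] [Finite F] {V : Type*} [AddCommGroup V] [Module F V]
  [FiniteDimensional F V]

/-- Fixed point counting: if `C ^ r = 1` for a prime `r` and `W` is a `C`-invariant subspace, then
`|W| ≡ |W ∩ ker (C - 1)|` modulo `r`. -/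
theorem card_pow_finrank_modEq_fixed (r : ℕ) [Fact r.Prime] (C : Module.End F V) (hC : C ^ r = 1)
    (W : Submodule F V) (hW : ∀ w ∈ W, C w ∈ W) :
    Nat.card F ^ Module.finrank F W ≡
      Nat.card F ^ Module.finrank F ↥(W ⊓ LinearMap.ker (C - 1)) [MOD r] := by
  classical
  have hr : r ≠ 0 := (Fact.out : r.Prime).ne_zero
  have hVfin : Finite V := Module.finite_of_finite F
  let CW : Module.End F W := C.restrict hW
  have hCWpow : ∀ (k : ℕ) (w : W), (((CW ^ k) w : W) : V) = (C ^ k) (w : V) := by
    intro k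
    induction k with
    | zero => intro w; simp
    | succ k ih =>
      intro w
      rw [pow_succ, pow_succ, Module.End.mul_apply, Module.End.mul_apply, ih]
      rfl
  have hCW : CW ^ r = 1 := by
    apply LinearMap.ext
    intro w
    apply Subtype.ext
    rw [hCWpow, hC]
    rfl
  let u : (Module.End F W)ˣ := Units.ofPowEqOne CW r hCW hr
  have hu : u ^ r = 1 := Units.pow_ofPowEqOne hCW hr
  have huval : ∀ w : W, u • w = CW w := fun w => rfl
  have hG : IsPGroup r (Subgroup.zpowers u) := by
    rintro ⟨g, hg⟩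
    refine ⟨1, ?_⟩
    obtain ⟨z, rfl⟩ := Subgroup.mem_zpowers_iff.mp hg
    apply Subtype.ext
    simp only [pow_one, Subgroup.coe_pow, Subgroup.coe_one]
    rw [← zpow_natCast, ← zpow_mul, mul_comm, zpow_mul, zpow_natCast, hu, one_zpow]
  have key := hG.card_modEq_card_fixedPoints (↥W)
  have hfix : (MulAction.fixedPoints (Subgroup.zpowers u) ↥W) =
      ((Submodule.comap W.subtype (W ⊓ LinearMap.ker (C - 1)) : Submodule F W) : Set W) := by
    ext w
    have hiff : (w ∈ ((Submodule.comap W.subtype (W ⊓ LinearMap.ker (C - 1)) : Submodule F W) : Set W))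
        ↔ CW w = w := by
      simp only [SetLike.mem_coe, Submodule.mem_comap, Submodule.subtype_apply, Submodule.mem_inf,
        LinearMap.mem_ker, LinearMap.sub_apply, Module.End.one_apply, sub_eq_zero]
      constructor
      · rintro ⟨-, h⟩
        exact Subtype.ext h
      · intro h
        exact ⟨w.2, congrArg Subtype.val h⟩
    rw [hiff, MulAction.mem_fixedPoints]
    constructor
    · intro h
      have := h ⟨u, Subgroup.mem_zpowers u⟩
      exact this
    · intro h
      rintro ⟨g, hg⟩
      have hst : u ∈ MulAction.stabilizer (Module.End F W)ˣ w := by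
        rw [MulAction.mem_stabilizer_iff, huval, h]
      have := (Subgroup.zpowers_le.mpr hst) hg
      exact MulAction.mem_stabilizer_iff.mp this
  rw [hfix] at key
  have e1 : Nat.card ↥W = Nat.card F ^ Module.finrank F W := Module.natCard_eq_pow_finrank
  have e2 : Nat.card ↥((Submodule.comap W.subtype (W ⊓ LinearMap.ker (C - 1)) : Submodule F W) : Set W)
      = Nat.card F ^ Module.finrank F ↥(W ⊓ LinearMap.ker (C - 1)) := by
    have := Module.natCard_eq_pow_finrank (K := F)
      (V := ↥(Submodule.comap W.subtype (W ⊓ LinearMap.ker (C - 1)) : Submodule F W))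
    rw [LinearEquiv.finrank_eq (Submodule.comapSubtypeEquivOfLe
      (inf_le_left : W ⊓ LinearMap.ker (C - 1) ≤ W))] at this
    exact this
  rw [e1, e2] at key
  exact key

/-- The multiplicative order of `q = |F|` modulo `r` divides `dim W - dim (W ∩ ker (C - 1))` for
every `C`-invariant subspace `W`, when `C ^ r = 1` and the prime `r` does not divide `q`. -/
theorem orderOf_dvd_finrank_sub (r : ℕ) [Fact r.Prime] (hrq : ¬ r ∣ Nat.card F)
    (C : Module.End F V) (hC : C ^ r = 1) (W : Submodule F V) (hW : ∀ w ∈ W, C w ∈ W) :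
    orderOf (Nat.card F : ZMod r) ∣
      Module.finrank F W - Module.finrank F ↥(W ⊓ LinearMap.ker (C - 1)) := by
  have h := card_pow_finrank_modEq_fixed r C hC W hW
  rw [← ZMod.natCast_eq_natCast_iff] at h
  push_cast at h
  have hle : Module.finrank F ↥(W ⊓ LinearMap.ker (C - 1)) ≤ Module.finrank F W :=
    Submodule.finrank_mono inf_le_left
  have hq0 : (Nat.card F : ZMod r) ≠ 0 := by
    intro h0
    exact hrq ((ZMod.natCast_eq_zero_iff _ _).mp h0)
  apply orderOf_dvd_of_pow_eq_one
  have h2 : (Nat.card F : ZMod r) ^ Module.finrank F ↥(W ⊓ LinearMap.ker (C - 1)) *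
      (Nat.card F : ZMod r) ^ (Module.finrank F W - Module.finrank F ↥(W ⊓ LinearMap.ker (C - 1)))
      = (Nat.card F : ZMod r) ^ Module.finrank F ↥(W ⊓ LinearMap.ker (C - 1)) * 1 := by
    rw [← pow_add, Nat.add_sub_cancel' hle, mul_one, h]
  exact mul_left_cancel₀ (pow_ne_zero _ hq0) h2

omit [Finite F] [FiniteDimensional F V] in
/-- A nilpotent endomorphism vanishes on an invariant line. -/
theorem nilpotent_vanish_of_finrank_one (N : Module.End F V) (hN : IsNilpotent N)
    (L : Submodule F V) (hL : Module.finrank F L = 1) (hinv : ∀ v ∈ L, N v ∈ L) :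
    L ≤ LinearMap.ker N := by
  intro v hv
  rw [LinearMap.mem_ker]
  by_cases hv0 : v = 0
  · rw [hv0, map_zero]
  · have hne : (⟨v, hv⟩ : L) ≠ 0 := fun h => hv0 (congrArg Subtype.val h)
    obtain ⟨c, hc⟩ := (finrank_eq_one_iff_of_nonzero' (⟨v, hv⟩ : L) hne).mp hL ⟨N v, hinv v hv⟩
    have hc' : c • v = N v := congrArg Subtype.val hc
    obtain ⟨j, hj⟩ := hN
    have hpow : ∀ k : ℕ, (N ^ k) v = c ^ k • v := by
      intro k
      induction k with
      | zero => simp
      | succ k ih =>
        rw [pow_succ, Module.End.mul_apply, ← hc', map_smul, ih, smul_smul, pow_succ, mul_comm]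
    have h0 : c ^ j • v = 0 := by rw [← hpow, hj]; rfl
    rcases smul_eq_zero.mp h0 with h1 | h1
    · have hc0 : c = 0 := by
        by_contra hcn
        exact pow_ne_zero j hcn h1
      rw [← hc', hc0, zero_smul]
    · exact absurd h1 hv0

omit [Finite F] [FiniteDimensional F V] in
/-- If the kernel of a non-zero nilpotent endomorphism is a line, it lies in the range. -/
theorem ker_le_range_of_finrank_one [Nontrivial V] (N : Module.End F V) (hN : IsNilpotent N)
    (hN0 : N ≠ 0) (hK : Module.finrank F (LinearMap.ker N) = 1) :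
    LinearMap.ker N ≤ LinearMap.range N := by
  classical
  have hex : ∃ j, N ^ j = 0 := hN
  have hj := Nat.find_spec hex
  set j := Nat.find hex with hjdef
  have hj0 : j ≠ 0 := by
    intro h0
    rw [h0, pow_zero] at hj
    exact one_ne_zero hj
  have hj1 : j ≠ 1 := by
    intro h1
    rw [h1, pow_one] at hj
    exact hN0 hj
  have hmin : N ^ (j - 1) ≠ 0 := by
    intro h
    have := Nat.find_min' hex h
    omega
  obtain ⟨w, hw⟩ : ∃ w, (N ^ (j - 1)) w ≠ 0 := by
    by_contra hcon
    push Not at hcon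
    exact hmin (LinearMap.ext hcon)
  set u := (N ^ (j - 1)) w with hu
  have huK : u ∈ LinearMap.ker N := by
    rw [LinearMap.mem_ker, hu, ← Module.End.mul_apply, ← pow_succ']
    have : j - 1 + 1 = j := by omega
    rw [this, hj]
    rfl
  have huR : u ∈ LinearMap.range N := by
    refine ⟨(N ^ (j - 2)) w, ?_⟩
    rw [hu, ← Module.End.mul_apply, ← pow_succ']
    have : j - 2 + 1 = j - 1 := by omega
    rw [this]
  intro x hx
  have hne : (⟨u, huK⟩ : LinearMap.ker N) ≠ 0 := fun h => hw (congrArg Subtype.val h)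
  obtain ⟨c, hc⟩ := (finrank_eq_one_iff_of_nonzero' (⟨u, huK⟩ : LinearMap.ker N) hne).mp hK ⟨x, hx⟩
  have hc' : c • u = x := congrArg Subtype.val hc
  rw [← hc']
  exact (LinearMap.range N).smul_mem c huR

/-- Core lemma: if an element `C` of prime order `r` (not dividing `q = |F|`) commutes with a
non-zero nilpotent endomorphism `N` of an `n`-dimensional space, `n ≥ 3`, then `r` divides
`q ^ i - 1` for some `1 ≤ i ≤ n - 2`. -/
theorem exists_dvd_pow_sub_one_of_commute_nilpotent (r : ℕ) [Fact r.Prime] (hrq : ¬ r ∣ Nat.card F)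
    (N C : Module.End F V) (hN : IsNilpotent N) (hN0 : N ≠ 0) (hC : C ^ r = 1) (hC1 : C ≠ 1)
    (hcomm : N * C = C * N) (hn : 3 ≤ Module.finrank F V) :
    ∃ i, 1 ≤ i ∧ i ≤ Module.finrank F V - 2 ∧ r ∣ Nat.card F ^ i - 1 := by
  have hVnt : Nontrivial V := Module.nontrivial_of_finrank_pos (R := F) (by omega)
  have hcard : 1 ≤ Nat.card F := Nat.card_pos
  suffices hk : ∃ i, 1 ≤ i ∧ i ≤ Module.finrank F V - 2 ∧ orderOf (Nat.card F : ZMod r) ∣ i by
    obtain ⟨i, h1, h2, h3⟩ := hk
    refine ⟨i, h1, h2, ?_⟩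
    have hpow : (Nat.card F : ZMod r) ^ i = 1 := orderOf_dvd_iff_pow_eq_one.mp h3
    rw [← ZMod.natCast_eq_zero_iff, Nat.cast_sub (Nat.one_le_pow _ _ hcard)]
    push_cast
    rw [hpow, sub_self]
  set n := Module.finrank F V with hn_def
  set k := orderOf (Nat.card F : ZMod r) with hk_def
  set V₀ := LinearMap.ker (C - 1) with hV₀
  set K := LinearMap.ker N with hKdef
  set R := LinearMap.range N with hRdef
  have hcommv : ∀ v, N (C v) = C (N v) := fun v => by
    rw [← Module.End.mul_apply, ← Module.End.mul_apply, hcomm]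
  have hKinv : ∀ w ∈ K, C w ∈ K := by
    intro w hw
    rw [hKdef, LinearMap.mem_ker] at hw ⊢
    rw [hcommv, hw, map_zero]
  have hRinv : ∀ w ∈ R, C w ∈ R := by
    rintro w ⟨x, rfl⟩
    exact ⟨C x, hcommv x⟩
  have hdim : Module.finrank F R + Module.finrank F K = n := LinearMap.finrank_range_add_finrank_ker N
  -- the three divisibilities
  have ha : k ∣ n - Module.finrank F V₀ := by
    have := orderOf_dvd_finrank_sub r hrq C hC ⊤ (fun w _ => Submodule.mem_top)
    rw [finrank_top, top_inf_eq] at this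
    exact this
  have hb : k ∣ Module.finrank F K - Module.finrank F ↥(K ⊓ V₀) :=
    orderOf_dvd_finrank_sub r hrq C hC K hKinv
  have hc : k ∣ Module.finrank F R - Module.finrank F ↥(R ⊓ V₀) :=
    orderOf_dvd_finrank_sub r hrq C hC R hRinv
  -- dimension bounds
  have hV₀lt : Module.finrank F V₀ < n := by
    apply Submodule.finrank_lt
    intro htop
    apply hC1
    have := LinearMap.ker_eq_top.mp htop
    exact sub_eq_zero.mp this
  have hKlt : Module.finrank F K < n := by
    apply Submodule.finrank_lt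
    intro htop
    exact hN0 (LinearMap.ker_eq_top.mp htop)
  have hKpos : 1 ≤ Module.finrank F K := by
    rw [Nat.one_le_iff_ne_zero]
    intro h0
    have hbot : K = ⊥ := Submodule.finrank_eq_zero.mp h0
    have hinj : Function.Injective N := LinearMap.ker_eq_bot.mp hbot
    obtain ⟨j, hj⟩ := hN
    have hinjj : Function.Injective (N ^ j) := by
      rw [Module.End.coe_pow]
      exact Function.Injective.iterate hinj j
    rw [hj] at hinjj
    obtain ⟨x, hx⟩ := exists_ne (0 : V)
    exact hx (hinjj (by simp))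
  have hV₀inv : ∀ v ∈ V₀, N v ∈ V₀ := by
    intro v hv
    rw [hV₀, LinearMap.mem_ker, LinearMap.sub_apply, Module.End.one_apply, sub_eq_zero] at hv ⊢
    rw [← hcommv, hv]
  rcases Nat.lt_or_ge (Module.finrank F V₀) 2 with hlt | hge
  · interval_cases hd₀ : Module.finrank F V₀
    · -- V₀ = ⊥
      have hbot : V₀ = ⊥ := Submodule.finrank_eq_zero.mp hd₀
      rw [hbot, inf_bot_eq, finrank_bot, Nat.sub_zero] at hb hc
      by_cases hd : Module.finrank F K ≤ n - 2
      · exact ⟨Module.finrank F K, hKpos, hd, hb⟩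
      · refine ⟨1, le_refl 1, by omega, ?_⟩
        have : Module.finrank F R = 1 := by omega
        rw [this] at hc
        exact hc
    · -- V₀ a line
      have hle : V₀ ≤ K := nilpotent_vanish_of_finrank_one N hN V₀ hd₀ hV₀inv
      rw [inf_eq_right.mpr hle, hd₀] at hb
      by_cases hd : 2 ≤ Module.finrank F K
      · exact ⟨Module.finrank F K - 1, by omega, by omega, hb⟩
      · have hK1 : Module.finrank F K = 1 := by omega
        have hKV₀ : V₀ = K := Submodule.eq_of_le_of_finrank_eq hle (by rw [hd₀, hK1])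
        have hKR : K ≤ R := ker_le_range_of_finrank_one N hN hN0 hK1
        rw [hKV₀, inf_eq_right.mpr hKR, hK1] at hc
        refine ⟨n - 2, by omega, le_refl _, ?_⟩
        have : Module.finrank F R - 1 = n - 2 := by omega
        rw [this] at hc
        exact hc
  · exact ⟨n - Module.finrank F V₀, by omega, by omega, ha⟩

end UnipCent

section MatrixForm

/-- Matrix form of `exists_dvd_pow_sub_one_of_commute_nilpotent`. -/
theorem exists_dvd_pow_sub_one_of_commute_nilpotent_matrix {F : Type*} [Field F] [Fintype F]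
    {n : ℕ} (r : ℕ) [Fact r.Prime] (hrq : ¬ r ∣ Fintype.card F)
    (N C : Matrix (Fin n) (Fin n) F) (hN : IsNilpotent N) (hN0 : N ≠ 0) (hC : C ^ r = 1)
    (hC1 : C ≠ 1) (hcomm : N * C = C * N) (hn : 3 ≤ n) :
    ∃ i, 1 ≤ i ∧ i ≤ n - 2 ∧ r ∣ Fintype.card F ^ i - 1 := by
  have h := exists_dvd_pow_sub_one_of_commute_nilpotent (F := F) (V := Fin n → F) r
    (by rwa [Nat.card_eq_fintype_card])
    (Matrix.toLinAlgEquiv' N) (Matrix.toLinAlgEquiv' C) (hN.map Matrix.toLinAlgEquiv')
    (by
      intro h
      exact hN0 ((map_eq_zero_iff _ (AlgEquiv.injective _)).mp h))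
    (by rw [← map_pow, hC, map_one])
    (by
      intro h
      apply hC1
      exact (AlgEquiv.injective (Matrix.toLinAlgEquiv' (R := F) (n := Fin n))) (by rw [h, map_one]))
    (by rw [← map_mul, ← map_mul, hcomm])
    (by rw [Module.finrank_fin_fun]; exact hn)
  rw [Module.finrank_fin_fun, Nat.card_eq_fintype_card] at h
  exact h

/-- If `B A = z • (A B)` with `B ≠ 0` and `A - μ` nilpotent of exponent `p` (the
characteristic), `μ ≠ 0`, then `z = 1`. -/
theorem twist_eq_one_of_nilpotent {F : Type*} [Field F] (p : ℕ) [Fact p.Prime] [CharP F p]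
    {n : ℕ} [NeZero n] (A B : Matrix (Fin n) (Fin n) F) (hB : B ≠ 0) (z μ : F) (hμ : μ ≠ 0)
    (hBA : B * A = z • (A * B)) (hN : (A - μ • (1 : Matrix (Fin n) (Fin n) F)) ^ p = 0) :
    z = 1 := by
  have hp : p.Prime := Fact.out
  set N := A - μ • (1 : Matrix (Fin n) (Fin n) F) with hNdef
  set M' := z • N + ((z - 1) * μ) • (1 : Matrix (Fin n) (Fin n) F) with hM'
  have h1 : B * N = M' * B := by
    have e : B * (A - μ • (1 : Matrix (Fin n) (Fin n) F)) =
        (z • (A - μ • (1 : Matrix (Fin n) (Fin n) F)) +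
          ((z - 1) * μ) • (1 : Matrix (Fin n) (Fin n) F)) * B := by
      rw [mul_sub, hBA, add_mul, Matrix.smul_mul, sub_mul, Matrix.smul_mul, Matrix.smul_mul,
        Matrix.one_mul, Matrix.mul_smul, Matrix.mul_one, smul_sub, smul_smul]
      module
    exact e
  have h2 : ∀ k : ℕ, B * N ^ k = M' ^ k * B := by
    intro k
    induction k with
    | zero => simp
    | succ k ih => rw [pow_succ, ← mul_assoc, ih, mul_assoc, h1, ← mul_assoc, ← pow_succ]
  have h3 := h2 p
  rw [hN, mul_zero] at h3
  have hcomm : Commute (z • N) (((z - 1) * μ) • (1 : Matrix (Fin n) (Fin n) F)) :=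
    ((Commute.one_right N).smul_right ((z - 1) * μ)).smul_left z
  have h4 : M' ^ p = ((z - 1) * μ) ^ p • (1 : Matrix (Fin n) (Fin n) F) := by
    rw [hM', add_pow_char_of_commute p hcomm, smul_pow, hN, smul_zero, zero_add, smul_pow, one_pow]
  rw [h4, Matrix.smul_mul, Matrix.one_mul] at h3
  have h5 : ((z - 1) * μ) ^ p = 0 := by
    by_contra hne
    apply hB
    exact (smul_eq_zero.mp h3.symm).resolve_left hne
  have h6 : (z - 1) * μ = 0 := by
    by_contra hne
    exact pow_ne_zero p hne h5
  rcases mul_eq_zero.mp h6 with h | h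
  · exact sub_eq_zero.mp h
  · exact absurd h hμ

end MatrixForm

end Cfsg.Agent.Lib.helper44
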