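import Cfsg.Agent.Lib.helper44.ClassicalEmb

set_option autoImplicit false

namespace Cfsg.Agent.Lib.helper44

open Matrix

section Frob

variable {F : Type*} [Field F] [Fintype F]

/-- For a finite field with `q²` elements, `x ↦ x^q` is a ring endomorphism of order at most 2. -/
theorem exists_frob (q : ℕ) (hq : Fintype.card F = q ^ 2) :
    ∃ σ : F →+* F, (∀ x, σ x = x ^ q) ∧ (∀ x, σ (σ x) = x) := by
  have : CharP F (ringChar F) := ringChar.charP F
  obtain ⟨n, hp, hn⟩ := FiniteField.card F (ringChar F)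
  have : Fact (ringChar F).Prime := ⟨hp⟩
  have hdvd : q ∣ ringChar F ^ (n : ℕ) := by
    rw [← hn, hq]
    exact dvd_pow_self q two_ne_zero
  obtain ⟨k, hk, hqk⟩ := (Nat.dvd_prime_pow hp).1 hdvd
  refine ⟨iterateFrobenius F (ringChar F) k, fun x => ?_, fun x => ?_⟩
  · rw [iterateFrobenius_def, hqk]
  · rw [iterateFrobenius_def, iterateFrobenius_def, ← pow_mul, ← hqk, ← sq, ← hq,
      FiniteField.pow_card]

/-- The fixed field of `σ` has at least `q` elements. -/
theorem card_fixed_ge (q : ℕ) (hq : Fintype.card F = q ^ 2) (σ : F →+* F)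
    (hσ : ∀ x, σ x = x ^ q) (hσσ : ∀ x, σ (σ x) = x) :
    q ≤ Nat.card (RingHom.eqLocusField σ (RingHom.id F)) := by
  classical
  by_contra hlt
  push Not at hlt
  set K := RingHom.eqLocusField σ (RingHom.id F) with hK
  have hNK : ∀ x : F, x ^ (q + 1) ∈ K := by
    intro x
    rw [hK, RingHom.mem_eqLocusField]
    have : x ^ (q + 1) = x * σ x := by rw [hσ, pow_succ']
    rw [this, map_mul, hσσ]
    simp [mul_comm]
  have h1 : (Finset.univ : Finset F).card
      ≤ (q + 1) * ((Finset.univ : Finset F).image (fun x => x ^ (q + 1))).card := by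
    apply Finset.card_le_mul_card_image
    intro b _
    have hsub : (Finset.univ.filter (fun a : F => a ^ (q + 1) = b))
        ⊆ (Polynomial.nthRoots (q + 1) b).toFinset := by
      intro a ha
      rw [Multiset.mem_toFinset, Polynomial.mem_nthRoots (Nat.succ_pos q)]
      exact (Finset.mem_filter.1 ha).2
    calc (Finset.univ.filter (fun a : F => a ^ (q + 1) = b)).card
        ≤ (Polynomial.nthRoots (q + 1) b).toFinset.card := Finset.card_le_card hsub
      _ ≤ Multiset.card (Polynomial.nthRoots (q + 1) b) := Multiset.toFinset_card_le _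
      _ ≤ q + 1 := Polynomial.card_nthRoots _ _
  have h2 : ((Finset.univ : Finset F).image (fun x => x ^ (q + 1))).card ≤ Nat.card K := by
    have hsub : (Finset.univ : Finset F).image (fun x => x ^ (q + 1))
        ⊆ Finset.univ.filter (fun x => x ∈ K) := by
      intro y hy
      obtain ⟨x, -, rfl⟩ := Finset.mem_image.1 hy
      exact Finset.mem_filter.2 ⟨Finset.mem_univ _, hNK x⟩
    calc ((Finset.univ : Finset F).image (fun x => x ^ (q + 1))).card
        ≤ (Finset.univ.filter (fun x => x ∈ K)).card := Finset.card_le_card hsub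
      _ = Nat.card K := by
        rw [Nat.card_eq_fintype_card, Fintype.card_subtype]
  rw [Finset.card_univ, hq] at h1
  have h3 : (q + 1) * ((Finset.univ : Finset F).image (fun x => x ^ (q + 1))).card
      ≤ (q + 1) * Nat.card K := Nat.mul_le_mul_left _ h2
  have h4 : (q + 1) * Nat.card K ≤ (q + 1) * (q - 1) := Nat.mul_le_mul_left _ (by omega)
  have hq0 : 0 < q := by
    rcases Nat.eq_zero_or_pos q with h0 | h0
    · rw [h0] at hq
      have := Fintype.card_pos (α := F)
      omega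
    · exact h0
  have h5 : (q + 1) * (q - 1) < q ^ 2 := by
    obtain ⟨r, rfl⟩ : ∃ r, q = r + 1 := ⟨q - 1, by omega⟩
    simp only [Nat.add_sub_cancel]
    nlinarith
  omega

theorem exists_hyperbolic_data (q : ℕ) (hq : Fintype.card F = q ^ 2) (h2 : 2 ≤ q) (σ : F →+* F)
    (hσ : ∀ x, σ x = x ^ q) :
    ∃ x₀ ζ : F, σ x₀ ≠ x₀ ∧ ζ * σ ζ = -1 := by
  classical
  obtain ⟨γ, hγ⟩ := IsCyclic.exists_generator (α := Fˣ)
  have hord : orderOf γ = q ^ 2 - 1 := by
    rw [orderOf_eq_card_of_forall_mem_zpowers hγ, Nat.card_eq_fintype_card, Fintype.card_units, hq]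
  have hqq : q ^ 2 - 1 = (q + 1) * (q - 1) := by
    obtain ⟨r, rfl⟩ : ∃ r, q = r + 1 := ⟨q - 1, by omega⟩
    simp only [Nat.add_sub_cancel]
    have : (r + 1) ^ 2 = (r + 1 + 1) * r + 1 := by ring
    omega
  have hx : σ (γ : F) ≠ γ := by
    intro h
    rw [hσ] at h
    have h' : γ ^ q = γ := Units.ext (by simpa using h)
    have h'' : γ ^ (q - 1) = 1 := by
      have h3 : γ ^ (q - 1) * γ = γ := by
        rw [← pow_succ, Nat.sub_add_cancel (by omega)]
        exact h'
      exact mul_eq_right.1 h3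
    have hdvd := orderOf_dvd_of_pow_eq_one h''
    rw [hord, hqq] at hdvd
    have hle := Nat.le_of_dvd (by omega) hdvd
    have h4 : 2 * (q - 1) ≤ (q + 1) * (q - 1) := Nat.mul_le_mul_right _ (by omega)
    omega
  obtain ⟨j, hj⟩ : ∃ j : ℕ, γ ^ j = -1 := by
    have h3 := hγ (-1)
    rw [← mem_powers_iff_mem_zpowers] at h3
    exact h3
  have hjF : (γ : F) ^ j = -1 := by
    have := congrArg (fun u : Fˣ => (u : F)) hj
    simpa using this
  have h1 : γ ^ (j * q) = γ ^ j := by
    apply Units.ext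
    rw [Units.val_pow_eq_pow_val, Units.val_pow_eq_pow_val, pow_mul, ← hσ, hjF]
    simp
  have h2' : γ ^ (j * (q - 1)) = 1 := by
    have h3 : γ ^ (j * (q - 1)) * γ ^ j = γ ^ j := by
      rw [← pow_add]
      have : j * (q - 1) + j = j * q := by
        obtain ⟨r, rfl⟩ : ∃ r, q = r + 1 := ⟨q - 1, by omega⟩
        simp only [Nat.add_sub_cancel]
        ring
      rw [this, h1]
    exact mul_eq_right.1 h3
  have hdvd : (q + 1) * (q - 1) ∣ j * (q - 1) := by
    rw [← hqq, ← hord]
    exact orderOf_dvd_of_pow_eq_one h2'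
  have hdvd' : (q + 1) ∣ j := Nat.dvd_of_mul_dvd_mul_right (by omega : 0 < q - 1) hdvd
  obtain ⟨j', rfl⟩ := hdvd'
  refine ⟨γ, (γ : F) ^ j', hx, ?_⟩
  rw [hσ, ← pow_succ', ← pow_mul, mul_comm j' (q + 1)]
  exact hjF

end Frob

section TwoByTwo

variable {F : Type*} [Field F]

/-- Conjugation by an invertible matrix as a monoid hom. -/
def conjMat {n : ℕ} (C D : Matrix (Fin n) (Fin n) F) (hCD : C * D = 1) (hDC : D * C = 1) :
    Matrix (Fin n) (Fin n) F →* Matrix (Fin n) (Fin n) F where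
  toFun A := C * A * D
  map_one' := by rw [Matrix.mul_one, hCD]
  map_mul' A B := by
    calc C * (A * B) * D = C * A * 1 * B * D := by simp [Matrix.mul_assoc]
      _ = C * A * D * (C * B * D) := by rw [← hDC]; simp only [Matrix.mul_assoc]

theorem conjMat_apply {n : ℕ} (C D : Matrix (Fin n) (Fin n) F) (hCD : C * D = 1) (hDC : D * C = 1)
    (A : Matrix (Fin n) (Fin n) F) : conjMat C D hCD hDC A = C * A * D := rfl

theorem conjMat_injective {n : ℕ} (C D : Matrix (Fin n) (Fin n) F) (hCD : C * D = 1)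
    (hDC : D * C = 1) : Function.Injective (conjMat C D hCD hDC) := by
  intro A B hAB
  rw [conjMat_apply, conjMat_apply] at hAB
  have h1 : D * (C * A * D) * C = D * (C * B * D) * C := by rw [hAB]
  have h2 : ∀ X : Matrix (Fin n) (Fin n) F, D * (C * X * D) * C = (D * C) * X * (D * C) := by
    intro X
    simp only [Matrix.mul_assoc]
  rw [h2, h2, hDC] at h1
  simpa using h1

theorem det_conjMat {n : ℕ} (C D : Matrix (Fin n) (Fin n) F) (hCD : C * D = 1) (hDC : D * C = 1)
    (A : Matrix (Fin n) (Fin n) F) : (conjMat C D hCD hDC A).det = A.det := by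
  rw [conjMat_apply, Matrix.det_mul, Matrix.det_mul, mul_right_comm, ← Matrix.det_mul, hCD,
    Matrix.det_one, one_mul]

/-- `SL₂` of the fixed field of an involution `σ` embeds into the unitary matrices of degree 2. -/
theorem exists_SU2_rep (σ : F →+* F) (hσσ : ∀ x, σ (σ x) = x) (x₀ ζ : F)
    (hx : σ x₀ ≠ x₀) (hζ : ζ * σ ζ = -1) :
    ∃ ρ : Matrix.SpecialLinearGroup (Fin 2) (RingHom.eqLocusField σ (RingHom.id F))
        →* Matrix (Fin 2) (Fin 2) F,
      Function.Injective ρ ∧ (∀ g, (ρ g).det = 1) ∧ (∀ g, (ρ g)ᵀ * (ρ g).map σ = 1) := by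
  classical
  set K := RingHom.eqLocusField σ (RingHom.id F) with hK
  set C : Matrix (Fin 2) (Fin 2) F := !![1, x₀; ζ, ζ * σ x₀] with hC
  have hζ0 : ζ ≠ 0 := by
    rintro rfl
    simp at hζ
  have hdet : C.det ≠ 0 := by
    rw [hC, Matrix.det_fin_two_of]
    have : (1 : F) * (ζ * σ x₀) - x₀ * ζ = ζ * (σ x₀ - x₀) := by ring
    rw [this]
    exact mul_ne_zero hζ0 (sub_ne_zero.2 hx)
  have hCD : C * C⁻¹ = 1 := Matrix.mul_nonsing_inv C (isUnit_iff_ne_zero.2 hdet)
  have hDC : C⁻¹ * C = 1 := Matrix.nonsing_inv_mul C (isUnit_iff_ne_zero.2 hdet)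
  have hE : Cᵀ * C.map σ = (x₀ - σ x₀) • !![0, -1; 1, 0] := by
    ext i j
    fin_cases i <;> fin_cases j
    · simp [hC, Matrix.mul_apply, Fin.sum_univ_two]
      linear_combination hζ
    · simp [hC, Matrix.mul_apply, Fin.sum_univ_two, hσσ]
      linear_combination x₀ * hζ
    · simp [hC, Matrix.mul_apply, Fin.sum_univ_two]
      linear_combination (σ x₀) * hζ
    · simp [hC, Matrix.mul_apply, Fin.sum_univ_two, hσσ]
      linear_combination (x₀ * σ x₀) * hζ
  let ψ : Matrix.SpecialLinearGroup (Fin 2) K →* Matrix (Fin 2) (Fin 2) F :=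
    (slRep 2).comp (Matrix.SpecialLinearGroup.map K.subtype)
  have hψ : ∀ g : Matrix.SpecialLinearGroup (Fin 2) K, ∀ i j, ψ g i j = ((g.1 i j : K) : F) := by
    intro g i j
    rfl
  have hψσ : ∀ g, (ψ g).map σ = ψ g := by
    intro g
    ext i j
    rw [Matrix.map_apply, hψ]
    exact (g.1 i j).2
  have hψdet : ∀ g, (ψ g).det = 1 := fun g => det_slRep 2 _
  have hψinj : Function.Injective ψ := by
    intro a b hab
    apply Subtype.ext
    ext i j
    rw [← hψ, ← hψ, hab]
  have hψE : ∀ g, (ψ g)ᵀ * (Cᵀ * C.map σ) * ψ g = Cᵀ * C.map σ := by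
    intro g
    have hd := hψdet g
    rw [Matrix.det_fin_two] at hd
    rw [hE]
    ext i j
    fin_cases i <;> fin_cases j
    · simp [Matrix.mul_apply, Fin.sum_univ_two]
      ring
    · simp [Matrix.mul_apply, Fin.sum_univ_two]
      linear_combination (-(x₀ - σ x₀)) * hd
    · simp [Matrix.mul_apply, Fin.sum_univ_two]
      linear_combination (x₀ - σ x₀) * hd
    · simp [Matrix.mul_apply, Fin.sum_univ_two]
      ring
  refine ⟨(conjMat C C⁻¹ hCD hDC).comp ψ, (conjMat_injective C C⁻¹ hCD hDC).comp hψinj,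
    fun g => ?_, fun g => ?_⟩
  · rw [MonoidHom.comp_apply, det_conjMat]
    exact hψdet g
  · rw [MonoidHom.comp_apply, conjMat_apply, Matrix.transpose_mul, Matrix.transpose_mul,
      Matrix.map_mul, Matrix.map_mul, hψσ]
    calc (C⁻¹)ᵀ * ((ψ g)ᵀ * Cᵀ) * (C.map σ * ψ g * (C⁻¹).map σ)
        = (C⁻¹)ᵀ * ((ψ g)ᵀ * (Cᵀ * C.map σ) * ψ g) * (C⁻¹).map σ := by
          simp only [Matrix.mul_assoc]
      _ = (C⁻¹)ᵀ * (Cᵀ * C.map σ) * (C⁻¹).map σ := by rw [hψE]
      _ = (C * C⁻¹)ᵀ * (C * C⁻¹).map σ := by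
          rw [Matrix.transpose_mul, Matrix.map_mul]
          simp only [Matrix.mul_assoc]
      _ = 1 := by
          rw [hCD]
          simp

end TwoByTwo


end Cfsg.Agent.Lib.helper44
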